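import Mathlib
import Cfsg.Agent.Ch.Clifford
import Cfsg.Agent.Ch.Kernel
import Cfsg.Agent.Ch.FrobeniusSchur

/-!
# Kernels of induced characters, characters of Frobenius groups, odd order
-/

set_option autoImplicit false

namespace Cfsg.Agent.Ch

open Cfsg
open scoped ComplexConjugate

variable {G : Type*} [Group G]

/-! ### Kernels -/

/-- The kernel of an induced character is the core of the kernel. -/
theorem indFun_apply_eq_one_iff [Fintype G] (H : Subgroup G) {θ : H → ℂ} (hθ : IsCharacter H θ)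
    (h0 : θ ≠ 0) (g : G) :
    indFun H θ g = indFun H θ 1 ↔
      ∀ x : G, ∃ hx : x * g * x⁻¹ ∈ H, θ ⟨x * g * x⁻¹, hx⟩ = θ 1 := by
  have h1 : extendByZero H θ 1 = θ 1 := extendByZero_coe H θ 1
  have hpos : 0 < (θ 1).re := by
    rw [hθ.re_apply_one]
    exact_mod_cast hθ.charDegree_pos h0
  constructor
  · intro h
    rw [indFun_apply', indFun_apply',
      mul_right_inj' (inv_ne_zero (natCard_subgroup_cast_ne_zero H))] at h
    simp only [mul_one, mul_inv_cancel, h1] at h
    have hle : ∀ x ∈ (Finset.univ : Finset G),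
        (extendByZero H θ (x * g * x⁻¹)).re ≤ (θ 1).re := by
      intro x _
      by_cases hx : x * g * x⁻¹ ∈ H
      · rw [extendByZero_of_mem _ _ hx]
        exact hθ.re_le _
      · rw [extendByZero_of_not_mem _ _ hx]
        exact hpos.le
    have h2 := congrArg Complex.re h
    rw [Complex.re_sum, Complex.re_sum] at h2
    have h3 := (Finset.sum_eq_sum_iff_of_le hle).1 h2
    intro x
    have h4 := h3 x (Finset.mem_univ x)
    by_cases hx : x * g * x⁻¹ ∈ H
    · rw [extendByZero_of_mem _ _ hx] at h4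
      exact ⟨hx, hθ.eq_apply_one_of_re_eq h4⟩
    · rw [extendByZero_of_not_mem _ _ hx] at h4
      exact absurd h4 hpos.ne
  · intro h
    rw [indFun_apply', indFun_apply']
    congr 1
    refine Finset.sum_congr rfl fun x _ => ?_
    obtain ⟨hx, hx'⟩ := h x
    rw [extendByZero_of_mem _ _ hx, hx', mul_one, mul_inv_cancel, h1]

theorem mem_charKer_indFun [Fintype G] (H : Subgroup G) {θ : H → ℂ} (hθ : IsCharacter H θ)
    (h0 : θ ≠ 0) (g : G) :
    g ∈ charKer (indFun H θ) ↔
      ∀ x : G, ∃ hx : x * g * x⁻¹ ∈ H, θ ⟨x * g * x⁻¹, hx⟩ = θ 1 := by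
  rw [(isCharacter_indFun H hθ).mem_charKer, indFun_apply_eq_one_iff H hθ h0]

theorem charKer_indFun_le [Fintype G] (H : Subgroup G) {θ : H → ℂ} (hθ : IsCharacter H θ)
    (h0 : θ ≠ 0) : charKer (indFun H θ) ≤ H := fun g hg => by
  simpa using ((mem_charKer_indFun H hθ h0 g).1 hg 1).1

/-- A normal subgroup lies in the kernel of `θ^G` iff it lies in the kernel of `θ`. -/
theorem forall_indFun_apply_eq_iff [Fintype G] (A H : Subgroup G) [hA : A.Normal] (hAH : A ≤ H)
    {θ : H → ℂ} (hθ : IsCharacter H θ) (h0 : θ ≠ 0) :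
    (∀ a ∈ A, indFun H θ a = indFun H θ 1) ↔ ∀ a : H, (a : G) ∈ A → θ a = θ 1 := by
  simp only [indFun_apply_eq_one_iff H hθ h0]
  constructor
  · intro h a ha
    obtain ⟨hx, hx'⟩ := h a ha 1
    simpa using hx'
  · intro h a ha x
    exact ⟨hAH (hA.conj_mem a ha x), h _ (hA.conj_mem a ha x)⟩

/-- An irreducible character lies over the principal character of the normal subgroup `N`
exactly when `N` is contained in its kernel. -/
theorem over_one_iff [Finite G] {N : Subgroup G} [N.Normal] [Fintype N] {χ : G → ℂ}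
    (hχ : IsIrrCharacter G χ) :
    classInner (fun n : N => χ n) (fun _ => 1) ≠ 0 ↔ ∀ n ∈ N, χ n = χ 1 := by
  have := Fintype.ofFinite G
  constructor
  · intro h n hn
    have h1 := res_eq_smul_of_invariant hχ IsIrrCharacter.one (fun _ => rfl) h
    exact (congrFun h1 ⟨n, hn⟩).trans (congrFun h1 1).symm
  · intro h
    have : (fun n : N => χ n) = χ 1 • fun _ => 1 := by
      ext n
      simp [h n n.2]
    rw [this, classInner_smul_left, classInner_one_one, mul_one]
    exact hχ.apply_one_ne_zero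

/-- If `N ⊄ ker χ`, every constituent of `χ_N` is non-principal. -/
theorem ne_one_of_under [Finite G] {N : Subgroup G} [N.Normal] [Fintype N] {χ : G → ℂ}
    (hχ : IsIrrCharacter G χ) (hker : ∃ n ∈ N, χ n ≠ χ 1) {θ : N → ℂ}
    (h : classInner (fun n : N => χ n) θ ≠ 0) : θ ≠ fun _ => 1 := by
  rintro rfl
  obtain ⟨n, hn, hne⟩ := hker
  exact hne ((over_one_iff hχ).1 h n hn)

/-- If `χ` lies over a non-principal character of `H`, then `H ⊄ ker χ`. -/
theorem exists_apply_ne_of_over {H : Subgroup G} [Fintype H] {χ : G → ℂ} {θ : H → ℂ}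
    (hθ : IsIrrCharacter H θ) (hθ1 : θ ≠ fun _ => 1) (h : classInner (fun n : H => χ n) θ ≠ 0) :
    ∃ n ∈ H, χ n ≠ χ 1 := by
  by_contra hne
  push Not at hne
  have : (fun n : H => χ n) = χ 1 • fun _ => 1 := by
    ext n
    simp [hne n n.2]
  rw [this, classInner_smul_left, IsIrrCharacter.one.classInner_eq_zero hθ hθ1.symm,
    mul_zero] at h
  exact h rfl

/-! ### Frobenius groups -/

section Frobenius

variable {N : Subgroup G} [hN : N.Normal]

/-- If `N` contains the centraliser of each of its non-identity elements, a non-principal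
irreducible character of `N` has inertia group `N`. -/
theorem inertia_le_of_centralizer_le [Finite G]
    (hC : ∀ n ∈ N, n ≠ 1 → Subgroup.centralizer ({n} : Set G) ≤ N) {θ : N → ℂ}
    (hθ : IsIrrCharacter N θ) (hθ1 : θ ≠ fun _ => 1) : inertia N θ ≤ N := by
  intro g hg
  by_contra hgN
  refine hθ1 (eq_one_of_conjChar_eq (g := g) (fun m hm n hn hmn => ?_) hθ hg)
  by_contra hn1
  have := hC n hn hn1 (Subgroup.mem_centralizer_singleton_iff.2 hmn)
  exact hgN ((N.mul_mem_cancel_left hm).1 this)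

theorem isIrrCharacter_indFun_of_centralizer_le [Fintype G]
    (hC : ∀ n ∈ N, n ≠ 1 → Subgroup.centralizer ({n} : Set G) ≤ N) {θ : N → ℂ}
    (hθ : IsIrrCharacter N θ) (hθ1 : θ ≠ fun _ => 1) : IsIrrCharacter G (indFun N θ) :=
  isIrrCharacter_indFun_of_inertia_le hθ (inertia_le_of_centralizer_le hC hθ hθ1)

/-- In a Frobenius group, an irreducible character not containing the kernel in its kernel is
induced from the Frobenius kernel. -/
theorem exists_eq_indFun_of_centralizer_le [Fintype G]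
    (hC : ∀ n ∈ N, n ≠ 1 → Subgroup.centralizer ({n} : Set G) ≤ N) {χ : G → ℂ}
    (hχ : IsIrrCharacter G χ) (hker : ∃ n ∈ N, χ n ≠ χ 1) :
    ∃ φ : N → ℂ, IsIrrCharacter N φ ∧ (φ ≠ fun _ => 1) ∧ χ = indFun N φ := by
  have := Fintype.ofFinite N
  obtain ⟨θ, hθ, h⟩ := exists_irr_under N hχ
  have hθ1 := ne_one_of_under hχ hker h
  exact ⟨θ, hθ, hθ1, eq_indFun_of_inertia_le hθ (inertia_le_of_centralizer_le hC hθ hθ1) hχ h⟩

/-- If `h` centralises no non-identity element of `N`, the coset `N h` is one `N`-class. -/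
theorem exists_conj_eq_mul_of_fpf [Finite N] {h : G}
    (hfpf : ∀ k ∈ N, h * k = k * h → k = 1) {k : G} (hk : k ∈ N) :
    ∃ u ∈ N, u * h * u⁻¹ = k * h := by
  let f : N → N := fun u => ⟨u * (h * (u : G)⁻¹ * h⁻¹),
    N.mul_mem u.2 (hN.conj_mem _ (N.inv_mem u.2) h)⟩
  have hinj : Function.Injective f := by
    intro u v huv
    have h1 : (u : G) * (h * (u : G)⁻¹ * h⁻¹) = v * (h * (v : G)⁻¹ * h⁻¹) :=
      congrArg Subtype.val huv
    have h2 : h * ((v : G)⁻¹ * u) = ((v : G)⁻¹ * u) * h := by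
      have : (u : G) * h = v * (h * (v : G)⁻¹ * h⁻¹) * (h * u) := by rw [← h1]; group
      rw [mul_assoc, this]; group
    have h3 := hfpf _ (N.mul_mem (N.inv_mem v.2) u.2) h2
    exact Subtype.ext (inv_mul_eq_one.1 h3).symm
  obtain ⟨u, hu⟩ := Finite.injective_iff_surjective.1 hinj ⟨k, hk⟩
  have h1 : (u : G) * (h * (u : G)⁻¹ * h⁻¹) = k := congrArg Subtype.val hu
  exact ⟨u, u.2, by rw [← h1]; group⟩

/-- An element centralising no non-identity element of `N` fixes no non-principal irreducible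
character of `N`. -/
theorem eq_one_of_conjChar_eq_of_fpf [Finite N] {g : G} (hfpf : ∀ k ∈ N, g * k = k * g → k = 1)
    {θ : N → ℂ} (hθ : IsIrrCharacter N θ) (hfix : conjChar g θ = θ) : θ = fun _ => 1 := by
  refine eq_one_of_conjChar_eq (fun m hm n hn hmn => ?_) hθ hfix
  obtain ⟨u, hu, huk⟩ := exists_conj_eq_mul_of_fpf hfpf hm
  rw [← huk] at hmn
  have h2 : g * (u⁻¹ * n * u) = (u⁻¹ * n * u) * g := by
    calc g * (u⁻¹ * n * u) = u⁻¹ * (u * g * u⁻¹ * n) * u := by group
      _ = u⁻¹ * (n * (u * g * u⁻¹)) * u := by rw [hmn]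
      _ = _ := by group
  have h3 := hfpf _ (N.mul_mem (N.mul_mem (N.inv_mem hu) hn) hu) h2
  simpa [mul_assoc] using congrArg (fun y => u * y * u⁻¹) h3

/-- An element fixes a non-principal irreducible character of `N` iff it centralises a
non-identity element of `N`. -/
theorem exists_fixed_irr_iff [Finite N] (g : G) :
    (∃ θ : N → ℂ, IsIrrCharacter N θ ∧ (θ ≠ fun _ => 1) ∧ conjChar g θ = θ) ↔
      ∃ h ∈ N, h ≠ 1 ∧ g * h = h * g := by
  constructor
  · rintro ⟨θ, hθ, hθ1, hfix⟩
    by_contra hne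
    push Not at hne
    exact hθ1 (eq_one_of_conjChar_eq_of_fpf
      (fun k hk hgk => by_contra fun hk1 => hne k hk hk1 hgk) hθ hfix)
  · rintro ⟨h, hh, hh1, hgh⟩
    by_contra hne
    push Not at hne
    refine hh1 (congrArg Subtype.val (eq_one_of_isConj_of_forall_irr (MulAut.conjNormal g)
      (fun χ hχ hfix => by_contra fun h1 => hne χ hχ h1 (funext hfix)) (g := ⟨h, hh⟩) ?_))
    have : MulAut.conjNormal g (⟨h, hh⟩ : N) = ⟨h, hh⟩ :=
      Subtype.ext (by simp [hgh])
    rw [this]

theorem exists_mul_eq_of_sup_eq_top {H : Subgroup G} (hNH : N ⊔ H = ⊤) (g : G) :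
    ∃ k ∈ N, ∃ h ∈ H, k * h = g := by
  have : g ∈ ((N ⊔ H : Subgroup G) : Set G) := by rw [hNH]; trivial
  rw [Subgroup.normal_mul] at this
  exact this

/-- In a Frobenius group `N ⋊ H` the kernel contains the centraliser of each of its
non-identity elements. -/
theorem centralizer_le_of_fpf [Finite N] {H : Subgroup G} (hNH : N ⊔ H = ⊤)
    (hfpf : ∀ h ∈ H, h ≠ 1 → ∀ k ∈ N, h * k = k * h → k = 1) :
    ∀ n ∈ N, n ≠ 1 → Subgroup.centralizer ({n} : Set G) ≤ N := by
  intro n hn hn1 g hg
  obtain ⟨k, hk, h, hh, rfl⟩ := exists_mul_eq_of_sup_eq_top hNH g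
  by_cases h1 : h = 1
  · simpa [h1] using hk
  obtain ⟨u, hu, huk⟩ := exists_conj_eq_mul_of_fpf (hfpf h hh h1) hk
  rw [Subgroup.mem_centralizer_singleton_iff, ← huk] at hg
  have h2 : h * (u⁻¹ * n * u) = (u⁻¹ * n * u) * h := by
    calc h * (u⁻¹ * n * u) = u⁻¹ * (u * h * u⁻¹ * n) * u := by group
      _ = u⁻¹ * (n * (u * h * u⁻¹)) * u := by rw [hg]
      _ = _ := by group
  have h3 := hfpf h hh h1 _ (N.mul_mem (N.mul_mem (N.inv_mem hu) hn) hu) h2
  exact absurd (by simpa [mul_assoc] using congrArg (fun y => u * y * u⁻¹) h3) hn1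

theorem sum_card_centralizer_eq (G : Type*) [Group G] [Fintype G] :
    ∑ g : G, Nat.card (Subgroup.centralizer ({g} : Set G)) =
      Nat.card G * Nat.card (ConjClasses G) := by
  have := Fintype.ofFinite (ConjClasses G)
  have h := sum_card_centralizer_mul_eq (G := G) (fun _ => 1)
  simp only [mul_one, Finset.sum_const, Finset.card_univ, nsmul_eq_mul,
    ← Nat.card_eq_fintype_card] at h
  exact_mod_cast h

omit hN in
theorem card_centralizer_eq_of_le {g : N} (h : Subgroup.centralizer ({(g : G)} : Set G) ≤ N) :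
    Nat.card (Subgroup.centralizer ({(g : G)} : Set G)) =
      Nat.card (Subgroup.centralizer ({g} : Set N)) := by
  refine Nat.card_congr
    ⟨fun x => ⟨⟨x, h x.2⟩, ?_⟩, fun x => ⟨(x : N), ?_⟩, fun _ => rfl, fun _ => rfl⟩
  · exact Subgroup.mem_centralizer_singleton_iff.2
      (Subtype.ext (Subgroup.mem_centralizer_singleton_iff.1 x.2))
  · exact Subgroup.mem_centralizer_singleton_iff.2
      (congrArg Subtype.val (Subgroup.mem_centralizer_singleton_iff.1 x.2))

theorem card_centralizer_conj (g x : G) :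
    Nat.card (Subgroup.centralizer ({x * g * x⁻¹} : Set G)) =
      Nat.card (Subgroup.centralizer ({g} : Set G)) := by
  refine Nat.card_congr (Equiv.subtypeEquiv (MulAut.conj x⁻¹).toEquiv fun y => ?_)
  simp only [Subgroup.mem_centralizer_singleton_iff, MulEquiv.toEquiv_eq_coe,
    EquivLike.coe_coe, MulAut.conj_apply, inv_inv]
  constructor
  · intro h
    calc x⁻¹ * y * x * g = x⁻¹ * (y * (x * g * x⁻¹)) * x := by group
      _ = _ := by rw [h]; group
  · intro h
    calc y * (x * g * x⁻¹) = x * (x⁻¹ * y * x * g) * x⁻¹ := by group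
      _ = _ := by rw [h]; group

/-- The class number of a Frobenius group. -/
theorem frobenius_class_count [Finite G] {H : Subgroup G} (hNH : N ⊓ H = ⊥) (hNH' : N ⊔ H = ⊤)
    (hfpf : ∀ h ∈ H, h ≠ 1 → ∀ k ∈ N, h * k = k * h → k = 1) :
    Nat.card H * Nat.card (ConjClasses G) + 1 =
      Nat.card H * Nat.card (ConjClasses H) + Nat.card (ConjClasses N) := by
  classical
  have := Fintype.ofFinite G
  have := Fintype.ofFinite N
  have := Fintype.ofFinite H
  have hcompl : N.IsComplement' H :=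
    Subgroup.isComplement'_of_disjoint_and_mul_eq_univ (disjoint_iff.2 hNH)
      (by rw [← Subgroup.normal_mul, hNH']; rfl)
  have hcard : Nat.card N * Nat.card H = Nat.card G := hcompl.card_mul_card
  have hC := centralizer_le_of_fpf hNH' hfpf
  have hCH : ∀ h ∈ H, h ≠ 1 → Subgroup.centralizer ({h} : Set G) ≤ H := by
    intro h hh h1 g hg
    obtain ⟨k, hk, h', hh', rfl⟩ := exists_mul_eq_of_sup_eq_top hNH' g
    rw [Subgroup.mem_centralizer_singleton_iff] at hg
    have e : k⁻¹ * (h * k * h⁻¹) = h' * h * h'⁻¹ * h⁻¹ := by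
      calc k⁻¹ * (h * k * h⁻¹) = k⁻¹ * (h * (k * h')) * h'⁻¹ * h⁻¹ := by group
        _ = _ := by rw [← hg]; group
    have e1 : k⁻¹ * (h * k * h⁻¹) ∈ N ⊓ H :=
      ⟨N.mul_mem (N.inv_mem hk) (hN.conj_mem k hk h), by
        rw [e]
        exact H.mul_mem (H.mul_mem (H.mul_mem hh' hh) (H.inv_mem hh')) (H.inv_mem hh)⟩
    rw [hNH, Subgroup.mem_bot, inv_mul_eq_one, eq_mul_inv_iff_mul_eq] at e1
    rw [hfpf h hh h1 k hk e1.symm, one_mul]
    exact hh'
  have e0 := sum_card_centralizer_eq G
  have eN := sum_card_centralizer_eq N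
  have eH := sum_card_centralizer_eq H
  have hbij : Function.Bijective fun x : N × H => (x.1 : G) * (x.2 : G) := hcompl
  rw [← hbij.sum_comp, Fintype.sum_prod_type, Finset.sum_comm,
    ← Finset.add_sum_erase _ _ (Finset.mem_univ (1 : H)),
    ← Finset.add_sum_erase _ _ (Finset.mem_univ (1 : N))] at e0
  rw [← Finset.add_sum_erase _ _ (Finset.mem_univ (1 : N))] at eN
  rw [← Finset.add_sum_erase _ _ (Finset.mem_univ (1 : H))] at eH
  have c1 : ∀ (K : Type _) [Group K], Nat.card (Subgroup.centralizer ({1} : Set K)) =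
      Nat.card K := by
    intro K _
    rw [show Subgroup.centralizer ({1} : Set K) = ⊤ by
      ext y; simp [Subgroup.mem_centralizer_singleton_iff], Subgroup.card_top]
  have s1 : ∑ k ∈ Finset.univ.erase (1 : N),
      Nat.card (Subgroup.centralizer ({(k : G) * ((1 : H) : G)} : Set G)) =
      ∑ k ∈ Finset.univ.erase (1 : N), Nat.card (Subgroup.centralizer ({k} : Set N)) := by
    refine Finset.sum_congr rfl fun k hk => ?_
    rw [OneMemClass.coe_one, mul_one]
    exact card_centralizer_eq_of_le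
      (hC k k.2 fun h => (Finset.mem_erase.1 hk).1 (Subtype.ext h))
  have s2 : ∑ h ∈ Finset.univ.erase (1 : H), ∑ k : N,
      Nat.card (Subgroup.centralizer ({(k : G) * (h : G)} : Set G)) =
      Nat.card N *
        ∑ h ∈ Finset.univ.erase (1 : H), Nat.card (Subgroup.centralizer ({h} : Set H)) := by
    rw [Finset.mul_sum]
    refine Finset.sum_congr rfl fun h hh => ?_
    have h1 : (h : G) ≠ 1 := fun h' => (Finset.mem_erase.1 hh).1 (Subtype.ext h')
    rw [Finset.sum_congr rfl (g := fun _ => Nat.card (Subgroup.centralizer ({h} : Set H))),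
      Finset.sum_const, Finset.card_univ, ← Nat.card_eq_fintype_card, smul_eq_mul]
    intro k _
    obtain ⟨u, -, hu⟩ := exists_conj_eq_mul_of_fpf (hfpf h h.2 h1) k.2
    rw [← hu, card_centralizer_conj]
    exact card_centralizer_eq_of_le (hCH h h.2 h1)
  simp only [OneMemClass.coe_one, mul_one] at e0 s1
  rw [s1, s2, c1, ← hcard] at e0
  rw [c1] at eN eH
  apply Nat.eq_of_mul_eq_mul_left (Nat.card_pos (α := N))
  nlinarith [e0, eN, eH]

end Frobenius

/-! ### Odd order -/

/-- In a group of odd order, a non-principal irreducible character of a normal subgroup is not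
conjugate to its complex conjugate. -/
theorem star_not_mem_conjugates_of_odd [Fintype G] (hodd : Odd (Nat.card G)) {N : Subgroup G}
    [N.Normal] {θ : N → ℂ} (hθ : IsIrrCharacter N θ) (hθ1 : θ ≠ fun _ => 1) :
    (fun n => conj (θ n)) ∉ conjugates θ := by
  intro h
  obtain ⟨g, hg⟩ := mem_conjugates.1 h
  have h2 : g ^ 2 ∈ inertia N θ := by
    rw [mem_inertia', pow_two, conjChar_mul, ← hg, conjChar_star, ← hg]
    simp
  have h3 : g ∈ inertia N θ := by
    obtain ⟨k, hk⟩ := hodd
    have : g = (g ^ 2) ^ (k + 1) := by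
      rw [← pow_mul, show 2 * (k + 1) = Nat.card G + 1 by omega, pow_succ, pow_card_eq_one',
        one_mul]
    rw [this]
    exact (inertia N θ).pow_mem h2 _
  rw [mem_inertia'.1 h3] at hg
  refine hθ1 (eq_one_of_real_of_odd (hodd.of_dvd_nat N.card_subgroup_dvd_card) hθ fun n => ?_)
  exact Complex.conj_eq_iff_im.1 (congrFun hg n)

/-- In a group of odd order, a character induced from a non-principal irreducible character of a
normal subgroup is orthogonal to its complex conjugate. -/
theorem classInner_star_indFun_of_odd [Fintype G] (hodd : Odd (Nat.card G)) {N : Subgroup G}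
    [N.Normal] {θ : N → ℂ} (hθ : IsIrrCharacter N θ) (hθ1 : θ ≠ fun _ => 1) :
    classInner (fun g => conj (indFun N θ g)) (indFun N θ) = 0 := by
  rw [← indFun_star, classInner_eq_zero_comm]
  exact classInner_indFun_eq_zero_of_not_mem_conjugates hθ hθ.complexConj
    (star_not_mem_conjugates_of_odd hodd hθ hθ1)

end Cfsg.Agent.Ch
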