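import Mathlib
import Cfsg.Agent.Ch.SpcTab

/-!
Generated tables.
-/

set_option autoImplicit false
set_option maxRecDepth 100000

namespace Cfsg.Agent.Ch.Spc

/-- The complement. -/
abbrev ED8 := TG 7 10822905687456743633556338425528583474107466900362719729626294642048818879317480804423582189600 247132654624

instance : Group ED8 :=
  Group.ofLeftAxioms (by decide +kernel) (by decide +kernel) (by decide +kernel)

instance : DistribMulAction ED8 V2 :=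
  act2 (fun e => e.i.val) 9386206582597227585 (by decide +kernel) (by decide +kernel)

/-- The data. -/
def dD8 : Data V2 ED8 where
  nm := 9
  mono j := mono2 (([(255, 0, 0), (255, 0, 106980864), (255, 0, 107348064), (255, 0, 419424), (225, 0, 1711276032), (33, 1, 0), (33, 1, 6291456), (17, 9, 0), (17, 9, 393216)] : List (ℕ × ℕ × ℕ)).getD j 0)
  nc := 9
  cls m := lk 310124088519309288485001603532021870247103149226862366853148870121072782274811614259810562225448802620310530 5 (idx2 m)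
  wit m := mk2 (lk 172500968761677617653668445035440979586540229037881358632343359748018638249849573181756037768206444764521459084558444997413782323405750501677600367171115678429040099792217957648845572150190838605259502359321031737344 10 (idx2 m))
  rep c := mk2 (lk 38719891082940248703895553 10 c)
  size c := ([6, 18, 1, 6, 9, 12, 4, 12, 4] : List ℕ).getD c 0
  ex c := ([0, 0, 0, 0, 0, 2, 1, 2, 1] : List ℕ).getD c 0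
  mv := [[(1, 0, 0, 0), (1, 0, 0, 0), (1, 0, 0, 0), (1, 0, 0, 0), (1, 0, 0, 0), (1, 0, 0, 0), (1, 0, 0, 0), (1, 0, 0, 0), (1, 0, 0, 0)], [(1, 0, 0, 0), (-1, 0, 0, 0), (1, 0, 0, 0), (-1, 0, 0, 0), (1, 0, 0, 0), (1, 0, 0, 0), (1, 0, 0, 0), (-1, 0, 0, 0), (1, 0, 0, 0)], [(-1, 0, 0, 0), (1, 0, 0, 0), (1, 0, 0, 0), (-1, 0, 0, 0), (1, 0, 0, 0), (-1, 0, 0, 0), (1, 0, 0, 0), (-1, 0, 0, 0), (1, 0, 0, 0)], [(-1, 0, 0, 0), (-1, 0, 0, 0), (1, 0, 0, 0), (1, 0, 0, 0), (1, 0, 0, 0), (-1, 0, 0, 0), (1, 0, 0, 0), (1, 0, 0, 0), (1, 0, 0, 0)], [(0, 0, 0, 0), (0, 0, 0, 0), (2, 0, 0, 0), (0, 0, 0, 0), (-2, 0, 0, 0), (0, 0, 0, 0), (2, 0, 0, 0), (0, 0, 0, 0), (2, 0, 0, 0)], [(0, 0, 0, 0), (0, 0, 0, 0), (4, 0, 0, 0), (2, 0, 0, 0), (0, 0, 0, 0), (0, 0, 0, 0), (1, 0, 0, 0), (-1, 0, 0, 0), (-2, 0, 0, 0)], [(0, 0, 0, 0), (0, 0, 0, 0), (4, 0, 0, 0), (-2,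 0, 0, 0), (0, 0, 0, 0), (0, 0, 0, 0), (1, 0, 0, 0), (1, 0, 0, 0), (-2, 0, 0, 0)], [(2, 0, 0, 0), (0, 0, 0, 0), (4, 0, 0, 0), (0, 0, 0, 0), (0, 0, 0, 0), (-1, 0, 0, 0), (-2, 0, 0, 0), (0, 0, 0, 0), (1, 0, 0, 0)], [(-2, 0, 0, 0), (0, 0, 0, 0), (4, 0, 0, 0), (0, 0, 0, 0), (0, 0, 0, 0), (1, 0, 0, 0), (-2, 0, 0, 0), (0, 0, 0, 0), (1, 0, 0, 0)]]
  r := 4
  coef := [[1, 1, 0, 0, 1, 0, 0, -1, 0], [1, 0, -1, 0, 0, -1, 0, 0, 1], [1, 0, -1, 0, 0, 0, 1, -1, 0], [1, 0, 0, 1, 1, -1, 0, 0, 0]]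
  th := [[(0, 0, 0, 0), (0, 0, 0, 0), (0, 0, 0, 0), (0, 0, 0, 0), (0, 0, 0, 0), (3, 0, 0, 0), (6, 0, 0, 0), (0, 0, 0, 0), (3, 0, 0, 0)], [(0, 0, 0, 0), (0, 0, 0, 0), (0, 0, 0, 0), (0, 0, 0, 0), (0, 0, 0, 0), (3, 0, 0, 0), (-3, 0, 0, 0), (3, 0, 0, 0), (3, 0, 0, 0)], [(0, 0, 0, 0), (0, 0, 0, 0), (0, 0, 0, 0), (0, 0, 0, 0), (0, 0, 0, 0), (3, 0, 0, 0), (3, 0, 0, 0), (3, 0, 0, 0), (-3, 0, 0, 0)], [(0, 0, 0, 0), (0, 0, 0, 0), (0, 0, 0, 0), (0, 0, 0, 0), (0, 0, 0, 0), (0, 0, 0, 0), (3, 0, 0, 0), (3, 0, 0, 0), (6, 0, 0, 0)]]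
  Gm := [[4, 1, 2, 2], [1, 4, 2, 2], [2, 2, 4, 1], [2, 2, 1, 4]]
  v0 := [1, 1, 1, 1]

theorem dD8_ok : dD8.Ok :=
  ⟨by decide +kernel, by decide +kernel, by decide +kernel, by decide +kernel, by decide +kernel,
    by decide +kernel, by decide +kernel, by decide +kernel, by decide +kernel⟩

/-- The patterns. -/
def PD8 : List (List (List ℤ)) := [[[1, 0, 1, 0], [1, 0, 0, 1], [1, 0, 0, 0], [0, 1, 1, 1], [0, 1, 0, 0], [0, 1, 0, 0], [0, 0, 1, -1]], [[1, 0, 1, 1], [1, 0, 0, 0], [1, 0, 0, 0], [0, 1, 1, 0], [0, 1, 0, 1], [0, 1, 0, 0], [0, 0, 1, -1]], [[1, 1, 0, 1], [1, 0, 1, 0], [1, -1, 0, 0], [0, 1, 1, 0], [0, 0, 1, 0], [0, 0, 0, 1], [0, 0, 0, 1]], [[1, 1, 1, 0], [1, 0, 0, 1], [1, -1, 0, 0], [0, 1, 0, 1], [0, 0, 1, 0], [0, 0, 1, 0], [0, 0, 0, 1]], [[1, 1, 1, 1], [1, 0, 0, 0], [1, -1, 0, 0], [0, 1, 0, 0], [0, 0, 1, 0], [0, 0, 1, -1],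 [0, 0, 0, 1]], [[1, 0, 1, 0], [1, 0, 0, 1], [1, 0, 0, 0], [0, 1, 1, 0], [0, 1, 0, 1], [0, 1, 0, 0], [0, 0, 1, 0], [0, 0, 0, 1]]]

theorem dD8_b5 : dD8.BOk 5 [1, 1, 0, -1] 6 := by decide +kernel

theorem dD8_b6 : dD8.BOk 6 [1, -2, 1, 1] 18 := by decide +kernel

theorem dD8_b7 : dD8.BOk 7 [-1, 0, 1, 1] 6 := by decide +kernel

theorem dD8_b8 : dD8.BOk 8 [1, 1, -2, 1] 18 := by decide +kernel

theorem dD8_t6_6_8 : dD8.TOk 6 6 8 648 := by decide +kernel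

theorem dD8_t6_8_8 : dD8.TOk 6 8 8 648 := by decide +kernel

theorem dD8_search : search dD8.r PD8 9 (subOuter dD8.r dD8.Gm dD8.v0) [] = true := by
  decide +kernel

end Cfsg.Agent.Ch.Spc
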