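import Mathlib
import Cfsg.Agent.Ch.SpcTab

/-!
Generated tables.
-/

set_option autoImplicit false
set_option maxRecDepth 100000

namespace Cfsg.Agent.Ch.Spc

/-- The complement. -/
abbrev EV4 := TG 3 1257873498147170388000 100384

instance : Group EV4 :=
  Group.ofLeftAxioms (by decide +kernel) (by decide +kernel) (by decide +kernel)

instance : DistribMulAction EV4 V2 :=
  act2 (fun e => e.i.val) 2185396545 (by decide +kernel) (by decide +kernel)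

/-- The data. -/
def dV4 : Data V2 EV4 where
  nm := 9
  mono j := mono2 (([(15, 0, 0), (15, 0, 26112), (15, 0, 24672), (15, 0, 1632), (3, 1, 0), (3, 1, 96), (5, 4, 0), (5, 4, 1536), (1, 5, 0)] : List (ℕ × ℕ × ℕ)).getD j 0)
  nc := 9
  cls m := lk 151493558194683538111634931797306340839678425964840992 5 (idx2 m)
  wit m := mk2 (lk 36725107667443508407468541427621722774665894482466280473465366940963660931220636099725034290148068959453184 10 (idx2 m))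
  rep c := mk2 (lk 19358174646721249135297536 10 c)
  size c := ([1, 3, 3, 9, 2, 6, 2, 6, 4] : List ℕ).getD c 0
  ex c := ([0, 0, 0, 0, 1, 2, 1, 2, 1] : List ℕ).getD c 0
  mv := [[(1, 0, 0, 0), (1, 0, 0, 0), (1, 0, 0, 0), (1, 0, 0, 0), (1, 0, 0, 0), (1, 0, 0, 0), (1, 0, 0, 0), (1, 0, 0, 0), (1, 0, 0, 0)], [(1, 0, 0, 0), (1, 0, 0, 0), (-1, 0, 0, 0), (-1, 0, 0, 0), (1, 0, 0, 0), (-1, 0, 0, 0), (1, 0, 0, 0), (1, 0, 0, 0), (1, 0, 0, 0)], [(1, 0, 0, 0), (-1, 0, 0, 0), (1, 0, 0, 0), (-1, 0, 0, 0), (1, 0, 0, 0), (1, 0, 0, 0), (1, 0, 0, 0), (-1, 0, 0, 0), (1, 0, 0, 0)], [(1, 0, 0, 0), (-1, 0, 0, 0), (-1, 0, 0, 0), (1, 0, 0, 0), (1, 0, 0, 0), (-1, 0, 0, 0), (1, 0, 0, 0), (-1, 0, 0, 0), (1, 0, 0, 0)], [(2, 0, 0, 0), (2, 0, 0, 0), (0, 0, 0, 0), (0, 0, 0, 0), (2, 0, 0, 0), (0, 0, 0, 0), (-1, 0, 0, 0),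 (-1, 0, 0, 0), (-1, 0, 0, 0)], [(2, 0, 0, 0), (-2, 0, 0, 0), (0, 0, 0, 0), (0, 0, 0, 0), (2, 0, 0, 0), (0, 0, 0, 0), (-1, 0, 0, 0), (1, 0, 0, 0), (-1, 0, 0, 0)], [(2, 0, 0, 0), (0, 0, 0, 0), (2, 0, 0, 0), (0, 0, 0, 0), (-1, 0, 0, 0), (-1, 0, 0, 0), (2, 0, 0, 0), (0, 0, 0, 0), (-1, 0, 0, 0)], [(2, 0, 0, 0), (0, 0, 0, 0), (-2, 0, 0, 0), (0, 0, 0, 0), (-1, 0, 0, 0), (1, 0, 0, 0), (2, 0, 0, 0), (0, 0, 0, 0), (-1, 0, 0, 0)], [(4, 0, 0, 0), (0, 0, 0, 0), (0, 0, 0, 0), (0, 0, 0, 0), (-2, 0, 0, 0), (0, 0, 0, 0), (-2, 0, 0, 0), (0, 0, 0, 0), (1, 0, 0, 0)]]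
  r := 5
  coef := [[1, 1, 0, 0, -1, 0, 0, 0, 0], [1, 0, 1, 0, 0, 0, -1, 0, 0], [0, 1, 0, 1, 0, 0, 0, -1, 0], [0, 0, 1, 1, 0, -1, 0, 0, 0], [0, 0, 0, 0, 1, 1, 0, 0, -1]]
  th := [[(0, 0, 0, 0), (0, 0, 0, 0), (0, 0, 0, 0), (0, 0, 0, 0), (0, 0, 0, 0), (0, 0, 0, 0), (3, 0, 0, 0), (3, 0, 0, 0), (3, 0, 0, 0)], [(0, 0, 0, 0), (0, 0, 0, 0), (0, 0, 0, 0), (0, 0, 0, 0), (3, 0, 0, 0), (3, 0, 0, 0), (0, 0, 0, 0), (0, 0, 0, 0), (3, 0, 0, 0)], [(0, 0, 0, 0), (0, 0, 0, 0), (0, 0, 0, 0), (0, 0, 0, 0), (3, 0, 0, 0), (-3, 0, 0, 0), (0, 0, 0, 0), (0, 0, 0, 0), (3, 0, 0, 0)], [(0, 0, 0, 0), (0, 0, 0, 0), (0, 0, 0, 0), (0, 0, 0, 0), (0, 0, 0, 0), (0, 0, 0, 0), (3, 0, 0, 0), (-3, 0, 0, 0), (3, 0, 0, 0)], [(0, 0, 0, 0), (0, 0, 0, 0), (0, 0, 0, 0), (0, 0, 0, 0), (6, 0, 0, 0), (0, 0, 0, 0), (0, 0, 0, 0), (0, 0, 0,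 0), (-3, 0, 0, 0)]]
  Gm := [[3, 1, 1, 0, -1], [1, 3, 0, 1, 0], [1, 0, 3, 1, 0], [0, 1, 1, 3, -1], [-1, 0, 0, -1, 3]]
  v0 := [1, 1, 0, 0, 0]

theorem dV4_ok : dV4.Ok :=
  ⟨by decide +kernel, by decide +kernel, by decide +kernel, by decide +kernel, by decide +kernel,
    by decide +kernel, by decide +kernel, by decide +kernel, by decide +kernel⟩

/-- The patterns. -/
def PV4 : List (List (List ℤ)) := [[[1, 0, 1, 0, -1], [1, 0, 0, 0, 0], [0, 1, 0, 1, 0], [0, 1, 0, 0, 0], [0, 0, 1, 1, 0], [0, 0, 1, 0, 1], [0, 0, 0, 1, -1]], [[1, 0, 1, 0, 0], [1, 0, 0, 0, -1], [0, 1, 0, 1, -1], [0, 1, 0, 0, 1], [0, 0, 1, 1, 0], [0, 0, 1, 0, 0], [0, 0, 0, 1, 0]], [[1, 0, 1, 0, 0], [1, 0, 0, 0, -1], [0, 1, 0, 1, 0], [0, 1, 0, 0, 0], [0, 0, 1, 1, -1], [0, 0, 1, 0, 1], [0, 0, 0, 1, 0]], [[1, 0, 1, 0, 0], [1, 0, 0,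 0, -1], [0, 1, 1, 1, 0], [0, 1, -1, 0, 0], [0, 0, 0, 1, 0], [0, 0, 0, 1, -1], [0, 0, 0, 0, 1]], [[1, 0, 1, 1, -1], [1, 0, 0, -1, 0], [0, 1, 0, 1, 0], [0, 1, 0, 0, 0], [0, 0, 1, 0, 1], [0, 0, 1, 0, 0], [0, 0, 0, 0, 1]], [[1, 0, 1, 0, 0], [1, 0, 0, 0, -1], [0, 1, 0, 1, 0], [0, 1, 0, 0, 0], [0, 0, 1, 1, 0], [0, 0, 1, 0, 0], [0, 0, 0, 1, -1], [0, 0, 0, 0, 1]]]

theorem dV4_b4 : dV4.BOk 4 [0, 1, 1, 0, 2] 18 := by decide +kernel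

theorem dV4_b5 : dV4.BOk 5 [0, 1, -1, 0, 0] 6 := by decide +kernel

theorem dV4_b6 : dV4.BOk 6 [3, -2, -2, 3, 2] 18 := by decide +kernel

theorem dV4_b7 : dV4.BOk 7 [1, 0, 0, -1, 0] 6 := by decide +kernel

theorem dV4_b8 : dV4.BOk 8 [0, 1, 1, 0, -1] 9 := by decide +kernel

theorem dV4_t4_4_6 : dV4.TOk 4 4 6 0 := by decide +kernel

theorem dV4_t4_4_8 : dV4.TOk 4 4 8 0 := by decide +kernel

theorem dV4_t4_6_6 : dV4.TOk 4 6 6 0 := by decide +kernel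

theorem dV4_t4_6_8 : dV4.TOk 4 6 8 324 := by decide +kernel

theorem dV4_t4_8_8 : dV4.TOk 4 8 8 162 := by decide +kernel

theorem dV4_t6_6_8 : dV4.TOk 6 6 8 0 := by decide +kernel

theorem dV4_t6_8_8 : dV4.TOk 6 8 8 162 := by decide +kernel

theorem dV4_search : search dV4.r PV4 9 (subOuter dV4.r dV4.Gm dV4.v0) [] = true := by
  decide +kernel

end Cfsg.Agent.Ch.Spc
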