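import Mathlib
import Cfsg.Agent.Ch.SpcTab

/-!
Generated tables.
-/

set_option autoImplicit false
set_option maxRecDepth 100000

namespace Cfsg.Agent.Ch.Spc

/-- The complement. -/
abbrev EZ2 := TG 1 1056 32

instance : Group EZ2 :=
  Group.ofLeftAxioms (by decide +kernel) (by decide +kernel) (by decide +kernel)

instance : DistribMulAction EZ2 V2 :=
  act2 (fun e => e.i.val) 33345 (by decide +kernel) (by decide +kernel)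

/-- The data. -/
def dZ2 : Data V2 EZ2 where
  nm := 6
  mono j := mono2 (([(3, 0, 0), (3, 0, 96), (1, 4, 0), (1, 1, 0), (1, 5, 0), (1, 9, 0)] : List (ℕ × ℕ × ℕ)).getD j 0)
  nc := 6
  cls m := lk 43565051790043772335720480 5 (idx2 m)
  wit m := mk2 (lk 11974097187137182792650025187870115766421986666872832 10 (idx2 m))
  rep c := mk2 (lk 15771401233368064 10 c)
  size c := ([1, 9, 2, 2, 2, 2] : List ℕ).getD c 0
  ex c := ([0, 0, 1, 1, 1, 1] : List ℕ).getD c 0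
  mv := [[(1, 0, 0, 0), (1, 0, 0, 0), (1, 0, 0, 0), (1, 0, 0, 0), (1, 0, 0, 0), (1, 0, 0, 0)], [(1, 0, 0, 0), (-1, 0, 0, 0), (1, 0, 0, 0), (1, 0, 0, 0), (1, 0, 0, 0), (1, 0, 0, 0)], [(2, 0, 0, 0), (0, 0, 0, 0), (-1, 0, 0, 0), (2, 0, 0, 0), (-1, 0, 0, 0), (-1, 0, 0, 0)], [(2, 0, 0, 0), (0, 0, 0, 0), (2, 0, 0, 0), (-1, 0, 0, 0), (-1, 0, 0, 0), (-1, 0, 0, 0)], [(2, 0, 0, 0), (0, 0, 0, 0), (-1, 0, 0, 0), (-1, 0, 0, 0), (-1, 0, 0, 0), (2, 0, 0, 0)], [(2, 0, 0, 0), (0, 0, 0, 0), (-1, 0, 0, 0), (-1, 0, 0, 0), (2, 0, 0, 0), (-1, 0, 0, 0)]]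
  r := 4
  coef := [[0, 0, 1, -1, 0, 0], [0, 0, 1, 0, -1, 0], [0, 0, 1, 0, 0, -1], [1, 1, -1, 0, 0, 0]]
  th := [[(0, 0, 0, 0), (0, 0, 0, 0), (-3, 0, 0, 0), (3, 0, 0, 0), (0, 0, 0, 0), (0, 0, 0, 0)], [(0, 0, 0, 0), (0, 0, 0, 0), (0, 0, 0, 0), (3, 0, 0, 0), (0, 0, 0, 0), (-3, 0, 0, 0)], [(0, 0, 0, 0), (0, 0, 0, 0), (0, 0, 0, 0), (3, 0, 0, 0), (-3, 0, 0, 0), (0, 0, 0, 0)], [(0, 0, 0, 0), (0, 0, 0, 0), (3, 0, 0, 0), (0, 0, 0, 0), (3, 0, 0, 0), (3, 0, 0, 0)]]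
  Gm := [[2, 1, 1, -1], [1, 2, 1, -1], [1, 1, 2, -1], [-1, -1, -1, 3]]
  v0 := [0, 0, 0, 1]

theorem dZ2_ok : dZ2.Ok :=
  ⟨by decide +kernel, by decide +kernel, by decide +kernel, by decide +kernel, by decide +kernel,
    by decide +kernel, by decide +kernel, by decide +kernel, by decide +kernel⟩

/-- The patterns. -/
def PZ2 : List (List (List ℤ)) := [[[1, 1, 1, -1], [1, 0, 0, 0], [0, 1, 0, 0], [0, 0, 1, 0], [0, 0, 0, 1]]]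

theorem dZ2_b2 : dZ2.BOk 2 [-2, 1, 1, 1] 9 := by decide +kernel

theorem dZ2_b3 : dZ2.BOk 3 [1, 1, 1, 1] 9 := by decide +kernel

theorem dZ2_b4 : dZ2.BOk 4 [1, 1, -2, 1] 9 := by decide +kernel

theorem dZ2_b5 : dZ2.BOk 5 [1, -2, 1, 1] 9 := by decide +kernel

theorem dZ2_t2_2_3 : dZ2.TOk 2 2 3 0 := by decide +kernel

theorem dZ2_t2_2_4 : dZ2.TOk 2 2 4 0 := by decide +kernel

theorem dZ2_t2_2_5 : dZ2.TOk 2 2 5 0 := by decide +kernel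

theorem dZ2_t2_3_3 : dZ2.TOk 2 3 3 0 := by decide +kernel

theorem dZ2_t2_3_4 : dZ2.TOk 2 3 4 81 := by decide +kernel

theorem dZ2_t2_3_5 : dZ2.TOk 2 3 5 81 := by decide +kernel

theorem dZ2_t2_4_4 : dZ2.TOk 2 4 4 0 := by decide +kernel

theorem dZ2_t2_4_5 : dZ2.TOk 2 4 5 81 := by decide +kernel

theorem dZ2_t2_5_5 : dZ2.TOk 2 5 5 0 := by decide +kernel

theorem dZ2_t3_3_4 : dZ2.TOk 3 3 4 0 := by decide +kernel

theorem dZ2_t3_3_5 : dZ2.TOk 3 3 5 0 := by decide +kernel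

theorem dZ2_t3_4_4 : dZ2.TOk 3 4 4 0 := by decide +kernel

theorem dZ2_t3_4_5 : dZ2.TOk 3 4 5 81 := by decide +kernel

theorem dZ2_t3_5_5 : dZ2.TOk 3 5 5 0 := by decide +kernel

theorem dZ2_t4_4_5 : dZ2.TOk 4 4 5 0 := by decide +kernel

theorem dZ2_t4_5_5 : dZ2.TOk 4 5 5 0 := by decide +kernel

theorem dZ2_search : search dZ2.r PZ2 6 (subOuter dZ2.r dZ2.Gm dZ2.v0) [] = true := by
  decide +kernel

end Cfsg.Agent.Ch.Spc
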