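import Mathlib
import Cfsg.Agent.Ch.SpcTab

/-!
Generated tables.
-/

set_option autoImplicit false
set_option maxRecDepth 100000

namespace Cfsg.Agent.Ch.Spc

/-- The complement. -/
abbrev EH1 := TG 3 1257873498147170388000 100384

instance : Group EH1 :=
  Group.ofLeftAxioms (by decide +kernel) (by decide +kernel) (by decide +kernel)

instance : DistribMulAction EH1 V3 :=
  act3 (fun e => e.i.val) 1189860046514659066113 (by decide +kernel) (by decide +kernel)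

/-- The data. -/
def dH1 : Data V3 EH1 where
  nm := 15
  mono j := mono3 (([(15, 0, 0), (15, 0, 26112), (15, 0, 24672), (15, 0, 1632), (3, 1, 0), (3, 1, 96), (5, 4, 0), (5, 4, 1536), (9, 16, 0), (9, 16, 24576), (1, 20, 0), (1, 17, 0), (1, 5, 0), (1, 21, 0), (1, 37, 0)] : List (ℕ × ℕ × ℕ)).getD j 0)
  nc := 15
  cls m := lk 588114641207399906418781366735588237533574390728321662966294312913194388892022358347832721210757818432438426757400709672492190483981688263576318583398209050216480 5 (idx3 m)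
  wit m := mk3 (lk 620363617699426784879862797095935176709598975279421203441292233116420297199130211606696420356817865274497532050412901949061731391155285031237197984674634009100970283616631513833627466217415725471152454524772468519481819555988550251504754031660035405554288098132786080280937743763919125745053359148826697182844046674564743168 10 (idx3 m))
  rep c := mk3 (lk 122724941179151696397566222086968793660130304 10 c)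
  size c := ([1, 9, 9, 9, 2, 18, 2, 18, 4, 2, 18, 4, 4, 4, 4] : List ℕ).getD c 0
  ex c := ([0, 0, 0, 0, 1, 2, 1, 2, 1, 1, 2, 1, 1, 1, 1] : List ℕ).getD c 0
  mv := [[(1, 0, 0, 0), (1, 0, 0, 0), (1, 0, 0, 0), (1, 0, 0, 0), (1, 0, 0, 0), (1, 0, 0, 0), (1, 0, 0, 0), (1, 0, 0, 0), (1, 0, 0, 0), (1, 0, 0, 0), (1, 0, 0, 0), (1, 0, 0, 0), (1, 0, 0, 0), (1, 0, 0, 0), (1, 0, 0, 0)], [(1, 0, 0, 0), (1, 0, 0, 0), (-1, 0, 0, 0), (-1, 0, 0, 0), (1, 0, 0, 0), (-1, 0, 0, 0), (1, 0, 0, 0), (-1, 0, 0, 0), (1, 0, 0, 0), (1, 0, 0, 0), (1, 0, 0, 0), (1, 0, 0, 0), (1, 0, 0, 0), (1, 0, 0, 0), (1, 0, 0, 0)], [(1, 0, 0, 0), (-1, 0, 0, 0), (1, 0, 0, 0), (-1, 0, 0, 0), (1, 0, 0, 0), (-1, 0, 0, 0), (1, 0, 0, 0), (1, 0, 0, 0), (1, 0, 0, 0), (1, 0, 0, 0), (-1, 0, 0, 0), (1, 0, 0, 0), (1, 0, 0, 0), (1, 0,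 0, 0), (1, 0, 0, 0)], [(1, 0, 0, 0), (-1, 0, 0, 0), (-1, 0, 0, 0), (1, 0, 0, 0), (1, 0, 0, 0), (1, 0, 0, 0), (1, 0, 0, 0), (-1, 0, 0, 0), (1, 0, 0, 0), (1, 0, 0, 0), (-1, 0, 0, 0), (1, 0, 0, 0), (1, 0, 0, 0), (1, 0, 0, 0), (1, 0, 0, 0)], [(2, 0, 0, 0), (2, 0, 0, 0), (0, 0, 0, 0), (0, 0, 0, 0), (2, 0, 0, 0), (0, 0, 0, 0), (2, 0, 0, 0), (0, 0, 0, 0), (2, 0, 0, 0), (-1, 0, 0, 0), (-1, 0, 0, 0), (-1, 0, 0, 0), (-1, 0, 0, 0), (-1, 0, 0, 0), (-1, 0, 0, 0)], [(2, 0, 0, 0), (-2, 0, 0, 0), (0, 0, 0, 0), (0, 0, 0, 0), (2, 0, 0, 0), (0, 0, 0, 0), (2, 0, 0, 0), (0, 0, 0, 0), (2, 0, 0, 0), (-1, 0, 0, 0), (1, 0, 0, 0), (-1, 0, 0, 0), (-1, 0, 0, 0), (-1, 0, 0, 0), (-1, 0, 0, 0)], [(2, 0, 0, 0), (0, 0, 0, 0), (2, 0, 0, 0), (0, 0, 0, 0), (2, 0, 0, 0), (0, 0, 0, 0), (-1, 0, 0, 0), (-1, 0, 0, 0),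 (-1, 0, 0, 0), (2, 0, 0, 0), (0, 0, 0, 0), (2, 0, 0, 0), (-1, 0, 0, 0), (-1, 0, 0, 0), (-1, 0, 0, 0)], [(2, 0, 0, 0), (0, 0, 0, 0), (-2, 0, 0, 0), (0, 0, 0, 0), (2, 0, 0, 0), (0, 0, 0, 0), (-1, 0, 0, 0), (1, 0, 0, 0), (-1, 0, 0, 0), (2, 0, 0, 0), (0, 0, 0, 0), (2, 0, 0, 0), (-1, 0, 0, 0), (-1, 0, 0, 0), (-1, 0, 0, 0)], [(2, 0, 0, 0), (0, 0, 0, 0), (0, 0, 0, 0), (2, 0, 0, 0), (-1, 0, 0, 0), (-1, 0, 0, 0), (2, 0, 0, 0), (0, 0, 0, 0), (-1, 0, 0, 0), (2, 0, 0, 0), (0, 0, 0, 0), (-1, 0, 0, 0), (2, 0, 0, 0), (-1, 0, 0, 0), (-1, 0, 0, 0)], [(2, 0, 0, 0), (0, 0, 0, 0), (0, 0, 0, 0), (-2, 0, 0, 0), (-1, 0, 0, 0), (1, 0, 0, 0), (2, 0, 0, 0), (0, 0, 0, 0), (-1, 0, 0, 0), (2, 0, 0, 0), (0, 0, 0, 0), (-1, 0, 0, 0), (2, 0, 0, 0), (-1, 0, 0, 0), (-1, 0, 0, 0)], [(4, 0, 0, 0), (0, 0, 0, 0),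 (0, 0, 0, 0), (0, 0, 0, 0), (-2, 0, 0, 0), (0, 0, 0, 0), (-2, 0, 0, 0), (0, 0, 0, 0), (1, 0, 0, 0), (4, 0, 0, 0), (0, 0, 0, 0), (-2, 0, 0, 0), (-2, 0, 0, 0), (1, 0, 0, 0), (1, 0, 0, 0)], [(4, 0, 0, 0), (0, 0, 0, 0), (0, 0, 0, 0), (0, 0, 0, 0), (-2, 0, 0, 0), (0, 0, 0, 0), (4, 0, 0, 0), (0, 0, 0, 0), (-2, 0, 0, 0), (-2, 0, 0, 0), (0, 0, 0, 0), (1, 0, 0, 0), (-2, 0, 0, 0), (1, 0, 0, 0), (1, 0, 0, 0)], [(4, 0, 0, 0), (0, 0, 0, 0), (0, 0, 0, 0), (0, 0, 0, 0), (4, 0, 0, 0), (0, 0, 0, 0), (-2, 0, 0, 0), (0, 0, 0, 0), (-2, 0, 0, 0), (-2, 0, 0, 0), (0, 0, 0, 0), (-2, 0, 0, 0), (1, 0, 0, 0), (1, 0, 0, 0), (1, 0, 0, 0)], [(4, 0, 0, 0), (0, 0, 0, 0), (0, 0, 0, 0), (0, 0, 0, 0), (-2, 0, 0, 0), (0, 0, 0, 0), (-2, 0, 0, 0), (0, 0, 0, 0), (1, 0, 0, 0), (-2, 0, 0, 0), (0, 0, 0, 0), (1, 0, 0,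 0), (1, 0, 0, 0), (1, 0, -3, 0), (-2, 0, 3, 0)], [(4, 0, 0, 0), (0, 0, 0, 0), (0, 0, 0, 0), (0, 0, 0, 0), (-2, 0, 0, 0), (0, 0, 0, 0), (-2, 0, 0, 0), (0, 0, 0, 0), (1, 0, 0, 0), (-2, 0, 0, 0), (0, 0, 0, 0), (1, 0, 0, 0), (1, 0, 0, 0), (-2, 0, 3, 0), (1, 0, -3, 0)]]
  r := 11
  coef := [[0, 0, 0, 0, 0, 0, 0, 0, 0, 0, 1, 0, 0, -1, 0], [0, 0, 0, 0, 0, 0, 0, 0, 0, 0, 1, 0, 0, 0, -1], [1, 1, 0, 0, -1, 0, 0, 0, 0, 0, 0, 0, 0, 0, 0], [0, 0, 1, 1, 0, -1, 0, 0, 0, 0, 0, 0, 0, 0, 0], [0, 1, 0, 1, 0, 0, 0, -1, 0, 0, 0, 0, 0, 0, 0], [1, 0, 1, 0, 0, 0, -1, 0, 0, 0, 0, 0, 0, 0, 0], [1, 0, 0, 1, 0, 0, 0, 0, -1, 0, 0, 0, 0, 0, 0], [0, 0, 0, 0, 0, 0, 0, 0, 0, 0, 1, -1, 0, 0, 0], [0, 1, 1, 0, 0, 0, 0, 0, 0, -1, 0, 0, 0, 0, 0], [0, 0, 0, 0, 1, 1, 0, 0, 0, 0, -1, 0, 0, 0, 0], [0, 0, 0, 0, 0, 0,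 0, 0, 0, 0, 1, 0, -1, 0, 0]]
  th := [[(0, 0, 0, 0), (0, 0, 0, 0), (0, 0, 0, 0), (0, 0, 0, 0), (0, 0, 0, 0), (0, 0, 0, 0), (0, 0, 0, 0), (0, 0, 0, 0), (0, 0, 0, 0), (6, 0, 0, 0), (0, 0, 0, 0), (-3, 0, 0, 0), (-3, 0, 0, 0), (0, 0, 3, 0), (3, 0, -3, 0)], [(0, 0, 0, 0), (0, 0, 0, 0), (0, 0, 0, 0), (0, 0, 0, 0), (0, 0, 0, 0), (0, 0, 0, 0), (0, 0, 0, 0), (0, 0, 0, 0), (0, 0, 0, 0), (6, 0, 0, 0), (0, 0, 0, 0), (-3, 0, 0, 0), (-3, 0, 0, 0), (3, 0, -3, 0), (0, 0, 3, 0)], [(0, 0, 0, 0), (0, 0, 0, 0), (0, 0, 0, 0), (0, 0, 0, 0), (0, 0, 0, 0), (0, 0, 0, 0), (0, 0, 0, 0), (0, 0, 0, 0), (0, 0, 0, 0), (3, 0, 0, 0), (3, 0, 0, 0), (3, 0, 0, 0), (3, 0, 0, 0), (3, 0, 0, 0), (3, 0, 0, 0)], [(0, 0, 0, 0), (0, 0, 0, 0), (0, 0, 0, 0), (0, 0, 0, 0), (0, 0, 0, 0), (0, 0, 0, 0), (0, 0, 0, 0), (0, 0,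 0, 0), (0, 0, 0, 0), (3, 0, 0, 0), (-3, 0, 0, 0), (3, 0, 0, 0), (3, 0, 0, 0), (3, 0, 0, 0), (3, 0, 0, 0)], [(0, 0, 0, 0), (0, 0, 0, 0), (0, 0, 0, 0), (0, 0, 0, 0), (0, 0, 0, 0), (0, 0, 0, 0), (3, 0, 0, 0), (-3, 0, 0, 0), (3, 0, 0, 0), (0, 0, 0, 0), (0, 0, 0, 0), (0, 0, 0, 0), (3, 0, 0, 0), (3, 0, 0, 0), (3, 0, 0, 0)], [(0, 0, 0, 0), (0, 0, 0, 0), (0, 0, 0, 0), (0, 0, 0, 0), (0, 0, 0, 0), (0, 0, 0, 0), (3, 0, 0, 0), (3, 0, 0, 0), (3, 0, 0, 0), (0, 0, 0, 0), (0, 0, 0, 0), (0, 0, 0, 0), (3, 0, 0, 0), (3, 0, 0, 0), (3, 0, 0, 0)], [(0, 0, 0, 0), (0, 0, 0, 0), (0, 0, 0, 0), (0, 0, 0, 0), (3, 0, 0, 0), (3, 0, 0, 0), (0, 0, 0, 0), (0, 0, 0, 0), (3, 0, 0, 0), (0, 0, 0, 0), (0, 0, 0, 0), (3, 0, 0, 0), (0, 0, 0, 0), (3, 0, 0, 0), (3, 0, 0, 0)], [(0, 0, 0, 0), (0, 0, 0, 0), (0, 0, 0, 0),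 (0, 0, 0, 0), (0, 0, 0, 0), (0, 0, 0, 0), (-6, 0, 0, 0), (0, 0, 0, 0), (3, 0, 0, 0), (6, 0, 0, 0), (0, 0, 0, 0), (-3, 0, 0, 0), (0, 0, 0, 0), (0, 0, 0, 0), (0, 0, 0, 0)], [(0, 0, 0, 0), (0, 0, 0, 0), (0, 0, 0, 0), (0, 0, 0, 0), (3, 0, 0, 0), (-3, 0, 0, 0), (0, 0, 0, 0), (0, 0, 0, 0), (3, 0, 0, 0), (0, 0, 0, 0), (0, 0, 0, 0), (3, 0, 0, 0), (0, 0, 0, 0), (3, 0, 0, 0), (3, 0, 0, 0)], [(0, 0, 0, 0), (0, 0, 0, 0), (0, 0, 0, 0), (0, 0, 0, 0), (6, 0, 0, 0), (0, 0, 0, 0), (6, 0, 0, 0), (0, 0, 0, 0), (3, 0, 0, 0), (-6, 0, 0, 0), (0, 0, 0, 0), (0, 0, 0, 0), (0, 0, 0, 0), (-3, 0, 0, 0), (-3, 0, 0, 0)], [(0, 0, 0, 0), (0, 0, 0, 0), (0, 0, 0, 0), (0, 0, 0, 0), (-6, 0, 0, 0), (0, 0, 0, 0), (0, 0, 0, 0), (0, 0, 0, 0), (3, 0, 0, 0), (6, 0, 0, 0), (0, 0, 0, 0), (0, 0, 0, 0), (-3, 0, 0, 0), (0,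 0, 0, 0), (0, 0, 0, 0)]]
  Gm := [[2, 1, 0, 0, 0, 0, 0, 1, 0, -1, 1], [1, 2, 0, 0, 0, 0, 0, 1, 0, -1, 1], [0, 0, 3, 0, 1, 1, 1, 0, 1, -1, 0], [0, 0, 0, 3, 1, 1, 1, 0, 1, -1, 0], [0, 0, 1, 1, 3, 0, 1, 0, 1, 0, 0], [0, 0, 1, 1, 0, 3, 1, 0, 1, 0, 0], [0, 0, 1, 1, 1, 1, 3, 0, 0, 0, 0], [1, 1, 0, 0, 0, 0, 0, 2, 0, -1, 1], [0, 0, 1, 1, 1, 1, 0, 0, 3, 0, 0], [-1, -1, -1, -1, 0, 0, 0, -1, 0, 3, -1], [1, 1, 0, 0, 0, 0, 0, 1, 0, -1, 2]]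
  v0 := [0, 0, 1, 0, 0, 1, 1, 0, 0, 0, 0]

theorem dH1_ok : dH1.Ok :=
  ⟨by decide +kernel, by decide +kernel, by decide +kernel, by decide +kernel, by decide +kernel,
    by decide +kernel, by decide +kernel, by decide +kernel, by decide +kernel⟩

/-- The patterns. -/
def PH1 : List (List (List ℤ)) := [[[1, 1, 0, 0, 0, 0, 0, 1, 0, -1, 1], [1, 0, 0, 0, 0, 0, 0, 0, 0, 0, 0], [0, 1, 0, 0, 0, 0, 0, 0, 0, 0, 0], [0, 0, 1, 0, 1, 0, 0, 0, 1, 0, 0], [0, 0, 1, 0, 0, 0, 0, 0, 0, -1, 0], [0, 0, 0, 1, 1, 0, 1, 0, 0, 0, 0], [0, 0, 0, 1, 0, 1, 0, 0, 1, 0, 0], [0, 0, 0, 1, 0, 0, 0, 0, 0, -1, 0], [0, 0, 0, 0, 1, 0, 0, 0, 0, 0, 0], [0, 0, 0, 0, 0, 1, 0, 0, 0, 0, 0], [0, 0, 0, 0, 0, 0, 1, 0, 0, 0, 0], [0, 0, 0, 0, 0, 0, 0, 1, 0, 0, 0], [0, 0, 0, 0, 0, 0, 0, 0, 1, 0, 0], [0, 0, 0, 0, 0, 0, 0,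 0, 0, 0, 1]]]

theorem dH1_b4 : dH1.BOk 4 [2, 2, 2, 2, -2, -2, 1, 2, 1, 4, -4] 54 := by decide +kernel

theorem dH1_b5 : dH1.BOk 5 [0, 0, 0, 0, 0, 0, 1, 0, -1, 0, 0] 6 := by decide +kernel

theorem dH1_b6 : dH1.BOk 6 [2, 2, 2, 2, 1, 1, -2, -4, -2, 4, 2] 54 := by decide +kernel

theorem dH1_b7 : dH1.BOk 7 [0, 0, 0, 0, -1, 1, 0, 0, 0, 0, 0] 6 := by decide +kernel

theorem dH1_b8 : dH1.BOk 8 [-1, -1, -1, -1, 1, 1, 1, 2, 1, 1, 2] 27 := by decide +kernel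

theorem dH1_b9 : dH1.BOk 9 [2, 2, 5, 5, -2, -2, -2, 2, -2, 4, 2] 54 := by decide +kernel

theorem dH1_b10 : dH1.BOk 10 [0, 0, 1, -1, 0, 0, 0, 0, 0, 0, 0] 6 := by decide +kernel

theorem dH1_b11 : dH1.BOk 11 [-1, -1, 2, 2, -2, -2, 1, -1, 1, 1, 2] 27 := by decide +kernel

theorem dH1_b12 : dH1.BOk 12 [-1, -1, 2, 2, 1, 1, -2, 2, -2, 1, -1] 27 := by decide +kernel

theorem dH1_t4_4_6 : dH1.TOk 4 4 6 0 := by decide +kernel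

theorem dH1_t4_4_8 : dH1.TOk 4 4 8 0 := by decide +kernel

theorem dH1_t4_4_9 : dH1.TOk 4 4 9 0 := by decide +kernel

theorem dH1_t4_4_11 : dH1.TOk 4 4 11 0 := by decide +kernel

theorem dH1_t4_4_12 : dH1.TOk 4 4 12 0 := by decide +kernel

theorem dH1_t4_6_6 : dH1.TOk 4 6 6 0 := by decide +kernel

theorem dH1_t4_6_8 : dH1.TOk 4 6 8 2916 := by decide +kernel

theorem dH1_t4_6_9 : dH1.TOk 4 6 9 0 := by decide +kernel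

theorem dH1_t4_6_11 : dH1.TOk 4 6 11 0 := by decide +kernel

theorem dH1_t4_6_12 : dH1.TOk 4 6 12 0 := by decide +kernel

theorem dH1_t4_8_8 : dH1.TOk 4 8 8 1458 := by decide +kernel

theorem dH1_t4_8_9 : dH1.TOk 4 8 9 0 := by decide +kernel

theorem dH1_t4_8_11 : dH1.TOk 4 8 11 0 := by decide +kernel

theorem dH1_t4_8_12 : dH1.TOk 4 8 12 0 := by decide +kernel

theorem dH1_t4_9_9 : dH1.TOk 4 9 9 0 := by decide +kernel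

theorem dH1_t4_9_11 : dH1.TOk 4 9 11 2916 := by decide +kernel

theorem dH1_t4_9_12 : dH1.TOk 4 9 12 0 := by decide +kernel

theorem dH1_t4_11_11 : dH1.TOk 4 11 11 1458 := by decide +kernel

theorem dH1_t4_11_12 : dH1.TOk 4 11 12 0 := by decide +kernel

theorem dH1_t4_12_12 : dH1.TOk 4 12 12 0 := by decide +kernel

theorem dH1_t6_6_8 : dH1.TOk 6 6 8 0 := by decide +kernel

theorem dH1_t6_6_9 : dH1.TOk 6 6 9 0 := by decide +kernel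

theorem dH1_t6_6_11 : dH1.TOk 6 6 11 0 := by decide +kernel

theorem dH1_t6_6_12 : dH1.TOk 6 6 12 0 := by decide +kernel

theorem dH1_t6_8_8 : dH1.TOk 6 8 8 1458 := by decide +kernel

theorem dH1_t6_8_9 : dH1.TOk 6 8 9 0 := by decide +kernel

theorem dH1_t6_8_11 : dH1.TOk 6 8 11 0 := by decide +kernel

theorem dH1_t6_8_12 : dH1.TOk 6 8 12 0 := by decide +kernel

theorem dH1_t6_9_9 : dH1.TOk 6 9 9 0 := by decide +kernel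

theorem dH1_t6_9_11 : dH1.TOk 6 9 11 0 := by decide +kernel

theorem dH1_t6_9_12 : dH1.TOk 6 9 12 2916 := by decide +kernel

theorem dH1_t6_11_11 : dH1.TOk 6 11 11 0 := by decide +kernel

theorem dH1_t6_11_12 : dH1.TOk 6 11 12 0 := by decide +kernel

theorem dH1_t6_12_12 : dH1.TOk 6 12 12 1458 := by decide +kernel

theorem dH1_t8_8_9 : dH1.TOk 8 8 9 0 := by decide +kernel

theorem dH1_t8_8_11 : dH1.TOk 8 8 11 0 := by decide +kernel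

theorem dH1_t8_8_12 : dH1.TOk 8 8 12 0 := by decide +kernel

theorem dH1_t8_9_9 : dH1.TOk 8 9 9 0 := by decide +kernel

theorem dH1_t8_9_11 : dH1.TOk 8 9 11 0 := by decide +kernel

theorem dH1_t8_9_12 : dH1.TOk 8 9 12 0 := by decide +kernel

theorem dH1_t8_11_11 : dH1.TOk 8 11 11 0 := by decide +kernel

theorem dH1_t8_11_12 : dH1.TOk 8 11 12 1458 := by decide +kernel

theorem dH1_t8_12_12 : dH1.TOk 8 12 12 0 := by decide +kernel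

theorem dH1_t9_9_11 : dH1.TOk 9 9 11 0 := by decide +kernel

theorem dH1_t9_9_12 : dH1.TOk 9 9 12 0 := by decide +kernel

theorem dH1_t9_11_11 : dH1.TOk 9 11 11 1458 := by decide +kernel

theorem dH1_t9_11_12 : dH1.TOk 9 11 12 0 := by decide +kernel

theorem dH1_t9_12_12 : dH1.TOk 9 12 12 1458 := by decide +kernel

theorem dH1_t11_11_12 : dH1.TOk 11 11 12 0 := by decide +kernel

theorem dH1_t11_12_12 : dH1.TOk 11 12 12 0 := by decide +kernel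

end Cfsg.Agent.Ch.Spc
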