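import Mathlib

/-!
Arithmetic for self-centralization systems.
-/

set_option autoImplicit false

namespace Cfsg.Agent.Ch.Ssc

theorem exists_w {g n c d δ x s : ℤ} (hδ : δ = 1 ∨ δ = -1) (hn : 0 < n) (hodd : ¬ 2 ∣ n)
    (hd : 0 < d) (hD : 0 < d + δ) (hc : 0 < c) (hx : x < d) (hs : d = δ + n * s)
    (h : g * (d - x) ^ 2 = n * c ^ 2 * (d * (d + δ))) (h1 : n ∣ g) (h2 : d ∣ g) (h3 : d + δ ∣ g) :
    ∃ w, 0 < w ∧ g = n * (d * (d + δ)) * w ^ 2 ∧ c = w * (d - x) := by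
  have hδ2 : δ * δ = 1 := by rcases hδ with rfl | rfl <;> rfl
  have c1 : IsCoprime d (d + δ) := ⟨-δ, δ, by linear_combination hδ2⟩
  have c2 : IsCoprime n d := ⟨-δ * s, δ, by rw [hs]; linear_combination hδ2⟩
  have c3 : IsCoprime n (d + δ) := by
    obtain ⟨k, hk⟩ : ∃ k, n = 2 * k + 1 := ⟨n / 2, by omega⟩
    exact ⟨1 + k * δ * s, -k * δ, by rw [hs]; linear_combination hk - 2 * k * hδ2⟩
  obtain ⟨v, hv⟩ := (c2.mul_right c3).mul_dvd h1 (c1.mul_dvd h2 h3)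
  have p : n * (d * (d + δ)) ≠ 0 := by positivity
  have h4 : c ^ 2 = (d - x) ^ 2 * v := mul_left_cancel₀ p (by rw [hv] at h; linear_combination -h)
  obtain ⟨w, hw⟩ := (Int.pow_dvd_pow_iff two_ne_zero).1 ⟨v, h4⟩
  have q : 0 < d - x := by omega
  refine ⟨w, pos_of_mul_pos_left (by rw [mul_comm, ← hw]; exact hc) q.le, ?_, by rw [hw, mul_comm]⟩
  rw [hv, mul_left_cancel₀ (pow_ne_zero 2 q.ne') (show (d - x) ^ 2 * v = (d - x) ^ 2 * w ^ 2 by
    rw [← h4, hw]; ring)]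

theorem small_aux {g n₁ n c d δ x k j S : ℤ} (hδ : δ = 1 ∨ δ = -1) (hn₁ : 0 < n₁) (hn : 1 < n)
    (hd : 0 < d) (hD : 0 < d + δ) (hc : 0 < c) (hk : k = 0 ∨ k = -δ) (hj : d = k + n * j)
    (hx : |x| ≤ j + k) (hS : 0 ≤ S) (h : g * (d - x) ^ 2 = n₁ * c ^ 2 * (d * (d + δ)))
    (hlt : c ^ 2 * S < 4 * g) : S * (n - 1) ^ 2 < 4 * n₁ * (n * (n + 1)) := by
  have h0 : 0 < n * j := by rcases hk with rfl | rfl <;> omega
  have h1 : 0 < j := pos_of_mul_pos_left (mul_comm n j ▸ h0) (by omega)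
  have h2 : (n - 1) * j ≤ d - x := by have := le_abs_self x; nlinarith
  have h3 : 0 < (n - 1) * j := mul_pos (by omega) h1
  have h4 : d * (d + δ) ≤ n * (n + 1) * j ^ 2 := by
    have : d * (d + δ) ≤ n * j * (n * j + 1) := by
      rcases hk with rfl | rfl <;> rcases hδ with rfl | rfl <;> nlinarith
    nlinarith [mul_nonneg h0.le (show 0 ≤ j - 1 by omega)]
  have h5 : ((n - 1) * j) ^ 2 ≤ (d - x) ^ 2 := pow_le_pow_left₀ h3.le h2 2
  refine lt_of_mul_lt_mul_left (a := c ^ 2 * j ^ 2) ?_ (by positivity)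
  calc _ = c ^ 2 * S * ((n - 1) * j) ^ 2 := by ring
    _ ≤ c ^ 2 * S * (d - x) ^ 2 := by gcongr
    _ < 4 * g * (d - x) ^ 2 := mul_lt_mul_of_pos_right hlt (pow_pos (by omega) 2)
    _ = 4 * n₁ * c ^ 2 * (d * (d + δ)) := by linear_combination 4 * h
    _ ≤ 4 * n₁ * c ^ 2 * (n * (n + 1) * j ^ 2) := by gcongr
    _ = _ := by ring

theorem small_fin {n₁ n₂ n₃ : ℤ} (h1 : n₁ = 5 ∨ n₁ = 7) (h2 : 5 < n₂) (h3 : n₂ < n₃)
    (h4 : 4 ∣ n₂ - 1) (h5 : 4 ∣ n₃ - 1)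
    (h : (2 * n₁ + n₂ + n₃ - 4) * (n₃ - 1) ^ 2 < 4 * n₁ * (n₃ * (n₃ + 1))) :
    n₁ = 7 ∧ n₂ = 9 ∧ n₃ = 13 := by
  have a : 9 ≤ n₂ := by omega
  have b : 13 ≤ n₃ := by omega
  have p : 0 ≤ (n₂ - 9) * (n₃ - 1) ^ 2 := by positivity
  rcases h1 with rfl | rfl
  · nlinarith [mul_nonneg (show 0 ≤ n₃ - 13 by omega) (sq_nonneg n₃)]
  · have : n₃ < 17 := by
      by_contra h'
      nlinarith [mul_nonneg (show 0 ≤ n₃ - 17 by omega) (sq_nonneg n₃)]
    omega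

theorem small_no {g d δ w k₁ k₂ k₃ : ℤ} (hδ : δ = 1 ∨ δ = -1) (hd : 0 < d) (hD : 0 < d + δ)
    (hw : 0 < w) (h : g = 7 * (d * (d + δ)) * w ^ 2) (h1 : g = 14 * (1 + 7 * k₁))
    (h2 : g = 36 * (1 + 9 * k₂)) (h3 : g = 52 * (1 + 13 * k₃)) (hg : g ≤ 3 * (7 * 9 * 13) ^ 2) :
    False := by
  have p : 0 < g := by rw [h]; positivity
  have e : g = 62244 := by
    clear h
    norm_num at hg
    obtain ⟨a, ha⟩ : ∃ a, k₂ = 49 * a + 45 := ⟨36 * k₁ - 119 * k₂ - 9, by linarith⟩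
    obtain ⟨b, hb⟩ : ∃ b, a = 169 * b + 3 := ⟨101 * k₃ - 2372 * a - 2176, by linarith⟩
    obtain rfl : b = 0 := by
      have : g = 2683044 * b + 62244 := by linarith
      clear h1 h2 h3 ha hb
      omega
    linarith
  have key : ∀ a : Fin 95, ∀ b : Fin 95, (a : ℕ) * (a + 1) * b ^ 2 ≠ 8892 := by decide +kernel
  obtain ⟨a, ha, ha'⟩ : ∃ a : ℤ, 0 < a ∧ a * (a + 1) * w ^ 2 = 8892 := by
    rcases hδ with rfl | rfl
    · exact ⟨d, hd, by linarith⟩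
    · exact ⟨d - 1, by omega, by linarith⟩
  have q1 : 1 ≤ w ^ 2 := one_le_pow₀ hw
  have q2 : 1 ≤ a * (a + 1) := by nlinarith
  have r1 : a < 95 := by by_contra h'; nlinarith
  have r2 : w < 95 := by by_contra h'; nlinarith
  lift a to ℕ using ha.le
  lift w to ℕ using hw.le
  exact key ⟨a, by omega⟩ ⟨w, by omega⟩ (by exact_mod_cast ha')

theorem w_aux {n s w : ℤ} (hn : 9 ≤ n) (hw : 0 < w) (s0 : 0 < s) (hs : 115 ≤ n * s)
    (hw2 : 116 * w ^ 2 ≤ 351 * n) (h4 : n * s - 1 ≤ (w + 1) * (s + 1)) : False := by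
  have h5 : n ≤ 2 * w + 3 := by
    by_contra h'
    nlinarith [mul_nonneg (show 0 ≤ n - (2 * w + 4) by omega) s0.le,
      mul_nonneg hw.le (show 0 ≤ s - 1 by omega)]
  have h6 : w ≤ 7 := by by_contra h'; nlinarith
  have h7 : 7 ≤ s := by
    by_contra h'
    nlinarith [mul_nonneg (show 0 ≤ 17 - n by omega) s0.le]
  have h8 : 7 * n ≤ 8 * w + 9 := by
    by_contra h'
    nlinarith [mul_nonneg (show 0 ≤ 7 * n - (8 * w + 10) by omega) s0.le,
      mul_nonneg hw.le (show 0 ≤ s - 7 by omega)]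
  nlinarith

theorem w_eq_one {n M d δ x w u s κ i : ℤ} (hδ : δ = 1 ∨ δ = -1) (hn : 9 ≤ n) (hodd : ¬ 2 ∣ n)
    (hM : 117 ≤ M) (hw : 0 < w) (hu : 0 < u) (hs : d = δ + n * s) (hD : d + δ = M * u)
    (hx : |x| ≤ s + δ) (hi : w ^ 2 = 1 + n * i) (hκ : ¬ 2 ∣ κ) (he : κ * (d - x) = u * d * w)
    (hb : u * d * w ^ 2 ≤ 3 * n * M) : w = 1 := by
  by_contra h1
  have δ1 : -1 ≤ δ ∧ δ ≤ 1 := by omega
  have i0 : 0 < i := pos_of_mul_pos_left (b := n) (by nlinarith [show 2 ≤ w by omega]) (by omega)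
  have w2 : n + 1 ≤ w ^ 2 := by nlinarith
  have u1 : u = 1 := by
    by_contra h'
    have a1 : 2 * M - 1 ≤ d := by nlinarith [mul_nonneg (show 0 ≤ M by omega) (show 0 ≤ u - 2 by omega)]
    have a2 : 2 ≤ u := by omega
    have a3 : 0 ≤ d := by omega
    have : 2 * (2 * M - 1) * (n + 1) ≤ u * d * w ^ 2 := by gcongr; omega
    nlinarith
  subst u1
  have hw2 : 116 * w ^ 2 ≤ 351 * n := by
    have a1 : (M - 1) * w ^ 2 ≤ d * w ^ 2 := by gcongr; omega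
    by_contra h'
    nlinarith [mul_nonneg (show 0 ≤ M - 1 by omega) (show 0 ≤ 116 * w ^ 2 - 351 * n by omega),
      mul_nonneg (show 0 ≤ M - 117 by omega) (show 0 ≤ n by omega)]
  have d0 : 116 ≤ d := by omega
  by_cases hx0 : x = 0
  · subst hx0
    have : κ = w := mul_right_cancel₀ (show d ≠ 0 by omega) (by linear_combination he)
    subst this
    obtain ⟨a, ha⟩ : ∃ a, κ = 2 * a + 1 := ⟨κ / 2, by omega⟩
    obtain ⟨b, hb'⟩ := Int.even_mul_succ_self a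
    have h8 : 2 ^ 3 ∣ n * i := ⟨b, by rw [ha] at hi; linear_combination -hi + 4 * hb'⟩
    have h9 : IsCoprime 2 n := ⟨-(n / 2), 1, by omega⟩
    have := Int.le_of_dvd i0 ((h9.pow_left (m := 3)).dvd_of_dvd_mul_left h8)
    nlinarith
  have y0 : 0 < |x| := abs_pos.2 hx0
  have s0 : 0 < s := pos_of_mul_pos_left (b := n) (by linarith) (by omega)
  have yd : |x| < d := by nlinarith
  have xd : d - |x| ≤ d - x := by have := le_abs_self x; omega
  have κ0 : 0 < κ := pos_of_mul_pos_left (b := d - x) (by rw [he]; positivity) (by omega)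
  have h2 : d ≤ κ * |x| := by
    have : d ∣ κ * |x| := by
      rw [← abs_of_pos κ0, ← abs_mul, dvd_abs]
      exact ⟨κ - w, by linear_combination -he⟩
    exact Int.le_of_dvd (by positivity) this
  have h3 : d ≤ (w + 1) * |x| := by
    have a1 : d * (d - |x|) ≤ κ * |x| * (d - |x|) := by gcongr
    have a2 : κ * |x| * (d - |x|) ≤ κ * |x| * (d - x) := by gcongr
    have a3 : d * (d - |x|) ≤ d * (w * |x|) := by linear_combination a1 + a2 + |x| * he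
    have := le_of_mul_le_mul_left a3 (by omega)
    linarith
  refine w_aux hn hw s0 (by omega) hw2 ?_
  have : (w + 1) * |x| ≤ (w + 1) * (s + 1) := by gcongr; omega
  omega

theorem rho_le {n d δ t r N s : ℤ} (hδ : δ = 1 ∨ δ = -1) (hn : 0 < n) (hd : 0 < d)
    (hD : 0 < d + δ) (hs : d = δ + n * s) (ht : n ≤ 2 * t + 1)
    (h : d ^ 2 + t * (d + δ) ^ 2 + r * N ^ 2 ≤ n * (d * (d + δ))) :
    2 * r * N ^ 2 ≤ n * (d * (d + δ)) := by
  have h1 : (n - 1) * (d + δ) ^ 2 ≤ 2 * t * (d + δ) ^ 2 := by gcongr; omega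
  rcases hδ with rfl | rfl
  · nlinarith
  · have : 0 < s := by by_contra h'; nlinarith
    have : n - 1 ≤ d := by nlinarith
    nlinarith

theorem vec_unique {I : Type*} {S : Finset I} {v w : I → ℤ} (hv : ∑ k ∈ S, v k * v k = 3)
    (hw : ∑ k ∈ S, w k * w k = 3) (h : 2 ≤ ∑ k ∈ S, v k * w k) {i j : I} (hi : i ∈ S) (hj : j ∈ S)
    (vi : v i = 0) (vj : v j = 0) (wi : w i ≠ 0) (wj : w j ≠ 0) : i = j := by
  classical
  by_contra hij
  have hm : j ∈ S.erase i := by simp [hj, Ne.symm hij]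
  rw [← Finset.add_sum_erase _ _ hi, ← Finset.add_sum_erase _ _ hm] at hv hw h
  have h1 : 0 ≤ ∑ k ∈ (S.erase i).erase j, (v k * v k - 4 * (v k * w k) + 4 * (w k * w k)) :=
    Finset.sum_nonneg fun k _ => by nlinarith [sq_nonneg (v k - 2 * w k)]
  rw [Finset.sum_add_distrib, Finset.sum_sub_distrib, ← Finset.mul_sum, ← Finset.mul_sum] at h1
  have := mul_self_pos.2 wi
  have := mul_self_pos.2 wj
  rw [vi, vj] at hv h
  omega

end Cfsg.Agent.Ch.Ssc
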