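import Mathlib
import Cfsg.Agent.Ch.SpcSub

/-!
Strongly self-centralizing subgroups: elementary group theory.
-/

set_option autoImplicit false

namespace Cfsg.Agent.Ch.Ssc

open Subgroup

variable {G : Type*} [Group G]

/-- `A` is the centralizer of each of its non-identity elements. -/
def SC (A : Subgroup G) : Prop := ∀ a ∈ A, a ≠ 1 → centralizer ({a} : Set G) = A

/-- `g` is a non-identity element conjugate to an element of `A`. -/
def Cj (A : Subgroup G) (g : G) : Prop := g ≠ 1 ∧ ∃ h : G, h * g * h⁻¹ ∈ A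

theorem conj_ne_one {g : G} (hg : g ≠ 1) (h : G) : h * g * h⁻¹ ≠ 1 := fun e => hg (by
  have : g = h⁻¹ * (h * g * h⁻¹) * h := by group
  rw [this, e]; group)

theorem Cj.dvd {A : Subgroup G} {g : G} (h : Cj A g) : orderOf g ∣ Nat.card A := by
  obtain ⟨-, k, hk⟩ := h
  have := A.orderOf_dvd_natCard hk
  rwa [show k * g * k⁻¹ = MulAut.conj k g from rfl, MulEquiv.orderOf_eq] at this

namespace SC

variable {A : Subgroup G} (h : SC A)
include h

theorem mem {a g : G} (ha : a ∈ A) (h1 : a ≠ 1) (hg : g * a = a * g) : g ∈ A := by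
  rw [← h a ha h1, mem_centralizer_singleton_iff]; exact hg

theorem comm {a b : G} (ha : a ∈ A) (hb : b ∈ A) : a * b = b * a := by
  by_cases h1 : b = 1
  · simp [h1]
  · rw [← h b hb h1, mem_centralizer_singleton_iff] at ha; exact ha

theorem comm' (a b : A) : a * b = b * a := Subtype.ext (h.comm a.2 b.2)

theorem map_eq {B : Subgroup G} (hB : SC B) {a g : G} (ha : a ∈ A) (h1 : a ≠ 1)
    (hg : g * a * g⁻¹ ∈ B) : A.map (MulAut.conj g).toMonoidHom = B := by
  ext x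
  constructor
  · rintro ⟨b, hb, rfl⟩
    refine hB.mem hg (conj_ne_one h1 g) ?_
    change g * b * g⁻¹ * (g * a * g⁻¹) = g * a * g⁻¹ * (g * b * g⁻¹)
    calc _ = g * (b * a) * g⁻¹ := by group
      _ = _ := by rw [h.comm hb ha]; group
  · intro hx
    refine ⟨g⁻¹ * x * g, h.mem ha h1 ?_, by simp [mul_assoc]⟩
    calc _ = g⁻¹ * (x * (g * a * g⁻¹)) * g := by group
      _ = _ := by rw [hB.comm hx hg]; group

theorem mem_normalizer [Finite G] {a g : G} (ha : a ∈ A) (h1 : a ≠ 1) (hg : g * a * g⁻¹ ∈ A) :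
    g ∈ normalizer (A : Set G) := by
  refine mem_normalizer_fintype fun b hb => ?_
  have := h.map_eq h ha h1 hg
  rw [← this]
  exact ⟨b, hb, rfl⟩

theorem exists_sylow [Finite G] {p : ℕ} [Fact p.Prime] (hp : p ∣ Nat.card A) :
    ∃ P : Sylow p G, (P : Subgroup G) ≤ A := by
  obtain ⟨a, ha⟩ := exists_prime_orderOf_dvd_card' p hp
  have ha' : orderOf (a : G) = p := by rw [orderOf_coe, ha]
  have h1 : (a : G) ≠ 1 := fun e => by
    rw [e, orderOf_one] at ha'; exact (Fact.out : p.Prime).one_lt.ne ha'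
  have hz : IsPGroup p (zpowers (a : G)) := IsPGroup.of_card (n := 1) (by
    rw [Nat.card_zpowers, ha', pow_one])
  obtain ⟨P, hP⟩ := hz.exists_le_sylow
  have haP : (a : G) ∈ (P : Subgroup G) := hP (mem_zpowers _)
  haveI : Nontrivial P := ⟨⟨⟨a, haP⟩, 1, fun e => h1 (congrArg Subtype.val e)⟩⟩
  haveI := P.2.center_nontrivial
  obtain ⟨z, hz1⟩ := exists_ne (1 : center P)
  have hz2 : ((z : P) : G) ≠ 1 := fun e => hz1 (Subtype.ext (Subtype.ext e))
  have hc : ∀ x ∈ (P : Subgroup G), x * (z : P) = (z : P) * x := fun x hx =>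
    congrArg Subtype.val (mem_center_iff.1 z.2 ⟨x, hx⟩)
  exact ⟨P, fun x hx => h.mem (h.mem a.2 h1 (hc a haP).symm) hz2 (hc x hx)⟩

theorem cj_of_dvd [Finite G] {p : ℕ} (hp : p.Prime) (hA : p ∣ Nat.card A) {g : G}
    (hg : p ∣ orderOf g) : Cj A g := by
  haveI := Fact.mk hp
  obtain ⟨P, hP⟩ := h.exists_sylow hA
  have h0 : orderOf g ≠ 0 := (orderOf_pos g).ne'
  have ho : orderOf (g ^ (orderOf g / p)) = p := orderOf_pow_orderOf_div h0 hg
  have hz : IsPGroup p (zpowers (g ^ (orderOf g / p))) := IsPGroup.of_card (n := 1) (by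
    rw [Nat.card_zpowers, ho, pow_one])
  obtain ⟨Q, hQ⟩ := hz.exists_le_sylow
  obtain ⟨k, rfl⟩ := MulAction.exists_smul_eq G Q P
  have h1 : g ^ (orderOf g / p) ≠ 1 := fun e => by
    rw [e, orderOf_one] at ho; exact hp.one_lt.ne ho
  refine ⟨fun e => h1 (by rw [e, one_pow]), k, h.mem (a := k * g ^ (orderOf g / p) * k⁻¹)
    (hP ⟨_, hQ (mem_zpowers _), rfl⟩) (conj_ne_one h1 k) ?_⟩
  group

theorem coprime [Finite G] {B : Subgroup G} (hB : SC B)
    (hn : ∀ g : G, A.map (MulAut.conj g).toMonoidHom ≠ B) :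
    (Nat.card A).Coprime (Nat.card B) := by
  refine Nat.Coprime.symm (Nat.coprime_of_dvd fun p hp h1 h2 => ?_)
  haveI := Fact.mk hp
  obtain ⟨a, ha⟩ := exists_prime_orderOf_dvd_card' p h2
  obtain ⟨h3, k, hk⟩ := hB.cj_of_dvd hp h1 (g := a) (by rw [orderOf_coe, ha])
  exact hn k (h.map_eq hB a.2 h3 hk)

theorem not_cj [Finite G] {B : Subgroup G} (hc : (Nat.card A).Coprime (Nat.card B)) {g : G}
    (hA : Cj A g) : ¬ Cj B g := fun hB =>
  hA.1 (orderOf_eq_one_iff.1 (Nat.eq_one_of_dvd_coprimes hc hA.dvd hB.dvd))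

theorem exists_index [Finite G] (h0 : A ≠ ⊥)
    (he : (Nat.card A).Coprime (A.relIndex (normalizer (A : Set G)))) :
    ∃ k, (normalizer (A : Set G)).index = 1 + Nat.card A * k := by
  have hs : Spc.STI (normalizer (A : Set G)) A := by
    refine ⟨le_normalizer, fun x hx t ht => (mem_normalizer_iff.1 hx t).1 ht,
      fun t ht h1 g hg => h.mem_normalizer ht h1 ?_⟩
    have h2 : (g * t * g⁻¹) ^ Nat.card A = 1 := by
      rw [conj_pow, show t ^ Nat.card A = 1 from congrArg Subtype.val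
        (pow_card_eq_one' (G := A) (x := ⟨t, ht⟩))]
      group
    have h3 : (g * t * g⁻¹) ^ A.relIndex (normalizer (A : Set G)) ∈ A :=
      (A.subgroupOf (normalizer (A : Set G))).pow_index_mem ⟨_, hg⟩
    obtain ⟨m, hm⟩ := exists_pow_eq_self_of_coprime (x := g * t * g⁻¹)
      (he.symm.coprime_dvd_right (orderOf_dvd_of_pow_eq_one h2))
    rw [← hm]
    exact A.pow_mem h3 m
  obtain ⟨k, hk | hk⟩ := hs.exists_index
  · exact ⟨k, hk⟩
  · exact absurd hk h0

end SC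

/-- A strongly self-centralizing subgroup inverted by the involution `τ`. -/
structure Iv (A : Subgroup G) (τ : G) : Prop where
  sc : SC A
  ne : A ≠ ⊥
  sq : τ * τ = 1
  not_mem : τ ∉ A
  inv : ∀ a ∈ A, τ * a * τ⁻¹ = a⁻¹

theorem SC.surj [Finite G] {A : Subgroup G} (h : SC A) {n : G}
    (hn : n ∈ normalizer (A : Set G)) (hA : n ∉ A) {b : G} (hb : b ∈ A) :
    ∃ a ∈ A, a⁻¹ * (n * a * n⁻¹) = b := by
  have hc : ∀ a ∈ A, n * a * n⁻¹ ∈ A := fun a ha => (mem_normalizer_iff.1 hn a).1 ha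
  let f : A → A := fun a => ⟨a⁻¹ * (n * a * n⁻¹), mul_mem (inv_mem a.2) (hc a a.2)⟩
  have hi : Function.Injective f := fun a b e => by
    have e' : (a : G)⁻¹ * (n * a * n⁻¹) = (b : G)⁻¹ * (n * b * n⁻¹) := congrArg Subtype.val e
    by_contra h1
    refine hA (h.mem (mul_mem b.2 (inv_mem a.2))
      (fun e => h1 (Subtype.ext (mul_inv_eq_one.1 e).symm)) ?_)
    calc n * (b * (a : G)⁻¹) = b * ((b : G)⁻¹ * (n * b * n⁻¹)) * n * (a : G)⁻¹ := by group
      _ = _ := by rw [← e']; group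
  obtain ⟨a, ha⟩ := Finite.injective_iff_surjective.1 hi ⟨b, hb⟩
  exact ⟨a, a.2, congrArg Subtype.val ha⟩

theorem SC.iv [Finite G] {A : Subgroup G} (h : SC A) (h0 : A ≠ ⊥) {n : G}
    (hn : n ∈ normalizer (A : Set G)) (hA : n ∉ A) (h2 : n * n ∈ A) : Iv A n := by
  refine ⟨h, h0, ?_, hA, fun b hb => ?_⟩
  · by_contra h1
    exact hA (h.mem h2 h1 (by group))
  obtain ⟨a, ha, e⟩ := h.surj hn hA hb
  calc n * b * n⁻¹ = n * a⁻¹ * n⁻¹ * ((n * n) * a * (n * n)⁻¹) := by rw [← e]; group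
    _ = _ := by rw [h.comm h2 ha, ← e]; group

namespace Iv

variable {A : Subgroup G} {τ : G} (h : Iv A τ)
include h

theorem inv_eq : τ⁻¹ = τ := inv_eq_of_mul_eq_one_right h.sq

theorem ord : orderOf τ = 2 :=
  orderOf_eq_prime (by rw [pow_two, h.sq]) fun e => h.not_mem (e ▸ A.one_mem)

theorem odd [Finite G] : ¬ 2 ∣ Nat.card A := fun h2 => by
  obtain ⟨a, ha⟩ := exists_prime_orderOf_dvd_card' 2 h2
  have h1 : (a : G) ≠ 1 := fun e => by
    rw [show a = 1 from Subtype.ext e, orderOf_one] at ha; omega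
  have h3 : (a : G) * a = 1 := by
    have := pow_orderOf_eq_one a
    rw [ha, pow_two] at this
    exact congrArg Subtype.val this
  refine h.not_mem (h.sc.mem a.2 h1 ?_)
  rw [← mul_inv_eq_iff_eq_mul, h.inv a a.2, inv_eq_of_mul_eq_one_right h3]

theorem mem_norm [Finite G] : τ ∈ normalizer (A : Set G) :=
  mem_normalizer_fintype fun a ha => by rw [h.inv a ha]; exact inv_mem ha

theorem isConj_mul [Finite G] {a : G} (ha : a ∈ A) : IsConj τ (a * τ) := by
  obtain ⟨m, hm⟩ := exists_pow_eq_self_of_coprime (x := a) (n := 2)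
    ((Nat.prime_two.coprime_iff_not_dvd.2 h.odd).coprime_dvd_right (A.orderOf_dvd_natCard ha))
  refine isConj_iff.2 ⟨a ^ m, ?_⟩
  have := h.inv _ (inv_mem (pow_mem ha m))
  calc a ^ m * τ * (a ^ m)⁻¹ = a ^ m * (τ * (a ^ m)⁻¹ * τ⁻¹) * τ := by group
    _ = (a ^ 2) ^ m * τ := by rw [this]; group
    _ = _ := by rw [hm]

theorem mul_mem_of_inv {a x : G} (ha : a ∈ A) (h1 : a ≠ 1) (hx : x * a * x⁻¹ = a⁻¹) :
    x * τ ∈ A := by
  refine h.sc.mem ha h1 ?_
  calc x * τ * a = x * (τ * a * τ⁻¹) * x⁻¹ * (x * τ) := by group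
    _ = (x * a * x⁻¹)⁻¹ * (x * τ) := by rw [h.inv a ha]; group
    _ = _ := by rw [hx, inv_inv]

/-- An element commuting with an involution is not conjugate into `A`. -/
theorem not_cj [Finite G] {g t : G} (ht : orderOf t = 2) (hc : t * g = g * t) : ¬ Cj A g := by
  rintro ⟨h1, k, hk⟩
  refine h.odd (ht ▸ Cj.dvd ⟨fun e => ?_, k, h.sc.mem hk (conj_ne_one h1 k) ?_⟩)
  · rw [e, orderOf_one] at ht; omega
  · calc _ = k * (t * g) * k⁻¹ := by group
      _ = _ := by rw [hc]; group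

theorem coprime_cent [Finite G] {t : G} (ht : orderOf t = 2) :
    (Nat.card A).Coprime (Nat.card (centralizer ({t} : Set G))) := by
  refine Nat.Coprime.symm (Nat.coprime_of_dvd fun p hp h1 h2 => ?_)
  haveI := Fact.mk hp
  obtain ⟨a, ha⟩ := exists_prime_orderOf_dvd_card' p h1
  exact h.not_cj ht (mem_centralizer_singleton_iff.1 a.2).symm
    (h.sc.cj_of_dvd hp h2 (g := a) (by rw [orderOf_coe, ha]))

end Iv

theorem SC.exists_two [Finite G] {A : Subgroup G} (h : SC A) (h0 : A ≠ ⊥)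
    (he : A.relIndex (normalizer (A : Set G)) = 2) :
    ∃ τ, Iv A τ ∧ ∀ n ∈ normalizer (A : Set G), n ∈ A ∨ n * τ ∈ A := by
  obtain ⟨t, ht⟩ := index_eq_two_iff.1 he
  have h1 : (t : G) ∉ A := fun e => by
    rcases ht 1 with ⟨-, h2⟩ | ⟨-, h2⟩
    · exact h2 (one_mem _)
    · exact h2 (by rw [one_mul]; exact e)
  refine ⟨t, h.iv h0 t.2 h1 ?_, fun n hn => ?_⟩
  · rcases ht t with ⟨h2, -⟩ | ⟨h2, -⟩
    · exact h2
    · exact absurd h2 h1
  · rcases ht ⟨n, hn⟩ with ⟨h2, -⟩ | ⟨h2, -⟩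
    · exact Or.inr h2
    · exact Or.inl h2

theorem SC.exists_four [Finite G] {A : Subgroup G} (h : SC A) (h0 : A ≠ ⊥)
    (he : A.relIndex (normalizer (A : Set G)) = 4) : ∃ u, Iv A (u * u) := by
  by_contra hn
  push Not at hn
  have h2 : ∀ u ∈ normalizer (A : Set G), u * u ∈ A := fun u hu => by
    by_contra h1
    refine hn u (h.iv h0 (mul_mem hu hu) h1 ?_)
    have : u ^ A.relIndex (normalizer (A : Set G)) ∈ A :=
      (A.subgroupOf (normalizer (A : Set G))).pow_index_mem ⟨_, hu⟩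
    rwa [he, show 4 = 2 + 2 from rfl, pow_add, pow_two] at this
  obtain ⟨t, ht, h1⟩ : ∃ t ∈ normalizer (A : Set G), t ∉ A := by
    by_contra hc
    push Not at hc
    rw [relIndex_eq_one.2 hc] at he
    omega
  have hi := h.iv h0 ht h1 (h2 t ht)
  obtain ⟨a, ha, ha1⟩ := (A.bot_or_exists_ne_one).resolve_left h0
  have : A.relIndex (normalizer (A : Set G)) = 2 := by
    refine index_eq_two_iff.2 ⟨⟨t, ht⟩, fun b => ?_⟩
    by_cases hb : (b : G) ∈ A
    · exact Or.inr ⟨hb, fun e => h1 ((A.mul_mem_cancel_left hb).1 e)⟩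
    · exact Or.inl ⟨hi.mul_mem_of_inv ha ha1 ((h.iv h0 b.2 hb (h2 b b.2)).inv a ha), hb⟩
  omega

end Cfsg.Agent.Ch.Ssc
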