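import Mathlib
import Cfsg.Agent.Ch.SscGrp
import Cfsg.Agent.Ch.ClassPairs
import Cfsg.Agent.Ch.Mackey
import Cfsg.Agent.Inv.ChTools

/-!
Strongly self-centralizing subgroups: the generalized characters induced from `1 - l`.
-/

set_option autoImplicit false

namespace Cfsg.Agent.Ch.Ssc

open Subgroup
open scoped ComplexConjugate

variable {G : Type*} [Group G] [Fintype G]

/-- The function induced from `1 - l`. -/
noncomputable def psi (A : Subgroup G) (l : A →* ℂˣ) : G → ℂ := indFun A fun a => 1 - (l a : ℂ)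

variable {A B : Subgroup G}

theorem ind_eq_zero {f : A → ℂ} (hf : f 1 = 0) {g : G} (hg : ¬ Cj A g) : indFun A f g = 0 := by
  refine indFun_eq_zero_of_forall_conj A f fun x hx => ?_
  by_cases h1 : g = 1
  · rw [← hf]; congr 1; ext; simp [h1]
  · exact absurd ⟨h1, x, hx⟩ hg

theorem psi_gen (l : A →* ℂˣ) : IsGeneralizedCharacter G (psi A l) := by
  have := (isCharacter_indFun A (IsCharacter.one (G := A))).isGeneralizedCharacter.sub
    (isCharacter_indFun A (isCharacter_monoidHom_units l)).isGeneralizedCharacter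
  rwa [← indFun_sub] at this

theorem psi_eq_zero (l : A →* ℂˣ) {g : G} (hg : ¬ Cj A g) : psi A l g = 0 :=
  ind_eq_zero (by simp) hg

theorem inner_psi [Fintype A] (l : A →* ℂˣ) {θ : G → ℂ} (hθ : IsClassFunction G θ) :
    classInner (psi A l) θ = classInner (fun a => 1 - (l a : ℂ)) fun a : A => θ a :=
  TI.classInner_indFun _ θ hθ

theorem sum_one_sub [Fintype A] {l : A →* ℂˣ} (hl : l ≠ 1) :
    ∑ a, (1 - (l a : ℂ)) = Nat.card A := by
  rw [Finset.sum_sub_distrib, sum_monoidHom_units_eq_zero hl]; simp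

theorem inner_psi_const {l : A →* ℂˣ} (hl : l ≠ 1) {θ : G → ℂ} (hθ : IsClassFunction G θ) {k : ℤ}
    (hk : ∀ a ∈ A, a ≠ 1 → θ a = k) : classInner (psi A l) θ = k := by
  classical
  rw [inner_psi l hθ, classInner_congr_right (G := A) (ψ' := fun _ => (k : ℂ)) fun a ha =>
    hk a a.2 fun e => ha (by rw [show a = 1 from Subtype.ext e]; simp), classInner_def,
    ← Finset.sum_mul, sum_one_sub hl, map_intCast, inv_mul_cancel_left₀ (natCard_ne_zero _)]

/-- The multiplicities of the irreducible characters. -/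
noncomputable def mu (A : Subgroup G) (l : A →* ℂˣ) (φ : IrrCharacter G) : ℤ :=
  ((psi_gen l).exists_int_classInner φ.isGeneralizedCharacter).choose

theorem mu_spec (l : A →* ℂˣ) (φ : IrrCharacter G) : classInner (psi A l) φ = mu A l φ :=
  ((psi_gen l).exists_int_classInner φ.isGeneralizedCharacter).choose_spec

theorem psi_eq_sum (l : A →* ℂˣ) (g : G) : psi A l g = ∑ φ, mu A l φ * (φ : G → ℂ) g := by
  simp only [← mu_spec]
  exact (psi_gen l).isClassFunction.apply_eq_sum_irr g

theorem sum_mu_mul (l : A →* ℂˣ) (m : B →* ℂˣ) :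
    ((∑ φ, mu A l φ * mu B m φ : ℤ) : ℂ) = classInner (psi A l) (psi B m) := by
  rw [(psi_gen l).isClassFunction.classInner_eq_sum]
  simp only [mu_spec, map_intCast]
  push_cast; rfl

theorem sum_mu_degree (l : A →* ℂˣ) : ∑ φ, mu A l φ * charDegree (φ : G → ℂ) = 0 := by
  have := psi_eq_sum l 1
  rw [psi_eq_zero l fun h => h.1 rfl] at this
  simp only [← IsIrrCharacter.coe_charDegree (Subtype.property _)] at this
  exact_mod_cast this.symm

theorem mu_sub {l : A →* ℂˣ} (hl : l ≠ 1) {φ χ : IrrCharacter G} {k : ℤ}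
    (hk : ∀ a ∈ A, a ≠ 1 → (φ : G → ℂ) a = (χ : G → ℂ) a + k) : mu A l φ = mu A l χ + k := by
  have := inner_psi_const hl (φ.isCharacter.isClassFunction.sub χ.isCharacter.isClassFunction)
    (k := k) fun a ha h1 => by rw [Pi.sub_apply, hk a ha h1]; ring
  rw [classInner_sub_right, mu_spec, mu_spec] at this
  exact_mod_cast (sub_eq_iff_eq_add'.1 this)

theorem mu_const {l : A →* ℂˣ} (hl : l ≠ 1) {φ : IrrCharacter G} {k : ℤ}
    (hk : ∀ a ∈ A, a ≠ 1 → (φ : G → ℂ) a = k) : mu A l φ = k := by
  have := inner_psi_const hl φ.isCharacter.isClassFunction hk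
  rw [mu_spec] at this
  exact_mod_cast this

theorem mu_one {l : A →* ℂˣ} (hl : l ≠ 1) : mu A l (irrOne G) = 1 :=
  mu_const hl fun _ _ _ => by simp

theorem sum_mu_cross (h : ∀ g, Cj A g → ¬ Cj B g) (l : A →* ℂˣ) (m : B →* ℂˣ) :
    ∑ φ, mu A l φ * mu B m φ = 0 := by
  have := sum_mu_mul l m
  rw [classInner_eq_zero_of_disjoint fun g => by
    by_cases hg : Cj A g
    · exact Or.inr (psi_eq_zero m (h g hg))
    · exact Or.inl (psi_eq_zero l hg)] at this
  exact_mod_cast this

/-- The conjugate of a linear character by an element of the normalizer. -/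
def cj (l : A →* ℂˣ) (x : normalizer (A : Set G)) : A →* ℂˣ :=
  l.comp (A.normalizerMonoidHom x).toMonoidHom

namespace SC

variable (h : SC A)
include h

theorem ind_apply [Fintype (normalizer (A : Set G))] {f : A → ℂ} (hf : f 1 = 0) (a : A) :
    indFun A f a = (Nat.card A : ℂ)⁻¹ *
      ∑ x : normalizer (A : Set G), f (A.normalizerMonoidHom x a) := by
  rw [indFun_apply', ← sum_extendByZero]
  congr 1
  refine Finset.sum_congr rfl fun x _ => ?_
  by_cases hx : x ∈ normalizer (A : Set G)
  · rw [extendByZero_of_mem _ _ hx,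
      extendByZero_of_mem _ _ ((mem_normalizer_iff.1 hx a).1 a.2)]
    rfl
  · rw [extendByZero_of_not_mem _ _ hx]
    by_cases h1 : (a : G) = 1
    · rw [h1, mul_one, mul_inv_cancel, extendByZero_of_mem _ _ A.one_mem]; exact hf
    · exact extendByZero_of_not_mem _ _ fun e => hx (h.mem_normalizer a.2 h1 e)

omit [Fintype G] in
theorem cj_eq_iff [Finite G] {l : A →* ℂˣ} (hl : l ≠ 1) (x : normalizer (A : Set G)) :
    l = cj l x ↔ (x : G) ∈ A := by
  constructor
  · intro e
    by_contra hx
    refine hl (MonoidHom.ext fun b => ?_)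
    obtain ⟨a, ha, hb⟩ := h.surj x.2 hx b.2
    have : b = (⟨a, ha⟩ : A)⁻¹ * A.normalizerMonoidHom x ⟨a, ha⟩ := Subtype.ext hb.symm
    rw [this, map_mul, map_inv, show l (A.normalizerMonoidHom x ⟨a, ha⟩) = cj l x ⟨a, ha⟩ from rfl,
      ← e]
    simp
  · intro hx
    ext a
    have : A.normalizerMonoidHom x a = a := Subtype.ext (by
      change x * (a : G) * (x : G)⁻¹ = a
      rw [h.comm hx a.2]; group)
    change _ = ((l (A.normalizerMonoidHom x a) : ℂˣ) : ℂ)
    rw [this]

theorem gram {l m : A →* ℂˣ} (hl : l ≠ 1) (hm : m ≠ 1) : ∃ k : ℤ,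
    ∑ φ, mu A l φ * mu A m φ = A.relIndex (normalizer (A : Set G)) + k ∧
      ((k = 0 ∧ l ≠ m) ∨ (k = 1 ∧ ∃ x, l = cj m x)) := by
  classical
  have e1 : (fun a : A => psi A m a) = (Nat.card A : ℂ)⁻¹ •
      ∑ x : normalizer (A : Set G), fun a => 1 - (cj m x a : ℂ) := by
    ext a
    rw [psi, h.ind_apply (by simp), Pi.smul_apply, Finset.sum_apply, smul_eq_mul]
    rfl
  have e2 : ∀ x, classInner (fun a => 1 - (l a : ℂ)) (fun a => 1 - (cj m x a : ℂ)) =
      1 + if l = cj m x then 1 else 0 := fun x => by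
    have h1 : cj m x ≠ 1 := fun e => hm (MonoidHom.ext fun a => by
      have := DFunLike.congr_fun e ((A.normalizerMonoidHom x).symm a)
      simpa [cj] using this)
    have a1 := classInner_monoidHom_units (1 : A →* ℂˣ) 1
    have a2 := classInner_monoidHom_units (1 : A →* ℂˣ) (cj m x)
    have a3 := classInner_monoidHom_units l 1
    have a4 := classInner_monoidHom_units l (cj m x)
    rw [if_neg h1.symm] at a2
    rw [if_neg hl] at a3
    rw [if_pos rfl] at a1
    change classInner ((fun a => ((1 : A →* ℂˣ) a : ℂ)) - fun a => (l a : ℂ))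
      ((fun a => ((1 : A →* ℂˣ) a : ℂ)) - fun a => (cj m x a : ℂ)) = _
    rw [classInner_sub_left, classInner_sub_right, classInner_sub_right, a1, a2, a3, a4]
    split_ifs <;> ring
  have hc : Nat.card A * A.relIndex (normalizer (A : Set G)) = Nat.card (normalizer (A : Set G)) := by
    rw [← (A.subgroupOf (normalizer (A : Set G))).card_mul_index,
      Nat.card_congr (subgroupOfEquivOfLe le_normalizer).toEquiv]
    rfl
  have e3 := sum_mu_mul l m
  rw [inner_psi l (psi_gen m).isClassFunction, e1, classInner_smul_right, classInner_sum_right,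
    map_inv₀, map_natCast, eq_inv_mul_iff_mul_eq₀ (natCard_ne_zero _)] at e3
  simp only [e2, Finset.sum_add_distrib, Finset.sum_const, Finset.card_univ, nsmul_eq_mul, mul_one,
    ← Nat.card_eq_fintype_card, ← hc] at e3
  by_cases hx : ∃ x, l = cj m x
  · obtain ⟨y, rfl⟩ := hx
    refine ⟨1, ?_, Or.inr ⟨rfl, y, rfl⟩⟩
    have e4 : ∀ x, (cj m y = cj m (x * y)) ↔ x ∈ A.subgroupOf (normalizer (A : Set G)) := fun x => by
      rw [mem_subgroupOf, ← h.cj_eq_iff hm]
      constructor
      · intro e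
        ext a
        have := DFunLike.congr_fun e ((A.normalizerMonoidHom y).symm a)
        simpa [cj, ← Units.val_inj] using this
      · intro e
        ext a
        have := DFunLike.congr_fun e (A.normalizerMonoidHom y a)
        simpa [cj, ← Units.val_inj] using this
    rw [← Equiv.sum_comp (Equiv.mulRight y)] at e3
    simp only [Equiv.coe_mulRight, e4, Finset.sum_boole] at e3
    rw [← Fintype.card_subtype, ← Nat.card_eq_fintype_card,
      Nat.card_congr (subgroupOfEquivOfLe le_normalizer).toEquiv] at e3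
    apply Int.cast_injective (α := ℂ)
    apply mul_left_cancel₀ (natCard_ne_zero A)
    rw [e3]; push_cast; ring
  · refine ⟨0, ?_, Or.inl ⟨rfl, fun e => hx ⟨1, by rw [e]; ext; simp [cj]⟩⟩⟩
    rw [Finset.sum_eq_zero fun x _ => if_neg fun e => hx ⟨x, e⟩] at e3
    apply Int.cast_injective (α := ℂ)
    apply mul_left_cancel₀ (natCard_ne_zero A)
    rw [e3]; push_cast; ring

theorem norm {l : A →* ℂˣ} (hl : l ≠ 1) :
    ∑ φ, mu A l φ * mu A l φ = A.relIndex (normalizer (A : Set G)) + 1 := by
  obtain ⟨k, hk, ⟨-, h1⟩ | ⟨rfl, -⟩⟩ := h.gram hl hl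
  · exact absurd rfl h1
  · exact hk

omit [Fintype G] in
theorem card_hom [Finite G] : Nat.card (A →* ℂˣ) = Nat.card A :=
  card_monoidHom_units_of_comm' h.comm'

omit [Fintype G] in
theorem exists_hom [Finite G] (h0 : A ≠ ⊥) : ∃ l : A →* ℂˣ, l ≠ 1 := by
  obtain ⟨a, ha, h1⟩ := (A.bot_or_exists_ne_one).resolve_left h0
  obtain ⟨f, hf⟩ := exists_monoidHom_units_ne_one_of_comm h.comm' (g := ⟨a, ha⟩)
    fun e => h1 (congrArg Subtype.val e)
  exact ⟨f, fun e => hf (by rw [e]; rfl)⟩

/-- A character with constant multiplicity is constant on the non-identity elements. -/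
theorem const (h0 : A ≠ ⊥) {φ : IrrCharacter G} {k : ℤ} (hk : ∀ l ≠ 1, mu A l φ = k) :
    (∀ a ∈ A, a ≠ 1 → (φ : G → ℂ) a = k) ∧
      ∃ j : ℕ, (charDegree (φ : G → ℂ) : ℤ) = k + Nat.card A * j := by
  classical
  have := Fintype.ofFinite (A →* ℂˣ)
  have hr := φ.isCharacter.restrict A
  choose c hc using fun l : A →* ℂˣ => (isCharacter_monoidHom_units l).exists_nat_classInner hr
  have e1 : ∀ l ≠ 1, (c 1 : ℤ) = c l + k := fun l hl => by
    have := mu_spec l φ
    rw [inner_psi l φ.isCharacter.isClassFunction, hk l hl] at this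
    change classInner ((fun a => ((1 : A →* ℂˣ) a : ℂ)) - fun a => (l a : ℂ)) _ = _ at this
    rw [classInner_sub_left, hc, hc] at this
    exact_mod_cast sub_eq_iff_eq_add'.1 this
  obtain ⟨m, hm⟩ := h.exists_hom h0
  have e2 : ∀ a : A, (φ : G → ℂ) a = k + c m * ∑ l : A →* ℂˣ, (l a : ℂ) := fun a => by
    rw [eq_sum_monoidHom_of_comm h.comm' (fun a : A => (φ : G → ℂ) a) a, Finset.mul_sum,
      ← Finset.add_sum_erase _ _ (Finset.mem_univ 1),
      ← Finset.add_sum_erase _ _ (Finset.mem_univ 1), ← add_assoc]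
    congr 1
    · rw [hr.classInner_comm (isCharacter_monoidHom_units 1), hc]
      have : ((c 1 : ℤ) : ℂ) = _ := congrArg _ (e1 m hm)
      push_cast at this
      simp [this, add_comm]
    · refine Finset.sum_congr rfl fun l hl => ?_
      rw [hr.classInner_comm (isCharacter_monoidHom_units l), hc]
      have h1 := e1 l (Finset.ne_of_mem_erase hl)
      have h2 := e1 m hm
      rw [show c l = c m by omega]
  have hb : commutator A = ⊥ := by
    rw [commutator_eq_bot_iff_center_eq_top, eq_top_iff]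
    exact fun a _ => mem_center_iff.2 fun b => h.comm' b a
  refine ⟨fun a ha h1 => ?_, c m, ?_⟩
  · rw [e2 ⟨a, ha⟩, sum_monoidHom_units_apply, if_neg, mul_zero, add_zero]
    rw [hb, mem_bot]
    exact fun e => h1 (congrArg Subtype.val e)
  · have := e2 1
    rw [sum_monoidHom_units_apply, if_pos (one_mem _), hb, index_bot, OneMemClass.coe_one,
      ← φ.2.coe_charDegree, mul_comm] at this
    exact_mod_cast this

end SC

end Cfsg.Agent.Ch.Ssc
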