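import Mathlib
import Cfsg.Agent.Ch.SscChar

/-!
Strongly self-centralizing subgroups and products of two involutions.
-/

set_option autoImplicit false

namespace Cfsg.Agent.Ch.Ssc

open Subgroup TI
open scoped ComplexConjugate

variable {G : Type*} [Group G] {A : Subgroup G} {τ : G}

namespace Iv

variable (h : Iv A τ)
include h

theorem mul_tau {a : G} (ha : a ∈ A) : τ * a = a⁻¹ * τ := by rw [← h.inv a ha]; group

/-- The generalized dihedral group. -/
def dih : Subgroup G where
  carrier := {g | g ∈ A ∨ g * τ ∈ A}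
  one_mem' := Or.inl A.one_mem
  mul_mem' := by
    rintro a b (ha | ha) (hb | hb)
    · exact Or.inl (mul_mem ha hb)
    · exact Or.inr (by rw [mul_assoc]; exact mul_mem ha hb)
    · refine Or.inr ?_
      have : a * b * τ = a * τ * (τ * b * τ⁻¹) := by
        calc a * b * τ = a * (τ * τ) * b * τ := by rw [h.sq, mul_one]
          _ = _ := by rw [h.inv_eq]; group
      rw [this, h.inv b hb]
      exact mul_mem ha (inv_mem hb)
    · refine Or.inl ?_
      have : a * b = a * τ * (τ * (b * τ) * τ⁻¹) := by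
        calc a * b = a * (τ * τ) * b := by rw [h.sq, mul_one]
          _ = _ := by group
      rw [this, h.inv _ hb]
      exact mul_mem ha (inv_mem hb)
  inv_mem' := by
    rintro a (ha | ha)
    · exact Or.inl (inv_mem ha)
    · refine Or.inr ?_
      have : a⁻¹ * τ = (τ * (a * τ) * τ⁻¹)⁻¹ * (τ * τ) := by group
      rw [this, h.sq, h.inv _ ha, inv_inv, mul_one]
      exact ha

theorem abs_val_le [Finite G] {χ : G → ℂ} (hχ : IsCharacter G χ) {k x : ℤ} {j : ℕ}
    (hk : ∀ a ∈ A, a ≠ 1 → χ a = k) (hj : (charDegree χ : ℤ) = k + Nat.card A * j)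
    (hx : χ τ = x) : |x| ≤ j + k := by
  classical
  have := Fintype.ofFinite G
  have hn : ∀ a ∈ A, a * τ ∉ A := fun a ha e => h.not_mem ((A.mul_mem_cancel_left ha).1 e)
  have hi : (A.subgroupOf h.dih).index = 2 := index_eq_two_iff.2
    ⟨⟨τ, Or.inr (by rw [h.sq]; exact A.one_mem)⟩, fun b => by
      rcases b.2 with hb | hb
      · exact Or.inr ⟨hb, hn _ hb⟩
      · exact Or.inl ⟨hb, fun e => hn _ e hb⟩⟩
  let s : h.dih →* ℂ := ⟨⟨fun g => if g ∈ A.subgroupOf h.dih then 1 else -1, if_pos (one_mem _)⟩,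
    fun a b => by
      simp only [mul_mem_iff_of_index_two hi]
      by_cases ha : a ∈ A.subgroupOf h.dih <;> by_cases hb : b ∈ A.subgroupOf h.dih <;>
        simp [ha, hb]⟩
  let e : A ⊕ A ≃ h.dih := Equiv.ofBijective (Sum.elim (fun a => ⟨a, Or.inl a.2⟩)
    fun a => ⟨a * τ, Or.inr (by rw [mul_assoc, h.sq, mul_one]; exact a.2)⟩) ⟨by
      rintro (a | a) (b | b) e <;> have e' := congrArg Subtype.val e <;> simp only [Sum.elim_inl,
        Sum.elim_inr] at e'
      · rw [Subtype.ext e']
      · exact absurd (e' ▸ a.2) (hn _ b.2)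
      · exact absurd (e' ▸ b.2) (hn _ a.2)
      · rw [Subtype.ext (mul_right_cancel e')], by
      rintro ⟨g, hg | hg⟩
      · exact ⟨Sum.inl ⟨g, hg⟩, rfl⟩
      · exact ⟨Sum.inr ⟨_, hg⟩, Subtype.ext (by simp [mul_assoc, h.sq])⟩⟩
  have s1 : ∑ a : A, χ a = Nat.card A * (j + k) := by
    rw [← Finset.add_sum_erase _ _ (Finset.mem_univ 1), Finset.sum_congr rfl fun (a : A) ha =>
      hk a a.2 fun e => Finset.ne_of_mem_erase ha (Subtype.ext e), Finset.sum_const,
      Finset.card_erase_of_mem (Finset.mem_univ _), Finset.card_univ, ← Nat.card_eq_fintype_card,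
      OneMemClass.coe_one, ← hχ.coe_charDegree, nsmul_eq_mul, Nat.cast_sub Nat.card_pos]
    have : ((charDegree χ : ℤ) : ℂ) = _ := congrArg _ hj
    push_cast at this
    rw [this]; push_cast; ring
  have s2 : ∑ a : A, χ (a * τ) = Nat.card A * x := by
    rw [Finset.sum_congr rfl fun a _ =>
      (hχ.isClassFunction.eq_of_isConj (h.isConj_mul a.2)).symm, hx]
    simp
  obtain ⟨m, hm⟩ := Inv.CT.exists_sum_subgroup hχ h.dih
  obtain ⟨n, hn'⟩ := ((hχ.restrict h.dih).mul
    (isIrrCharacter_monoidHom s).isCharacter).exists_nat_classInner IsCharacter.one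
  rw [classInner_one_right, inv_mul_eq_iff_eq_mul₀ (natCard_ne_zero _)] at hn'
  rw [← e.sum_comp, Fintype.sum_sum_type] at hm hn'
  have t1 : ∀ a : A, s (e (Sum.inl a)) = 1 := fun a => if_pos a.2
  have t2 : ∀ a : A, s (e (Sum.inr a)) = -1 := fun a => if_neg (hn _ a.2)
  simp only [Pi.mul_apply, t1, t2, mul_one, mul_neg, Finset.sum_neg_distrib] at hn'
  change ∑ a : A, χ a + ∑ a : A, χ (a * τ) = _ at hm
  change ∑ a : A, χ a + -∑ a : A, χ (a * τ) = _ at hn'
  rw [s1, s2] at hm hn'
  have u1 : (Nat.card A : ℤ) * (j + k) + Nat.card A * x = Nat.card h.dih * m := by exact_mod_cast hm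
  have u2 : (Nat.card A : ℤ) * (j + k) + -(Nat.card A * x) = Nat.card h.dih * n := by
    exact_mod_cast hn'
  have hA : (0 : ℤ) < Nat.card A := by exact_mod_cast Nat.card_pos
  have p1 : (0 : ℤ) ≤ Nat.card h.dih * m := by positivity
  have p2 : (0 : ℤ) ≤ Nat.card h.dih * n := by positivity
  rw [abs_le]
  constructor <;> nlinarith

variable [Fintype G]

open Classical in
theorem pairs [Fintype A] {u : G} (hu : orderOf u = 2) {f : A → ℂ} (hf : f 1 = 0) :
    ∑ x ∈ cls u, ∑ y ∈ cls u, indFun A f (x * y) =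
      if IsConj u τ then Nat.card G * ∑ a, f a else 0 := by
  rw [sum_pairs_indFun f _ _ (cls_conj u) (cls_conj u)]
  have e1 : ∀ x, ∑ y ∈ cls u, extendByZero A f (x * y) =
      ∑ g, extendByZero A f g * if x⁻¹ * g ∈ cls u then 1 else 0 := fun x => by
    rw [← Equiv.sum_comp (Equiv.mulLeft x)]
    simp [Finset.sum_ite_mem]
  simp only [e1]
  rw [Finset.sum_comm]
  simp only [← Finset.mul_sum]
  rw [sum_extendByZero_mul]
  have e2 : ∀ a : A, f a * ∑ x ∈ cls u, (if x⁻¹ * a ∈ cls u then (1 : ℂ) else 0) =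
      f a * if IsConj u τ then Nat.card A else 0 := fun a => by
    by_cases h1 : a = 1
    · rw [h1, hf, zero_mul, zero_mul]
    congr 1
    have e3 : ∀ x ∈ cls u, x⁻¹ * a ∈ cls u → x * τ ∈ A := fun x hx hy => by
      refine h.mul_mem_of_inv a.2 (fun e => h1 (Subtype.ext e)) ?_
      have h2 := inv_eq_of_mul_eq_one_right (cls_mul_self hu x hx)
      have h3 := cls_mul_self hu _ hy
      rw [h2] at h3 ⊢
      rw [eq_inv_iff_mul_eq_one, ← h3]; group
    have e4 : ∀ x, x * τ ∈ A → IsConj τ x := fun x hx => by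
      have := h.isConj_mul hx
      rwa [mul_assoc, h.sq, mul_one] at this
    rw [Finset.sum_boole]
    split_ifs with hc
    · rw [Nat.card_eq_fintype_card, ← Finset.card_univ]
      congr 1
      symm
      refine Finset.card_bij (fun b _ => b * τ) (fun b _ => ?_) (fun b _ c _ e =>
        Subtype.ext (mul_right_cancel e)) fun x hx => ?_
      · rw [Finset.mem_filter, mem_cls, mem_cls]
        refine ⟨hc.trans (h.isConj_mul b.2), hc.trans ?_⟩
        rw [mul_inv_rev, h.inv_eq, mul_assoc, h.mul_tau (mul_mem (inv_mem b.2) a.2)]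
        exact h.isConj_mul (inv_mem (mul_mem (inv_mem b.2) a.2))
      · rw [Finset.mem_filter] at hx
        exact ⟨⟨_, e3 x hx.1 hx.2⟩, Finset.mem_univ _, by simp [mul_assoc, h.sq]⟩
    · rw [Finset.filter_eq_empty_iff.2, Finset.card_empty]
      exact fun x hx hy => hc ((mem_cls.1 hx).trans (e4 x (e3 x hx hy)).symm)
  simp only [e2, ← Finset.sum_mul]
  split_ifs
  · rw [← A.index_mul_card]; push_cast; ring
  · simp

open Classical in
theorem order_rel {u : G} (hu : orderOf u = 2) {l : A →* ℂˣ} (hl : l ≠ 1) :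
    ((centralizer ({u} : Set G)).index : ℂ) ^ 2 *
      ∑ φ : IrrCharacter G, mu A l φ * ((φ : G → ℂ) u ^ 2 / (φ : G → ℂ) 1) =
      if IsConj u τ then (Nat.card G : ℂ) * Nat.card A else 0 := by
  have := h.pairs hu (f := fun a => 1 - (l a : ℂ)) (by simp)
  rw [sum_one_sub hl] at this
  rw [← this, pow_two]
  simp only [← mu_spec, pow_two]
  exact (sum_cls_cls_classFunction (psi_gen l).isClassFunction u u).symm

open Classical in
theorem count {u : G} (hu : IsConj u τ) :
    (A.relIndex (normalizer (A : Set G)) : ℂ) *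
      ∑ x ∈ cls u, ∑ y ∈ cls u, (if Cj A (x * y) then 1 else 0) =
      Nat.card G * (Nat.card A - 1) := by
  have ho : orderOf u = 2 := by rw [← h.ord]; exact (orderOf_of_mem_cls (mem_cls.2 hu)).symm
  have := h.pairs ho (f := fun a => if a = 1 then 0 else 1) (by simp)
  rw [if_pos hu] at this
  have e1 : ∑ a : A, (if a = 1 then (0 : ℂ) else 1) = Nat.card A - 1 := by
    rw [← Finset.add_sum_erase _ _ (Finset.mem_univ 1), if_pos rfl, Finset.sum_congr rfl
      fun a ha => if_neg (Finset.ne_of_mem_erase ha)]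
    simp [Nat.cast_sub (Fintype.card_pos (α := A))]
  rw [← e1, ← this]
  simp only [Finset.mul_sum]
  refine Finset.sum_congr rfl fun x _ => Finset.sum_congr rfl fun y _ => ?_
  split_ifs with hc
  · obtain ⟨h1, k, hk⟩ := hc
    rw [← indFun_conj_apply A _ _ k, show k * (x * y) * k⁻¹ = ((⟨_, hk⟩ : A) : G) from rfl,
      h.sc.ind_apply (by simp), Finset.sum_congr rfl fun z _ => if_neg fun e =>
        conj_ne_one h1 k (congrArg Subtype.val ((MulEquiv.map_eq_one_iff _).1 e))]
    have hc : Nat.card A * A.relIndex (normalizer (A : Set G)) =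
        Nat.card (normalizer (A : Set G)) := by
      rw [← (A.subgroupOf (normalizer (A : Set G))).card_mul_index,
        Nat.card_congr (subgroupOfEquivOfLe le_normalizer).toEquiv]
      rfl
    rw [Finset.sum_const, Finset.card_univ, ← Nat.card_eq_fintype_card, ← hc,
      eq_inv_mul_iff_mul_eq₀ (natCard_ne_zero _)]
    simp
  · rw [ind_eq_zero (by simp) hc, mul_zero]

end Iv

theorem count_three [Finite G] {A B C : Subgroup G} {τ σ ρ : G} (hA : Iv A τ) (hB : Iv B σ)
    (hC : Iv C ρ) (hσ : IsConj τ σ) (hρ : IsConj τ ρ)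
    (eA : A.relIndex (normalizer (A : Set G)) = 2) (eB : B.relIndex (normalizer (B : Set G)) = 4)
    (eC : C.relIndex (normalizer (C : Set G)) = 4) (cAB : (Nat.card A).Coprime (Nat.card B))
    (cAC : (Nat.card A).Coprime (Nat.card C)) (cBC : (Nat.card B).Coprime (Nat.card C)) :
    (Nat.card (centralizer ({τ} : Set G)) : ℤ) ^ 2 *
      (2 * Nat.card A + Nat.card B + Nat.card C - 4) < 4 * Nat.card G := by
  classical
  have := Fintype.ofFinite G
  have h1 := hA.count (IsConj.refl τ)
  have h2 := hB.count hσ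
  have h3 := hC.count hρ
  rw [eA] at h1
  rw [eB] at h2
  rw [eC] at h3
  have k1 : (2 : ℤ) * ∑ x ∈ cls τ, ∑ y ∈ cls τ, (if Cj A (x * y) then 1 else 0) =
      Nat.card G * (Nat.card A - 1) := by exact_mod_cast h1
  have k2 : (4 : ℤ) * ∑ x ∈ cls τ, ∑ y ∈ cls τ, (if Cj B (x * y) then 1 else 0) =
      Nat.card G * (Nat.card B - 1) := by exact_mod_cast h2
  have k3 : (4 : ℤ) * ∑ x ∈ cls τ, ∑ y ∈ cls τ, (if Cj C (x * y) then 1 else 0) =
      Nat.card G * (Nat.card C - 1) := by exact_mod_cast h3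
  have le : ∀ g, ((if Cj A g then 1 else 0) + (if Cj B g then 1 else 0) +
      if Cj C g then 1 else 0 : ℤ) ≤ 1 := fun g => by
    have a1 := hA.sc.not_cj cAB (g := g)
    have a2 := hA.sc.not_cj cAC (g := g)
    have a3 := hB.sc.not_cj cBC (g := g)
    split_ifs <;> simp_all
  have hτ : τ ∈ cls τ := mem_cls.2 (IsConj.refl τ)
  have lt : ∑ x ∈ cls τ, ∑ y ∈ cls τ, ((if Cj A (x * y) then 1 else 0) +
      (if Cj B (x * y) then 1 else 0) + if Cj C (x * y) then 1 else 0 : ℤ) <
      ∑ x ∈ cls τ, ∑ y ∈ cls τ, 1 := by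
    refine Finset.sum_lt_sum (fun x _ => Finset.sum_le_sum fun y _ => le _)
      ⟨τ, hτ, Finset.sum_lt_sum (fun y _ => le _) ⟨τ, hτ, ?_⟩⟩
    simp [hA.sq, Cj]
  simp only [Finset.sum_add_distrib, Finset.sum_const, card_cls, nsmul_eq_mul, mul_one] at lt
  have hG : ((centralizer ({τ} : Set G)).index : ℤ) * Nat.card (centralizer ({τ} : Set G)) =
      Nat.card G := by exact_mod_cast index_mul_card _
  have p : (0 : ℤ) < Nat.card G := by exact_mod_cast Nat.card_pos
  have q : (0 : ℤ) < Nat.card (centralizer ({τ} : Set G)) := by exact_mod_cast Nat.card_pos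
  have r : (Nat.card G : ℤ) * (2 * Nat.card A + Nat.card B + Nat.card C - 4) <
      4 * ((centralizer ({τ} : Set G)).index * (centralizer ({τ} : Set G)).index) := by
    linarith
  refine lt_of_mul_lt_mul_left (a := (Nat.card G : ℤ)) ?_ p.le
  calc _ = (Nat.card (centralizer ({τ} : Set G)) : ℤ) ^ 2 *
        (Nat.card G * (2 * Nat.card A + Nat.card B + Nat.card C - 4)) := by ring
    _ < _ * _ := mul_lt_mul_of_pos_left r (by positivity)
    _ = _ := by rw [← hG]; ring

end Cfsg.Agent.Ch.Ssc
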