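import Mathlib
import Cfsg.Agent.Ch.SscInv
import Cfsg.Agent.Ch.FT3Char

/-!
A strongly self-centralizing subgroup of index two in its normalizer.
-/

set_option autoImplicit false

namespace Cfsg.Agent.Ch.Ssc

open Subgroup TI

variable {G : Type*} [Group G] [Fintype G] {A : Subgroup G} {τ : G}

theorem sum_three {I : Type*} [Fintype I] {R : Type*} [AddCommMonoid R] {o i j : I} (h1 : i ≠ o)
    (h2 : j ≠ o) (h3 : j ≠ i) (F : I → R) (hF : ∀ k, k ≠ o → k ≠ i → k ≠ j → F k = 0) :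
    ∑ k, F k = F o + F i + F j := by
  classical
  rw [← Finset.sum_subset (Finset.subset_univ {o, i, j}) fun k _ hk => hF k
    (fun e => hk (by simp [e])) (fun e => hk (by simp [e])) fun e => hk (by simp [e]),
    Finset.sum_insert (by simp [h1.symm, h2.symm]), Finset.sum_pair h3.symm, add_assoc]

/-- The characters attached to a subgroup of index two in its normalizer. -/
structure Two (A : Subgroup G) (χ : IrrCharacter G) (δ : ℤ) (T : Finset (IrrCharacter G)) :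
    Prop where
  sgn : δ = 1 ∨ δ = -1
  ne : χ ≠ irrOne G
  nT : χ ∉ T
  oT : irrOne G ∉ T
  card : Nat.card A ≤ 2 * T.card + 1
  val : ∀ l ≠ 1, mu A l χ = δ
  ex : ∀ l ≠ 1, ∃ Λ ∈ T, ∀ φ, φ ≠ irrOne G → φ ≠ χ → φ ≠ Λ → mu A l φ = 0
  ex' : ∀ Λ ∈ T, ∃ l ≠ 1, mu A l Λ = -δ ∧ ∀ φ, φ ≠ irrOne G → φ ≠ χ → φ ≠ Λ → mu A l φ = 0

theorem Iv.exists_two (h : Iv A τ) (he : A.relIndex (normalizer (A : Set G)) = 2)
    (hN : ∀ n ∈ normalizer (A : Set G), n ∈ A ∨ n * τ ∈ A) (h5 : 5 ≤ Nat.card A) :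
    ∃ χ δ T, Two A χ δ T := by
  classical
  have := Fintype.ofFinite (A →* ℂˣ)
  have h1 : ∀ l : {l : A →* ℂˣ // l ≠ 1}, ∃ a b, a ≠ irrOne G ∧ b ≠ irrOne G ∧ mu A l.1 a = 1 ∧
      mu A l.1 b = -1 ∧ ∀ φ, φ ≠ irrOne G → φ ≠ a → φ ≠ b → mu A l.1 φ = 0 := fun l => by
    obtain ⟨a, b, ha, hb, va, vb, hs⟩ := FT3.three (mu A l.1) (fun χ => charDegree (χ : G → ℂ))
      (irrOne G) (mu_one l.2) (by simp) (fun χ => by exact_mod_cast χ.2.charDegree_pos)
      (by rw [h.sc.norm l.2, he]; rfl) (by rw [← sum_mu_degree l.1]; exact Finset.sum_congr rfl fun _ _ => mul_comm _ _)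
    refine ⟨a, b, ha, hb, va, vb, fun φ h1 h2 h3 => ?_⟩
    have := hs (fun k => if k = φ then mu A l.1 k else 0) fun k hk => by simp [hk]
    simpa [h1.symm, h2.symm, h3.symm] using this
  choose a b ha hb va vb hz using h1
  have hab : ∀ l m, a l ≠ b m ∨ a l ≠ a m := fun l m => by
    by_contra hc
    push Not at hc
    have := vb m
    rw [← hc.1, hc.2, va] at this
    omega
  have key : ∀ l m, (a l = a m ∨ b l = b m) ∧
      (a l = a m → b l = b m → l.1 = m.1 ∨ l.1 = m.1⁻¹) := fun l m => by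
    obtain ⟨k, hk, hk'⟩ := h.sc.gram l.2 m.2
    have hne : b l ≠ a l := fun e => by have := vb l; rw [e, va] at this; omega
    rw [sum_three (ha l) (hb l) hne _ fun φ h1 h2 h3 => by rw [hz l φ h1 h2 h3, zero_mul],
      mu_one l.2, mu_one m.2, va, vb, he] at hk
    have p1 : a l ≠ a m → mu A m.1 (a l) ≤ 0 := fun e => by
      by_cases e' : a l = b m
      · rw [e', vb]; omega
      · rw [hz m _ (ha l) e e']
    have p2 : b l ≠ b m → 0 ≤ mu A m.1 (b l) := fun e => by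
      by_cases e' : b l = a m
      · rw [e', va]; omega
      · rw [hz m _ (hb l) e' e]
    refine ⟨?_, fun e1 e2 => ?_⟩
    · by_contra hc
      push Not at hc
      have := p1 hc.1
      have := p2 hc.2
      rcases hk' with ⟨rfl, -⟩ | ⟨rfl, -⟩ <;> omega
    · rw [e1, e2, va, vb] at hk
      rcases hk' with ⟨rfl, -⟩ | ⟨-, x, hx⟩
      · omega
      rcases hN x x.2 with h2 | h2
      · exact Or.inl (hx.trans ((h.sc.cj_eq_iff m.2 x).2 h2).symm)
      · refine Or.inr (hx.trans (MonoidHom.ext fun c => ?_))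
        have : A.normalizerMonoidHom x c = c⁻¹ := Subtype.ext (by
          change x * (c : G) * (x : G)⁻¹ = (c : G)⁻¹
          calc _ = x * τ * (τ⁻¹ * c * τ⁻¹⁻¹) * (x * τ)⁻¹ := by group
            _ = _ := by rw [h.inv_eq, h.inv c c.2, h.sc.comm h2 (inv_mem c.2)]; group)
        change m.1 (A.normalizerMonoidHom x c) = _
        rw [this, map_inv, MonoidHom.inv_apply]
  have hc : Fintype.card {l : A →* ℂˣ // l ≠ 1} + 1 = Nat.card A := by
    rw [Fintype.card_subtype_compl, Fintype.card_subtype_eq, ← Nat.card_eq_fintype_card,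
      h.sc.card_hom]
    omega
  have hT : ∀ c : {l : A →* ℂˣ // l ≠ 1} → IrrCharacter G,
      (∀ l m, c l = c m → l.1 = m.1 ∨ l.1 = m.1⁻¹) →
      Nat.card A ≤ 2 * (Finset.univ.image c).card + 1 := fun c hc' => by
    have := Finset.card_le_mul_card_image (f := c) Finset.univ 2 fun φ hφ => by
      obtain ⟨m, -, rfl⟩ := Finset.mem_image.1 hφ
      refine le_trans (Finset.card_le_card (t := {m, ⟨m.1⁻¹, fun e => m.2 (MonoidHom.ext fun x =>
        inv_eq_one.1 (DFunLike.congr_fun e x))⟩}) fun l hl => ?_)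
        Finset.card_le_two
      rcases hc' l m (Finset.mem_filter.1 hl).2 with e | e
      · simp [Subtype.ext e]
      · simp [Subtype.ext_iff, e]
    rw [Finset.card_univ] at this
    omega
  obtain ⟨l₀, hl₀⟩ := h.sc.exists_hom h.ne
  by_cases hall : ∀ l m, a l = a m
  · refine ⟨a ⟨l₀, hl₀⟩, 1, Finset.univ.image b, Or.inl rfl, ha _, ?_, ?_,
      hT b fun l m => (key l m).2 (hall l m), fun l hl => by rw [hall _ ⟨l, hl⟩]; exact va ⟨l, hl⟩,
      fun l hl => ⟨b ⟨l, hl⟩, by simp, by rw [hall _ ⟨l, hl⟩]; exact hz ⟨l, hl⟩⟩, fun Λ hΛ => ?_⟩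
    · simp only [Finset.mem_image, not_exists, not_and]
      exact fun m _ e => (hab _ m).elim (fun h => h e.symm) fun h => h (hall _ _)
    · simp only [Finset.mem_image, not_exists, not_and]
      exact fun m _ => hb m
    · obtain ⟨m, -, rfl⟩ := Finset.mem_image.1 hΛ
      exact ⟨m.1, m.2, vb m, by rw [hall _ m]; exact hz m⟩
  · push Not at hall
    obtain ⟨l₁, l₂, h12⟩ := hall
    have hb1 : ∀ m, b m = b l₁ := fun m => by
      by_contra hc
      have e := (key l₁ l₂).1.resolve_left h12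
      exact h12 (((key m l₁).1.resolve_right hc).symm.trans
        ((key m l₂).1.resolve_right (e ▸ hc)))
    refine ⟨b l₁, -1, Finset.univ.image a, Or.inr rfl, hb _, ?_, ?_,
      hT a fun l m e => (key l m).2 e ((hb1 l).trans (hb1 m).symm),
      fun l hl => by rw [← hb1 ⟨l, hl⟩]; exact vb ⟨l, hl⟩,
      fun l hl => ⟨a ⟨l, hl⟩, by simp, fun φ h1 h2 h3 => hz ⟨l, hl⟩ φ h1 h3 (hb1 _ ▸ h2)⟩,
      fun Λ hΛ => ?_⟩
    · simp only [Finset.mem_image, not_exists, not_and]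
      exact fun m _ e => (hab m m).elim (fun h => h (e.trans (hb1 m).symm)) fun h => h rfl
    · simp only [Finset.mem_image, not_exists, not_and]
      exact fun m _ => ha m
    · obtain ⟨m, -, rfl⟩ := Finset.mem_image.1 hΛ
      exact ⟨m.1, m.2, va m, fun φ h1 h2 h3 => hz m φ h1 h3 (hb1 _ ▸ h2)⟩

namespace Two

variable {χ : IrrCharacter G} {δ : ℤ} {T : Finset (IrrCharacter G)} (h : Two A χ δ T)
include h

theorem sq : δ * δ = 1 := by rcases h.sgn with rfl | rfl <;> rfl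

theorem sum_eq {Λ : IrrCharacter G} (hΛ : Λ ∈ T) : ∃ l ≠ 1, ∀ F : IrrCharacter G → ℂ,
    ∑ φ, mu A l φ * F φ = F (irrOne G) + δ * F χ - δ * F Λ := by
  obtain ⟨l, hl, h1, h2⟩ := h.ex' Λ hΛ
  refine ⟨l, hl, fun F => ?_⟩
  rw [sum_three h.ne (fun e => h.oT (e ▸ hΛ)) (fun e => h.nT (e ▸ hΛ)) _ fun φ a b c => by
    rw [h2 φ a b c]; simp, mu_one hl, h.val l hl, h1]
  push_cast; ring

theorem apply_eq {Λ : IrrCharacter G} (hΛ : Λ ∈ T) {g : G} (hg : ¬ Cj A g) :
    (Λ : G → ℂ) g = (χ : G → ℂ) g + δ := by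
  obtain ⟨l, hl, hs⟩ := h.sum_eq hΛ
  have := psi_eq_sum l g
  rw [psi_eq_zero l hg, hs] at this
  have h2 : (δ : ℂ) * δ = 1 := by exact_mod_cast h.sq
  simp only [coe_irrOne] at this
  linear_combination δ * this + ((χ : G → ℂ) g - (Λ : G → ℂ) g) * h2

theorem degree {Λ : IrrCharacter G} (hΛ : Λ ∈ T) :
    (charDegree (Λ : G → ℂ) : ℤ) = charDegree (χ : G → ℂ) + δ := by
  have := h.apply_eq hΛ (g := 1) fun e => e.1 rfl
  rw [← Λ.2.coe_charDegree, ← χ.2.coe_charDegree] at this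
  exact_mod_cast this

theorem nonempty (h5 : 5 ≤ Nat.card A) : T.Nonempty :=
  Finset.card_pos.1 (by have := h.card; omega)

open Classical in
theorem order (hI : Iv A τ) (h5 : 5 ≤ Nat.card A) {u : G} (hu : orderOf u = 2) {x : ℤ}
    (hx : (χ : G → ℂ) u = x) :
    ((centralizer ({u} : Set G)).index : ℤ) ^ 2 * (charDegree (χ : G → ℂ) - x) ^ 2 =
      if IsConj u τ then (Nat.card G : ℤ) * Nat.card A *
        (charDegree (χ : G → ℂ) * (charDegree (χ : G → ℂ) + δ)) else 0 := by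
  obtain ⟨Λ, hΛ⟩ := h.nonempty h5
  obtain ⟨l, hl, hs⟩ := h.sum_eq hΛ
  have h1 := hI.order_rel hu hl
  have h2 : (δ : ℂ) * δ = 1 := by exact_mod_cast h.sq
  have h3 := Λ.2.apply_one_ne_zero
  have h4 := χ.2.apply_one_ne_zero
  have h6 := h.apply_eq hΛ (g := u) fun e => hI.odd ((hu ▸ e.dvd :))
  rw [hs, h6, hx] at h1
  rw [h.apply_eq hΛ (g := 1) fun e => e.1 rfl] at h1 h3
  rw [← χ.2.coe_charDegree] at h1 h3 h4
  simp only [coe_irrOne] at h1
  apply Int.cast_injective (α := ℂ)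
  have h7 : ((charDegree (χ : G → ℂ) : ℂ) - x) ^ 2 =
      (1 ^ 2 / 1 + δ * (x ^ 2 / charDegree (χ : G → ℂ)) -
        δ * ((x + δ) ^ 2 / (charDegree (χ : G → ℂ) + δ))) *
        (charDegree (χ : G → ℂ) * (charDegree (χ : G → ℂ) + δ)) := by
    field_simp
    linear_combination (-(x : ℂ) ^ 2 + charDegree (χ : G → ℂ) * (2 * x + δ)) * h2
  push_cast
  rw [h7, ← mul_assoc, h1]
  split_ifs <;> simp

end Two

end Cfsg.Agent.Ch.Ssc
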