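import Mathlib
import Cfsg.Agent.Ch.SscTwo
import Cfsg.Agent.Ch.SscNum

/-!
Strongly self-centralizing subgroups of index four in their normalizers; counting classes.
-/

set_option autoImplicit false

namespace Cfsg.Agent.Ch.Ssc

open Subgroup
open scoped ComplexConjugate

variable {G : Type*} [Group G] [Fintype G] {A B C : Subgroup G}

theorem exists_kernel_bound {ι : Type*} [Fintype ι] (g : ι → G)
    (hg : ∀ i j, IsConj (g i) (g j) → i = j) (P : G → Prop) (hP : ∀ i x, IsConj (g i) x → ¬ P x)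
    (S : Finset (IrrCharacter G))
    (hS : ∀ θ, IsClassFunction G θ → (∀ x, P x → θ x = 0) → (∀ φ ∈ S, classInner θ φ = 0) →
      ∀ φ : IrrCharacter G, classInner θ φ = 0) : Fintype.card ι ≤ S.card := by
  classical
  let M : Matrix S ι ℂ := fun s i => classInner (classInd (g i)) s.1
  have hi : Function.Injective M.mulVecLin := by
    rw [injective_iff_map_eq_zero]
    intro v hv
    have hc : IsClassFunction G (∑ i, v i • classInd (g i)) :=
      IsClassFunction.sum fun i _ => (isClassFunction_classInd _).smul _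
    have h0 := hc.eq_zero_of_classInner (hS _ hc (fun x hx => by
      rw [Finset.sum_apply]
      exact Finset.sum_eq_zero fun i _ => by
        rw [Pi.smul_apply, classInd_of_not_isConj fun e => hP i x e hx, smul_zero]) fun φ hφ => by
      have := congrFun hv ⟨φ, hφ⟩
      rw [classInner_sum_left]
      change ∑ i, classInner (classInd (g i)) φ * v i = 0 at this
      simpa [classInner_smul_left, mul_comm] using this)
    ext j
    have := congrFun h0 (g j)
    rw [Finset.sum_apply, Finset.sum_eq_single j (fun i _ hij => by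
      rw [Pi.smul_apply, classInd_of_not_isConj fun e => hij (hg i j e), smul_zero])
      (by simp), Pi.smul_apply, classInd_of_isConj (IsConj.refl _)] at this
    simpa using this
  simpa using LinearMap.finrank_le_finrank_of_injective hi

theorem inner_eq_zero {θ : G → ℂ} (hθ : ∀ x, Cj A x → θ x = 0) (l : A →* ℂˣ)
    {φ : IrrCharacter G} (hφ : mu A l φ ≠ 0)
    (h : ∀ ξ : IrrCharacter G, ξ ≠ φ → mu A l ξ ≠ 0 → classInner θ ξ = 0) : classInner θ φ = 0 := by
  have := (psi_gen l).isClassFunction.classInner_eq_sum θ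
  rw [classInner_eq_zero_of_disjoint fun g => by
    by_cases hg : Cj A g
    · exact Or.inr (hθ g hg)
    · exact Or.inl (psi_eq_zero l hg), Finset.sum_eq_single φ (fun ξ _ hξ => by
      by_cases e : mu A l ξ = 0
      · rw [mu_spec, e]; simp
      · rw [h ξ hξ e]; simp) (by simp), mu_spec] at this
  simpa [hφ] using this

namespace Two

variable {χ : IrrCharacter G} {δ : ℤ} {T : Finset (IrrCharacter G)} (h : Two A χ δ T)
include h

open Classical in
theorem sum_split (F : IrrCharacter G → ℤ) : ∑ φ, F φ = F (irrOne G) + F χ +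
    ∑ φ ∈ (Finset.univ.erase (irrOne G)).erase χ, F φ := by
  rw [← Finset.add_sum_erase _ _ (Finset.mem_univ (irrOne G)),
    ← Finset.add_sum_erase _ _ (show χ ∈ Finset.univ.erase (irrOne G) by simp [h.ne]), add_assoc]

open Classical in
theorem sub : T ⊆ (Finset.univ.erase (irrOne G)).erase χ := fun φ hφ => by
  simp only [Finset.mem_erase, Finset.mem_univ, and_true]
  exact ⟨fun e => h.nT (e ▸ hφ), fun e => h.oT (e ▸ hφ)⟩

theorem four (h5 : 5 ≤ Nat.card A) (hB : SC B) (he : B.relIndex (normalizer (B : Set G)) = 4)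
    (hd : ∀ g, Cj B g → ¬ Cj A g) :
    ∃ k, (k = -δ ∨ (k = 0 ∧ Nat.card A < 9)) ∧ ∀ m ≠ 1, mu B m χ = k := by
  classical
  have hT : 2 ≤ T.card := by have := h.card; omega
  have hΛ : ∀ m ≠ 1, ∀ Λ ∈ T, mu B m Λ = mu B m χ + δ := fun m hm Λ hΛ =>
    mu_sub hm fun a ha h1 => h.apply_eq hΛ (hd a ⟨h1, 1, by simpa using ha⟩)
  have hle : ∀ v : IrrCharacter G → ℤ, ∀ y, (∀ Λ ∈ T, v Λ = y) →
      ∑ φ, v φ * v φ = v (irrOne G) * v (irrOne G) + v χ * v χ + (T.card * (y * y) +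
        ∑ φ ∈ (Finset.univ.erase (irrOne G)).erase χ \ T, v φ * v φ) := fun v y hy => by
    rw [h.sum_split, ← Finset.sum_sdiff h.sub, Finset.sum_congr (s₁ := T) rfl fun Λ hΛ => by
      rw [hy Λ hΛ], Finset.sum_const, nsmul_eq_mul]
    ring
  have h1 : ∀ m ≠ 1, mu B m χ = -δ ∨ (mu B m χ = 0 ∧ Nat.card A < 9) := fun m hm => by
    have e := hle _ _ (hΛ m hm)
    rw [hB.norm hm, he, mu_one hm] at e
    have p := Finset.sum_nonneg (s := (Finset.univ.erase (irrOne G)).erase χ \ T)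
      fun φ _ => mul_self_nonneg (mu B m φ)
    have q : 2 * ((mu B m χ + δ) * (mu B m χ + δ)) ≤
        T.card * ((mu B m χ + δ) * (mu B m χ + δ)) :=
      mul_le_mul_of_nonneg_right (by exact_mod_cast hT) (mul_self_nonneg _)
    have r : mu B m χ = -δ ∨ mu B m χ = 0 := by
      push_cast at e
      have r0 : mu B m χ * mu B m χ + 2 * ((mu B m χ + δ) * (mu B m χ + δ)) ≤ 4 := by linarith
      have r3 : mu B m χ * mu B m χ ≤ 4 := by nlinarith [mul_self_nonneg (mu B m χ + δ)]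
      have r1 : mu B m χ ≤ 2 := by nlinarith
      have r2 : -2 ≤ mu B m χ := by nlinarith
      clear e p q r3
      generalize mu B m χ = y at *
      rcases h.sgn with rfl | rfl <;> interval_cases y <;> omega
    refine r.imp_right fun r => ⟨r, ?_⟩
    by_contra h9
    have h4 := h.card
    rw [r, zero_add, h.sq] at e
    have z := (Finset.sum_eq_zero_iff_of_nonneg fun φ _ => mul_self_nonneg (mu B m φ)).1
      (show ∑ φ ∈ (Finset.univ.erase (irrOne G)).erase χ \ T, mu B m φ * mu B m φ = 0 by omega)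
    have d := sum_mu_degree m
    rw [h.sum_split, ← Finset.sum_sdiff h.sub, Finset.sum_eq_zero fun φ hφ => by
      rw [mul_self_eq_zero.1 (z φ hφ), zero_mul], Finset.sum_congr (s₁ := T) rfl fun Λ hΛ' => by
      rw [hΛ m hm Λ hΛ', h.degree hΛ'], Finset.sum_const, nsmul_eq_mul, mu_one hm, r,
      show T.card = 4 by omega] at d
    simp only [coe_irrOne, charDegree_one] at d
    omega
  by_cases h2 : ∀ m ≠ 1, mu B m χ = -δ
  · exact ⟨-δ, Or.inl rfl, h2⟩
  push Not at h2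
  obtain ⟨m, hm, h2⟩ := h2
  obtain ⟨h3, h4⟩ := (h1 m hm).resolve_left h2
  refine ⟨0, Or.inr ⟨rfl, h4⟩, fun l hl => ((h1 l hl).resolve_left fun h5 => ?_).1⟩
  have e := hle (fun φ => mu B m φ - mu B l φ) δ fun Λ hΛ' => by
    rw [hΛ m hm Λ hΛ', hΛ l hl Λ hΛ', h3, h5]; ring
  obtain ⟨k, hk, hk'⟩ := hB.gram hm hl
  have p := Finset.sum_nonneg (s := (Finset.univ.erase (irrOne G)).erase χ \ T)
    fun φ _ => mul_self_nonneg (mu B m φ - mu B l φ)
  rw [Finset.sum_congr (s₁ := Finset.univ) rfl fun φ _ => show (mu B m φ - mu B l φ) *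
    (mu B m φ - mu B l φ) = mu B m φ * mu B m φ + mu B l φ * mu B l φ - 2 * (mu B m φ * mu B l φ)
    by ring, Finset.sum_sub_distrib, Finset.sum_add_distrib, ← Finset.mul_sum, hk, hB.norm hm,
    hB.norm hl, he, mu_one hm, mu_one hl, h3, h5, zero_sub, neg_neg, h.sq] at e
  omega

open Classical in
theorem card_le (hA : SC A) (hB : SC B) (hC : SC C) (A0 : A ≠ ⊥) (B0 : B ≠ ⊥) (C0 : C ≠ ⊥)
    (eB : B.relIndex (normalizer (B : Set G)) = 4) (eC : C.relIndex (normalizer (C : Set G)) = 4)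
    (hd : ∀ g, Cj B g → ¬ Cj C g) (vB : ∀ m ≠ 1, mu B m χ = -δ) (vC : ∀ m ≠ 1, mu C m χ = -δ)
    {ι : Type*} [Fintype ι] (g : ι → G) (hg : ∀ i j, IsConj (g i) (g j) → i = j)
    (hP : ∀ i, ¬ Cj A (g i) ∧ ¬ Cj B (g i) ∧ ¬ Cj C (g i)) :
    Fintype.card ι ≤ 4 + (Finset.univ.filter fun φ : IrrCharacter G =>
      Nat.card A ∣ charDegree (φ : G → ℂ) ∧ Nat.card B ∣ charDegree (φ : G → ℂ) ∧
        Nat.card C ∣ charDegree (φ : G → ℂ)).card := by
  set X := Finset.univ.filter fun φ : IrrCharacter G =>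
      Nat.card A ∣ charDegree (φ : G → ℂ) ∧ Nat.card B ∣ charDegree (φ : G → ℂ) ∧
        Nat.card C ∣ charDegree (φ : G → ℂ) with hX
  set S := (Finset.univ.erase (irrOne G)).erase χ with hS
  obtain ⟨m₀, hm₀⟩ := hB.exists_hom B0
  have nB : ∀ m ≠ 1, ∑ φ ∈ S, mu B m φ * mu B m φ = 3 := fun m hm => by
    have := hB.norm hm
    rw [h.sum_split, mu_one hm, vB m hm, neg_mul_neg, h.sq, eB] at this
    push_cast at this; linarith
  have nC : ∀ m ≠ 1, ∑ φ ∈ S, -mu C m φ * -mu C m φ = 3 := fun m hm => by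
    have := hC.norm hm
    rw [h.sum_split, mu_one hm, vC m hm, neg_mul_neg, h.sq, eC] at this
    simp only [neg_mul_neg]
    push_cast at this; linarith
  have gB : ∀ m ≠ 1, 2 ≤ ∑ φ ∈ S, mu B m₀ φ * mu B m φ := fun m hm => by
    obtain ⟨k, hk, hk'⟩ := hB.gram hm₀ hm
    rw [h.sum_split, mu_one hm, mu_one hm₀, vB m hm, vB m₀ hm₀, neg_mul_neg, h.sq, eB] at hk
    push_cast at hk
    rcases hk' with ⟨rfl, -⟩ | ⟨rfl, -⟩ <;> linarith
  have gC : ∀ m ≠ 1, 2 ≤ ∑ φ ∈ S, mu B m₀ φ * -mu C m φ := fun m hm => by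
    have hk := sum_mu_cross hd m₀ m
    rw [h.sum_split, mu_one hm, mu_one hm₀, vC m hm, vB m₀ hm₀, neg_mul_neg, h.sq] at hk
    simp only [mul_neg, Finset.sum_neg_distrib]
    linarith
  set R := S.filter fun φ => mu B m₀ φ ≠ 0 with hR
  have hR3 : R.card ≤ 3 := by
    have : ∑ φ ∈ R, (1 : ℤ) ≤ ∑ φ ∈ S, mu B m₀ φ * mu B m₀ φ :=
      (Finset.sum_le_sum fun φ hφ => mul_self_pos.2 (Finset.mem_filter.1 hφ).2).trans
        (Finset.sum_le_sum_of_subset_of_nonneg (Finset.filter_subset _ _)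
          fun φ _ _ => mul_self_nonneg _)
    rw [nB m₀ hm₀] at this
    simpa using this
  obtain ⟨c, hc, hc0⟩ := Finset.exists_ne_zero_of_sum_ne_zero (s := S)
    (f := fun φ => mu B m₀ φ * mu B m₀ φ) (by rw [nB m₀ hm₀]; norm_num)
  have hcR : c ∈ R := Finset.mem_filter.2 ⟨hc, fun e => hc0 (by rw [e, mul_zero])⟩
  have mS : ∀ φ, φ ≠ irrOne G → φ ≠ χ → φ ∈ S := fun φ a b => by simp [hS, a, b]
  have cj : ∀ {D : Subgroup G} {x y : G}, IsConj x y → Cj D y → Cj D x := by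
    rintro D x y hxy ⟨h1, k, hk⟩
    obtain ⟨z, rfl⟩ := isConj_iff.1 hxy
    exact ⟨fun e => h1 (by simp [e]), k * z, by simpa [mul_assoc] using hk⟩
  refine (exists_kernel_bound g hg (fun x => Cj A x ∨ Cj B x ∨ Cj C x) (fun i x hx e => ?_)
    (insert (irrOne G) (insert χ (R.erase c ∪ X))) fun θ _ hθ h0 => ?_).trans ?_
  · rcases e with e | e | e
    exacts [(hP i).1 (cj hx e), (hP i).2.1 (cj hx e), (hP i).2.2 (cj hx e)]
  · have z1 := h0 (irrOne G) (by simp)
    have z2 := h0 χ (by simp)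
    have z3 : ∀ φ ∈ R, φ ≠ c → classInner θ φ = 0 := fun φ a b => h0 φ (by simp [a, b])
    have z4 : ∀ φ : IrrCharacter G, mu B m₀ φ ≠ 0 → φ ≠ c → classInner θ φ = 0 := fun φ a b => by
      by_cases e1 : φ = irrOne G
      · rw [e1, z1]
      by_cases e2 : φ = χ
      · rw [e2, z2]
      exact z3 φ (Finset.mem_filter.2 ⟨mS φ e1 e2, a⟩) b
    have z5 : ∀ φ : IrrCharacter G, mu B m₀ φ ≠ 0 → classInner θ φ = 0 := fun φ a => by
      by_cases e : φ = c
      · exact inner_eq_zero (fun x hx => hθ x (Or.inr (Or.inl hx))) m₀ a fun ξ b d =>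
          z4 ξ d (e ▸ b)
      · exact z4 φ a e
    have z6 : ∀ {φ : IrrCharacter G} {w : IrrCharacter G → ℤ}, φ ∈ S → mu B m₀ φ = 0 → w φ ≠ 0 →
        ∑ φ ∈ S, w φ * w φ = 3 → 2 ≤ ∑ φ ∈ S, mu B m₀ φ * w φ →
        ∀ ξ : IrrCharacter G, ξ ≠ φ → w ξ ≠ 0 → classInner θ ξ = 0 :=
      fun {φ w} a b d e f ξ i j => by
        by_cases e1 : ξ = irrOne G
        · rw [e1, z1]
        by_cases e2 : ξ = χ
        · rw [e2, z2]
        exact z5 ξ fun k => i (vec_unique (nB m₀ hm₀) e f (mS ξ e1 e2) a k b j d)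
    intro φ
    by_cases e1 : φ = irrOne G
    · rw [e1, z1]
    by_cases e2 : φ = χ
    · rw [e2, z2]
    by_cases e3 : mu B m₀ φ = 0
    swap
    · exact z5 φ e3
    by_cases a1 : ∀ l ≠ 1, mu A l φ = 0
    swap
    · push Not at a1
      obtain ⟨l, hl, a1⟩ := a1
      obtain ⟨Λ, -, hΛ⟩ := h.ex l hl
      refine inner_eq_zero (fun x hx => hθ x (Or.inl hx)) l a1 fun ξ b d => ?_
      by_cases f1 : ξ = irrOne G
      · rw [f1, z1]
      by_cases f2 : ξ = χ
      · rw [f2, z2]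
      exact absurd (hΛ ξ f1 f2 fun e => a1 (hΛ φ e1 e2 (e ▸ b.symm))) d
    by_cases a2 : ∀ l ≠ 1, mu B l φ = 0
    swap
    · push Not at a2
      obtain ⟨l, hl, a2⟩ := a2
      exact inner_eq_zero (fun x hx => hθ x (Or.inr (Or.inl hx))) l a2
        (z6 (mS φ e1 e2) e3 a2 (nB l hl) (gB l hl))
    by_cases a3 : ∀ l ≠ 1, mu C l φ = 0
    swap
    · push Not at a3
      obtain ⟨l, hl, a3⟩ := a3
      exact inner_eq_zero (fun x hx => hθ x (Or.inr (Or.inr hx))) l a3 fun ξ b d =>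
        z6 (w := fun φ => -mu C l φ) (mS φ e1 e2) e3 (neg_ne_zero.2 a3) (nC l hl) (gC l hl) ξ b
          (neg_ne_zero.2 d)
    obtain ⟨-, j1, b1⟩ := hA.const A0 a1
    obtain ⟨-, j2, b2⟩ := hB.const B0 a2
    obtain ⟨-, j3, b3⟩ := hC.const C0 a3
    rw [zero_add] at b1 b2 b3
    refine h0 φ (Finset.mem_insert_of_mem (Finset.mem_insert_of_mem (Finset.mem_union_right _
      (Finset.mem_filter.2 ⟨Finset.mem_univ _, ⟨j1, ?_⟩, ⟨j2, ?_⟩, j3, ?_⟩))))
    exacts [by exact_mod_cast b1, by exact_mod_cast b2, by exact_mod_cast b3]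
  · have := Finset.card_insert_le (irrOne G) (insert χ (R.erase c ∪ X))
    have := Finset.card_insert_le χ (R.erase c ∪ X)
    have := Finset.card_union_le (R.erase c) X
    have := Finset.card_erase_of_mem hcR
    omega

theorem sum_sq_le (X : Finset (IrrCharacter G)) {N : ℕ} (h1 : χ ∉ X) (h2 : ∀ Λ ∈ T, Λ ∉ X)
    (hN : ∀ φ ∈ X, N ≤ charDegree (φ : G → ℂ)) :
    (charDegree (χ : G → ℂ) : ℤ) ^ 2 + T.card * (charDegree (χ : G → ℂ) + δ) ^ 2 +
      X.card * N ^ 2 ≤ Nat.card G := by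
  classical
  have hd : Disjoint T X := Finset.disjoint_left.2 h2
  have e : ∑ φ ∈ insert χ (T ∪ X), (charDegree (φ : G → ℂ) : ℤ) ^ 2 ≤ Nat.card G := by
    rw [← sum_sq_charDegree]
    push_cast
    exact Finset.sum_le_sum_of_subset_of_nonneg (Finset.subset_univ _) fun _ _ _ => sq_nonneg _
  rw [Finset.sum_insert (by simp [h1, h.nT]), Finset.sum_union hd, Finset.sum_congr (s₁ := T) rfl
    fun Λ hΛ => by rw [h.degree hΛ], Finset.sum_const, nsmul_eq_mul] at e
  have := Finset.card_nsmul_le_sum X (fun φ => (charDegree (φ : G → ℂ) : ℤ) ^ 2) ((N : ℤ) ^ 2)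
    fun φ hφ => by have := hN φ hφ; gcongr
  rw [nsmul_eq_mul] at this
  linarith

end Two

end Cfsg.Agent.Ch.Ssc
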