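import Mathlib
import Cfsg.Agent.Ch.SscFour
import Cfsg.Agent.GT.CNGroup
import Cfsg.Agent.Inv.Counting

/-!
A self-centralization system of type `(2, 4, 4)`: the order of the group.
-/

set_option autoImplicit false

namespace Cfsg.Agent.Ch.Ssc

open Subgroup

variable {G : Type*} [Group G] [Fintype G] [IsSimpleGroup G] {A B C : Subgroup G} {τ u v : G}
  {χ : IrrCharacter G} {δ : ℤ} {T : Finset (IrrCharacter G)}

theorem Two.exists_val (h : Two A χ δ T) {t : G} (ht : orderOf t = 2) :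
    ∃ x : ℤ, (χ : G → ℂ) t = x ∧ x < charDegree (χ : G → ℂ) := by
  obtain ⟨k, -, hk⟩ := χ.2.isCharacter.exists_int_of_mul_self_eq_one (g := t)
    (by rw [← pow_two, ← ht, pow_orderOf_eq_one])
  refine ⟨charDegree (χ : G → ℂ) - 2 * k, by rw [hk]; push_cast; rfl, ?_⟩
  have := Inv.CT.apply_ne_of_simple χ.2 (fun e => h.ne (Subtype.ext e)) (g := t)
    (by rintro rfl; simp at ht)
  rw [hk, ← χ.2.coe_charDegree] at this
  have : k ≠ 0 := by rintro rfl; simp at this
  omega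

theorem Two.isConj (h : Two A χ δ T) (hI : Iv A τ) (h5 : 5 ≤ Nat.card A) {t : G}
    (ht : orderOf t = 2) : IsConj t τ := by
  obtain ⟨x, hx, hx'⟩ := h.exists_val ht
  have := h.order hI h5 ht hx
  by_contra hc
  rw [if_neg hc] at this
  have h1 : ((centralizer ({t} : Set G)).index : ℤ) ≠ 0 := by
    exact_mod_cast index_ne_zero_of_finite
  exact mul_ne_zero (pow_ne_zero 2 h1) (pow_ne_zero 2 (by omega)) this

theorem Two.order' (h : Two A χ δ T) (hI : Iv A τ) (h5 : 5 ≤ Nat.card A) {x : ℤ}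
    (hx : (χ : G → ℂ) τ = x) : (Nat.card G : ℤ) * (charDegree (χ : G → ℂ) - x) ^ 2 =
      Nat.card A * (Nat.card (centralizer ({τ} : Set G)) : ℤ) ^ 2 *
        (charDegree (χ : G → ℂ) * (charDegree (χ : G → ℂ) + δ)) := by
  have := h.order hI h5 hI.ord hx
  rw [if_pos (IsConj.refl _)] at this
  have e : ((centralizer ({τ} : Set G)).index : ℤ) * Nat.card (centralizer ({τ} : Set G)) =
      Nat.card G := by exact_mod_cast index_mul_card _
  refine mul_left_cancel₀ (a := (Nat.card G : ℤ)) (by exact_mod_cast Nat.card_pos.ne') ?_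
  rw [← e] at this ⊢
  linear_combination (Nat.card (centralizer ({τ} : Set G)) : ℤ) ^ 2 * this

omit [IsSimpleGroup G] in
theorem Iv.card_eq (h : Iv A τ) {e : ℕ} (he : A.relIndex (normalizer (A : Set G)) = e)
    (h2 : e ∣ 4) : ∃ k : ℤ, (Nat.card G : ℤ) = e * Nat.card A * (1 + Nat.card A * k) := by
  have c2 : (Nat.card A).Coprime 2 := ((Nat.Prime.coprime_iff_not_dvd Nat.prime_two).2 h.odd).symm
  obtain ⟨k, hk⟩ := h.sc.exists_index h.ne
    (he ▸ (show (Nat.card A).Coprime (2 ^ 2) from c2.pow_right 2).coprime_dvd_right h2)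
  refine ⟨k, ?_⟩
  have h1 := index_mul_card (normalizer (A : Set G))
  have h3 := index_mul_card (A.subgroupOf (normalizer (A : Set G)))
  rw [Nat.card_congr (subgroupOfEquivOfLe le_normalizer).toEquiv] at h3
  change A.relIndex _ * _ = _ at h3
  rw [← h1, ← h3, hk, he]
  push_cast; ring

omit [IsSimpleGroup G] in
theorem SC.four_dvd (h : SC A) (he : A.relIndex (normalizer (A : Set G)) = 4) :
    (4 : ℤ) ∣ Nat.card A - 1 := by
  have := TI.relIndex_dvd_card_sub_one A _ le_normalizer le_rfl fun k hk h1 x _ hx =>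
    h.mem hk h1 hx
  change A.relIndex _ ∣ _ at this
  rw [he] at this
  have h0 : 0 < Nat.card A := Nat.card_pos
  omega

/-- The hypotheses of the theorem. -/
structure Sys (A B C : Subgroup G) (τ u v : G) : Prop where
  a : Iv A τ
  b : Iv B (u * u)
  c : Iv C (v * v)
  eA : A.relIndex (normalizer (A : Set G)) = 2
  eB : B.relIndex (normalizer (B : Set G)) = 4
  eC : C.relIndex (normalizer (C : Set G)) = 4
  cAB : (Nat.card A).Coprime (Nat.card B)
  cAC : (Nat.card A).Coprime (Nat.card C)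
  cBC : (Nat.card B).Coprime (Nat.card C)
  nA : 5 ≤ Nat.card A
  nB : 5 < Nat.card B
  nC : 5 < Nat.card C
  bd : Nat.card G ≤ 3 * (Nat.card A * Nat.card B * Nat.card C) ^ 2

namespace Sys

variable (S : Sys A B C τ u v) (h : Two A χ δ T)
include S

omit [Fintype G] [IsSimpleGroup G] in
theorem symm : Sys A C B τ v u :=
  ⟨S.a, S.c, S.b, S.eA, S.eC, S.eB, S.cAC, S.cAB, S.cBC.symm, S.nA, S.nC, S.nB,
    by rw [mul_right_comm]; exact S.bd⟩

include h

theorem exists_w : ∃ (x w : ℤ) (s : ℕ), (χ : G → ℂ) τ = x ∧ x < charDegree (χ : G → ℂ) ∧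
    (charDegree (χ : G → ℂ) : ℤ) = δ + Nat.card A * s ∧ |x| ≤ s + δ ∧
    0 < (charDegree (χ : G → ℂ) : ℤ) + δ ∧ 0 < w ∧ (Nat.card G : ℤ) =
      Nat.card A * (charDegree (χ : G → ℂ) * (charDegree (χ : G → ℂ) + δ)) * w ^ 2 ∧
    (Nat.card (centralizer ({τ} : Set G)) : ℤ) = w * (charDegree (χ : G → ℂ) - x) := by
  obtain ⟨x, hx, hx'⟩ := h.exists_val S.a.ord
  obtain ⟨h1, s, hs⟩ := S.a.sc.const S.a.ne h.val
  obtain ⟨Λ, hΛ⟩ := h.nonempty S.nA
  have hD : 0 < (charDegree (χ : G → ℂ) : ℤ) + δ := by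
    rw [← h.degree hΛ]; exact_mod_cast Λ.2.charDegree_pos
  obtain ⟨w, h2⟩ := Ssc.exists_w h.sgn (by exact_mod_cast Nat.card_pos)
    (by exact_mod_cast S.a.odd) (by exact_mod_cast χ.2.charDegree_pos) hD
    (by exact_mod_cast Nat.card_pos) hx' hs (h.order' S.a S.nA hx)
    (by exact_mod_cast card_subgroup_dvd_card A) (by exact_mod_cast χ.2.charDegree_dvd_card)
    (by rw [← h.degree hΛ]; exact_mod_cast Λ.2.charDegree_dvd_card)
  exact ⟨x, w, s, hx, hx', hs, S.a.abs_val_le χ.2.isCharacter h1 hs hx, hD, h2⟩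

theorem not_small (h9 : Nat.card A < 9) (hlt : Nat.card B < Nat.card C) : False := by
  obtain ⟨x, w, s, hx, -, -, -, hD, hw, hG, -⟩ := S.exists_w h
  obtain ⟨k, hk, hm⟩ := h.four S.nA S.c.sc S.eC fun g => S.c.sc.not_cj S.cAC.symm
  obtain ⟨h1, j, hj⟩ := S.c.sc.const S.c.ne hm
  have cB := h.isConj S.a S.nA S.b.ord
  have cC := h.isConj S.a S.nA S.c.ord
  have hd : (0 : ℤ) < charDegree (χ : G → ℂ) := by exact_mod_cast χ.2.charDegree_pos
  have := S.nA
  have := S.nB
  have := S.nC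
  have := S.a.odd
  obtain ⟨e1, e2, e3⟩ := small_fin (n₁ := Nat.card A) (n₂ := Nat.card B) (n₃ := Nat.card C)
    (by omega) (by omega) (by omega) (S.b.sc.four_dvd S.eB) (S.c.sc.four_dvd S.eC)
    (small_aux h.sgn (by omega) (by omega) hd hD (by exact_mod_cast Nat.card_pos)
      (hk.symm.imp_left (·.1)) hj (S.c.abs_val_le χ.2.isCharacter h1 hj
        ((χ.2.isCharacter.isClassFunction.eq_of_isConj cC).trans hx)) (by omega) (h.order' S.a S.nA hx)
      (count_three S.a S.b S.c cB.symm cC.symm S.eA S.eB S.eC S.cAB S.cAC S.cBC))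
  obtain ⟨k₁, f1⟩ := S.a.card_eq S.eA (by norm_num)
  obtain ⟨k₂, f2⟩ := S.b.card_eq S.eB dvd_rfl
  obtain ⟨k₃, f3⟩ := S.c.card_eq S.eC dvd_rfl
  have bd : (Nat.card G : ℤ) ≤ 3 * (Nat.card A * Nat.card B * Nat.card C) ^ 2 := by
    exact_mod_cast S.bd
  rw [e1] at hG f1 bd
  rw [e2] at f2 bd
  rw [e3] at f3 bd
  exact small_no h.sgn hd hD hw hG (k₁ := k₁) (k₂ := k₂) (k₃ := k₃) (by rw [f1]; norm_num)
    (by rw [f2]; norm_num) (by rw [f3]; norm_num) bd

omit h [IsSimpleGroup G] in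
theorem le_mul : 117 ≤ Nat.card B * Nat.card C := by
  have h1 := S.b.sc.four_dvd S.eB
  have h2 := S.c.sc.four_dvd S.eC
  have h3 := S.nB
  have h4 := S.nC
  have h5 : Nat.card B ≠ Nat.card C := fun e => by
    have := S.cBC
    rw [e, Nat.coprime_self] at this
    omega
  rcases lt_or_gt_of_ne h5 with h6 | h6
  · exact Nat.mul_le_mul (show 9 ≤ Nat.card B by omega) (show 13 ≤ Nat.card C by omega)
  · exact Nat.mul_le_mul (show 13 ≤ Nat.card B by omega) (show 9 ≤ Nat.card C by omega)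

theorem nine : 9 ≤ Nat.card A := by
  by_contra h9
  rcases lt_trichotomy (Nat.card B) (Nat.card C) with e | e | e
  · exact S.not_small h (by omega) e
  · have := S.cBC
    have := S.nC
    rw [e, Nat.coprime_self] at *
    omega
  · exact S.symm.not_small h (by omega) e

theorem val (m : B →* ℂˣ) (hm : m ≠ 1) : mu B m χ = -δ := by
  obtain ⟨k, hk, h1⟩ := h.four S.nA S.b.sc S.eB fun g => S.b.sc.not_cj S.cAB.symm
  have := S.nine h
  rw [h1 m hm, hk.resolve_right fun e => by omega]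

theorem dvd : (Nat.card B : ℤ) ∣ charDegree (χ : G → ℂ) + δ := by
  obtain ⟨-, j, hj⟩ := S.b.sc.const S.b.ne (S.val h)
  exact ⟨j, by rw [hj]; ring⟩

theorem odd_index : ¬ 2 ∣ (centralizer ({τ} : Set G)).index := fun hd => by
  obtain ⟨P⟩ : Nonempty (Sylow 2 G) := inferInstance
  obtain ⟨z, -, h1, h2⟩ := GT.CN.exists_central (H := (P : Subgroup G)) P.2.isNilpotent Nat.prime_two
    (P.dvd_card_of_dvd_card (S.a.ord ▸ orderOf_dvd_natCard τ))
  have e := index_mul_card (centralizer ({τ} : Set G))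
  rw [← index_mul_card (centralizer ({z} : Set G)),
    Inv.card_centralizer_eq_of_isConj (h.isConj S.a S.nA h1)] at e
  rw [Nat.eq_of_mul_eq_mul_right Nat.card_pos e] at hd
  exact P.not_dvd_index (hd.trans (index_dvd_of_le fun g hg =>
    mem_centralizer_singleton_iff.2 (h2 g hg)))

/-- The order of the group. -/
theorem order : ∃ (y s : ℕ), (charDegree (χ : G → ℂ) : ℤ) = δ + Nat.card A * s ∧
    (charDegree (χ : G → ℂ) : ℤ) + δ = Nat.card B * Nat.card C * y ∧ 0 < y ∧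
    (Nat.card G : ℤ) = Nat.card A * (charDegree (χ : G → ℂ) * (charDegree (χ : G → ℂ) + δ)) ∧
    (Nat.card (centralizer ({τ} : Set G)) : ℤ) = charDegree (χ : G → ℂ) ∧
    (2 : ℤ) ∣ charDegree (χ : G → ℂ) := by
  obtain ⟨x, w, s, hx, hx', hs, hxs, hD, hw, hG, hc⟩ := S.exists_w h
  obtain ⟨y, hy⟩ := (Nat.isCoprime_iff_coprime.2 S.cBC).mul_dvd (S.dvd h) (S.symm.dvd h)
  have hM : (117 : ℤ) ≤ Nat.card B * Nat.card C := by exact_mod_cast S.le_mul
  have h9 : (9 : ℤ) ≤ Nat.card A := by exact_mod_cast S.nine h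
  have hy0 : 0 < y := pos_of_mul_pos_left (by rw [mul_comm, ← hy]; exact hD) (by omega)
  have hodd : ¬ (2 : ℤ) ∣ Nat.card A := by exact_mod_cast S.a.odd
  have hcop : IsCoprime (Nat.card (centralizer ({τ} : Set G)) : ℤ)
      (Nat.card A * (Nat.card B * Nat.card C)) := by
    exact_mod_cast Nat.isCoprime_iff_coprime.2 (((S.a.coprime_cent S.a.ord).symm.mul_right
      ((S.b.coprime_cent S.a.ord).symm.mul_right (S.c.coprime_cent S.a.ord).symm)))
  have e : ((centralizer ({τ} : Set G)).index : ℤ) * Nat.card (centralizer ({τ} : Set G)) =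
      Nat.card G := by exact_mod_cast index_mul_card _
  have hi : ¬ (2 : ℤ) ∣ (centralizer ({τ} : Set G)).index := by exact_mod_cast S.odd_index h
  have bd : (Nat.card G : ℤ) ≤ 3 * (Nat.card A * Nat.card B * Nat.card C) ^ 2 := by
    exact_mod_cast S.bd
  have c0 : (0 : ℤ) < Nat.card (centralizer ({τ} : Set G)) := by exact_mod_cast Nat.card_pos
  have g2 : (2 : ℤ) ∣ Nat.card G := by exact_mod_cast S.a.ord ▸ orderOf_dvd_natCard τ
  obtain ⟨k, hk⟩ := S.a.card_eq S.eA (by norm_num)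
  obtain ⟨Λ, hΛ⟩ := h.nonempty S.nA
  have hΛd := h.degree hΛ
  have hΛx := h.apply_eq hΛ (S.a.not_cj S.a.ord rfl)
  have dz : ∀ {φ : IrrCharacter G} {m : ℤ}, (Nat.card G : ℤ) = m * charDegree (φ : G → ℂ) →
      ¬ 2 ∣ m → (φ : G → ℂ) τ = 0 := fun {φ m} h1 h2 => by
    refine apply_eq_zero_of_defect_zero Nat.prime_two φ.2 ?_ S.a.ord.symm.dvd
    have h3 : ((2 ^ (Nat.card G).factorization 2 : ℕ) : ℤ) ∣ m * charDegree (φ : G → ℂ) := by
      rw [← h1]; exact_mod_cast Nat.ordProj_dvd _ _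
    push_cast at h3
    exact_mod_cast (((Prime.coprime_iff_not_dvd Int.prime_two).2 h2).pow_left).dvd_of_dvd_mul_left h3
  have sq := h.sq
  have sgn := h.sgn
  have dχ := @dz χ
  have dΛ := @dz Λ
  rw [hΛd] at dΛ
  rw [hΛx] at dΛ
  rw [hx] at dχ dΛ
  clear dz hΛx hΛd hx
  generalize (charDegree (χ : G → ℂ) : ℤ) = d at *
  generalize (Nat.card (centralizer ({τ} : Set G)) : ℤ) = c at *
  generalize ((centralizer ({τ} : Set G)).index : ℤ) = ι at *
  generalize (Nat.card G : ℤ) = g at *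
  rw [mul_assoc] at bd
  generalize (Nat.card B * Nat.card C : ℤ) = M at *
  generalize (Nat.card A : ℤ) = n at *
  have nM : 0 < n * M := by positivity
  have g1 : g = n * M * (y * d * w ^ 2) := by rw [hG, hy]; ring
  obtain ⟨κ, hκ⟩ := hcop.dvd_of_dvd_mul_left (g1 ▸ Dvd.intro_left ι e)
  have n2 : IsCoprime n 2 := ((Prime.coprime_iff_not_dvd Int.prime_two).2 hodd).symm
  obtain ⟨i, hi'⟩ : n ∣ w ^ 2 - 1 := n2.dvd_of_dvd_mul_left
    ⟨2 * k - (3 * δ * s + n * s ^ 2) * w ^ 2, mul_left_cancel₀ (a := n) (by omega) (by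
      rw [hs] at hG
      push_cast at hk
      linear_combination hk - hG - 2 * n * w ^ 2 * sq)⟩
  obtain rfl : w = 1 := w_eq_one (κ := κ) (i := i) sgn h9 hodd hM hw hy0 hs hy hxs (by omega)
    (fun e2 => hi (by
      rw [mul_right_cancel₀ c0.ne' (show ι * c = n * M * κ * c by rw [e, g1, hκ]; ring)]
      exact e2.mul_left _))
    (mul_left_cancel₀ hw.ne' (by rw [hc] at hκ; linear_combination -hκ))
    (le_of_mul_le_mul_left (by rw [← g1]; linarith) nM)
  rw [one_pow, mul_one] at hG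
  have d2 : 2 ∣ d := by
    by_contra d2
    have h1 := dΛ (m := n * d) (by rw [hG]; ring) fun e2 =>
      (Int.prime_two.dvd_or_dvd e2).elim hodd d2
    have h2 : x + δ = 0 := by exact_mod_cast h1
    have h3 : IsUnit M := hcop.of_mul_right_right.isUnit_of_dvd' ⟨y, by rw [hc, ← hy]; omega⟩
      dvd_rfl
    rcases Int.isUnit_iff.1 h3 with h4 | h4 <;> omega
  have h1 := dχ (m := n * (d + δ)) (by rw [hG]; ring) fun e2 =>
    (Int.prime_two.dvd_or_dvd e2).elim hodd (by omega)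
  obtain rfl : x = 0 := by exact_mod_cast h1
  lift y to ℕ using hy0.le
  exact ⟨y, s, hs, hy, by omega, hG, by omega, d2⟩

end Sys

end Cfsg.Agent.Ch.Ssc
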