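import Mathlib
import Cfsg.Agent.Ch.SscMain

/-!
A strongly self-centralizing subgroup of index two in its normalizer: the values of the
non-exceptional character.
-/

set_option autoImplicit false

namespace Cfsg.Agent.Ch.Ssc

open Subgroup
open scoped ComplexConjugate

variable {G : Type*} [Group G] [Fintype G] {A : Subgroup G} {τ : G}
  {χ : IrrCharacter G} {δ : ℤ} {T : Finset (IrrCharacter G)}

open Classical in
theorem SC.card_cj (h : SC A) : (A.relIndex (normalizer (A : Set G)) : ℤ) *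
    (Finset.univ.filter (Cj A)).card = Nat.card G - A.index := by
  have e1 : ∑ a : A, (if a = 1 then (0 : ℂ) else 1) = Nat.card A - 1 := by
    rw [← Finset.add_sum_erase _ _ (Finset.mem_univ 1), if_pos rfl, Finset.sum_congr rfl
      fun a ha => if_neg (Finset.ne_of_mem_erase ha)]
    simp [Nat.cast_sub (Fintype.card_pos (α := A))]
  have e2 := TI.sum_indFun_mul (H := A) (fun a => if a = 1 then (0 : ℂ) else 1) (fun _ => 1)
    fun _ _ => rfl
  simp only [mul_one] at e2
  rw [e1, Finset.sum_congr rfl (g := fun g => (A.relIndex (normalizer (A : Set G)) : ℂ) *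
    if Cj A g then 1 else 0) fun g _ => ?_, ← Finset.mul_sum, Finset.sum_boole] at e2
  · apply Int.cast_injective (α := ℂ)
    push_cast
    rw [e2, ← A.index_mul_card]; push_cast; ring
  split_ifs with hc
  · obtain ⟨h1, k, hk⟩ := hc
    rw [← indFun_conj_apply A _ _ k, show k * g * k⁻¹ = ((⟨_, hk⟩ : A) : G) from rfl,
      h.ind_apply (by simp), Finset.sum_congr rfl fun z _ => if_neg fun e =>
        conj_ne_one h1 k (congrArg Subtype.val ((MulEquiv.map_eq_one_iff _).1 e))]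
    have hc : Nat.card A * A.relIndex (normalizer (A : Set G)) =
        Nat.card (normalizer (A : Set G)) := by
      rw [← (A.subgroupOf (normalizer (A : Set G))).card_mul_index,
        Nat.card_congr (subgroupOfEquivOfLe le_normalizer).toEquiv]
      rfl
    rw [Finset.sum_const, Finset.card_univ, ← Nat.card_eq_fintype_card, ← hc, eq_comm,
      eq_inv_mul_iff_mul_eq₀ (natCard_ne_zero _)]
    simp
  · rw [ind_eq_zero (by simp) hc, mul_zero]

theorem SC.coprime_cent (h : SC A) {g : G} (h1 : g ≠ 1) (hg : ¬ Cj A g) :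
    (Nat.card A).Coprime (Nat.card (centralizer ({g} : Set G))) := by
  refine Nat.coprime_of_dvd fun p hp h2 h3 => ?_
  have := Fact.mk hp
  obtain ⟨⟨y, hy⟩, hy1⟩ := exists_prime_orderOf_dvd_card' p h3
  rw [Subgroup.orderOf_mk] at hy1
  obtain ⟨h4, k, hk⟩ := h.cj_of_dvd hp h2 hy1.symm.dvd
  refine hg ⟨h1, k, h.mem hk (conj_ne_one h4 k) ?_⟩
  have := mem_centralizer_singleton_iff.1 hy
  calc _ = k * (g * y) * k⁻¹ := by group
    _ = _ := by rw [← this]; group

namespace Two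

variable (h : Two A χ δ T) (hI : Iv A τ)
include h hI

theorem apply_cj {g : G} (hg : Cj A g) : (χ : G → ℂ) g = δ := by
  obtain ⟨h1, k, hk⟩ := hg
  rw [← χ.2.isCharacter.isClassFunction g k]
  exact (hI.sc.const hI.ne h.val).1 _ hk (conj_ne_one h1 k)

theorem sum_conj (h5 : 5 ≤ Nat.card A) {a : G} (ha : a ∈ A) (h1 : a ≠ 1) (F : IrrCharacter G → ℂ)
    {y : ℂ} (hF : ∀ Λ ∈ T, F Λ = y) :
    ∑ φ, F φ * conj ((φ : G → ℂ) a) = F (irrOne G) + δ * F χ - δ * y := by
  classical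
  have key : ∀ (F : IrrCharacter G → ℂ) (y : ℂ), (∀ Λ ∈ T, F Λ = y) →
      ∑ φ, F φ * conj ((φ : G → ℂ) a) =
        F (irrOne G) + δ * F χ + y * ∑ Λ ∈ T, conj ((Λ : G → ℂ) a) := fun F y hF => by
    rw [← Finset.add_sum_erase _ _ (Finset.mem_univ (irrOne G)),
      ← Finset.add_sum_erase _ _ (show χ ∈ Finset.univ.erase (irrOne G) by simp [h.ne]),
      ← Finset.sum_sdiff h.sub, Finset.sum_eq_zero fun φ hφ => ?_,
      h.apply_cj hI ⟨h1, 1, by simpa using ha⟩, Finset.mul_sum,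
      Finset.sum_congr rfl fun Λ hΛ => by rw [hF Λ hΛ]]
    · simp only [coe_irrOne, map_one, map_intCast]; ring
    simp only [Finset.mem_sdiff, Finset.mem_erase] at hφ
    rw [(hI.sc.const hI.ne (k := 0) fun l hl => ?_).1 a ha h1]
    · simp
    obtain ⟨Λ, hΛ, h2⟩ := h.ex l hl
    exact h2 φ hφ.1.2.1 hφ.1.1 fun e => hφ.2 (e ▸ hΛ)
  obtain ⟨Λ, hΛ⟩ := h.nonempty h5
  have h2 := key (fun φ => (φ : G → ℂ) 1) _ fun Λ hΛ => h.apply_eq hΛ fun e => e.1 rfl
  have h3 := Λ.2.apply_one_ne_zero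
  rw [h.apply_eq hΛ fun e => e.1 rfl] at h3
  rw [column_orthogonality_of_not_isConj fun e => h1 (isConj_one_right.1 e)] at h2
  have h4 : (δ : ℂ) * δ = 1 := by exact_mod_cast h.sq
  rw [key F y hF, show ∑ Λ ∈ T, conj ((Λ : G → ℂ) a) = -δ from mul_left_cancel₀ h3 (by
    simp only [coe_irrOne] at h2
    linear_combination -h2 + h4)]
  ring

theorem exists_dvd (h5 : 5 ≤ Nat.card A) {x w : ℤ} (hx : (χ : G → ℂ) τ = x) (hw : 0 < w)
    (hx' : x < charDegree (χ : G → ℂ)) (hG : (Nat.card G : ℤ) =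
      Nat.card A * (charDegree (χ : G → ℂ) * (charDegree (χ : G → ℂ) + δ)) * w ^ 2)
    (hc : (Nat.card (centralizer ({τ} : Set G)) : ℤ) = w * (charDegree (χ : G → ℂ) - x))
    {g : G} (h1 : g ≠ 1) (hg : ¬ Cj A g) : ∃ v : ℤ, (χ : G → ℂ) g = v ∧
      (Nat.card (centralizer ({g} : Set G)) : ℤ) ∣ w * (charDegree (χ : G → ℂ) - v) := by
  classical
  obtain ⟨a, ha, a1⟩ := (A.bot_or_exists_ne_one).resolve_left hI.ne
  have e := Inv.CT.card_pairs τ g {a}
  simp only [Finset.sum_singleton] at e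
  have hτ := hI.not_cj hI.ord rfl
  obtain ⟨Λ, hΛ⟩ := h.nonempty h5
  have h3 := Λ.2.apply_one_ne_zero
  have h4 := χ.2.apply_one_ne_zero
  rw [h.apply_eq hΛ fun e => e.1 rfl] at h3
  rw [h.sum_conj hI h5 ha a1 _ fun Λ hΛ => by
    rw [h.apply_eq hΛ hτ, h.apply_eq hΛ hg, h.apply_eq hΛ fun e => e.1 rfl], hx] at e
  generalize Finset.card _ = n at e
  rw [← χ.2.coe_charDegree] at e h3 h4
  have hG' := congrArg (Int.cast : ℤ → ℂ) hG
  have hc' := congrArg (Int.cast : ℤ → ℂ) hc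
  have h6 : (δ : ℂ) * δ = 1 := by exact_mod_cast h.sq
  have h7 : (w : ℂ) * (charDegree (χ : G → ℂ) - x) ≠ 0 := by
    exact_mod_cast (mul_pos hw (sub_pos.2 hx')).ne'
  push_cast at hG' hc'
  simp only [coe_irrOne] at e
  have h8 : (n : ℂ) * Nat.card (centralizer ({g} : Set G)) =
      Nat.card A * (w * (charDegree (χ : G → ℂ) - (χ : G → ℂ) g)) := by
    refine mul_left_cancel₀ h7 ?_
    rw [hG', hc'] at e
    rw [mul_left_comm, ← mul_assoc, e]
    field_simp
    linear_combination (w : ℂ) ^ 2 *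
      ((x : ℂ) * (χ : G → ℂ) g - charDegree (χ : G → ℂ) * (x + (χ : G → ℂ) g + δ)) * h6
  have h9 : (Nat.card A : ℂ) * w ≠ 0 := mul_ne_zero (natCard_ne_zero _) (by exact_mod_cast hw.ne')
  have h10 : (χ : G → ℂ) g = ((charDegree (χ : G → ℂ) -
      n * Nat.card (centralizer ({g} : Set G)) / (Nat.card A * w) : ℚ) : ℂ) := by
    push_cast
    rw [h8, ← mul_assoc, mul_div_cancel_left₀ _ h9]
    ring
  obtain ⟨v, hv⟩ := integral_exists_int_of_rat (h10 ▸ χ.2.isCharacter.isIntegral g)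
  rw [← hv, Rat.cast_intCast] at h10
  refine ⟨v, h10, (Nat.isCoprime_iff_coprime.2 (hI.sc.coprime_cent h1 hg).symm).dvd_of_dvd_mul_left
    ⟨n, ?_⟩⟩
  rw [h10] at h8
  exact_mod_cast (h8.symm.trans (mul_comm _ _))

theorem sum_le (he : A.relIndex (normalizer (A : Set G)) = 2) {v : G → ℤ}
    (hv : ∀ g, (χ : G → ℂ) g = v g) (X : Finset G) (hX : ∀ g ∈ X, g ≠ 1 ∧ ¬ Cj A g) :
    ∑ g ∈ X, v g * (v g + δ) + v 1 * (v 1 + δ) ≤ A.index := by
  classical
  have h1 : ∑ g, v g * (v g + δ) = Nat.card G := by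
    have a := χ.2.sum_eq_zero fun e => h.ne (Subtype.ext e)
    have b := χ.2.sum_norm_sq
    simp only [hv, Complex.norm_intCast, sq_abs] at a b
    simp only [mul_add, Finset.sum_add_distrib, ← Finset.sum_mul, ← pow_two]
    rw [show ∑ g, v g = 0 by exact_mod_cast a, zero_mul, add_zero]
    exact_mod_cast b
  have h2 := hI.sc.card_cj
  have h3 : ∑ g ∈ Finset.univ.filter (Cj A), v g * (v g + δ) =
      (Finset.univ.filter (Cj A)).card * 2 := by
    rw [Finset.sum_congr rfl (g := fun _ => 2) fun g hg => ?_, Finset.sum_const, nsmul_eq_mul]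
    have : v g = δ := by exact_mod_cast (hv g).symm.trans (h.apply_cj hI (Finset.mem_filter.1 hg).2)
    rw [this]; linarith [h.sq]
  have h4 := Finset.sum_le_sum_of_subset_of_nonneg (f := fun g => v g * (v g + δ))
    (Finset.subset_univ (insert 1 X ∪ Finset.univ.filter (Cj A))) fun g _ _ => by
      rcases h.sgn with rfl | rfl <;> rcases le_or_gt (v g) 0 with e | e <;>
        rcases le_or_gt 0 (v g) with e' | e' <;> nlinarith
  rw [Finset.sum_union (Finset.disjoint_left.2 fun g hg hc => by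
    rcases Finset.mem_insert.1 hg with rfl | hg
    exacts [(Finset.mem_filter.1 hc).2.1 rfl, (hX g hg).2 (Finset.mem_filter.1 hc).2]),
    Finset.sum_insert fun e => (hX 1 e).1 rfl, h1, h3] at h4
  rw [he] at h2
  push_cast at h2
  linarith

end Two

end Cfsg.Agent.Ch.Ssc
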