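import Mathlib

/-!
Størmer's theorem for the primes up to seven: consecutive `7`-smooth numbers.
-/

set_option autoImplicit false

namespace Cfsg.Agent.Ch.Stormer

open Pell Pell.Solution₁

theorem le_seven {q : ℕ} (hq : q.Prime) (h : q ≤ 7) : q = 2 ∨ q = 3 ∨ q = 5 ∨ q = 7 := by
  have := hq.two_le
  have : q ≠ 4 := by rintro rfl; exact absurd hq (by norm_num)
  have : q ≠ 6 := by rintro rfl; exact absurd hq (by norm_num)
  omega

variable {D : ℤ}

theorem pow_mod (b : Solution₁ D) (n : ℕ) : ∃ u s t : ℤ, (b ^ n).y = b.y * u ∧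
    (b ^ n).x = b.x ^ n + (b.x ^ 2 - 1) * s ∧ b.x * u = n * b.x ^ n + (b.x ^ 2 - 1) * t := by
  induction n with
  | zero => exact ⟨0, 0, 0, by simp⟩
  | succ n ih =>
    obtain ⟨u, s, t, h1, h2, h3⟩ := ih
    refine ⟨(b ^ n).x + u * b.x, s * b.x + u, b.x * s + b.x * t, ?_, ?_, ?_⟩
    · rw [pow_succ, y_mul, h1]; ring
    · rw [pow_succ, x_mul, h1, h2]; linear_combination u * b.prop_y
    · rw [h2]; push_cast; linear_combination b.x * h3

theorem descent (b : Solution₁ D) (hx : 1 < b.x) (hy : 0 < b.y) {r : ℕ} (hr : r.Prime)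
    (h : ∀ q : ℕ, q.Prime → (q : ℤ) ∣ (b ^ r).y → q ≤ 7 ∧ (q : ℤ) ∣ D * b.y) : False := by
  obtain ⟨u, s, t, h1, -, h3⟩ := pow_mod b r
  have hE : ∀ q : ℕ, q.Prime → (q : ℤ) ∣ u → q ≤ 7 ∧ (q : ℤ) ∣ b.x ^ 2 - 1 ∧ q = r := by
    intro q hq hu
    obtain ⟨h4, h5⟩ := h q hq (h1 ▸ hu.mul_left _)
    have h6 : (q : ℤ) ∣ b.x ^ 2 - 1 := by
      rw [← b.prop_y, pow_two, ← mul_assoc]; exact h5.mul_right _
    refine ⟨h4, h6, ?_⟩
    have hp := Nat.prime_iff_prime_int.1 hq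
    rcases hp.dvd_or_dvd ((dvd_add_left (h6.mul_right t)).1 (h3 ▸ hu.mul_left _)) with h7 | h7
    · exact (Nat.prime_dvd_prime_iff_eq hq hr).1 (by exact_mod_cast h7)
    · exact absurd ((dvd_sub_right (dvd_pow (hp.dvd_of_dvd_pow h7) two_ne_zero)).1 h6)
        hp.not_dvd_one
  have hu : b.y * (r + 1) ≤ (b ^ r).y ∨ r = 2 ∧ b.y * 4 ≤ (b ^ r).y := by
    have : ∀ n : ℕ, b.y * (2 * n + 1) ≤ (b ^ (n + 1)).y := fun n => by
      induction n with
      | zero => simp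
      | succ n ih =>
        rw [pow_succ, y_mul]
        have := x_pow_pos (show 0 < b.x by omega) (n + 1)
        push_cast
        nlinarith [mul_nonneg (show (0 : ℤ) ≤ n by omega) hy.le]
    obtain ⟨n, rfl⟩ : ∃ n, r = n + 1 := ⟨r - 1, by have := hr.pos; omega⟩
    have h2 := hr.two_le
    refine Or.inl (le_trans ?_ (this n))
    push_cast
    gcongr
    omega
  have hu1 : (r : ℤ) < u := by
    rcases hu with hu | ⟨rfl, hu⟩ <;> rw [h1] at hu <;> have := le_of_mul_le_mul_left hu hy <;>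
      omega
  lift u to ℕ using (by omega)
  have hp := Nat.eq_prime_pow_of_unique_prime_dvd (n := u) (p := r) (by omega)
    fun {q} hq hd => (hE q hq (by exact_mod_cast hd)).2.2
  generalize u.primeFactorsList.length = j at hp
  have h2 : (r : ℤ) ^ 2 ∣ u := by
    rw [hp] at hu1 ⊢
    push_cast at hu1 ⊢
    refine pow_dvd_pow _ ?_
    by_contra hj
    have := hr.two_le
    interval_cases j <;> simp at hu1
    omega
  obtain ⟨h4, ⟨e, h5⟩, -⟩ := hE r hr ((dvd_pow_self _ two_ne_zero).trans h2)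
  obtain ⟨v, hv⟩ := h2
  have hp2 := b.prop_y
  have can : ∀ {z : ℤ}, (b ^ r).y = b.y * z → z = u := fun e =>
    mul_left_cancel₀ hy.ne' (e.symm.trans h1)
  have := hr.two_le
  interval_cases r
  · have := can (z := 2 * b.x) (by simp only [pow_succ, pow_zero, one_mul, y_mul]; ring)
    obtain ⟨k, hk⟩ : ∃ k, b.x = 2 * k := ⟨v, by push_cast at hv; omega⟩
    rw [hk] at h5
    push_cast at h5
    have : 2 * (2 * k ^ 2 - e) = 1 := by linear_combination h5
    omega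
  · have h6 := can (z := (2 * b.x - 1) * (2 * b.x + 1)) (by
      simp only [pow_succ, pow_zero, one_mul, y_mul, x_mul]; linear_combination b.y * hp2)
    have h7 : ∀ w : ℤ, 1 < w → w ∣ u → 3 ∣ w := fun w hw hd => by
      lift w to ℕ using (by omega)
      obtain ⟨q, hq, hd'⟩ := Nat.exists_prime_and_dvd (n := w) (by omega)
      rw [← show (q : ℤ) = 3 by
        rw [(hE q hq (dvd_trans (by exact_mod_cast hd') hd)).2.2]; rfl]
      exact_mod_cast hd'
    have := h7 _ (by omega) (h6 ▸ dvd_mul_right _ _)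
    have := h7 _ (by omega) (h6 ▸ dvd_mul_left _ _)
    omega
  · exact absurd hr (by norm_num)
  · have h6 := can (z := 16 * (b.x ^ 2 - 1) ^ 2 + 20 * (b.x ^ 2 - 1) + 5) (by
      simp only [pow_succ, pow_zero, one_mul, y_mul, x_mul]
      linear_combination b.y * (11 * b.x ^ 2 + D * b.y ^ 2 - 1) * hp2)
    rw [h5, hv] at h6
    push_cast at h6
    have : 5 * (v - 16 * e ^ 2 - 4 * e) = 1 := by linarith
    omega
  · exact absurd hr (by norm_num)
  · have h6 := can (z := 64 * (b.x ^ 2 - 1) ^ 3 + 112 * (b.x ^ 2 - 1) ^ 2 + 56 * (b.x ^ 2 - 1) + 7)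
      (by
      simp only [pow_succ, pow_zero, one_mul, y_mul, x_mul]
      linear_combination b.y * (57 * b.x ^ 4 - 23 * b.x ^ 2 + 1 + (22 * b.x ^ 2 - 1) * D * b.y ^ 2
        + D ^ 2 * b.y ^ 4) * hp2)
    rw [h5, hv] at h6
    push_cast at h6
    have : 7 * (v - 448 * e ^ 3 - 112 * e ^ 2 - 8 * e) = 1 := by linarith
    omega

theorem dvd_twelve (a : Solution₁ D) (hx : 1 < a.x) (hy : 0 < a.y) (h12 : 210 ∣ D * (a ^ 12).y)
    {k : ℕ} (hk : 0 < k) (h : ∀ q : ℕ, q.Prime → (q : ℤ) ∣ (a ^ k).y → q ≤ 7) : k ∣ 12 := by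
  by_contra hc
  obtain ⟨m, hm⟩ := Nat.gcd_dvd_left k 12
  obtain ⟨r, hr, n, rfl⟩ := Nat.exists_prime_and_dvd (n := m) (by
    rintro rfl
    exact hc (by rw [hm, mul_one]; exact Nat.gcd_dvd_right _ _))
  obtain ⟨j, hj⟩ : ∃ j, Nat.gcd k 12 * n = j + 1 := Nat.exists_eq_succ_of_ne_zero (by
    rintro e
    rw [mul_left_comm, e] at hm
    omega)
  have hy' := y_pow_succ_pos (show 0 < a.x by omega) hy j
  refine descent (a ^ (j + 1)) ?_ hy' hr fun q hq hd => ?_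
  · have h1 := x_pow_pos (show 0 < a.x by omega) (j + 1)
    by_contra h2
    rw [eq_one_of_x_eq_one (d_pos_of_one_lt_x hx).ne' (show (a ^ (j + 1)).x = 1 by omega)] at hy'
    simp at hy'
  rw [← pow_mul, ← hj, show Nat.gcd k 12 * n * r = k by rw [mul_assoc, mul_comm n, ← hm]] at hd
  refine ⟨h q hq hd, ?_⟩
  have h1 : (q : ℤ) ∣ D * (a ^ 12).y := by
    refine dvd_trans ?_ h12
    rcases le_seven hq (h q hq hd) with rfl | rfl | rfl | rfl <;> norm_num
  rcases (Nat.prime_iff_prime_int.1 hq).dvd_or_dvd h1 with h2 | h2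
  · exact h2.mul_right _
  let H : Subgroup (Solution₁ D) :=
    { carrier := {s | (q : ℤ) ∣ s.y}
      one_mem' := by simp
      mul_mem' := fun {s t} hs ht => by
        change (q : ℤ) ∣ (s * t).y
        rw [y_mul]
        exact dvd_add (Dvd.dvd.mul_left ht _) (Dvd.dvd.mul_right hs _)
      inv_mem' := fun {s} hs => by simpa using hs }
  have e : ∀ n : ℕ, (q : ℤ) ∣ (a ^ n).y ↔ (a : Solution₁ D ⧸ H) ^ n = 1 := fun n => by
    rw [← QuotientGroup.mk_pow, QuotientGroup.eq_one_iff]; rfl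
  refine Dvd.dvd.mul_left ((e _).2 ?_) _
  rw [← hj, pow_mul, pow_gcd_eq_one.2 ⟨(e _).1 hd, (e _).1 h2⟩, one_pow]

/-- Powers of a solution of the Pell equation. -/
def pw (D x y : ℤ) : ℕ → ℤ × ℤ
  | 0 => (1, 0)
  | n + 1 => ((pw D x y n).1 * x + D * ((pw D x y n).2 * y), (pw D x y n).1 * y + (pw D x y n).2 * x)

theorem pw_eq (a : Solution₁ D) (n : ℕ) : pw D a.x a.y n = ((a ^ n).x, (a ^ n).y) := by
  induction n with
  | zero => simp [pw]
  | succ n ih => rw [pw, ih, pow_succ, x_mul, y_mul]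

theorem dvd_pow_of_smooth {m N : ℕ} (h0 : m ≠ 0) (hN : m < 2 ^ N)
    (h : ∀ q : ℕ, q.Prime → q ∣ m → q ≤ 7) : m ∣ 210 ^ N := by
  refine (Nat.dvd_iff_prime_pow_dvd_dvd _ _).2 fun q k hq hd => ?_
  rcases Nat.eq_zero_or_pos k with rfl | hk
  · simp
  have h1 := h q hq ((dvd_pow_self q hk.ne').trans hd)
  have h2 := hq.two_le
  have h3 : k ≤ N := ((Nat.pow_lt_pow_iff_right one_lt_two).1 (((Nat.pow_le_pow_left h2 k).trans
    (Nat.le_of_dvd (by omega) hd)).trans_lt hN)).le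
  refine (pow_dvd_pow q h3).trans (pow_dvd_pow_of_dvd ?_ N)
  rcases le_seven hq h1 with rfl | rfl | rfl | rfl <;> norm_num

/-- The fundamental solutions. -/
def fund : List (ℕ × ℕ × ℕ) := [(2, 3, 2), (3, 2, 1), (5, 9, 4), (6, 5, 2), (7, 8, 3), (10, 19, 6),
  (14, 15, 4), (15, 4, 1), (21, 55, 12), (30, 11, 2), (35, 6, 1), (42, 13, 2), (70, 251, 30),
  (105, 41, 4), (210, 29, 2)]

/-- The smaller members of the pairs. -/
def sols : List ℕ := [1, 2, 3, 4, 5, 6, 7, 8, 9, 14, 15, 20, 24, 27, 35, 48, 49, 63, 80, 125, 224,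
  2400, 4374]

theorem fund_spec : ∀ t ∈ fund, (t.2.1 : ℤ) ^ 2 - t.1 * t.2.2 ^ 2 = 1 ∧ 1 < t.2.1 ∧ 0 < t.2.2 ∧
    (∀ x < t.2.1, ∀ y < x, 1 < x → x * x ≠ 1 + t.1 * (y * y)) ∧
    (210 : ℤ) ∣ t.1 * (pw t.1 t.2.1 t.2.2 12).2 ∧ ∀ k ∈ Nat.divisors 12,
      (pw t.1 t.2.1 t.2.2 k).1.toNat < 2 ^ 120 ∧
      ((pw t.1 t.2.1 t.2.2 k).1.toNat / 2 * ((pw t.1 t.2.1 t.2.2 k).1.toNat / 2 + 1) ∣ 210 ^ 240 →
        (pw t.1 t.2.1 t.2.2 k).1.toNat % 2 = 1 → (pw t.1 t.2.1 t.2.2 k).1.toNat / 2 ∈ sols) := by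
  decide +kernel

theorem mem_fund : ∀ D ∈ Nat.divisors 210, D = 1 ∨ ∃ t ∈ fund, t.1 = D := by decide +kernel

/-- Størmer's theorem. -/
theorem stormer {n : ℕ} (h0 : 0 < n) (h : ∀ q : ℕ, q.Prime → q ∣ n * (n + 1) → q ≤ 7) :
    n ∈ sols := by
  obtain ⟨D, b, hb, hD⟩ := Nat.sq_mul_squarefree (n * (n + 1))
  have h1 : D ∣ 210 := by
    rw [← Nat.prod_primeFactors_of_squarefree hD]
    refine (Finset.prod_dvd_prod_of_subset _ {2, 3, 5, 7} _ fun q hq => ?_).trans (by decide)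
    have h2 := Nat.prime_of_mem_primeFactors hq
    have h3 := h q h2 (hb ▸ (Nat.dvd_of_mem_primeFactors hq).mul_left _)
    rcases le_seven h2 h3 with rfl | rfl | rfl | rfl <;> simp
  rcases mem_fund D (Nat.mem_divisors.2 ⟨h1, by norm_num⟩) with rfl | ⟨⟨D, x, y⟩, ht, rfl⟩
  · have : n < b := lt_of_pow_lt_pow_left₀ 2 b.zero_le (by nlinarith)
    nlinarith
  obtain ⟨e, hx, hy, hm, h12, hk⟩ := fund_spec _ ht
  dsimp only at *
  let a : Solution₁ D := mk x y e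
  have hf : IsFundamental a := by
    refine ⟨by simpa [a] using hx, by simpa [a] using hy, fun {c} hc => ?_⟩
    by_contra hlt
    have h2 := c.prop_x
    have h3 : (0 : ℤ) < D := d_pos_of_one_lt_x hc
    have h4 : c.x.toNat < x := by simp only [a, x_mk] at hlt; omega
    refine hm c.x.toNat h4 c.y.natAbs ?_ (by omega) ?_
    · zify
      rw [Int.toNat_of_nonneg (by omega)]
      exact abs_lt_of_sq_lt_sq (by nlinarith [sq_nonneg c.y]) (by omega)
    · zify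
      rw [Int.toNat_of_nonneg (by omega), abs_mul_abs_self]
      linarith
  let c : Solution₁ D := mk (2 * n + 1) (2 * b) (by
    have : ((b ^ 2 * D : ℕ) : ℤ) = (n * (n + 1) : ℕ) := by rw [hb]
    push_cast at this
    linear_combination -4 * this)
  obtain ⟨k, hc⟩ := hf.eq_pow_of_nonneg (a := c) (by simp only [c, x_mk]; omega)
    (by simp only [c, y_mk]; omega)
  have e1 : (a ^ k).x = 2 * n + 1 := by rw [← hc]; rfl
  have e2 : (a ^ k).y = 2 * b := by rw [← hc]; rfl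
  have p := fun k => pw_eq a k
  simp only [a, x_mk, y_mk] at p
  have k0 : 0 < k := by
    rcases Nat.eq_zero_or_pos k with rfl | k0
    · simp at e1; omega
    · exact k0
  have := dvd_twelve a hf.1 hf.2.1 (by rw [p] at h12; exact h12) k0 fun q hq hd => by
    rw [e2] at hd
    rcases hq.dvd_mul.1 (show q ∣ 2 * b by exact_mod_cast hd) with h2 | h2
    · have := Nat.le_of_dvd two_pos h2; omega
    · exact h q hq (hb ▸ (dvd_pow h2 two_ne_zero).mul_right _)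
  obtain ⟨h2, h3⟩ := hk k (Nat.mem_divisors.2 ⟨this, by norm_num⟩)
  rw [p] at h2 h3
  change (a ^ k).x.toNat < _ at h2
  change (a ^ k).x.toNat / 2 * ((a ^ k).x.toNat / 2 + 1) ∣ _ → (a ^ k).x.toNat % 2 = 1 →
    (a ^ k).x.toNat / 2 ∈ sols at h3
  rw [show (a ^ k).x.toNat = 2 * n + 1 by omega] at h2 h3
  rw [show (2 * n + 1) / 2 = n by omega] at h3
  refine h3 (dvd_pow_of_smooth (by positivity) ?_ h) (by omega)
  calc n * (n + 1) < 2 ^ 120 * 2 ^ 120 := Nat.mul_lt_mul'' (by omega) (by omega)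
    _ = _ := by norm_num

end Cfsg.Agent.Ch.Stormer
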