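import Mathlib
import Cfsg.Agent.Ch.Stormer

set_option autoImplicit false

namespace Cfsg.Agent.Ch.Alex

/-- A loop. -/
def allB (n : ℕ) (f : ℕ → Bool) : Bool := Nat.rec true (fun k ih => f k && ih) n

theorem allB_iff {n : ℕ} {f : ℕ → Bool} : allB n f = true ↔ ∀ k < n, f k = true := by
  induction n with
  | zero => simp [allB]
  | succ n ih =>
    change (f n && allB n f) = true ↔ _
    rw [Bool.and_eq_true, ih, Nat.forall_lt_succ_right, and_comm]

/-- A bounded quantifier. -/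
def All (n : ℕ) (P : ℕ → Prop) [DecidablePred P] : Prop := allB n (fun k => decide (P k)) = true

instance (n : ℕ) (P : ℕ → Prop) [DecidablePred P] : Decidable (All n P) :=
  instDecidableEqBool _ _

theorem all_iff {n : ℕ} {P : ℕ → Prop} [DecidablePred P] : All n P ↔ ∀ k < n, P k := by
  simp [All, allB_iff]

/-- A bounded quantifier in two stages. -/
def Ball (n : ℕ) (P : ℕ → Prop) [DecidablePred P] : Prop :=
  All (n / 64 + 1) fun a => All 64 fun b => 64 * a + b < n → P (64 * a + b)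

instance (n : ℕ) (P : ℕ → Prop) [DecidablePred P] : Decidable (Ball n P) :=
  instDecidableEqBool _ _

theorem ball_iff {n : ℕ} {P : ℕ → Prop} [DecidablePred P] : Ball n P ↔ ∀ t < n, P t := by
  simp only [Ball, all_iff]
  exact ⟨fun h t ht => by
    have := h (t / 64) (by omega) (t % 64) (by omega) (by omega)
    rwa [Nat.div_add_mod] at this, fun h _ _ _ _ e => h _ e⟩

/-- The condition given by a central element of a Sylow subgroup. -/
def H' (p d D w q B : ℕ) : Prop := ¬ Ball (2 * d / B + 1) fun u =>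
  ¬ (0 < B * u ∧ (q - 1) * (B * u) ≤ q * d ∧ (p : ℤ) * w ^ 2 * ((d - (B * u : ℕ)) *
    (D - (B * u : ℕ))) ≤ w * (B * u : ℕ) * (w ^ 2 - 1))

instance (p d D w q B : ℕ) : Decidable (H' p d D w q B) := by unfold H'; infer_instance

/-- The condition given by a central element of a Sylow subgroup. -/
def H (p d D w q : ℕ) : Prop := q ∣ p * (d * D) * w ^ 2 → q ≠ p → H' p d D w q
  (Nat.gcd (q ^ 40) (p * (d * D) * w ^ 2) / Nat.gcd (Nat.gcd (q ^ 40) (p * (d * D) * w ^ 2)) w)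

instance (p d D w q : ℕ) : Decidable (H p d D w q) := by unfold H; infer_instance

theorem H.of {p d D w q : ℕ} (hw : 0 < w) (h : q ∣ p * (d * D) * w ^ 2 → q ≠ p → ∃ t ≤ 2 * d,
    Nat.gcd (q ^ 40) (p * (d * D) * w ^ 2) ∣ w * t ∧ 0 < t ∧ (q - 1) * t ≤ q * d ∧
      (p : ℤ) * w ^ 2 * ((d - t) * (D - t)) ≤ w * t * (w ^ 2 - 1)) : H p d D w q := by
  intro a b c
  obtain ⟨t, h1, h2, h3⟩ := h a b
  generalize Nat.gcd (q ^ 40) (p * (d * D) * w ^ 2) = Q at h2 c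
  have h4 := Nat.gcd_pos_of_pos_right Q hw
  have h5 : Q / Nat.gcd Q w ∣ t := by
    refine (Nat.coprime_div_gcd_div_gcd h4).dvd_of_dvd_mul_left (Nat.dvd_of_mul_dvd_mul_left h4 ?_)
    rwa [← mul_assoc, Nat.mul_div_cancel' (Nat.gcd_dvd_left _ _),
      Nat.mul_div_cancel' (Nat.gcd_dvd_right _ _)]
  generalize Q / Nat.gcd Q w = B at h5 c
  obtain ⟨u, rfl⟩ := h5
  refine ball_iff.1 c u (Nat.lt_succ_of_le ((Nat.le_div_iff_mul_le ?_).2 (mul_comm B u ▸ h1))) h3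
  exact Nat.pos_of_mul_pos_right h3.1

/-- The order is small and can only be that of one of the expected groups `L₂(q)`. -/
def L2 (g : ℕ) : Prop := g < 17000000000 ∧ Ball 3300 fun q =>
  Nat.gcd 2 (q - 1) * g = q * (q ^ 2 - 1) → 
    q ∈ [4, 5, 7, 8, 9, 16, 25, 27, 81, 2401] ∨ q ∈ [15, 21, 28, 35, 36, 63, 225]

instance (g : ℕ) : Decidable (L2 g) := by unfold L2; infer_instance

/-- The order is not that of `L₃(q)` or `U₃(q)`. -/
def L3 (g : ℕ) : Prop := ∀ q < 30, Nat.gcd 3 (q - 1) * g ≠ q ^ 3 * (q ^ 2 - 1) * (q ^ 3 - 1) ∧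
  Nat.gcd 3 (q + 1) * g ≠ q ^ 3 * (q ^ 2 - 1) * (q ^ 3 + 1)

instance (g : ℕ) : Decidable (L3 g) := by unfold L3; infer_instance

/-- The ways to finish. -/
def Fin' (p d D w g c : ℕ) : Prop :=
  (g / c % 4 = 1 ∧ g ≠ 2 ∧ g ≠ 2520 ∧ g ≠ 7920 ∧ L3 g ∧ L2 g) ∨
  (¬ 8 ∣ g ∧ g ≠ 175560 ∧ ¬ 19683 ∣ g ∧ L2 g) ∨ (c ∣ 2 ^ 6 ∧ 3 ∣ g ∧ L2 g) ∨
  (w = 1 ∧ d = p + 1 ∧ D = p + 2 ∧ c = d ∧ (3 ∣ d ∨ 5 ∣ d ∨ 7 ∣ d)) ∨
  (p = 13 ∧ d = 64 ∧ D = 63 ∧ c = 64 * w ∧ (w = 25 ∨ w = 105))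

instance (p d D w g c : ℕ) : Decidable (Fin' p d D w g c) := by unfold Fin'; infer_instance

/-- The test for given degrees and order. -/
def W (p d D t w : ℕ) : Prop := w ^ 2 % p = 1 → w * t ∣ p * (d * D) * w ^ 2 →
  ¬ 2 * (w * t) ∣ p * (d * D) * w ^ 2 →
  (p : ℤ) * w ^ 2 * ((d - t) * (D - t)) ≤ w * t * (w ^ 2 - 1) →
  H p d D w 3 → H p d D w 5 → H p d D w 7 → Fin' p d D w (p * (d * D) * w ^ 2) (w * t)

instance (p d D t w : ℕ) : Decidable (W p d D t w) := by unfold W; infer_instance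

/-- The enumeration of the orders. -/
def E (p d D t : ℕ) : Prop := All 14 fun i => 2 ^ i ≤ 2 * d → All 9 fun j => 3 ^ j ≤ 2 * d →
  All 6 fun k => 5 ^ k ≤ 2 * d → All 5 fun l => 7 ^ l ≤ 2 * d → W p d D t (2 ^ i * 3 ^ j * 5 ^ k * 7 ^ l)

instance (p d D t : ℕ) : Decidable (E p d D t) := by unfold E; infer_instance

/-- The enumeration for given degrees and value at an involution. -/
def Enum' (p d D t : ℕ) : Prop := 4 ∣ t → 0 < t →
  (p * (|(d : ℤ) - t| - (D - d)) : ℤ) ≤ 2 * d - D → E p d D t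

instance (p d D t : ℕ) : Decidable (Enum' p d D t) := by unfold Enum'; infer_instance

/-- The enumeration for given degrees. -/
def Enum (p d D : ℕ) : Prop :=
  All (2 * ((2 * d - D) / p) + 3) fun j => Enum' p d D (d + j - ((2 * d - D) / p + 1))

instance (p d D : ℕ) : Decidable (Enum p d D) := by unfold Enum; infer_instance

theorem enum : ∀ n ∈ Stormer.sols, Ball (n + 3) fun p => 5 ≤ p → p % 2 = 1 →
    (p ∣ n - 1 → Enum p n (n + 1)) ∧ (p ∣ n + 2 → Enum p (n + 1) n) := by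
  decide +kernel

theorem L2.mem {g q : ℕ} (h : L2 g) (hq : IsPrimePow q)
    (e : Nat.gcd 2 (q - 1) * g = q * (q ^ 2 - 1)) : q ∈ [4, 5, 7, 8, 9, 16, 25, 27, 81, 2401] := by
  have h1 : q < 3300 := by
    by_contra hc
    have h2 : 3300 * (3300 ^ 2 - 1) ≤ q * (q ^ 2 - 1) :=
      Nat.mul_le_mul (by omega) (Nat.sub_le_sub_right (Nat.pow_le_pow_left (by omega) 2) 1)
    have h3 : Nat.gcd 2 (q - 1) * g ≤ 2 * g :=
      Nat.mul_le_mul_right _ (Nat.gcd_le_left _ two_pos)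
    have := h.1
    omega
  refine (ball_iff.1 h.2 q h1 e).resolve_right fun hm => ?_
  have u : ∀ a b : ℕ, a.Prime → b.Prime → a ∣ q → b ∣ q → a = b := fun a b ha hb h1 h2 =>
    (isPrimePow_iff_unique_prime_dvd.1 hq).unique ⟨ha, h1⟩ ⟨hb, h2⟩
  have u1 := u 3 5 (by norm_num) (by norm_num)
  have u2 := u 3 7 (by norm_num) (by norm_num)
  have u3 := u 2 7 (by norm_num) (by norm_num)
  have u4 := u 5 7 (by norm_num) (by norm_num)
  have u5 := u 2 3 (by norm_num) (by norm_num)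
  simp only [List.mem_cons, List.not_mem_nil, or_false] at hm
  omega

theorem L3.ne {g q : ℕ} (h : L3 g) (h2 : L2 g) :
    Nat.gcd 3 (q - 1) * g ≠ q ^ 3 * (q ^ 2 - 1) * (q ^ 3 - 1) ∧
      Nat.gcd 3 (q + 1) * g ≠ q ^ 3 * (q ^ 2 - 1) * (q ^ 3 + 1) := by
  by_cases h1 : q < 30
  · exact h q h1
  have h3 : 30 ^ 3 * (30 ^ 2 - 1) * (30 ^ 3 - 1) ≤ q ^ 3 * (q ^ 2 - 1) * (q ^ 3 - 1) :=
    Nat.mul_le_mul (Nat.mul_le_mul (Nat.pow_le_pow_left (by omega) 3)
      (Nat.sub_le_sub_right (Nat.pow_le_pow_left (by omega) 2) 1))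
      (Nat.sub_le_sub_right (Nat.pow_le_pow_left (by omega) 3) 1)
  have h4 : q ^ 3 * (q ^ 2 - 1) * (q ^ 3 - 1) ≤ q ^ 3 * (q ^ 2 - 1) * (q ^ 3 + 1) :=
    Nat.mul_le_mul_left _ (by omega)
  have h5 : ∀ k, Nat.gcd 3 k * g ≤ 3 * g := fun k =>
    Nat.mul_le_mul_right _ (Nat.gcd_le_left _ (by norm_num))
  have := h5 (q - 1)
  have := h5 (q + 1)
  have := h2.1
  omega

theorem exists_pow {w : ℕ} (h0 : w ≠ 0) (h : ∀ q : ℕ, q.Prime → q ∣ w → q ≤ 7) :
    ∃ i j k l, w = 2 ^ i * 3 ^ j * 5 ^ k * 7 ^ l := by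
  have := Stormer.dvd_pow_of_smooth h0 Nat.lt_two_pow_self h
  rw [show 210 = 2 * 3 * 5 * 7 from rfl, mul_pow, mul_pow, mul_pow] at this
  obtain ⟨a, b, ha, hb, rfl⟩ := (Nat.dvd_mul ..).1 this
  obtain ⟨a, c, ha, hc, rfl⟩ := (Nat.dvd_mul ..).1 ha
  obtain ⟨a, d, ha, hd, rfl⟩ := (Nat.dvd_mul ..).1 ha
  obtain ⟨i, -, rfl⟩ := (Nat.dvd_prime_pow (by norm_num)).1 ha
  obtain ⟨j, -, rfl⟩ := (Nat.dvd_prime_pow (by norm_num)).1 hd
  obtain ⟨k, -, rfl⟩ := (Nat.dvd_prime_pow (by norm_num)).1 hc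
  obtain ⟨l, -, rfl⟩ := (Nat.dvd_prime_pow (by norm_num)).1 hb
  exact ⟨i, j, k, l, rfl⟩

/-- The result of the enumeration. -/
theorem fin {p d D w t : ℕ} (hp : 5 ≤ p) (hp2 : p % 2 = 1) (hd : 2 ≤ d) (hD : D = d + 1 ∨ d = D + 1)
    (hs : (p : ℤ) ∣ 2 * d - D) (sm : ∀ q : ℕ, q.Prime → q ∣ d * D * w → q ≤ 7)
    (h2 : 4 ∣ t) (h3 : 0 < t)
    (h4 : (p * (|(d : ℤ) - t| - (D - d)) : ℤ) ≤ 2 * d - D) (h5 : w ^ 2 % p = 1)
    (h6 : w * t ∣ p * (d * D) * w ^ 2) (h7 : ¬ 2 * (w * t) ∣ p * (d * D) * w ^ 2)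
    (h8 : (p : ℤ) * w ^ 2 * ((d - t) * (D - t)) ≤ w * t * (w ^ 2 - 1))
    (h9 : ∀ q : ℕ, q.Prime → H p d D w q)
    (h10 : ∀ q e : ℕ, q.Prime → q ^ e ∣ w → q ^ e ≤ 2 * d) :
    Fin' p d D w (p * (d * D) * w ^ 2) (w * t) := by
  have hE : Enum p d D := by
    rcases hD with rfl | rfl
    · have hn := Stormer.stormer (n := d) (by omega) fun q hq h => sm q hq (h.mul_right _)
      have : p ∣ d - 1 := by zify [show 1 ≤ d by omega]; convert hs using 1; push_cast; ring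
      exact (ball_iff.1 (enum d hn) p (by have := Nat.le_of_dvd (by omega) this; omega) hp hp2).1 this
    · have hn := Stormer.stormer (n := D) (by omega) fun q hq h =>
        sm q hq ((mul_comm D _ ▸ h).mul_right _)
      have : p ∣ D + 2 := by zify; convert hs using 1; push_cast; ring
      exact (ball_iff.1 (enum D hn) p (by have := Nat.le_of_dvd (by omega) this; omega) hp hp2).2 this
  have hb : d ≤ 4375 := by
    have : ∀ n ∈ Stormer.sols, n ≤ 4374 := by decide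
    rcases hD with rfl | rfl
    · have := this _ (Stormer.stormer (n := d) (by omega) fun q hq h => sm q hq (h.mul_right _))
      omega
    · have := this _ (Stormer.stormer (n := D) (by omega) fun q hq h =>
        sm q hq ((mul_comm D _ ▸ h).mul_right _))
      omega
  obtain ⟨i, j, k, l, rfl⟩ := exists_pow (w := w) (by rintro rfl; simp at h5)
    fun q hq h => sm q hq (h.mul_left _)
  have a1 := h10 2 i (by norm_num) (((dvd_mul_right _ _).mul_right _).mul_right _)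
  have a2 := h10 3 j (by norm_num) (((dvd_mul_left _ _).mul_right _).mul_right _)
  have a3 := h10 5 k (by norm_num) ((dvd_mul_left _ _).mul_right _)
  have a4 := h10 7 l (by norm_num) (dvd_mul_left _ _)
  have h1 : |(d : ℤ) - t| - (D - d) ≤ ((2 * d - D) / p : ℕ) := by
    rw [Int.natCast_div, Nat.cast_sub (by omega), Int.le_ediv_iff_mul_le (by omega), mul_comm]
    exact h4
  have hE := all_iff.1 hE (t + ((2 * d - D) / p + 1) - d) (by
    have := le_abs_self ((d : ℤ) - t)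
    have := neg_abs_le ((d : ℤ) - t)
    omega)
  rw [show d + (t + ((2 * d - D) / p + 1) - d) - ((2 * d - D) / p + 1) = t by
    have := le_abs_self ((d : ℤ) - t)
    omega] at hE
  replace hE := hE h2 h3 h4
  simp only [E, all_iff] at hE
  exact hE i ((Nat.pow_lt_pow_iff_right (a := 2) (by norm_num)).1 (by omega)) a1
    j ((Nat.pow_lt_pow_iff_right (a := 3) (by norm_num)).1 (by omega)) a2
    k ((Nat.pow_lt_pow_iff_right (a := 5) (by norm_num)).1 (by omega)) a3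
    l ((Nat.pow_lt_pow_iff_right (a := 7) (by norm_num)).1 (by omega)) a4 h5 h6 h7 h8
    (h9 3 (by norm_num)) (h9 5 (by norm_num)) (h9 7 (by norm_num))

end Cfsg.Agent.Ch.Alex
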