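import Mathlib
import Cfsg.Agent.Ch.AlexChar
import Cfsg.Agent.Ch.AlexNum

/-!
A self-centralizing subgroup of prime order with index two in its normalizer: the data, and the
exceptional orders.
-/

set_option autoImplicit false

namespace Cfsg.Agent.Ch.Alex

open Subgroup TI Ssc

variable {G : Type*} [Group G] [Fintype G]

/-- The properties of the non-exceptional character `v` of the principal `p`-block. -/
structure Dat (p d D w : ℕ) (v : G → ℤ) (τ : G) : Prop where
  card : Nat.card G = p * (d * D) * w ^ 2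
  hD : D = d + 1 ∨ d = D + 1
  two : 2 ≤ d
  one : v 1 = d
  lt : ∀ g ≠ 1, v g < d
  dvd : ∀ g ≠ 1, orderOf g ≠ p → (Nat.card (centralizer ({g} : Set G)) : ℤ) ∣ w * (d - v g)
  cent : (Nat.card (centralizer ({τ} : Set G)) : ℤ) = w * (d - v τ)
  ord : orderOf τ = 2
  conj : ∀ t, orderOf t = 2 → IsConj t τ
  cf : ∀ g h, IsConj g h → v g = v h
  sum : ∀ X : Finset G, (∀ g ∈ X, g ≠ 1 ∧ orderOf g ≠ p) →
    ∑ g ∈ X, v g * (v g + (D - d)) ≤ d * D * (w ^ 2 - 1)
  sq : ∑ g, v g ^ 2 = Nat.card G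
  val : ∀ g, orderOf g = p → v g = D - d
  pow : ∀ q : ℕ, q.Prime → ∀ g, v g ≡ v (g ^ q) [ZMOD q]
  sub : ∀ (H : Subgroup G) [Fintype H], 0 ≤ ∑ x : H, v x
  four : 4 ∣ d - v τ
  abs : p * (|v τ| - (D - d)) ≤ 2 * d - D
  mod : (p : ℤ) ∣ 2 * d - D
  modw : w ^ 2 % p = 1

theorem exists_dat [IsSimpleGroup G] {A : Subgroup G} {τ : G} (hI : Iv A τ)
    (he : A.relIndex (normalizer (A : Set G)) = 2)
    (hN : ∀ n ∈ normalizer (A : Set G), n ∈ A ∨ n * τ ∈ A) (h5 : 5 ≤ Nat.card A)
    (hp : (Nat.card A).Prime) : ∃ d D w v, Dat (Nat.card A) d D w v τ := by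
  obtain ⟨χ, δ, T, h⟩ := hI.exists_two he hN h5
  obtain ⟨x, hx, hx'⟩ := h.exists_val hI.ord
  obtain ⟨h1, s, hs⟩ := hI.sc.const hI.ne h.val
  obtain ⟨Λ, hΛ⟩ := h.nonempty h5
  have hD := h.degree hΛ
  have hodd : ¬ (2 : ℤ) ∣ Nat.card A := by exact_mod_cast hI.odd
  obtain ⟨w, hw, hG, hc⟩ := Ssc.exists_w h.sgn (by exact_mod_cast Nat.card_pos) hodd
    (by exact_mod_cast χ.2.charDegree_pos) (by rw [← hD]; exact_mod_cast Λ.2.charDegree_pos)
    (by exact_mod_cast Nat.card_pos) hx' hs (h.order' hI h5 hx)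
    (by exact_mod_cast card_subgroup_dvd_card A) (by exact_mod_cast χ.2.charDegree_dvd_card)
    (by rw [← hD]; exact_mod_cast Λ.2.charDegree_dvd_card)
  have cj : ∀ g : G, Cj A g ↔ orderOf g = Nat.card A := fun g =>
    ⟨fun e => ((Nat.dvd_prime hp).1 e.dvd).resolve_left fun e' => e.1 (orderOf_eq_one_iff.1 e'),
      fun e => hI.sc.cj_of_dvd hp dvd_rfl e.symm.dvd⟩
  have hv : ∀ g, ∃ k : ℤ, (χ : G → ℂ) g = k := fun g => by
    by_cases g1 : g = 1
    · exact ⟨charDegree (χ : G → ℂ), by rw [g1, ← χ.2.coe_charDegree]; rfl⟩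
    by_cases hg : Cj A g
    · exact ⟨δ, h.apply_cj hI hg⟩
    · exact (h.exists_dvd hI h5 hx hw hx' hG hc g1 hg).imp fun _ e => e.1
  choose v hv using hv
  have inj : ∀ {g k}, (χ : G → ℂ) g = (k : ℤ) → v g = k := fun {g k} e => by
    exact_mod_cast (hv g).symm.trans e
  have v1 : v 1 = charDegree (χ : G → ℂ) := inj (by rw [← χ.2.coe_charDegree]; rfl)
  have np : ¬ (Nat.card G).Prime := fun e => by
    have h2 := (Nat.prime_dvd_prime_iff_eq Nat.prime_two e).1 (hI.ord ▸ orderOf_dvd_natCard τ)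
    have := Nat.le_of_dvd Nat.card_pos (card_subgroup_dvd_card A)
    omega
  have ne : (χ : G → ℂ) ≠ fun _ => 1 := fun e => h.ne (Subtype.ext e)
  have hδ : δ = charDegree (Λ : G → ℂ) - charDegree (χ : G → ℂ) := by omega
  obtain ⟨k, hk⟩ := hI.card_eq he (by norm_num)
  lift w to ℕ using hw.le
  refine ⟨charDegree (χ : G → ℂ), charDegree (Λ : G → ℂ), w, v, by exact_mod_cast hD ▸ hG,
    by have := h.sgn; omega, Inv.CT.two_le_degree (Inv.CT.commutator_eq_top np) χ.2 ne, v1,
    fun g hg => ?_, fun g g1 hg => ?_, by rw [inj hx, hc], hI.ord, fun t => h.isConj hI h5,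
    fun g k e => inj ((χ.2.isCharacter.isClassFunction.eq_of_isConj e).trans (hv k)),
    fun X hX => ?_, ?_, fun g hg => hδ ▸ inj (h.apply_cj hI ((cj g).2 hg)),
    fun q hq g => Inv.CT.modEq_of_pow χ.2.isCharacter hq g (hv _) (hv _), fun H _ => ?_, ?_, ?_,
    ⟨s, by omega⟩, ?_⟩
  · have := Inv.CT.norm_lt_of_simple (Inv.CT.center_eq_bot np) χ.2 ne hg
    rw [hv, Complex.norm_intCast] at this
    exact_mod_cast (le_abs_self _).trans_lt this
  · obtain ⟨k, h2, h3⟩ := h.exists_dvd hI h5 hx hw hx' hG hc g1 (mt (cj g).1 hg)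
    rwa [inj h2]
  · have h2 := h.sum_le hI he hv X fun g hg => ⟨(hX g hg).1, mt (cj g).1 (hX g hg).2⟩
    have h3 : (A.index : ℤ) = charDegree (χ : G → ℂ) * (charDegree (χ : G → ℂ) + δ) * w ^ 2 :=
      mul_left_cancel₀ (a := (Nat.card A : ℤ)) (by omega) (by
        rw [← mul_assoc, ← hG]; exact_mod_cast A.card_mul_index)
    rw [← hδ, hD]
    rw [v1, h3] at h2
    linarith
  · have b := χ.2.sum_norm_sq
    simp only [hv, Complex.norm_intCast, sq_abs] at b
    exact_mod_cast b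
  · obtain ⟨n, hn⟩ := Inv.CT.exists_sum_subgroup χ.2.isCharacter H
    simp only [hv] at hn
    rw [show ∑ x : H, v x = Nat.card H * n by exact_mod_cast hn]
    positivity
  · obtain ⟨j, -, hj⟩ := Inv.CT.exists_invol (Inv.CT.commutator_eq_top np) χ.2.isCharacter (u := τ)
      (by rw [pow_two, hI.sq])
    exact ⟨j, by rw [inj (k := charDegree (χ : G → ℂ) - 4 * j) (by rw [hj]; push_cast; rfl)]; ring⟩
  · have := hI.abs_val_le χ.2.isCharacter h1 hs hx
    rw [inj hx, ← hδ, show (2 * charDegree (χ : G → ℂ) - charDegree (Λ : G → ℂ) : ℤ) =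
      Nat.card A * s by omega]
    exact mul_le_mul_of_nonneg_left (by omega) (by omega)
  · have n2 : IsCoprime (Nat.card A : ℤ) 2 := ((Prime.coprime_iff_not_dvd Int.prime_two).2 hodd).symm
    have sq := h.sq
    have : (Nat.card A : ℤ) ∣ w ^ 2 - 1 := n2.dvd_of_dvd_mul_left
      ⟨2 * k - (3 * δ * s + Nat.card A * s ^ 2) * w ^ 2, mul_left_cancel₀ (a := (Nat.card A : ℤ))
        (by omega) (by
        rw [hs] at hG
        push_cast at hk
        linear_combination hk - hG - 2 * Nat.card A * w ^ 2 * sq)⟩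
    rw [← Nat.mod_eq_of_lt (show 1 < Nat.card A by omega)]
    exact (Nat.modEq_iff_dvd.2 (by exact_mod_cast this)).symm

namespace Dat

variable {p d D w : ℕ} {v : G → ℤ} {τ : G} (h : Dat p d D w v τ)
include h

theorem sum_cls (g : G) : ∑ x ∈ cls g, v x * (v x + (D - d)) =
    (centralizer ({g} : Set G)).index * (v g * (v g + (D - d))) := by
  rw [Finset.sum_congr rfl fun x hx => by rw [← h.cf g x (mem_cls.1 hx)], Finset.sum_const,
    card_cls, nsmul_eq_mul]

omit h in
theorem of_cls {g x : G} (g1 : g ≠ 1) (hg : orderOf g ≠ p) (hx : x ∈ cls g) :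
    x ≠ 1 ∧ orderOf x ≠ p :=
  ⟨fun e => g1 (isConj_one_left.1 (e ▸ mem_cls.1 hx)), orderOf_of_mem_cls hx ▸ hg⟩

theorem ineq {g : G} (g1 : g ≠ 1) (hg : orderOf g ≠ p) :
    (p : ℤ) * w ^ 2 * (v g * (v g + (D - d))) ≤
      Nat.card (centralizer ({g} : Set G)) * (w ^ 2 - 1) := by
  have h1 := h.sum _ fun x => of_cls g1 hg
  have h2 : ((centralizer ({g} : Set G)).index : ℤ) * Nat.card (centralizer ({g} : Set G)) =
      p * (d * D) * w ^ 2 := by exact_mod_cast (index_mul_card _).trans h.card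
  rw [h.sum_cls] at h1
  have h3 : (0 : ℤ) < d * D := by
    have := h.hD
    have := h.two
    exact mul_pos (by omega) (by omega)
  refine le_of_mul_le_mul_left ?_ h3
  have := mul_le_mul_of_nonneg_left h1 (Nat.cast_nonneg (Nat.card (centralizer ({g} : Set G))))
  calc _ = p * (d * D) * w ^ 2 * (v g * (v g + (D - d))) := by ring
    _ ≤ _ := by rw [← h2]; linarith

theorem ineq₂ {g k : G} (g1 : g ≠ 1) (hg : orderOf g ≠ p) (k1 : k ≠ 1) (hk : orderOf k ≠ p)
    (hc : ¬ IsConj g k) {c r : ℤ} (e : (Nat.card (centralizer ({g} : Set G)) : ℤ) = c)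
    (hr : c * (d * D * (w ^ 2 - 1) - r) = Nat.card G * (v g * (v g + (D - d)))) :
    Nat.card G * (v k * (v k + (D - d))) ≤ r * Nat.card (centralizer ({k} : Set G)) := by
  classical
  have h1 := h.sum (cls g ∪ cls k) fun x hx =>
    (Finset.mem_union.1 hx).elim (of_cls g1 hg) (of_cls k1 hk)
  rw [Finset.sum_union (Finset.disjoint_left.2 fun x a b =>
    hc ((mem_cls.1 a).trans (mem_cls.1 b).symm)), h.sum_cls, h.sum_cls] at h1
  have h2 : ∀ x : G, (Nat.card G : ℤ) = (centralizer ({x} : Set G)).index *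
      Nat.card (centralizer ({x} : Set G)) := fun x => by exact_mod_cast (index_mul_card _).symm
  have c0 : 0 < c := by rw [← e]; exact_mod_cast Nat.card_pos
  rw [h2 g, e, mul_comm _ c, mul_assoc c, mul_right_inj' c0.ne'] at hr
  rw [h2 k, mul_right_comm]
  exact mul_le_mul_of_nonneg_right (by linarith) (Nat.cast_nonneg _)

theorem central {q : ℕ} (hq : q.Prime) (hd : q ∣ Nat.card G) : ∃ z : G, orderOf z = q ∧
    (∀ k, q ^ k ∣ Nat.card G → q ^ k ∣ Nat.card (centralizer ({z} : Set G))) ∧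
      0 ≤ d + (q - 1) * v z := by
  classical
  have := Fact.mk hq
  obtain ⟨P⟩ : Nonempty (Sylow q G) := inferInstance
  obtain ⟨z, -, h1, h2⟩ := GT.CN.exists_central (H := (P : Subgroup G)) P.2.isNilpotent hq
    (P.dvd_card_of_dvd_card hd)
  have hc : (Finset.univ.erase (1 : zpowers z)).card = q - 1 := by
    rw [Finset.card_erase_of_mem (Finset.mem_univ _), Finset.card_univ, Fintype.card_zpowers, h1]
  obtain ⟨y, hy, hm⟩ := Finset.exists_max_image (Finset.univ.erase (1 : zpowers z))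
    (fun x => v x) (Finset.card_pos.1 (by have := hq.two_le; omega))
  refine ⟨y, ((Nat.dvd_prime hq).1 (h1 ▸ orderOf_dvd_of_mem_zpowers y.2)).resolve_left fun e =>
    Finset.ne_of_mem_erase hy (Subtype.ext (orderOf_eq_one_iff.1 e)), fun k hk =>
      (P.pow_dvd_card_of_pow_dvd_card hk).trans (card_dvd_of_le fun g hg => ?_), ?_⟩
  · obtain ⟨i, hi⟩ := y.2
    rw [mem_centralizer_singleton_iff, ← hi]
    exact (h2 g hg).zpow_right i
  · have h3 := h.sub (zpowers z)
    have h4 := Finset.sum_le_card_nsmul _ _ _ hm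
    rw [← Finset.add_sum_erase _ _ (Finset.mem_univ 1), OneMemClass.coe_one, h.one] at h3
    rw [hc, nsmul_eq_mul, Nat.cast_pred hq.pos] at h4
    linarith

theorem le {g : G} (g1 : g ≠ 1) (hg : orderOf g ≠ p) :
    (Nat.card (centralizer ({g} : Set G)) : ℤ) ≤ w * (d - v g) := by
  have : w ≠ 0 := by rintro rfl; simpa using h.modw
  exact Int.le_of_dvd (mul_pos (by omega) (sub_pos.2 (h.lt g g1))) (h.dvd g g1 hg)

theorem central' {q : ℕ} (hq : q.Prime) (hd : q ∣ Nat.card G) (hp : q ≠ p) : ∃ t ≤ 2 * d,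
    (∀ k, q ^ k ∣ Nat.card G → q ^ k ∣ w * t) ∧ 0 < t ∧ (q - 1) * t ≤ q * d ∧
      (p : ℤ) * w ^ 2 * ((d - t) * (D - t)) ≤ w * t * (w ^ 2 - 1) := by
  obtain ⟨z, h1, h2, h3⟩ := h.central hq hd
  have z1 : z ≠ 1 := by rintro rfl; exact hq.one_lt.ne (by simpa using h1)
  have h4 := h.lt z z1
  obtain ⟨t, ht⟩ := Int.eq_ofNat_of_zero_le (sub_pos.2 h4).le
  have h5 : (q - 1) * t ≤ q * d := by
    zify [hq.one_lt.le]
    rw [← ht]; linarith
  have h6 := h.dvd z z1 (h1 ▸ hp)
  have h7 := h.le z1 (h1 ▸ hp)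
  rw [ht] at h6 h7
  refine ⟨t, Nat.le_of_mul_le_mul_left (c := q - 1) (h5.trans ?_) (by have := hq.two_le; omega),
    fun k hk => (h2 k hk).trans (by exact_mod_cast h6), by omega, h5, ?_⟩
  · rw [← mul_assoc]
    exact Nat.mul_le_mul_right _ (by have := hq.two_le; omega)
  · have h8 := h.ineq z1 (h1 ▸ hp)
    rw [show v z + (D - d) = D - t by omega, show v z = d - t by omega] at h8
    refine h8.trans (mul_le_mul_of_nonneg_right h7 (sub_nonneg.2 (one_le_pow₀ ?_)))
    have : w ≠ 0 := by rintro rfl; simpa using h.modw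
    omega

theorem odd_index : ¬ 2 * Nat.card (centralizer ({τ} : Set G)) ∣ Nat.card G := fun hd => by
  obtain ⟨z, h1, h2, -⟩ := h.central Nat.prime_two (h.ord ▸ orderOf_dvd_natCard τ)
  rw [Inv.card_centralizer_eq_of_isConj (h.conj z h1)] at h2
  obtain ⟨e, m, h3, h4⟩ := Nat.exists_eq_two_pow_mul_odd
    (Nat.card_pos (α := centralizer ({τ} : Set G))).ne'
  have h5 := h2 (e + 1) (dvd_trans ⟨m, by rw [h4]; ring⟩ hd)
  rw [h4, pow_succ, Nat.mul_dvd_mul_iff_left (by positivity)] at h5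
  exact (Nat.not_even_iff_odd.2 h3) (even_iff_two_dvd.2 h5)

theorem fin (hp : p.Prime) (h5 : 5 ≤ p) (sm : ∀ q : ℕ, q.Prime → q ∣ Nat.card G → q ≠ p → q ≤ 7) :
    Fin' p d D w (Nat.card G) (Nat.card (centralizer ({τ} : Set G))) := by
  have τ1 : τ ≠ 1 := by rintro rfl; simpa using h.ord
  have w0 : w ≠ 0 := by rintro rfl; simpa using h.modw
  have pw : ¬ p ∣ w := fun e => by
    have := h.modw
    rw [Nat.mod_eq_zero_of_dvd (dvd_pow e two_ne_zero)] at this
    omega
  have hD := h.hD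
  have := h.two
  have h1 := h.lt τ τ1
  obtain ⟨t, ht⟩ := Int.eq_ofNat_of_zero_le (sub_pos.2 h1).le
  have hc : Nat.card (centralizer ({τ} : Set G)) = w * t := by exact_mod_cast ht ▸ h.cent
  have hi := h.ineq τ1 (by rw [h.ord]; omega)
  have ho := h.odd_index
  have hd := card_subgroup_dvd_card (centralizer ({τ} : Set G))
  have hw : ∀ {k}, k ∣ w → k ∣ Nat.card G := fun e =>
    h.card ▸ (dvd_pow e two_ne_zero).mul_left _
  rw [show v τ + (D - d) = D - t by omega, show v τ = d - t by omega, hc] at hi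
  rw [hc, h.card] at hd ho ⊢
  refine Alex.fin h5 (hp.eq_two_or_odd.resolve_left (by omega)) h.two hD h.mod
    (fun q hq e => sm q hq ?_ ?_) (by have := h.four; omega) (by omega)
    (by rw [show (d : ℤ) - t = v τ by omega]; exact h.abs) h.modw hd ho (by exact_mod_cast hi)
    (fun q hq => H.of (by omega) fun a b => ?_) fun q e hq he => ?_
  · rw [h.card, pow_two, ← mul_assoc, mul_assoc p]
    exact (e.mul_left _).mul_right _
  · rintro rfl
    have h2 := h.mod
    have h3 : ∀ k : ℤ, (q : ℤ) ∣ k → |k| ≤ 2 → k = 0 := fun k a b =>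
      Int.eq_zero_of_abs_lt_dvd a (by omega)
    rcases hq.dvd_mul.1 e with e | e
    · rcases hq.dvd_mul.1 e with e | e <;> replace e := Int.natCast_dvd_natCast.2 e
      · have := h3 (d - D) (by rw [show (d : ℤ) - D = 2 * d - D - d by ring]; exact dvd_sub h2 e)
          (abs_le.2 (by omega))
        omega
      · have := h3 (2 * (d - D)) (by
          rw [show 2 * ((d : ℤ) - D) = 2 * d - D - D by ring]; exact dvd_sub h2 e)
          (abs_le.2 (by omega))
        omega
    · exact pw e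
  · obtain ⟨t, h2, h3, h4⟩ := h.central' hq (h.card ▸ a) b
    obtain ⟨k, -, hk⟩ := (Nat.dvd_prime_pow hq).1 (Nat.gcd_dvd_left (q ^ 40) (p * (d * D) * w ^ 2))
    exact ⟨t, h2, hk ▸ h3 k (by rw [← hk, h.card]; exact Nat.gcd_dvd_right _ _), h4⟩
  · rcases Nat.eq_zero_or_pos e with rfl | e0
    · rw [pow_zero]; omega
    have h2 := (dvd_pow_self q e0.ne').trans he
    obtain ⟨t, h3, h4, h6, -⟩ := h.central' hq (hw h2) fun e => pw (e ▸ h2)
    obtain ⟨f, m, h7, rfl⟩ := Nat.exists_eq_pow_mul_and_not_dvd w0 q hq.one_lt.ne'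
    have c : ∀ k, (q ^ k).Coprime m := fun k => ((Nat.Prime.coprime_iff_not_dvd hq).2 h7).pow_left k
    have h8 := h4 (f + f) (by rw [h.card, mul_pow, ← pow_mul, mul_two]; exact
      (dvd_mul_right _ _).mul_left _)
    rw [pow_add, mul_assoc, Nat.mul_dvd_mul_iff_left (pow_pos hq.pos _)] at h8
    exact (Nat.le_of_dvd h6 (((c e).dvd_of_dvd_mul_right he).trans
      ((c f).dvd_of_dvd_mul_left h8))).trans h3

theorem not_zeros (hw : w = 1) (hd : d = p + 1) (hD : D = p + 2)
    (hc : Nat.card (centralizer ({τ} : Set G)) = d) {r : ℕ} (hr : r.Prime) (h2 : r ≠ 2)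
    (hrd : r ∣ d) : False := by
  classical
  subst hw hd hD
  have := Fact.mk hr
  have rp : r ≠ p := by
    rintro rfl
    exact hr.one_lt.ne' (Nat.dvd_one.1 ((Nat.dvd_add_right dvd_rfl).1 hrd))
  have p0 : (0 : ℤ) < p := by have := h.two; omega
  obtain ⟨z, hz⟩ := exists_prime_orderOf_dvd_card' (G := G) r
    (h.card ▸ ((hrd.mul_right _).mul_left _).mul_right _)
  have z1 : z ≠ 1 := by rintro rfl; exact hr.one_lt.ne (by simpa using hz)
  have h1 : ∀ g ≠ 1, orderOf g ≠ p → v g = 0 ∨ v g = -1 := fun g g1 hg => by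
    have := h.ineq g1 hg
    push_cast at this
    have : v g * (v g + 1) ≤ 0 := le_of_mul_le_mul_left (by linarith) p0
    by_contra hc
    rcases (show v g ≤ -2 ∨ 1 ≤ v g by omega) with e | e <;> nlinarith
  have vz : v z = 0 := (h1 z z1 (hz ▸ rp)).resolve_right fun e => by
    have h3 := h.dvd z z1 (hz ▸ rp)
    have h4 : r ∣ Nat.card (centralizer ({z} : Set G)) :=
      hz ▸ orderOf_dvd_natCard _ (mem_centralizer_singleton_iff.2 rfl)
    rw [e] at h3
    have h5 : r ∣ p + 1 + 1 := by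
      have := (Int.natCast_dvd_natCast.2 h4).trans h3
      simp only [Nat.cast_one, one_mul, sub_neg_eq_add] at this
      exact_mod_cast this
    exact hr.one_lt.ne' (Nat.dvd_one.1 ((Nat.dvd_add_right hrd).1 h5))
  have vτ : v τ = 0 := by have := h.cent; rw [hc] at this; push_cast at this; omega
  have n1 : z ∉ cls τ := fun e => h2 (by rw [← hz, orderOf_of_mem_cls e, h.ord])
  have n2 : (1 : G) ∉ insert z (cls τ) := fun e => (Finset.mem_insert.1 e).elim (z1 ·.symm)
    fun e => by simpa [h.ord] using orderOf_of_mem_cls e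
  have h3 := h.sq
  have h4 := Finset.sum_le_card_nsmul (Finset.univ \ insert 1 (insert z (cls τ))) (fun g => v g ^ 2)
    1 fun g hg => by
      have g1 : g ≠ 1 := by rintro rfl; simp at hg
      by_cases e : orderOf g = p
      · rw [h.val g e]; simp
      · rcases h1 g g1 e with e | e <;> simp [e]
  rw [← Finset.sum_sdiff (Finset.subset_univ (insert 1 (insert z (cls τ)))), Finset.sum_insert n2,
    Finset.sum_insert n1, Finset.sum_eq_zero (s := cls τ) fun x hx => by
      rw [← h.cf τ x (mem_cls.1 hx), vτ]; rfl, vz, h.one] at h3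
  have h5 := Finset.card_sdiff_add_card_eq_card (Finset.subset_univ (insert 1 (insert z (cls τ))))
  rw [Finset.card_insert_of_notMem n2, Finset.card_insert_of_notMem n1, card_cls,
    Finset.card_univ, ← Nat.card_eq_fintype_card] at h5
  have h6 := index_mul_card (centralizer ({τ} : Set G))
  rw [hc, h.card] at h6
  have h7 : (centralizer ({τ} : Set G)).index = p * (p + 2) :=
    Nat.eq_of_mul_eq_mul_right (show 0 < p + 1 by omega) (by rw [h6]; ring)
  rw [h7] at h5
  zify at h5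
  rw [nsmul_eq_mul] at h4
  push_cast at h3
  linarith

end Dat

theorem mem_cent {z u : G} (h : u ∈ centralizer ({z} : Set G)) : z ∈ centralizer ({u} : Set G) :=
  mem_centralizer_singleton_iff.2 (mem_centralizer_singleton_iff.1 h).symm

theorem ne_one {z : G} {n : ℕ} (h : orderOf z = n + 2) : z ≠ 1 := by
  rintro rfl; simp at h

theorem Dat.not_a {v : G → ℤ} {τ : G} (h : Dat 13 64 63 25 v τ)
    (hc : Nat.card (centralizer ({τ} : Set G)) = 64 * 25) : False := by
  have hG : Nat.card G = 32760000 := h.card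
  have := Fact.mk Nat.prime_five
  obtain ⟨z, h1, h2, h3⟩ := h.central Nat.prime_five (by rw [hG]; norm_num)
  have h4 := h.dvd z (ne_one h1) (by omega)
  have h5 := h.ineq (ne_one h1) (by omega)
  have h6 := h.le (ne_one h1) (by omega)
  have h7 := h.lt z (ne_one h1)
  have h8 := Int.natCast_dvd_natCast.2 (h2 4 (by rw [hG]; norm_num))
  have h9 := h8.trans h4
  push_cast at *
  have vz : v z = -11 := by
    have : v z = 39 ∨ v z = 14 ∨ v z = -11 := by omega
    rcases this with e | e | e <;> rw [e] at h5 h6 <;> omega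
  rw [vz] at h5 h6
  have cz : (Nat.card (centralizer ({z} : Set G)) : ℤ) = 1875 := by omega
  obtain ⟨⟨y, hy⟩, y5⟩ := exists_prime_orderOf_dvd_card' (G := centralizer ({τ} : Set G)) 5
    (by rw [hc]; norm_num)
  rw [Subgroup.orderOf_mk] at y5
  have k1 := Int.natCast_dvd_natCast.2 (h.ord ▸ orderOf_dvd_natCard _ (mem_cent hy))
  have k2 := h.ineq₂ (ne_one h1) (by omega) (ne_one y5) (by omega) (fun e => by
    rw [← Inv.card_centralizer_eq_of_isConj e] at k1; omega) cz (r := 209664)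
    (by rw [hG, vz]; norm_num)
  have k3 := h.le (ne_one y5) (by omega)
  have k4 := k1.trans (h.dvd y (ne_one y5) (by omega))
  have k5 := h.pow 5 Nat.prime_five y
  rw [← y5, pow_orderOf_eq_one, h.one, y5, Int.ModEq] at k5
  rw [hG] at k2
  push_cast at *
  obtain ⟨j, hj⟩ : ∃ j, v y = 10 * j + 4 := ⟨(v y - 4) / 10, by omega⟩
  rw [hj] at k2 k3
  rcases le_or_gt 0 j with e | e <;> nlinarith

theorem Dat.not_b {v : G → ℤ} {τ : G} (h : Dat 13 64 63 105 v τ) : False := by
  have hG : Nat.card G = 577886400 := h.card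
  have := Fact.mk Nat.prime_five
  obtain ⟨z, h1, h2, h3⟩ := h.central Nat.prime_seven (by rw [hG]; norm_num)
  have h4 := h.dvd z (ne_one h1) (by omega)
  have h5 := h.ineq (ne_one h1) (by omega)
  have h7 := h.lt z (ne_one h1)
  have h8 := Int.natCast_dvd_natCast.2 (h2 3 (by rw [hG]; norm_num))
  have h9 := h8.trans h4
  push_cast at *
  have vz : v z = 15 := by omega
  rw [vz] at h5 h4
  have cz : (Nat.card (centralizer ({z} : Set G)) : ℤ) = 5145 := by
    obtain ⟨k, hk⟩ := h8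
    rw [hk] at h4 h5 ⊢
    have := Int.le_of_dvd (by norm_num) h4
    have : 7 < k := by omega
    have : k ≤ 15 := by omega
    interval_cases k <;> omega
  have key : ∀ {k : G} {n : ℕ}, orderOf k = n + 2 → n ≠ 5 → n ≠ 11 →
      577886400 * (v k * (v k + -1)) ≤ 20861568 * Nat.card (centralizer ({k} : Set G)) :=
    fun {k n} a b c => by
      have := h.ineq₂ (ne_one h1) (by omega) (ne_one a) (by omega) (fun e => by
        have := orderOf_of_mem_cls (mem_cls.2 e); omega) cz (r := 20861568)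
        (by rw [hG, vz]; norm_num)
      rw [hG] at this
      exact_mod_cast this
  obtain ⟨⟨u, hu⟩, u5⟩ := exists_prime_orderOf_dvd_card' (G := centralizer ({z} : Set G)) 5
    (by omega)
  rw [Subgroup.orderOf_mk] at u5
  have hc : Commute u z := mem_centralizer_singleton_iff.1 hu
  have e5 : u ^ 5 = 1 := u5 ▸ pow_orderOf_eq_one u
  have e7 : z ^ 7 = 1 := h1 ▸ pow_orderOf_eq_one z
  have o1 : orderOf (u * z) = 35 := by
    rw [hc.orderOf_mul_eq_mul_orderOf_of_coprime (by rw [u5, h1]; norm_num), u5, h1]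
  have o2 : orderOf (u ^ 7) = 5 := by rw [orderOf_pow' _ (by norm_num), u5]; norm_num
  have a1 := key o1 (by omega) (by omega)
  have a2 := h.dvd _ (ne_one o1) (by omega)
  have a3 : (Nat.card (centralizer ({u * z} : Set G)) : ℤ) ∣ 5145 := by
    rw [← cz]
    refine Int.natCast_dvd_natCast.2 (card_dvd_of_le fun g hg => ?_)
    have := (show Commute g (u * z) from mem_centralizer_singleton_iff.1 hg).pow_right 15
    rw [hc.mul_pow, show 15 = 5 * 3 from rfl, pow_mul, e5, one_pow, one_mul,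
      show 5 * 3 = 7 * 2 + 1 from rfl, pow_succ, pow_mul, e7, one_pow, one_mul] at this
    exact mem_centralizer_singleton_iff.2 this
  have a4 := h.pow 5 Nat.prime_five (u * z)
  have a5 := h.pow 5 Nat.prime_five z
  have a6 := h.pow 7 Nat.prime_seven (u * z)
  have a7 := h.pow 5 Nat.prime_five (u ^ 7)
  rw [hc.mul_pow, e5, one_mul] at a4
  rw [hc.mul_pow, e7, mul_one] at a6
  rw [← pow_mul, mul_comm, pow_mul, e5, one_pow, h.one] at a7
  rw [vz] at a5
  have a8 := Int.le_of_dvd (by norm_num) a3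
  simp only [Int.ModEq] at a4 a5 a6 a7
  push_cast at *
  have vg : v (u * z) = 0 := by
    obtain ⟨j, hj⟩ : ∃ j, v (u * z) = 5 * j := ⟨v (u * z) / 5, by omega⟩
    rw [hj] at a1 a2 ⊢
    have : j < 3 := by nlinarith
    have : -3 < j := by nlinarith
    have a9 := Int.dvd_gcd a2 a3
    have := Int.le_of_dvd (by positivity) (Int.natCast_dvd_natCast.2 a9)
    interval_cases j <;> norm_num at this a1 ⊢ <;> omega
  have b1 := key o2 (by omega) (by omega)
  have b2 := h.dvd _ (ne_one o2) (by omega)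
  have b3 := h.le (ne_one o2) (by omega)
  have b4 := Int.natCast_dvd_natCast.2 (card_subgroup_dvd_card (centralizer ({u ^ 7} : Set G)))
  obtain ⟨j, hj⟩ : ∃ j, v (u ^ 7) = 35 * j + 14 := ⟨(v (u ^ 7) - 14) / 35, by omega⟩
  rw [hj] at b1 b2 b3
  push_cast at b2 b3
  obtain rfl : j = 0 := by
    by_contra hj
    rcases lt_or_gt_of_ne hj with e | e <;> nlinarith
  have := Nat.le_of_dvd (by norm_num [hG]) (Int.dvd_gcd b2 b4)
  rw [hG] at this
  norm_num at this b1
  omega

end Cfsg.Agent.Ch.Alex
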