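import Mathlib
import Cfsg.Agent.Ch.Det
import Cfsg.Agent.Ch.Galois
import Cfsg.Agent.Ch.Linear
import Cfsg.Agent.Ch.Quotient
import Cfsg.Agent.Ch.Integrality

/-! Tools for the Glauberman correspondence: determinants of Galois twists, slices of characters of
direct products, orthogonality on a coset of a normal subgroup, sums over a coprime coset. -/

set_option autoImplicit false
open Cfsg
open scoped ComplexConjugate

namespace Cfsg.Agent.Ch.Glb

section Det
variable {G : Type*} [Group G] [Finite G]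

theorem detChar_sum {ι : Type*} (s : Finset ι) (f : ι → G → ℂ) (hf : ∀ i ∈ s, IsCharacter G (f i))
    (g : G) : detChar (∑ i ∈ s, f i) g = ∏ i ∈ s, detChar (f i) g := by
  classical
  induction s using Finset.induction_on with
  | empty =>
    have := (IsCharacter.one' (G := G)).detChar_nsmul 0 g
    simpa using this
  | insert a s ha ih =>
    rw [Finset.sum_insert ha, Finset.prod_insert ha,
      (hf a (Finset.mem_insert_self _ _)).detChar_add
        (IsCharacter.sum fun i hi => hf i (Finset.mem_insert_of_mem hi)),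
      ih fun i hi => hf i (Finset.mem_insert_of_mem hi)]

theorem detChar_galois {χ : G → ℂ} (hχ : IsCharacter G χ) (σ : ℂ →+* ℂ) (g : G) :
    detChar (fun x => σ (χ x)) g = σ (detChar χ g) := by
  obtain ⟨lam, hlam⟩ := hχ.exists_sum_monoidHom_restrict (Subgroup.zpowers g) (by
    rintro _ ⟨a, rfl⟩ _ ⟨b, rfl⟩
    exact (Commute.zpow_zpow_self g a b).eq)
  have h1 := (hχ.galois σ).detChar_restrict (Subgroup.zpowers g) ⟨g, Subgroup.mem_zpowers g⟩
  have h2 := hχ.detChar_restrict (Subgroup.zpowers g) ⟨g, Subgroup.mem_zpowers g⟩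
  simp only at h1 h2
  rw [← h1, ← h2]
  have e1 : (fun x : Subgroup.zpowers g => χ x) = ∑ i, fun x => ((lam i x : ℂˣ) : ℂ) := by
    funext x; rw [hlam, Finset.sum_apply]
  have e2 : (fun x : Subgroup.zpowers g => σ (χ x)) = ∑ i, fun x => σ ((lam i x : ℂˣ) : ℂ) := by
    funext x; rw [hlam, Finset.sum_apply, map_sum]
  rw [e1, e2, detChar_sum _ _ (fun i _ => isCharacter_monoidHom_units (lam i)),
    detChar_sum _ _ (fun i _ => (isCharacter_monoidHom_units (lam i)).galois σ), map_prod]
  refine Finset.prod_congr rfl fun i _ => ?_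
  rw [(isCharacter_monoidHom_units (lam i)).detChar_of_apply_one (by simp),
    ((isCharacter_monoidHom_units (lam i)).galois σ).detChar_of_apply_one (by simp)]

theorem detOrder_galois {χ : G → ℂ} (hχ : IsCharacter G χ) (σ : ℂ →+* ℂ) :
    detOrder (fun x => σ (χ x)) = detOrder χ := by
  unfold detOrder
  have : detChar (fun x => σ (χ x)) = (σ.toMonoidHom.compLeft G) (detChar χ) := by
    funext g; exact detChar_galois hχ σ g
  rw [this]
  refine orderOf_injective _ (fun a b h => ?_) _
  funext g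
  exact σ.injective (congrFun h g)

end Det

/-- Slices of a character of a direct product along an irreducible character of the first factor. -/
theorem isCharacter_slice {A B : Type*} [Group A] [Group B] [Fintype A] [Finite B] {Θ : A × B → ℂ}
    (hΘ : IsCharacter (A × B) Θ) {γ : A → ℂ} (hγ : IsIrrCharacter A γ) :
    IsCharacter B fun b => classInner (fun a => Θ (a, b)) γ := by
  refine hΘ.induction_on (P := fun Θ => IsCharacter B fun b => classInner (fun a => Θ (a, b)) γ)
    ?_ ?_ ?_
  · have : (fun b : B => classInner (fun a : A => (0 : A × B → ℂ) (a, b)) γ) = 0 := by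
      funext b; exact classInner_zero_left γ
    rw [this]; exact IsCharacter.zero
  · intro χ hχ
    obtain ⟨φ, ψ, hφ, hψ, rfl⟩ := (isIrrCharacter_prod_iff χ).mp hχ
    have : (fun b : B => classInner (fun a : A => φ a * ψ b) γ) = classInner φ γ • ψ := by
      funext b
      have : (fun a : A => φ a * ψ b) = ψ b • φ := by funext a; simp [mul_comm]
      rw [this, classInner_smul_left, Pi.smul_apply, smul_eq_mul, mul_comm]
    simp only
    rw [this]
    obtain ⟨n, hn⟩ := hφ.isCharacter.exists_nat_classInner hγ.isCharacter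
    rw [hn]
    exact hψ.isCharacter.natCast_smul n
  · intro χ ψ _ _ h1 h2
    have : (fun b : B => classInner (fun a : A => (χ + ψ) (a, b)) γ) =
        (fun b => classInner (fun a => χ (a, b)) γ) + fun b => classInner (fun a => ψ (a, b)) γ := by
      funext b
      exact classInner_add_left (fun a => χ (a, b)) (fun a => ψ (a, b)) γ
    rw [this]
    exact h1.add h2

/-- Slices along two commuting subgroups. -/
theorem isCharacter_slice_subgroup {Γ : Type*} [Group Γ] [Finite Γ] (C S : Subgroup Γ) [Fintype C]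
    (hCS : ∀ c ∈ C, ∀ s ∈ S, c * s = s * c) {θ : Γ → ℂ} (hθ : IsCharacter Γ θ) {γ : C → ℂ}
    (hγ : IsIrrCharacter C γ) :
    IsCharacter S fun t => classInner (fun c : C => θ (c * t)) γ := by
  have := hθ.comp (C.subtype.noncommCoprod S.subtype fun c s => hCS c c.2 s s.2)
  exact isCharacter_slice this hγ

section Coset
variable {Γ : Type*} [Group Γ] [Finite Γ] (N : Subgroup Γ) [N.Normal] [Fintype N]

theorem sum_coset_eq_zero {θ : Γ → ℂ} (hθ : IsCharacter Γ θ) (h0 : ∑ n : N, θ n = 0) (x : Γ) :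
    ∑ n : N, θ (n * x) = 0 := by
  revert h0
  refine hθ.induction_on (P := fun θ : Γ → ℂ => ∑ n : N, θ n = 0 → ∑ n : N, θ (n * x) = 0) ?_ ?_ ?_
  · intro _; simp
  · intro χ hχ h0
    rw [hχ.sum_normal_mul N x, h0]; simp
  · intro χ ψ hχ hψ h1 h2 h0
    obtain ⟨a, ha⟩ := (hχ.restrict N).exists_nat_classInner IsCharacter.one
    obtain ⟨b, hb⟩ := (hψ.restrict N).exists_nat_classInner IsCharacter.one
    rw [classInner_one_right] at ha hb
    have hN := natCard_ne_zero N
    have ha' : ∑ n : N, χ n = Nat.card N * a := by rw [← ha]; field_simp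
    have hb' : ∑ n : N, ψ n = Nat.card N * b := by rw [← hb]; field_simp
    simp only [Pi.add_apply, Finset.sum_add_distrib] at h0 ⊢
    rw [ha', hb', ← mul_add, mul_eq_zero, ← Nat.cast_add, Nat.cast_eq_zero, Nat.cast_eq_zero] at h0
    have hab : a = 0 ∧ b = 0 := by
      rcases h0 with h | h
      · exact absurd h Nat.card_pos.ne'
      · omega
    rw [h1 (by rw [ha', hab.1]; simp), h2 (by rw [hb', hab.2]; simp), add_zero]

theorem sum_coset_mul_conj_of_ne {a b : Γ → ℂ} (ha : IsCharacter Γ a) (hb : IsCharacter Γ b)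
    (hab : classInner (fun n : N => a n) (fun n : N => b n) = 0) (x : Γ) :
    ∑ n : N, a (n * x) * conj (b (n * x)) = 0 := by
  refine sum_coset_eq_zero N (ha.mul hb.complexConj) ?_ x
  have := card_mul_classInner (fun n : N => a n) (fun n : N => b n)
  rw [hab, mul_zero] at this
  exact this.symm

theorem sum_coset_mul_conj_self {a : Γ → ℂ} (ha : IsCharacter Γ a)
    (haN : IsIrrCharacter N fun n : N => a n) (x : Γ) :
    ∑ n : N, a (n * x) * conj (a (n * x)) = Nat.card N := by
  have := Fintype.ofFinite Γ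
  have hirr : IsIrrCharacter Γ a := IsIrrCharacter.of_restrict N ha haN
  obtain ⟨ψ, hψ, h⟩ := (ha.mul ha.complexConj).exists_eq_irr_add IsIrrCharacter.one (by
    rw [← classInner_eq_mul_conj_one, hirr.classInner_self]; exact one_ne_zero)
  have h' : ∀ y, a y * conj (a y) = 1 + ψ y := fun y => congrFun h y
  have h0 : ∑ n : N, ψ n = 0 := by
    have := card_mul_classInner (fun n : N => a n) (fun n : N => a n)
    rw [haN.classInner_self, mul_one] at this
    simp only [h', Finset.sum_add_distrib, Finset.sum_const, Finset.card_univ, nsmul_eq_mul,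
      mul_one, ← Nat.card_eq_fintype_card] at this
    linear_combination -this
  simp only [h', Finset.sum_add_distrib, sum_coset_eq_zero N hψ h0 x, Finset.sum_const,
    Finset.card_univ, nsmul_eq_mul, mul_one, add_zero, Nat.card_eq_fintype_card]

end Coset

section Coprime
variable {Γ : Type*} [Group Γ]

theorem exists_pow_mul_eq {G : Subgroup Γ} [Finite G] {s : Γ}
    (hcop : (Nat.card G).Coprime (orderOf s)) :
    ∃ m : ℕ, ∀ c ∈ G, c * s = s * c → (c * s) ^ m = s := by
  obtain ⟨m, h1, h2⟩ := Nat.chineseRemainder hcop 0 1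
  refine ⟨m, fun c hc hcs => ?_⟩
  rw [Commute.mul_pow hcs, pow_eq_pow_iff_modEq.mpr h2, pow_one]
  obtain ⟨k, rfl⟩ := (Nat.modEq_zero_iff_dvd).mp h1
  have : c ^ Nat.card G = 1 := by
    have := pow_card_eq_one' (G := G) (x := ⟨c, hc⟩)
    exact congrArg Subtype.val this
  rw [pow_mul, this, one_pow, one_mul]

/-- A class function summed over the coset `G s` of a coprime element. -/
theorem sum_coset_eq {G C : Subgroup Γ} [Fintype G] [Fintype C] {s : Γ}
    (hs : ∀ g ∈ G, s * g * s⁻¹ ∈ G) (hcop : (Nat.card G).Coprime (orderOf s))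
    (hC : ∀ c, c ∈ C ↔ c ∈ G ∧ c * s = s * c) (F : Γ → ℂ)
    (hF : ∀ x ∈ G, ∀ y, F (x * y * x⁻¹) = F y) :
    (Nat.card C : ℂ) * ∑ g : G, F (g * s) = Nat.card G * ∑ c : C, F (c * s) := by
  classical
  obtain ⟨m, hm⟩ := exists_pow_mul_eq hcop
  let Φ : G × C → G := fun z => ⟨z.1 * z.2 * (s * (z.1 : Γ)⁻¹ * s⁻¹),
    mul_mem (mul_mem z.1.2 ((hC _).mp z.2.2).1) (hs _ (inv_mem z.1.2))⟩
  have hΦ : ∀ z : G × C, (Φ z : Γ) * s = z.1 * (z.2 * s) * (z.1 : Γ)⁻¹ := by
    intro z; simp only [Φ]; group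
  have hfib : ∀ z0 : G × C, (Finset.univ.filter fun z => Φ z = Φ z0).card = Nat.card C := by
    intro z0
    rw [Nat.card_eq_fintype_card, ← Finset.card_univ]
    symm
    refine Finset.card_bij (fun d _ => (z0.1 * ⟨d, ((hC _).mp d.2).1⟩, d⁻¹ * z0.2 * d)) ?_ ?_ ?_
    · intro d _
      simp only [Finset.mem_filter, Finset.mem_univ, true_and]
      apply Subtype.ext
      apply mul_right_cancel (b := s)
      rw [hΦ, hΦ]
      have hd := ((hC _).mp d.2).2
      simp only [Subgroup.coe_mul, Subgroup.coe_inv]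
      calc (z0.1 : Γ) * d * ((d : Γ)⁻¹ * z0.2 * d * s) * ((z0.1 : Γ) * d)⁻¹
          = z0.1 * (z0.2 * (d * s) * (d : Γ)⁻¹) * (z0.1 : Γ)⁻¹ := by group
        _ = _ := by rw [hd]; group
    · intro d _ d' _ h
      have := congrArg (fun z : G × C => (z.1 : Γ)) h
      simp only [Subgroup.coe_mul, mul_right_inj] at this
      exact Subtype.ext this
    · intro z hz
      simp only [Finset.mem_filter, Finset.mem_univ, true_and] at hz
      have h1 : (z.1 : Γ) * (z.2 * s) * (z.1 : Γ)⁻¹ = z0.1 * (z0.2 * s) * (z0.1 : Γ)⁻¹ := by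
        rw [← hΦ, ← hΦ, hz]
      have h2 := congrArg (· ^ m) h1
      simp only [conj_pow] at h2
      rw [hm _ ((hC _).mp z.2.2).1 ((hC _).mp z.2.2).2,
        hm _ ((hC _).mp z0.2.2).1 ((hC _).mp z0.2.2).2] at h2
      have hd : (z0.1 : Γ)⁻¹ * z.1 * s = s * ((z0.1 : Γ)⁻¹ * z.1) := by
        calc (z0.1 : Γ)⁻¹ * z.1 * s = (z0.1 : Γ)⁻¹ * (z.1 * s * (z.1 : Γ)⁻¹) * z.1 := by group
          _ = _ := by rw [h2]; group
      refine ⟨⟨(z0.1 : Γ)⁻¹ * z.1, (hC _).mpr ⟨mul_mem (inv_mem z0.1.2) z.1.2, hd⟩⟩,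
        Finset.mem_univ _, Prod.ext (Subtype.ext (by simp)) (Subtype.ext ?_)⟩
      simp only [Subgroup.coe_mul, Subgroup.coe_inv]
      apply mul_right_cancel (b := s)
      calc ((z0.1 : Γ)⁻¹ * z.1)⁻¹ * z0.2 * ((z0.1 : Γ)⁻¹ * z.1) * s
          = ((z0.1 : Γ)⁻¹ * z.1)⁻¹ * z0.2 * ((z0.1 : Γ)⁻¹ * z.1 * s) := by group
        _ = (z.1 : Γ)⁻¹ * (z0.1 * (z0.2 * s) * (z0.1 : Γ)⁻¹) * z.1 := by rw [hd]; group
        _ = _ := by rw [← h1]; group
  have himg : Finset.univ.image Φ = Finset.univ := by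
    apply Finset.eq_univ_of_card
    have h1 := Finset.card_eq_sum_card_image Φ Finset.univ
    rw [Finset.sum_congr rfl (g := fun _ => Nat.card C) (by
      intro y hy
      obtain ⟨z, -, rfl⟩ := Finset.mem_image.mp hy
      exact hfib z)] at h1
    rw [Finset.sum_const, smul_eq_mul, Finset.card_univ, Fintype.card_prod,
      ← Nat.card_eq_fintype_card (α := C)] at h1
    exact (Nat.eq_of_mul_eq_mul_right Nat.card_pos h1).symm
  have h1 : ∑ z : G × C, F (Φ z * s) = ∑ g : G, (Nat.card C : ℂ) * F (g * s) := by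
    rw [← Finset.sum_fiberwise Finset.univ Φ]
    refine Finset.sum_congr rfl fun g _ => ?_
    obtain ⟨z0, -, rfl⟩ := Finset.mem_image.mp (himg ▸ Finset.mem_univ g)
    rw [Finset.sum_congr rfl (g := fun _ => F (Φ z0 * s)) (by
      intro z hz
      rw [(Finset.mem_filter.mp hz).2]), Finset.sum_const, hfib, nsmul_eq_mul]
  rw [Finset.mul_sum, ← h1, Fintype.sum_prod_type]
  simp only [hΦ, hF _ (Subtype.prop _), Finset.sum_const, Finset.card_univ, nsmul_eq_mul,
    Nat.card_eq_fintype_card]

end Coprime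

end Cfsg.Agent.Ch.Glb
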