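import Mathlib
import Cfsg.Agent.Ch.GlaubBase
import Cfsg.Agent.Ch.BrauerPerm
import Cfsg.Agent.Ch.Table
import Cfsg.Agent.GT.CoprimeSylow
import Cfsg.Agent.GT.CoprimeFixed
import Cfsg.Agent.S0867

/-! The Glauberman correspondence for a cyclic operator group (Isaacs, Theorem 13.6). -/

set_option autoImplicit false
open Cfsg Cfsg.Agent.GT
open scoped ComplexConjugate

namespace Cfsg.Agent.Ch.Glb

variable {Γ : Type*} [Group Γ]

/-- `χ` is invariant under conjugation by the elements of `S`. -/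
def Inv (S : Subgroup Γ) {G : Subgroup Γ} {α : Type*} (χ : G → α) : Prop :=
  ∀ s ∈ S, ∀ g g' : G, (g' : Γ) = s * g * s⁻¹ → χ g' = χ g

/-- the class `K` is invariant under conjugation by the elements of `S`. -/
def InvCl (S : Subgroup Γ) {G : Subgroup Γ} (K : ConjClasses G) : Prop :=
  ∀ s ∈ S, ∀ g g' : G, (g' : Γ) = s * g * s⁻¹ → ConjClasses.mk g = K → ConjClasses.mk g' = K

theorem Inv.mono {S T G : Subgroup Γ} {α : Type*} {χ : G → α} (h : Inv S χ) (hT : T ≤ S) :
    Inv T χ := fun s hs => h s (hT hs)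

/-- The elements normalizing `G` and fixing the function `χ` on `G`. -/
def invSub {G : Subgroup Γ} {α : Type*} (χ : G → α) : Subgroup Γ where
  carrier := {s | s ∈ Subgroup.normalizer (G : Set Γ) ∧
    ∀ g g' : G, (g' : Γ) = s * g * s⁻¹ → χ g' = χ g}
  one_mem' := ⟨one_mem _, fun g g' h => by rw [show g' = g from Subtype.ext (by simpa using h)]⟩
  mul_mem' := by
    rintro a b ⟨ha, ha'⟩ ⟨hb, hb'⟩
    refine ⟨mul_mem ha hb, fun g g' h => ?_⟩
    have hm : b * g * b⁻¹ ∈ G := (Subgroup.mem_normalizer_iff.mp hb g).mp g.2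
    rw [ha' ⟨_, hm⟩ g' (by rw [h]; group), hb' g ⟨_, hm⟩ rfl]
  inv_mem' := by
    rintro a ⟨ha, ha'⟩
    exact ⟨inv_mem ha, fun g g' h => (ha' g' g (by rw [h]; group)).symm⟩

theorem inv_iff_le {S G : Subgroup Γ} {α : Type*} {χ : G → α}
    (hS : S ≤ Subgroup.normalizer (G : Set Γ)) : Inv S χ ↔ S ≤ invSub χ :=
  ⟨fun h s hs => ⟨hS hs, h s hs⟩, fun h _ hs => (h hs).2⟩

theorem Inv.sup {S T G : Subgroup Γ} {α : Type*} {χ : G → α}
    (hS : S ≤ Subgroup.normalizer (G : Set Γ)) (hT : T ≤ Subgroup.normalizer (G : Set Γ))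
    (h1 : Inv S χ) (h2 : Inv T χ) : Inv (S ⊔ T) χ :=
  (inv_iff_le (sup_le hS hT)).mpr (sup_le ((inv_iff_le hS).mp h1) ((inv_iff_le hT).mp h2))

theorem inv_zpowers {G : Subgroup Γ} {α : Type*} {χ : G → α} {s : Γ}
    (hs : s ∈ Subgroup.normalizer (G : Set Γ))
    (h : ∀ g g' : G, (g' : Γ) = s * g * s⁻¹ → χ g' = χ g) : Inv (Subgroup.zpowers s) χ :=
  (inv_iff_le (by rwa [Subgroup.zpowers_le])).mpr (by rw [Subgroup.zpowers_le]; exact ⟨hs, h⟩)

theorem inv_self {G : Subgroup Γ} {χ : G → ℂ} (h : IsClassFunction G χ) : Inv G χ := by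
  intro s hs g g' hg
  rw [show g' = ⟨s, hs⟩ * g * ⟨s, hs⟩⁻¹ from Subtype.ext hg]
  exact h g _

theorem inv_of_le_centralizer {S G : Subgroup Γ} {α : Type*} (χ : G → α)
    (h : S ≤ Subgroup.centralizer (G : Set Γ)) : Inv S χ := by
  intro s hs g g' hg
  rw [show g' = g from Subtype.ext (by rw [hg, ← h hs g g.2]; group)]

/-- Invariant classes of `G` correspond to classes of `C_G(S)`. -/
theorem card_invCl [Finite Γ] {G S C : Subgroup Γ} (hn : S ≤ Subgroup.normalizer (G : Set Γ))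
    (hcop : (Nat.card S).Coprime (Nat.card G)) (hsolv : Group.IsSolvable S ∨ Group.IsSolvable G)
    (hC : C = G ⊓ Subgroup.centralizer (S : Set Γ)) :
    Nat.card {K : ConjClasses G // InvCl S K} = Nat.card (ConjClasses C) := by
  have hCG : C ≤ G := hC ▸ inf_le_left
  have hCS : C ≤ Subgroup.centralizer (S : Set Γ) := hC ▸ inf_le_right
  symm
  refine Nat.card_congr (Equiv.ofBijective
    (fun K => ⟨ConjClasses.map (Subgroup.inclusion hCG) K, ?_⟩) ⟨?_, ?_⟩)
  · obtain ⟨c, rfl⟩ := ConjClasses.mk_surjective K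
    intro s hs g g' hg h
    have h' : ConjClasses.mk g = ConjClasses.mk (Subgroup.inclusion hCG c) := h
    change _ = ConjClasses.mk (Subgroup.inclusion hCG c)
    rw [ConjClasses.mk_eq_mk_iff_isConj, isConj_iff] at h' ⊢
    obtain ⟨x, hx⟩ := h'
    refine ⟨⟨s * x * s⁻¹, CopAct.conj_mem hn hs x.2⟩, Subtype.ext ?_⟩
    have hx' : (x : Γ) * g * (x : Γ)⁻¹ = c := congrArg Subtype.val hx
    have hc := hCS c.2 s hs
    simp only [Subgroup.coe_mul, Subgroup.coe_inv, Subgroup.coe_inclusion, hg]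
    calc s * x * s⁻¹ * (s * g * s⁻¹) * (s * x * s⁻¹)⁻¹ = s * ((x : Γ) * g * (x : Γ)⁻¹) * s⁻¹ := by
          group
      _ = c := by rw [hx', hc]; group
  · intro K K' h
    obtain ⟨c, rfl⟩ := ConjClasses.mk_surjective K
    obtain ⟨c', rfl⟩ := ConjClasses.mk_surjective K'
    have h' : ConjClasses.mk (Subgroup.inclusion hCG c) =
      ConjClasses.mk (Subgroup.inclusion hCG c') := congrArg Subtype.val h
    rw [ConjClasses.mk_eq_mk_iff_isConj, isConj_iff] at h' ⊢
    obtain ⟨x, hx⟩ := h'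
    have hx' : (x : Γ) * c * (x : Γ)⁻¹ = c' := congrArg Subtype.val hx
    obtain ⟨d, hd, h2⟩ := CopAct.exists_centralizer_conj_elt_eq hn hcop hsolv (hCS c.2) x.2
      (hx' ▸ hCS c'.2)
    exact ⟨⟨d, hC ▸ hd⟩, Subtype.ext (h2.trans hx')⟩
  · rintro ⟨K, hK⟩
    obtain ⟨g, rfl⟩ := ConjClasses.mk_surjective K
    obtain ⟨k, hk, h⟩ := CopAct.exists_conj_mem_centralizer hn hcop hsolv (x := (g : Γ)) (by
      intro a ha
      have := hK a ha g ⟨_, CopAct.conj_mem hn ha g.2⟩ rfl rfl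
      rw [eq_comm, ConjClasses.mk_eq_mk_iff_isConj, isConj_iff] at this
      obtain ⟨x, hx⟩ := this
      exact ⟨x, x.2, (congrArg Subtype.val hx).symm⟩)
    refine ⟨ConjClasses.mk ⟨k * g * k⁻¹, hC ▸ Subgroup.mem_inf.mpr ⟨mul_mem (mul_mem hk g.2) (inv_mem hk), h⟩⟩,
      Subtype.ext ?_⟩
    change ConjClasses.mk (Subgroup.inclusion hCG _) = _
    rw [eq_comm, ConjClasses.mk_eq_mk_iff_isConj, isConj_iff]
    exact ⟨⟨k, hk⟩, rfl⟩

/-- Conjugation by an element of the normalizer. -/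
def cj {G : Subgroup Γ} {s : Γ} (hs : s ∈ Subgroup.normalizer (G : Set Γ)) : G ≃* G :=
  G.normalizerMonoidHom ⟨s, hs⟩

theorem coe_cj {G : Subgroup Γ} {s : Γ} (hs : s ∈ Subgroup.normalizer (G : Set Γ)) (g : G) :
    (cj hs g : Γ) = s * g * s⁻¹ := rfl

/-- Brauer's permutation lemma for a cyclic operator group. -/
theorem card_inv_zpowers [Finite Γ] {G : Subgroup Γ} {s : Γ}
    (hs : s ∈ Subgroup.normalizer (G : Set Γ)) :
    Nat.card {χ : IrrCharacter G // Inv (Subgroup.zpowers s) (χ : G → ℂ)} =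
      Nat.card {K : ConjClasses G // InvCl (Subgroup.zpowers s) K} := by
  have h := card_fixed_classes_eq_card_fixed_irr (cj hs)
  have e1 : ∀ χ : IrrCharacter G, (χ : G → ℂ) ∘ cj hs = χ ↔ Inv (Subgroup.zpowers s) (χ : G → ℂ) := by
    intro χ
    constructor
    · intro h
      refine inv_zpowers hs fun g g' hg => ?_
      rw [show g' = cj hs g from Subtype.ext hg]
      exact congrFun h g
    · intro h
      funext g
      exact h s (Subgroup.mem_zpowers s) g _ rfl
  have e2 : ∀ K : ConjClasses G, ConjClasses.map (cj hs).toMonoidHom K = K ↔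
      InvCl (Subgroup.zpowers s) K := by
    intro K
    constructor
    · intro h t ht
      obtain ⟨n, rfl⟩ := mem_powers_iff_mem_zpowers.mpr ht
      clear ht
      induction n with
      | zero =>
        intro g g' hg hK
        rwa [show g' = g from Subtype.ext (by simpa using hg)]
      | succ n ih =>
        intro g g' hg hK
        refine ih (cj hs g) g' (by rw [hg, coe_cj]; simp only [pow_succ]; group) ?_
        rw [← h, ← hK]; rfl
    · intro h
      obtain ⟨g, rfl⟩ := ConjClasses.mk_surjective K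
      exact h s (Subgroup.mem_zpowers s) g (cj hs g) rfl rfl
  rw [← Nat.card_congr (Equiv.subtypeEquivRight e1), ← h,
    Nat.card_congr (Equiv.subtypeEquivRight e2)]

theorem mem_inf_centralizer_zpowers {G : Subgroup Γ} {s c : Γ} :
    c ∈ G ⊓ Subgroup.centralizer (Subgroup.zpowers s : Set Γ) ↔ c ∈ G ∧ c * s = s * c := by
  rw [Subgroup.zpowers_eq_closure, Subgroup.centralizer_closure, Subgroup.mem_inf,
    Subgroup.mem_centralizer_singleton_iff]

theorem card_inv_zpowers_eq [Finite Γ] {G C : Subgroup Γ} {s : Γ}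
    (hs : s ∈ Subgroup.normalizer (G : Set Γ)) (hcop : (Nat.card G).Coprime (orderOf s))
    (hC : ∀ c, c ∈ C ↔ c ∈ G ∧ c * s = s * c) :
    Nat.card {χ : IrrCharacter G // Inv (Subgroup.zpowers s) (χ : G → ℂ)} =
      Nat.card (IrrCharacter C) := by
  rw [card_inv_zpowers hs, card_irr, card_invCl (C := C) (by rwa [Subgroup.zpowers_le])
    (by rw [Nat.card_zpowers]; exact hcop.symm) (Or.inl (CopAct.isSolvable_zpowers s))]
  ext c; rw [hC, mem_inf_centralizer_zpowers]

/-- `χh` is the canonical extension of `χ` (determinantal order prime to `n`). -/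
structure CanExt (n : ℕ) {G : Subgroup Γ} (χ : G → ℂ) (χh : Γ → ℂ) : Prop where
  irr : IsIrrCharacter G χ
  irrh : IsIrrCharacter Γ χh
  ext : ∀ g : G, χh g = χ g
  cop : (detOrder χh).Coprime n

section Ext
variable [Finite Γ] {G : Subgroup Γ} [hG : G.Normal] {n : ℕ}

omit hG in
theorem coprime_index_det (hn : G.index ∣ n) (hcop : (Nat.card G).Coprime n) {χ : G → ℂ}
    (hχ : IsIrrCharacter G χ) : G.index.Coprime (detOrder χ * charDegree χ) := by
  have h : G.index.Coprime (Nat.card G) := (hcop.symm).coprime_dvd_left hn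
  exact (h.coprime_dvd_right hχ.isCharacter.detOrder_dvd_card).mul_right
    (h.coprime_dvd_right hχ.charDegree_dvd_card)

theorem exists_canExt (hn : G.index ∣ n) (hcop : (Nat.card G).Coprime n) {χ : G → ℂ}
    (hχ : IsIrrCharacter G χ) (hinv : Inv ⊤ χ) : ∃ χh, CanExt n χ χh := by
  obtain ⟨χh, ⟨h1, h2, h3⟩, -⟩ := S0867.result G χ hχ
    (fun g x => hinv g (Subgroup.mem_top g) x _ rfl) _ hχ.coe_charDegree.symm
    (coprime_index_det hn hcop hχ)
  exact ⟨χh, hχ, h1, h2, h3 ▸ hcop.coprime_dvd_left hχ.isCharacter.detOrder_dvd_card⟩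

omit [Finite Γ] hG in
theorem CanExt.inv {χ : G → ℂ} {χh : Γ → ℂ} (h : CanExt n χ χh) : Inv ⊤ χ := by
  intro s _ g g' hg
  rw [← h.ext, ← h.ext, hg]
  exact h.irrh.isClassFunction.conj_eq _ _

theorem CanExt.unique (hn : G.index ∣ n) (hcop : (Nat.card G).Coprime n) {χ : G → ℂ}
    {a b : Γ → ℂ} (ha : CanExt n χ a) (hb : CanExt n χ b) : a = b := by
  obtain ⟨χh, -, h⟩ := S0867.result G χ ha.irr
    (fun g x => ha.inv g (Subgroup.mem_top g) x _ rfl) _ ha.irr.coe_charDegree.symm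
    (coprime_index_det hn hcop ha.irr)
  rw [h a ha.irrh ha.ext (ha.cop.symm.coprime_dvd_left hn),
    h b hb.irrh hb.ext (hb.cop.symm.coprime_dvd_left hn)]

theorem CanExt.galois (hn : G.index ∣ n) (hcop : (Nat.card G).Coprime n) {χ : G → ℂ}
    {a : Γ → ℂ} (ha : CanExt n χ a) (σ : ℂ →+* ℂ) (hσ : ∀ ζ : ℂ, ζ ^ Nat.card G = 1 → σ ζ = ζ)
    (y : Γ) : σ (a y) = a y := by
  have : CanExt n χ fun y => σ (a y) :=
    ⟨ha.irr, ha.irrh.galois σ, fun g => by
      rw [ha.ext]
      exact ha.irr.isCharacter.galois_apply_of_fix σ hσ pow_card_eq_one',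
      by rw [detOrder_galois ha.irrh.isCharacter]; exact ha.cop⟩
  exact congrFun (CanExt.unique hn hcop this ha) y

end Ext

section Core
variable [Finite Γ] {G C : Subgroup Γ} [hG : G.Normal] [Fintype C] {s : Γ}

omit [Finite Γ] in
theorem index_dvd_of_sup (htop : G ⊔ Subgroup.zpowers s = ⊤) : G.index ∣ orderOf s := by
  rw [← Subgroup.relIndex_top_right, ← htop, Subgroup.relIndex_sup_left, ← Nat.card_zpowers]
  exact Subgroup.relIndex_dvd_card _ _

omit [Finite Γ] hG [Fintype C] in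
theorem comm_zpowers (hC : ∀ c, c ∈ C ↔ c ∈ G ∧ c * s = s * c) :
    ∀ c ∈ C, ∀ t ∈ Subgroup.zpowers s, c * t = t * c := by
  rintro c hc _ ⟨k, rfl⟩
  exact (Commute.zpow_right ((hC c).mp hc).2 k).eq

omit [Finite Γ] hG [Fintype C] in
theorem isClassFunction_theta (hC : ∀ c, c ∈ C ↔ c ∈ G ∧ c * s = s * c) {a : Γ → ℂ}
    (ha : IsClassFunction Γ a) {t : Γ} (ht : t ∈ Subgroup.zpowers s) :
    IsClassFunction C fun c : C => a (c * t) := by
  intro c d
  simp only [Subgroup.coe_mul, Subgroup.coe_inv]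
  rw [← ha.conj_eq (c * t) d, mul_assoc _ _ t, comm_zpowers hC _ (inv_mem d.2) t ht]
  congr 1; group

theorem CanExt.slice_pow (htop : G ⊔ Subgroup.zpowers s = ⊤)
    (hcop : (Nat.card G).Coprime (orderOf s)) (hC : ∀ c, c ∈ C ↔ c ∈ G ∧ c * s = s * c)
    {χ : G → ℂ} {a : Γ → ℂ} (ha : CanExt (orderOf s) χ a) {γ : C → ℂ} (hγ : IsIrrCharacter C γ)
    {k : ℕ} (hk : k.Coprime (orderOf s)) :
    classInner (fun c : C => a (c * s ^ k)) γ = classInner (fun c : C => a (c * s)) γ := by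
  obtain ⟨σ, h1, h2⟩ := galois_exists_pow_fix (orderOf_pos s).ne' (Nat.card_pos (α := G)).ne'
    hcop.symm hk
  have hψ := isCharacter_slice_subgroup C (Subgroup.zpowers s) (comm_zpowers hC)
    ha.irrh.isCharacter hγ
  have h3 := hψ.galois_apply_of_pow_eq_one (σ : ℂ →+* ℂ) h1 (g := ⟨s, Subgroup.mem_zpowers s⟩)
    (Subtype.ext (pow_orderOf_eq_one s))
  simp only [Subgroup.coe_pow] at h3
  rw [← h3, ← hγ.isGeneralizedCharacter.classInner_galois]
  congr 1
  · funext c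
    exact ha.galois (index_dvd_of_sup htop) hcop _ h2 _
  · funext c
    refine hγ.isCharacter.galois_apply_of_fix _ h2 (Subtype.ext ?_)
    have := congrArg Subtype.val (pow_card_eq_one' (G := G) (x := ⟨c, ((hC c).mp c.2).1⟩))
    exact this

theorem CanExt.apply_mul_pow (htop : G ⊔ Subgroup.zpowers s = ⊤)
    (hcop : (Nat.card G).Coprime (orderOf s)) (hC : ∀ c, c ∈ C ↔ c ∈ G ∧ c * s = s * c)
    {χ : G → ℂ} {a : Γ → ℂ} (ha : CanExt (orderOf s) χ a) {t : Γ}
    (ht : Subgroup.zpowers t = Subgroup.zpowers s) (c : C) : a (c * t) = a (c * s) := by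
  obtain ⟨k, rfl⟩ := mem_powers_iff_mem_zpowers.mpr (ht ▸ Subgroup.mem_zpowers t)
  have hk : k.Coprime (orderOf s) := by
    have h1 : orderOf (s ^ k) = orderOf s := by
      rw [← Nat.card_zpowers, ← Nat.card_zpowers]; exact congrArg (fun H : Subgroup Γ => Nat.card H) ht
    rw [orderOf_pow, Nat.div_eq_self] at h1
    rcases h1 with h | h
    · exact absurd h (orderOf_pos s).ne'
    · exact Nat.Coprime.symm h
  exact congrFun ((isClassFunction_theta hC ha.irrh.isClassFunction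
    (pow_mem (Subgroup.mem_zpowers s) k)).ext_classInner
    (isClassFunction_theta hC ha.irrh.isClassFunction (Subgroup.mem_zpowers s))
    fun γ => ha.slice_pow htop hcop hC γ.2 hk) c

theorem CanExt.isGeneralizedCharacter_theta (htop : G ⊔ Subgroup.zpowers s = ⊤)
    (hcop : (Nat.card G).Coprime (orderOf s)) (hC : ∀ c, c ∈ C ↔ c ∈ G ∧ c * s = s * c)
    {χ : G → ℂ} {a : Γ → ℂ} (ha : CanExt (orderOf s) χ a) :
    IsGeneralizedCharacter C fun c : C => a (c * s) := by
  refine IsGeneralizedCharacter.of_classInner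
    (isClassFunction_theta hC ha.irrh.isClassFunction (Subgroup.mem_zpowers s)) fun γ => ?_
  have hψ := isCharacter_slice_subgroup C (Subgroup.zpowers s) (comm_zpowers hC)
    ha.irrh.isCharacter γ.2
  obtain ⟨n, hn⟩ := hψ.isGeneralizedCharacter.exists_int_of_apply_pow_eq
    (g := ⟨s, Subgroup.mem_zpowers s⟩) (fun k hk => by
      rw [Nat.card_zpowers] at hk
      exact ha.slice_pow htop hcop hC γ.2 hk)
  exact ⟨n, hn.symm⟩

theorem classInner_theta_mul [Fintype G] (hcop : (Nat.card G).Coprime (orderOf s))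
    (hC : ∀ c, c ∈ C ↔ c ∈ G ∧ c * s = s * c) {a b : Γ → ℂ} (ha : IsClassFunction Γ a)
    (hb : IsClassFunction Γ b) :
    (Nat.card G : ℂ) * classInner (fun c : C => a (c * s)) (fun c : C => b (c * s)) =
      ∑ g : G, a (g * s) * conj (b (g * s)) := by
  have h := sum_coset_eq (fun g hg => hG.conj_mem g hg s) hcop hC (fun y => a y * conj (b y))
    (fun x _ y => by rw [ha.conj_eq, hb.conj_eq])
  rw [← card_mul_classInner (fun c : C => a (c * s))] at h
  apply mul_left_cancel₀ (natCard_ne_zero C)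
  rw [h]; ring

theorem CanExt.classInner_theta_self (hcop : (Nat.card G).Coprime (orderOf s))
    (hC : ∀ c, c ∈ C ↔ c ∈ G ∧ c * s = s * c) {n : ℕ} {χ : G → ℂ} {a : Γ → ℂ}
    (ha : CanExt n χ a) :
    classInner (fun c : C => a (c * s)) (fun c : C => a (c * s)) = 1 := by
  have := Fintype.ofFinite G
  apply mul_left_cancel₀ (natCard_ne_zero G)
  rw [classInner_theta_mul hcop hC ha.irrh.isClassFunction ha.irrh.isClassFunction,
    sum_coset_mul_conj_self G ha.irrh.isCharacter (by simpa only [ha.ext] using ha.irr), mul_one]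

theorem CanExt.eq_of_classInner_theta (hcop : (Nat.card G).Coprime (orderOf s))
    (hC : ∀ c, c ∈ C ↔ c ∈ G ∧ c * s = s * c) {n : ℕ} {χ χ' : G → ℂ} {a b : Γ → ℂ}
    (ha : CanExt n χ a) (hb : CanExt n χ' b)
    (h : classInner (fun c : C => a (c * s)) (fun c : C => b (c * s)) ≠ 0) : χ = χ' := by
  have := Fintype.ofFinite G
  by_contra hne
  apply h
  apply mul_left_cancel₀ (natCard_ne_zero G)
  rw [classInner_theta_mul hcop hC ha.irrh.isClassFunction hb.irrh.isClassFunction,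
    sum_coset_mul_conj_of_ne G ha.irrh.isCharacter hb.irrh.isCharacter (by
      simpa only [ha.ext, hb.ext] using ha.irr.classInner_eq_zero hb.irr hne), mul_zero]

theorem CanExt.exists_sign (htop : G ⊔ Subgroup.zpowers s = ⊤)
    (hcop : (Nat.card G).Coprime (orderOf s)) (hC : ∀ c, c ∈ C ↔ c ∈ G ∧ c * s = s * c)
    {χ : G → ℂ} {a : Γ → ℂ} (ha : CanExt (orderOf s) χ a) :
    ∃ (β : IrrCharacter C) (ε : ℤ), (ε = 1 ∨ ε = -1) ∧
      ∀ c : C, a (c * s) = ε * (β : C → ℂ) c := by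
  obtain ⟨ε, β, hε, hβ, h⟩ := (ha.isGeneralizedCharacter_theta htop hcop hC).exists_sign_irr_of_norm_one
    (ha.classInner_theta_self hcop hC)
  exact ⟨⟨β, hβ⟩, ε, hε, fun c => by simpa using congrFun h c⟩

theorem CanExt.eq_of_sign (hcop : (Nat.card G).Coprime (orderOf s))
    (hC : ∀ c, c ∈ C ↔ c ∈ G ∧ c * s = s * c) {n : ℕ} {χ χ' : G → ℂ} {a b : Γ → ℂ}
    (ha : CanExt n χ a) (hb : CanExt n χ' b) {β : C → ℂ} (hβ : IsIrrCharacter C β) {ε ε' : ℤ}
    (hε : ε = 1 ∨ ε = -1) (hε' : ε' = 1 ∨ ε' = -1) (h : ∀ c : C, a (c * s) = ε * β c)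
    (h' : ∀ c : C, b (c * s) = ε' * β c) : χ = χ' := by
  refine ha.eq_of_classInner_theta hcop hC hb ?_
  rw [show (fun c : C => a (c * s)) = (ε : ℂ) • β from funext h,
    show (fun c : C => b (c * s)) = (ε' : ℂ) • β from funext h', classInner_smul_left,
    classInner_smul_right, hβ.classInner_self]
  rcases hε with rfl | rfl <;> rcases hε' with rfl | rfl <;> simp

theorem exists_canExt_sign (htop : G ⊔ Subgroup.zpowers s = ⊤)
    (hcop : (Nat.card G).Coprime (orderOf s)) (hC : ∀ c, c ∈ C ↔ c ∈ G ∧ c * s = s * c)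
    (β : IrrCharacter C) : ∃ (χ : G → ℂ) (a : Γ → ℂ) (ε : ℤ), CanExt (orderOf s) χ a ∧
      (ε = 1 ∨ ε = -1) ∧ ∀ c : C, a (c * s) = ε * (β : C → ℂ) c := by
  have hs : s ∈ Subgroup.normalizer (G : Set Γ) := by
    rw [Subgroup.normalizer_eq_top (H := G)]; trivial
  have key : ∀ χ : {χ : IrrCharacter G // Inv (Subgroup.zpowers s) (χ : G → ℂ)},
      ∃ (β : IrrCharacter C) (a : Γ → ℂ) (ε : ℤ), CanExt (orderOf s) (χ.1 : G → ℂ) a ∧
      (ε = 1 ∨ ε = -1) ∧ ∀ c : C, a (c * s) = ε * (β : C → ℂ) c := by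
    intro χ
    obtain ⟨a, ha⟩ := exists_canExt (index_dvd_of_sup htop) hcop χ.1.2 (by
      rw [← htop]
      exact Inv.sup Subgroup.le_normalizer (by rwa [Subgroup.zpowers_le])
        (inv_self χ.1.2.isClassFunction) χ.2)
    obtain ⟨β, ε, h1, h2⟩ := ha.exists_sign htop hcop hC
    exact ⟨β, a, ε, ha, h1, h2⟩
  choose f a ε h1 h2 h3 using key
  have hinj : Function.Injective f := by
    intro χ χ' h
    exact Subtype.ext (Subtype.ext ((h1 χ).eq_of_sign hcop hC (h1 χ') (f χ).2 (h2 χ) (h2 χ') (h3 χ)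
      (h ▸ h3 χ')))
  have hbij : Function.Bijective f :=
    hinj.bijective_of_nat_card_le (card_inv_zpowers_eq hs hcop hC).ge
  obtain ⟨χ, rfl⟩ := hbij.2 β
  exact ⟨_, _, _, h1 χ, h2 χ, h3 χ⟩

end Core

end Cfsg.Agent.Ch.Glb
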