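import Mathlib
import Cfsg.Agent.Ch.GlaubCyclic
import Cfsg.Agent.GT.HallTools
import Cfsg.Agent.GT.PPrimeCore
import Cfsg.Agent.FG.SylowNormal
import Cfsg.Agent.S4586

/-! The Glauberman correspondence for a `p`-group of operators (Isaacs, Theorem 13.1), and the
count of invariant characters for a solvable group of operators. -/

set_option autoImplicit false
open Cfsg Cfsg.Agent.GT
open scoped ComplexConjugate

namespace Cfsg.Agent.Ch.Glb

/-- `χ ∘ f = ± β + p Δ` with `Δ` a generalized character. -/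
def Rel (p : ℕ) {G C : Type*} [Group G] [Group C] (f : C →* G) (χ : G → ℂ) (β : C → ℂ) : Prop :=
  ∃ ε : ℤ, (ε = 1 ∨ ε = -1) ∧ ∃ Δ : C → ℂ, IsGeneralizedCharacter C Δ ∧
    ∀ c, χ (f c) = ε * β c + p * Δ c

section Rel
variable {p : ℕ} {G C : Type*} [Group G] [Group C] {f : C →* G} {χ : G → ℂ} {β : C → ℂ}

theorem Rel.inner [Fintype C] (h : Rel p f χ β) : ∃ ε : ℤ, (ε = 1 ∨ ε = -1) ∧
    ∀ γ, IsIrrCharacter C γ → ∃ a : ℤ,
      classInner (fun c => χ (f c)) γ = ε * classInner β γ + p * a := by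
  obtain ⟨ε, hε, Δ, hΔ, h⟩ := h
  refine ⟨ε, hε, fun γ hγ => ?_⟩
  obtain ⟨a, ha⟩ := hΔ.exists_int_classInner hγ.isGeneralizedCharacter
  refine ⟨a, ?_⟩
  rw [show (fun c => χ (f c)) = (ε : ℂ) • β + (p : ℂ) • Δ from funext h, classInner_add_left,
    classInner_smul_left, classInner_smul_left, ha]

theorem Rel.modEq [Fintype C] (h : Rel p f χ β) (hβ : IsIrrCharacter C β) {m : ℕ}
    (hm : classInner (fun c => χ (f c)) β = m) :
    (m : ℤ) ≡ 1 [ZMOD p] ∨ (m : ℤ) ≡ -1 [ZMOD p] := by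
  obtain ⟨ε, hε, h⟩ := h.inner
  obtain ⟨a, ha⟩ := h β hβ
  rw [hm, hβ.classInner_self, mul_one] at ha
  have : (m : ℤ) = ε + p * a := by exact_mod_cast ha
  have h2 : (m : ℤ) ≡ ε [ZMOD p] := by
    rw [this]; exact Int.add_mul_emod_self_left ..
  rcases hε with rfl | rfl
  · exact Or.inl h2
  · exact Or.inr h2

theorem Rel.not_dvd [Fintype C] (hp : p.Prime) (h : Rel p f χ β) (hβ : IsIrrCharacter C β) {m : ℕ}
    (hm : classInner (fun c => χ (f c)) β = m) : ¬ p ∣ m := by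
  intro hd
  have h0 : (m : ℤ) ≡ 0 [ZMOD p] := (Int.modEq_zero_iff_dvd).mpr (by exact_mod_cast hd)
  have : (p : ℤ) ∣ 1 := by
    rcases h.modEq hβ hm with h1 | h1
    · simpa using (h0.symm.trans h1).dvd
    · simpa using (h0.symm.trans h1).dvd
  exact hp.one_lt.ne' (by exact_mod_cast Int.eq_one_of_dvd_one (by positivity) this)

theorem Rel.dvd_of_ne [Fintype C] (h : Rel p f χ β) (hβ : IsIrrCharacter C β) {γ : C → ℂ}
    (hγ : IsIrrCharacter C γ) (hne : β ≠ γ) {m : ℕ}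
    (hm : classInner (fun c => χ (f c)) γ = m) : p ∣ m := by
  obtain ⟨ε, -, h⟩ := h.inner
  obtain ⟨a, ha⟩ := h γ hγ
  rw [hm, hβ.classInner_eq_zero hγ hne, mul_zero, zero_add] at ha
  have : (m : ℤ) = p * a := by exact_mod_cast ha
  exact Int.natCast_dvd_natCast.mp ⟨a, this⟩

theorem Rel.unique [Finite C] (hp : p.Prime) (hχ : IsCharacter G χ) {γ : C → ℂ}
    (hβ : IsIrrCharacter C β) (hγ : IsIrrCharacter C γ) (h : Rel p f χ β) (h' : Rel p f χ γ) :
    β = γ := by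
  have := Fintype.ofFinite C
  by_contra hne
  obtain ⟨m, hm⟩ := (hχ.comp f).exists_nat_classInner hγ.isCharacter
  exact h'.not_dvd hp hγ hm (h.dvd_of_ne hβ hγ hne hm)

theorem Rel.trans {D : Type*} [Group D] {g : D →* C} {γ : D → ℂ} (h : Rel p f χ β)
    (h' : Rel p g β γ) : Rel p (f.comp g) χ γ := by
  obtain ⟨ε, hε, Δ, hΔ, h⟩ := h
  obtain ⟨ε', hε', Δ', hΔ', h'⟩ := h'
  refine ⟨ε * ε', by rcases hε with rfl | rfl <;> rcases hε' with rfl | rfl <;> simp,
    (ε : ℂ) • Δ' + fun d => Δ (g d), (hΔ'.intCast_smul ε).add (hΔ.comp g), fun d => ?_⟩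
  rw [MonoidHom.comp_apply, h, h']
  simp only [Int.cast_mul, Pi.add_apply, Pi.smul_apply, smul_eq_mul]
  ring

theorem Rel.congr {G' C' : Type*} [Group G'] [Group C'] {f' : C' →* G'} (e : G' → G) (e' : C' →* C)
    (he : ∀ c, e (f' c) = f (e' c)) (h : Rel p f χ β) :
    Rel p f' (fun g => χ (e g)) (fun c => β (e' c)) := by
  obtain ⟨ε, hε, Δ, hΔ, h⟩ := h
  exact ⟨ε, hε, _, hΔ.comp e', fun c => by simp only [he, h]⟩

theorem rel_of_eq (h : ∀ c, χ (f c) = β c) : Rel p f χ β :=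
  ⟨1, Or.inl rfl, 0, IsGeneralizedCharacter.zero, fun c => by simp [h]⟩

end Rel

variable {Γ : Type*} [Group Γ]

/-- The relation `Rel` is a bijection from the `S`-invariant irreducible characters of `G` onto the
irreducible characters of `C`. -/
structure Corr (p : ℕ) (S : Subgroup Γ) {G C : Subgroup Γ} (hCG : C ≤ G) : Prop where
  ex : ∀ χ, IsIrrCharacter G χ → Inv S χ →
    ∃ β, IsIrrCharacter C β ∧ Rel p (Subgroup.inclusion hCG) χ β
  inj : ∀ χ χ' β, IsIrrCharacter G χ → IsIrrCharacter G χ' → IsIrrCharacter C β → Inv S χ →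
    Inv S χ' → Rel p (Subgroup.inclusion hCG) χ β → Rel p (Subgroup.inclusion hCG) χ' β → χ = χ'
  surj : ∀ β, IsIrrCharacter C β →
    ∃ χ, IsIrrCharacter G χ ∧ Inv S χ ∧ Rel p (Subgroup.inclusion hCG) χ β

theorem CanExt.rel_of_sign [Finite Γ] {G C : Subgroup Γ} {s : Γ} {p : ℕ} (hp : p.Prime) {k : ℕ}
    (hs : s ^ p ^ k = 1) (hC : ∀ c, c ∈ C ↔ c ∈ G ∧ c * s = s * c) (hCG : C ≤ G) {n : ℕ}
    {χ : G → ℂ} {a : Γ → ℂ} (ha : CanExt n χ a) {β : C → ℂ} (hβ : IsIrrCharacter C β) {ε : ℤ}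
    (hε : ε = 1 ∨ ε = -1) (h : ∀ c : C, a (c * s) = ε * β c) :
    Rel p (Subgroup.inclusion hCG) χ β := by
  have := Fintype.ofFinite C
  have hp0 : (p : ℂ) ≠ 0 := by exact_mod_cast hp.ne_zero
  have hres := ha.irr.isCharacter.comp (Subgroup.inclusion hCG)
  refine ⟨ε, hε, (p : ℂ)⁻¹ • ((fun c => χ (Subgroup.inclusion hCG c)) - (ε : ℂ) • β),
    IsGeneralizedCharacter.of_classInner
      ((hres.isClassFunction.sub (hβ.isClassFunction.smul _)).smul _) fun γ => ?_, fun c => ?_⟩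
  · have hψ := isCharacter_slice_subgroup C (Subgroup.zpowers s) (comm_zpowers hC)
      ha.irrh.isCharacter γ.2
    obtain ⟨m, hm⟩ := (hβ.isGeneralizedCharacter.intCast_smul ε).exists_int_classInner
      γ.2.isGeneralizedCharacter
    obtain ⟨b, hb⟩ := hψ.prime_dvd_sub_charDegree hp (a := k) (x := ⟨s, Subgroup.mem_zpowers s⟩)
      (Subtype.ext hs) (m := m) (by
        rw [← hm]; congr 1; funext c; exact h c)
    refine ⟨-b, ?_⟩
    have hb' := congrArg (Int.cast : ℤ → ℂ) hb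
    simp only [Int.cast_sub, Int.cast_natCast, Int.cast_mul, hψ.coe_charDegree,
      OneMemClass.coe_one, mul_one] at hb'
    have e : (fun c : C => a c) = fun c => χ (Subgroup.inclusion hCG c) :=
      funext fun c => ha.ext (Subgroup.inclusion hCG c)
    rw [classInner_smul_left, classInner_sub_left, hm, ← e, Int.cast_neg]
    field_simp
    linear_combination -hb'
  · simp only [Pi.smul_apply, Pi.sub_apply, smul_eq_mul]
    field_simp
    ring

theorem corr_cyclic_top [Finite Γ] {G C : Subgroup Γ} [G.Normal] {s : Γ} {p : ℕ} (hp : p.Prime)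
    {k : ℕ} (hs : s ^ p ^ k = 1) (htop : G ⊔ Subgroup.zpowers s = ⊤)
    (hcop : (Nat.card G).Coprime (orderOf s)) (hC : ∀ c, c ∈ C ↔ c ∈ G ∧ c * s = s * c)
    (hCG : C ≤ G) : Corr p (Subgroup.zpowers s) hCG := by
  have := Fintype.ofFinite C
  have hsn : s ∈ Subgroup.normalizer (G : Set Γ) := by
    rw [Subgroup.normalizer_eq_top (H := G)]; trivial
  have key : ∀ χ, IsIrrCharacter G χ → Inv (Subgroup.zpowers s) χ → ∃ (a : Γ → ℂ) (β : C → ℂ)
      (ε : ℤ), CanExt (orderOf s) χ a ∧ IsIrrCharacter C β ∧ (ε = 1 ∨ ε = -1) ∧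
      (∀ c : C, a (c * s) = ε * β c) ∧ Rel p (Subgroup.inclusion hCG) χ β := by
    intro χ hχ hinv
    obtain ⟨a, ha⟩ := exists_canExt (index_dvd_of_sup htop) hcop hχ (by
      rw [← htop]
      exact Inv.sup Subgroup.le_normalizer (by rwa [Subgroup.zpowers_le])
        (inv_self hχ.isClassFunction) hinv)
    obtain ⟨β, ε, h1, h2⟩ := ha.exists_sign htop hcop hC
    exact ⟨a, β, ε, ha, β.2, h1, h2, ha.rel_of_sign hp hs hC hCG β.2 h1 h2⟩
  refine ⟨fun χ hχ hinv => ?_, fun χ χ' β hχ hχ' hβ hinv hinv' h h' => ?_, fun β hβ => ?_⟩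
  · obtain ⟨a, β, ε, -, h1, -, -, h2⟩ := key χ hχ hinv
    exact ⟨β, h1, h2⟩
  · obtain ⟨a, γ, ε, h0, h1, h2, h3, h4⟩ := key χ hχ hinv
    obtain ⟨a', γ', ε', h0', h1', h2', h3', h4'⟩ := key χ' hχ' hinv'
    obtain rfl := h.unique hp hχ.isCharacter hβ h1 h4
    obtain rfl := h'.unique hp hχ'.isCharacter hβ h1' h4'
    exact h0.eq_of_sign hcop hC h0' hβ h2 h2' h3 h3'
  · obtain ⟨χ, a, ε, ha, hε, h⟩ := exists_canExt_sign htop hcop hC ⟨β, hβ⟩
    exact ⟨χ, ha.irr, ha.inv.mono le_top, ha.rel_of_sign hp hs hC hCG hβ hε h⟩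

theorem corr_cyclic [Finite Γ] {G C : Subgroup Γ} {s : Γ} {p : ℕ} (hp : p.Prime)
    {k : ℕ} (hs : s ^ p ^ k = 1) (hsn : s ∈ Subgroup.normalizer (G : Set Γ))
    (hcop : (Nat.card G).Coprime (orderOf s)) (hC : ∀ c, c ∈ C ↔ c ∈ G ∧ c * s = s * c)
    (hCG : C ≤ G) : Corr p (Subgroup.zpowers s) hCG := by
  set L := G ⊔ Subgroup.zpowers s with hL
  have hGL : G ≤ L := le_sup_left
  have hCL : C ≤ L := hCG.trans hGL
  have hsL : s ∈ L := Subgroup.mem_sup_right (Subgroup.mem_zpowers s)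
  have hLN : L ≤ Subgroup.normalizer (G : Set Γ) :=
    sup_le Subgroup.le_normalizer (by rwa [Subgroup.zpowers_le])
  have hn : (G.subgroupOf L).Normal := (Subgroup.normal_subgroupOf_iff_le_normalizer hGL).mpr hLN
  have hCG' : C.subgroupOf L ≤ G.subgroupOf L := fun _ h => hCG h
  have hs' : (⟨s, hsL⟩ : L) ∈ Subgroup.normalizer ((G.subgroupOf L : Subgroup L) : Set L) := by
    rw [Subgroup.normalizer_eq_top (H := G.subgroupOf L)]; trivial
  have H := corr_cyclic_top (G := G.subgroupOf L) (C := C.subgroupOf L) (s := ⟨s, hsL⟩) hp (k := k)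
    (Subtype.ext hs) (by
      apply Subgroup.map_injective L.subtype_injective
      rw [Subgroup.map_sup, Subgroup.subgroupOf_map_subtype, MonoidHom.map_zpowers,
        ← MonoidHom.range_eq_map, Subgroup.range_subtype, inf_of_le_left hGL]
      rfl)
    (by rw [HT.card_subgroupOf_of_le hGL, ← Subgroup.orderOf_coe]; exact hcop)
    (fun c => by
      rw [Subgroup.mem_subgroupOf, Subgroup.mem_subgroupOf, hC, Subtype.ext_iff]; rfl) hCG'
  set eG := Subgroup.subgroupOfEquivOfLe hGL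
  set eC := Subgroup.subgroupOfEquivOfLe hCL
  have i1 : ∀ χ : G → ℂ, Inv (Subgroup.zpowers s) χ →
      Inv (Subgroup.zpowers (⟨s, hsL⟩ : L)) fun g => χ (eG g) := fun χ h =>
    inv_zpowers hs' fun g g' hg => h s (Subgroup.mem_zpowers s) _ _ (congrArg Subtype.val hg)
  have i2 : ∀ χ : G.subgroupOf L → ℂ, Inv (Subgroup.zpowers (⟨s, hsL⟩ : L)) χ →
      Inv (Subgroup.zpowers s) fun g => χ (eG.symm g) := fun χ h =>
    inv_zpowers hsn fun g g' hg => h _ (Subgroup.mem_zpowers _) _ _ (Subtype.ext hg)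
  refine ⟨fun χ hχ hinv => ?_, fun χ χ' β hχ hχ' hβ hinv hinv' h h' => ?_, fun β hβ => ?_⟩
  · obtain ⟨β, hβ, h⟩ := H.ex _ (hχ.comp_mulEquiv eG) (i1 χ hinv)
    exact ⟨_, hβ.comp_mulEquiv eC.symm,
      h.congr (f' := Subgroup.inclusion hCG) eG.symm eC.symm.toMonoidHom fun c => rfl⟩
  · have := H.inj _ _ _ (hχ.comp_mulEquiv eG) (hχ'.comp_mulEquiv eG) (hβ.comp_mulEquiv eC)
      (i1 χ hinv) (i1 χ' hinv') (h.congr eG eC.toMonoidHom fun c => rfl)
      (h'.congr eG eC.toMonoidHom fun c => rfl)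
    funext g
    exact congrFun this (eG.symm g)
  · obtain ⟨χ, hχ, hinv, h⟩ := H.surj _ (hβ.comp_mulEquiv eC)
    exact ⟨_, hχ.comp_mulEquiv eG.symm, i2 χ hinv,
      h.congr (f' := Subgroup.inclusion hCG) eG.symm eC.symm.toMonoidHom fun c => rfl⟩

theorem Rel.cj {p : ℕ} {G C : Subgroup Γ} {hCG : C ≤ G} {χ : G → ℂ} {β : C → ℂ} {s : Γ}
    (hG : s ∈ Subgroup.normalizer (G : Set Γ)) (hC : s ∈ Subgroup.normalizer (C : Set Γ))
    (h : Rel p (Subgroup.inclusion hCG) χ β) :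
    Rel p (Subgroup.inclusion hCG) (fun g => χ (cj hG g)) (fun c => β (cj hC c)) :=
  h.congr (Glb.cj hG) (Glb.cj hC).toMonoidHom fun _ => rfl

theorem inv_of_cj {S G : Subgroup Γ} {α : Type*} {χ : G → α}
    (hS : S ≤ Subgroup.normalizer (G : Set Γ))
    (h : ∀ s (hs : s ∈ S), (fun g => χ (cj (hS hs) g)) = χ) : Inv S χ := by
  intro s hs g g' hg
  rw [show g' = cj (hS hs) g from Subtype.ext hg]
  exact congrFun (h s hs) g

theorem Inv.cj_eq {S G : Subgroup Γ} {α : Type*} {χ : G → α} (h : Inv S χ) {s : Γ} (hs : s ∈ S)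
    (hG : s ∈ Subgroup.normalizer (G : Set Γ)) : (fun g => χ (cj hG g)) = χ :=
  funext fun g => h s hs g _ rfl

theorem Inv.cj {T G : Subgroup Γ} {α : Type*} {χ : G → α} (h : Inv T χ) {s : Γ}
    (hT : s ∈ Subgroup.normalizer (T : Set Γ)) (hG : s ∈ Subgroup.normalizer (G : Set Γ)) :
    Inv T fun g => χ (cj hG g) := fun t ht g g' hg =>
  h (s * t * s⁻¹) ((Subgroup.mem_normalizer_iff.mp hT t).mp ht) _ _ (by
    rw [coe_cj, coe_cj, hg]; group)

/-- The correspondence commutes with the action of a subgroup normalizing everything. -/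
theorem Corr.inv_iff [Finite Γ] {p : ℕ} (hp : p.Prime) {T G D : Subgroup Γ} {hDG : D ≤ G}
    (H : Corr p T hDG) {S : Subgroup Γ} (hST : S ≤ Subgroup.normalizer (T : Set Γ))
    (hSG : S ≤ Subgroup.normalizer (G : Set Γ)) (hSD : S ≤ Subgroup.normalizer (D : Set Γ))
    {χ : G → ℂ} {β : D → ℂ} (hχ : IsIrrCharacter G χ) (hβ : IsIrrCharacter D β) (hinv : Inv T χ)
    (h : Rel p (Subgroup.inclusion hDG) χ β) : Inv S χ ↔ Inv S β := by
  constructor
  · intro h1
    refine inv_of_cj hSD fun s hs => ?_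
    have := h.cj (hSG hs) (hSD hs)
    rw [h1.cj_eq hs] at this
    exact this.unique hp hχ.isCharacter (hβ.comp_mulEquiv _) hβ h
  · intro h1
    refine inv_of_cj hSG fun s hs => ?_
    have := h.cj (hSG hs) (hSD hs)
    rw [h1.cj_eq hs] at this
    exact H.inj _ _ β (hχ.comp_mulEquiv _) hχ hβ (hinv.cj (hST hs) (hSG hs)) hinv this h

theorem Corr.trans [Finite Γ] {p : ℕ} (hp : p.Prime) {T U G D C : Subgroup Γ} {hDG : D ≤ G}
    {hCD : C ≤ D} (H : Corr p T hDG) (H' : Corr p U hCD)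
    (hTG : T ≤ Subgroup.normalizer (G : Set Γ)) (hUT : U ≤ Subgroup.normalizer (T : Set Γ))
    (hUG : U ≤ Subgroup.normalizer (G : Set Γ)) (hUD : U ≤ Subgroup.normalizer (D : Set Γ)) :
    Corr p (T ⊔ U) (hCD.trans hDG) := by
  have key : ∀ χ, IsIrrCharacter G χ → Inv (T ⊔ U) χ → ∃ β γ, IsIrrCharacter D β ∧
      IsIrrCharacter C γ ∧ Inv U β ∧ Rel p (Subgroup.inclusion hDG) χ β ∧
      Rel p (Subgroup.inclusion hCD) β γ := by
    intro χ hχ hinv
    obtain ⟨β, hβ, h⟩ := H.ex χ hχ (hinv.mono le_sup_left)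
    have hU := (H.inv_iff hp hUT hUG hUD hχ hβ (hinv.mono le_sup_left) h).mp
      (hinv.mono le_sup_right)
    obtain ⟨γ, hγ, h'⟩ := H'.ex β hβ hU
    exact ⟨β, γ, hβ, hγ, hU, h, h'⟩
  refine ⟨fun χ hχ hinv => ?_, fun χ χ' γ hχ hχ' hγ hinv hinv' h h' => ?_, fun γ hγ => ?_⟩
  · obtain ⟨β, γ, -, hγ, -, h, h'⟩ := key χ hχ hinv
    exact ⟨γ, hγ, h.trans h'⟩
  · obtain ⟨β, γ1, hβ, hγ1, hU, h1, h2⟩ := key χ hχ hinv
    obtain ⟨β', γ2, hβ', hγ2, hU', h1', h2'⟩ := key χ' hχ' hinv'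
    obtain rfl := h.unique hp hχ.isCharacter hγ hγ1 (h1.trans h2)
    obtain rfl := h'.unique hp hχ'.isCharacter hγ hγ2 (h1'.trans h2')
    obtain rfl := H'.inj _ _ _ hβ hβ' hγ hU hU' h2 h2'
    exact H.inj _ _ _ hχ hχ' hβ (hinv.mono le_sup_left) (hinv'.mono le_sup_left) h1 h1'
  · obtain ⟨β, hβ, hU, h⟩ := H'.surj γ hγ
    obtain ⟨χ, hχ, hT, h'⟩ := H.surj β hβ
    exact ⟨χ, hχ, Inv.sup hTG hUG hT ((H.inv_iff hp hUT hUG hUD hχ hβ hT h').mpr hU), h'.trans h⟩

theorem corr_refl [Finite Γ] {p : ℕ} (hp : p.Prime) {S G : Subgroup Γ}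
    (hS : S ≤ Subgroup.centralizer (G : Set Γ)) : Corr p S (le_refl G) := by
  have r : ∀ χ : G → ℂ, Rel p (Subgroup.inclusion (le_refl G)) χ χ := fun χ => rel_of_eq fun _ => rfl
  refine ⟨fun χ hχ _ => ⟨χ, hχ, r χ⟩, fun χ χ' β hχ hχ' hβ _ _ h h' => ?_,
    fun β hβ => ⟨β, hβ, inv_of_le_centralizer β hS, r β⟩⟩
  rw [(r χ).unique hp hχ.isCharacter hχ hβ h, (r χ').unique hp hχ'.isCharacter hχ' hβ h']

theorem exists_coatom [Finite Γ] {S : Subgroup Γ} (hS : Group.IsSolvable S) (h0 : S ≠ ⊥) :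
    ∃ (T : Subgroup Γ) (s : Γ), T < S ∧ S ≤ Subgroup.normalizer (T : Set Γ) ∧ s ∈ S ∧
      T ⊔ Subgroup.zpowers s = S ∧ (T.relIndex S).Prime := by
  have : Nontrivial S := (Subgroup.nontrivial_iff_ne_bot S).mpr h0
  obtain ⟨M, hMn, hM⟩ := HT.exists_normal_index_prime S
  have hM' : M ≠ ⊤ := by
    rintro rfl; rw [Subgroup.index_top] at hM; exact Nat.not_prime_one hM
  obtain ⟨s, hs⟩ : ∃ s, s ∉ M := by
    by_contra! h; exact hM' ((Subgroup.eq_top_iff' M).mpr h)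
  have h1 := S4586.sup_zpowers_eq_top M hM rfl hs (M ⊔ Subgroup.zpowers s) le_sup_left
    (Subgroup.mem_sup_right (Subgroup.mem_zpowers s))
  have h2 := congrArg (Subgroup.map S.subtype) h1
  rw [Subgroup.map_sup, MonoidHom.map_zpowers, ← MonoidHom.range_eq_map,
    Subgroup.range_subtype] at h2
  refine ⟨M.map S.subtype, s, lt_of_le_of_ne (Subgroup.map_subtype_le M) fun h => hs ?_,
    CopAct.le_normalizer_map_subtype_of_normal M, s.2, h2, ?_⟩
  · obtain ⟨x, hx, hxs⟩ := h.ge s.2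
    rwa [← show x = s from Subtype.ext hxs]
  · rwa [Subgroup.relIndex, Subgroup.subgroupOf, Subgroup.comap_map_eq_self_of_injective
      S.subtype_injective]

theorem centralizer_sup' (A B : Subgroup Γ) :
    Subgroup.centralizer ((A ⊔ B : Subgroup Γ) : Set Γ) =
      Subgroup.centralizer (A : Set Γ) ⊓ Subgroup.centralizer (B : Set Γ) := by
  refine le_antisymm (le_inf (Subgroup.centralizer_le (show A ≤ A ⊔ B from le_sup_left))
    (Subgroup.centralizer_le (show B ≤ A ⊔ B from le_sup_right))) ?_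
  rw [Subgroup.le_centralizer_iff]
  exact sup_le (Subgroup.le_centralizer_iff.mp inf_le_left)
    (Subgroup.le_centralizer_iff.mp inf_le_right)

/-- **Glauberman correspondence** for a `p`-group of operators. -/
theorem corr_pGroup [Finite Γ] {p : ℕ} (hp : p.Prime) {S G C : Subgroup Γ} (hS : IsPGroup p S)
    (hn : S ≤ Subgroup.normalizer (G : Set Γ)) (hcop : (Nat.card G).Coprime (Nat.card S))
    (hC : C = G ⊓ Subgroup.centralizer (S : Set Γ)) (hCG : C ≤ G) : Corr p S hCG := by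
  have := Fact.mk hp
  induction hm : Nat.card S using Nat.strong_induction_on generalizing S C with
  | _ m ih =>
  by_cases h0 : S = ⊥
  · subst h0
    obtain rfl : C = G := by
      rw [hC, inf_eq_left]
      intro x _ y hy
      rw [show y = 1 from hy, one_mul, mul_one]
    exact corr_refl hp bot_le
  obtain ⟨T, s, hTS, hST, hs, hsup, -⟩ := exists_coatom (CopAct.isSolvable_of_isPGroup hS) h0
  have H1 := ih _ (hm ▸ HT.card_lt_of_lt hTS) (hS.to_le hTS.le) (hTS.le.trans hn)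
    (hcop.coprime_dvd_right (Subgroup.card_dvd_of_le hTS.le)) rfl inf_le_left rfl
  have hz : Subgroup.zpowers s ≤ S := by rwa [Subgroup.zpowers_le]
  have hSD : S ≤ Subgroup.normalizer ((G ⊓ Subgroup.centralizer (T : Set Γ) : Subgroup Γ) : Set Γ) :=
    CopAct.le_normalizer_inf hn (CopAct.le_normalizer_centralizer hST)
  obtain ⟨k, hk⟩ := FG.H96.exists_orderOf_of_mem hS hs
  have hCD : C ≤ G ⊓ Subgroup.centralizer (T : Set Γ) :=
    hC ▸ inf_le_inf_left _ (Subgroup.centralizer_le hTS.le)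
  have H2 := corr_cyclic (C := C) hp (k := k) (by rw [← hk, pow_orderOf_eq_one]) (hSD hs)
    ((hcop.coprime_dvd_left (Subgroup.card_dvd_of_le inf_le_left)).coprime_dvd_right
      (Subgroup.orderOf_dvd_natCard S hs)) (fun c => by
        rw [← mem_inf_centralizer_zpowers, hC, ← hsup, inf_assoc, centralizer_sup']) hCD
  have := H1.trans hp H2 (hTS.le.trans hn) (hz.trans hST) (hz.trans hn) (hz.trans hSD)
  rwa [hsup] at this

theorem Corr.card_inv_eq [Finite Γ] {p : ℕ} (hp : p.Prime) {T G D : Subgroup Γ} {hDG : D ≤ G}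
    (H : Corr p T hDG) {S : Subgroup Γ} (hTS : T ≤ S) (hST : S ≤ Subgroup.normalizer (T : Set Γ))
    (hSG : S ≤ Subgroup.normalizer (G : Set Γ)) (hSD : S ≤ Subgroup.normalizer (D : Set Γ)) :
    Nat.card {χ : IrrCharacter G // Inv S (χ : G → ℂ)} =
      Nat.card {β : IrrCharacter D // Inv S (β : D → ℂ)} := by
  have key : ∀ χ : {χ : IrrCharacter G // Inv S (χ : G → ℂ)},
      ∃ β : {β : IrrCharacter D // Inv S (β : D → ℂ)},
        Rel p (Subgroup.inclusion hDG) (χ.1 : G → ℂ) (β.1 : D → ℂ) := by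
    intro χ
    obtain ⟨β, hβ, h⟩ := H.ex _ χ.1.2 (χ.2.mono hTS)
    exact ⟨⟨⟨β, hβ⟩, (H.inv_iff hp hST hSG hSD χ.1.2 hβ (χ.2.mono hTS) h).mp χ.2⟩, h⟩
  choose f hf using key
  refine Nat.card_congr (Equiv.ofBijective f ⟨fun χ χ' h => ?_, fun β => ?_⟩)
  · exact Subtype.ext (Subtype.ext (H.inj _ _ _ χ.1.2 χ'.1.2 (f χ).1.2 (χ.2.mono hTS)
      (χ'.2.mono hTS) (hf χ) (h ▸ hf χ')))
  · obtain ⟨χ, hχ, hT, h⟩ := H.surj _ β.1.2
    have h2 := (H.inv_iff hp hST hSG hSD hχ β.1.2 hT h).mpr β.2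
    exact ⟨⟨⟨χ, hχ⟩, h2⟩, Subtype.ext (Subtype.ext ((hf ⟨⟨χ, hχ⟩, h2⟩).unique hp hχ.isCharacter
      (f _).1.2 β.1.2 h))⟩

theorem Corr.sup_centralizer {p : ℕ} {T O G D : Subgroup Γ} {hDG : D ≤ G} (H : Corr p T hDG)
    (hTG : T ≤ Subgroup.normalizer (G : Set Γ)) (hO : O ≤ Subgroup.centralizer (G : Set Γ)) :
    Corr p (O ⊔ T) hDG := by
  refine ⟨fun χ hχ h => H.ex χ hχ (h.mono le_sup_right),
    fun χ χ' β hχ hχ' hβ h h' => H.inj χ χ' β hχ hχ' hβ (h.mono le_sup_right) (h'.mono le_sup_right),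
    fun β hβ => ?_⟩
  obtain ⟨χ, hχ, h, h'⟩ := H.surj β hβ
  exact ⟨χ, hχ, Inv.sup (hO.trans (Subgroup.centralizer_le_normalizer _)) hTG
    (inv_of_le_centralizer χ hO) h, h'⟩

/-- For a solvable coprime operator group `S`, the number of `S`-invariant irreducible characters
of `G` is the number of irreducible characters of `C_G(S)`. -/
theorem card_inv_solvable [Finite Γ] {S G : Subgroup Γ} (hS : Group.IsSolvable S)
    (hn : S ≤ Subgroup.normalizer (G : Set Γ)) (hcop : (Nat.card G).Coprime (Nat.card S)) :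
    Nat.card {χ : IrrCharacter G // Inv S (χ : G → ℂ)} =
      Nat.card (IrrCharacter ↥(G ⊓ Subgroup.centralizer (S : Set Γ))) := by
  induction hm : Nat.card G using Nat.strong_induction_on generalizing G with
  | _ m ih =>
  by_cases h0 : S ≤ Subgroup.centralizer (G : Set Γ)
  · rw [inf_of_le_left (Subgroup.le_centralizer_iff.mp h0)]
    exact Nat.card_congr (Equiv.subtypeUnivEquiv fun χ => inv_of_le_centralizer _ h0)
  obtain ⟨R, ⟨hRS, hSR, hR⟩, hmin⟩ := (wellFounded_lt (α := Subgroup Γ)).has_min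
    {R | R ≤ S ∧ S ≤ Subgroup.normalizer (R : Set Γ) ∧ ¬ R ≤ Subgroup.centralizer (G : Set Γ)}
    ⟨S, le_rfl, Subgroup.le_normalizer, h0⟩
  obtain ⟨T, s, hTR, hRT, -, -, hp⟩ := exists_coatom (HT.isSolvable_of_le hRS hS)
    (by rintro rfl; exact hR bot_le)
  set p := T.relIndex R
  have := Fact.mk hp
  have hOT : pResidualOf p R ≤ T := by
    have : (T.subgroupOf R).Normal := (Subgroup.normal_subgroupOf_iff_le_normalizer hTR.le).mpr hRT
    have h1 : pResidual p R ≤ T.subgroupOf R := pResidual_le_of_index (k := 1) (pow_one _).symm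
    refine (Subgroup.map_mono h1).trans ?_
    rw [Subgroup.subgroupOf_map_subtype]; exact inf_le_left
  have hO : pResidualOf p R ≤ Subgroup.centralizer (G : Set Γ) := by
    by_contra h
    exact hmin _ ⟨(pResidualOf_le R).trans hRS,
      hSR.trans (normalizer_le_normalizer_pResidualOf R), h⟩ (hOT.trans_lt hTR)
  obtain ⟨P⟩ : Nonempty (Sylow p R) := inferInstance
  have hsup : pResidualOf p R ⊔ (P : Subgroup R).map R.subtype = R := by
    have := congrArg (Subgroup.map R.subtype) (pResidual_sup_sylow P)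
    rwa [Subgroup.map_sup, ← MonoidHom.range_eq_map, Subgroup.range_subtype] at this
  have hPS : (P : Subgroup R).map R.subtype ≤ S := (Subgroup.map_subtype_le _).trans hRS
  have hD : G ⊓ Subgroup.centralizer (R : Set Γ) =
      G ⊓ Subgroup.centralizer (((P : Subgroup R).map R.subtype : Subgroup Γ) : Set Γ) := by
    refine le_antisymm (inf_le_inf_left _ (Subgroup.centralizer_le (Subgroup.map_subtype_le _)))
      (le_inf inf_le_left ?_)
    rw [Subgroup.le_centralizer_iff]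
    refine hsup.ge.trans (sup_le (hO.trans (Subgroup.centralizer_le inf_le_left)) ?_)
    rw [Subgroup.le_centralizer_iff]; exact inf_le_right
  have H := (corr_pGroup hp (P.isPGroup'.map R.subtype) (hPS.trans hn)
    (hcop.coprime_dvd_right (Subgroup.card_dvd_of_le hPS)) hD inf_le_left).sup_centralizer
    (hPS.trans hn) hO
  rw [hsup] at H
  have hSD : S ≤ Subgroup.normalizer ((G ⊓ Subgroup.centralizer (R : Set Γ) : Subgroup Γ) : Set Γ) :=
    CopAct.le_normalizer_inf hn (CopAct.le_normalizer_centralizer hSR)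
  have hlt : G ⊓ Subgroup.centralizer (R : Set Γ) < G := lt_of_le_of_ne inf_le_left fun h =>
    hR (Subgroup.le_centralizer_iff.mp (inf_eq_left.mp h))
  rw [H.card_inv_eq hp hRS hSR hn hSD, ih _ (hm ▸ HT.card_lt_of_lt hlt) hSD
    (hcop.coprime_dvd_left (Subgroup.card_dvd_of_le hlt.le)) rfl, inf_assoc,
    inf_of_le_right (Subgroup.centralizer_le hRS)]

end Cfsg.Agent.Ch.Glb
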