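import Mathlib
import Cfsg.Agent.Ch.Table
import Cfsg.Agent.Ch.Diag

/-!
# Unitary representations

Every character of a finite group is afforded by a norm preserving representation on a Euclidean
space.
-/

set_option autoImplicit false

namespace Cfsg.Agent.Ch

open Module
open scoped ComplexConjugate InnerProductSpace

variable {G : Type*} [Group G]

/-- Every representation of a finite group is equivalent to a unitary one. -/
theorem unitary_exists_equiv [Finite G] {V : Type*} [AddCommGroup V] [Module ℂ V]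
    [FiniteDimensional ℂ V] (ρ : Representation ℂ G V) :
    ∃ e : V ≃ₗ[ℂ] EuclideanSpace ℂ (Fin (finrank ℂ V)), ∀ g v, ‖e (ρ g v)‖ = ‖e v‖ := by
  have := Fintype.ofFinite G
  let b := Module.finBasis ℂ V
  let T : V →ₗ[ℂ] EuclideanSpace ℂ (G × Fin (finrank ℂ V)) :=
    (WithLp.linearEquiv 2 ℂ _).symm.toLinearMap ∘ₗ
      LinearMap.pi fun x => b.coord x.2 ∘ₗ ρ x.1
  have hT : ∀ v x, T v x = b.repr (ρ x.1 v) x.2 := fun _ _ => rfl
  have hinj : Function.Injective T := by
    rw [← LinearMap.ker_eq_bot, LinearMap.ker_eq_bot']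
    intro v hv
    refine b.repr.injective (Finsupp.ext fun i => ?_)
    have := hT v (1, i)
    simpa [hv] using this.symm
  have hn : ∀ g v, ‖T (ρ g v)‖ = ‖T v‖ := fun g v => by
    rw [EuclideanSpace.norm_eq, EuclideanSpace.norm_eq]
    congr 1
    refine Fintype.sum_equiv ((Equiv.mulRight g).prodCongr (Equiv.refl _)) _ _ fun x => ?_
    simp [hT]
  let e₁ := LinearEquiv.ofInjective T hinj
  have hr : finrank ℂ (LinearMap.range T) = finrank ℂ V := e₁.finrank_eq.symm
  let e₂ := ((stdOrthonormalBasis ℂ (LinearMap.range T)).reindex (finCongr hr)).repr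
  refine ⟨e₁.trans e₂.toLinearEquiv, fun g v => ?_⟩
  simp only [LinearEquiv.trans_apply, LinearIsometryEquiv.coe_toLinearEquiv,
    LinearIsometryEquiv.norm_map]
  exact hn g v

section Inner

variable {E : Type*} [NormedAddCommGroup E] [InnerProductSpace ℂ E]

/-- Eigenvectors of an isometry for different eigenvalues are orthogonal. -/
theorem unitary_inner_eq_zero {U : E →ₗ[ℂ] E} (hU : ∀ v, ‖U v‖ = ‖v‖) {v w : E} {a b : ℂ}
    (hv : U v = a • v) (hw : U w = b • w) (hab : a ≠ b) : ⟪v, w⟫_ℂ = 0 := by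
  by_contra h
  have hv0 : v ≠ 0 := by rintro rfl; simp at h
  have h1 := (LinearMap.norm_map_iff_inner_map_map U).1 hU
  have h2 := h1 v w
  have h3 := h1 v v
  rw [hv, hw, inner_smul_left, inner_smul_right, ← mul_assoc, mul_eq_right₀ h] at h2
  rw [hv, inner_smul_left, inner_smul_right, ← mul_assoc,
    mul_eq_right₀ (inner_self_ne_zero.2 hv0)] at h3
  have h4 : conj a ≠ 0 := left_ne_zero_of_mul_eq_one h2
  exact hab (mul_left_cancel₀ h4 (h3.trans h2.symm))

theorem unitary_norm_sum_sq {ι : Type*} (s : Finset ι) (w : ι → E)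
    (h : ∀ i ∈ s, ∀ j ∈ s, i ≠ j → ⟪w i, w j⟫_ℂ = 0) :
    ‖∑ i ∈ s, w i‖ ^ 2 = ∑ i ∈ s, ‖w i‖ ^ 2 := by
  simp only [@InnerProductSpace.norm_sq_eq_re_inner ℂ E, sum_inner, inner_sum, map_sum]
  refine Finset.sum_congr rfl fun i hi => Finset.sum_eq_single i (fun j hj hji => ?_)
    (fun h => absurd hi h)
  rw [h j hj i hi hji, map_zero]

/-- If an isometry has an eigenbasis with eigenvalues within `r` of `c` then it is within `r`
of the scalar `c`. -/
theorem unitary_norm_sub_le {U : E →ₗ[ℂ] E} (hU : ∀ v, ‖U v‖ = ‖v‖) {ι : Type*} [Fintype ι]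
    (b : Basis ι ℂ E) (μ : ι → ℂ) (hb : ∀ i, U (b i) = μ i • b i) {c : ℂ} {r : ℝ} (hr0 : 0 ≤ r)
    (hr : ∀ i, ‖μ i - c‖ ≤ r) (v : E) : ‖U v - c • v‖ ≤ r * ‖v‖ := by
  classical
  let w : ℂ → E := fun a => ∑ i with μ i = a, b.repr v i • b i
  have hw : ∀ a, U (w a) = a • w a := fun a => by
    simp only [w, map_sum, map_smul, Finset.smul_sum]
    exact Finset.sum_congr rfl fun i hi => by
      rw [hb, (Finset.mem_filter.1 hi).2, smul_comm]
  let S := Finset.univ.image μ
  have hv : v = ∑ a ∈ S, w a := by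
    rw [Finset.sum_fiberwise_of_maps_to (fun i hi => Finset.mem_image_of_mem μ hi), b.sum_repr]
  have h1 : U v - c • v = ∑ a ∈ S, (a - c) • w a := by
    conv_lhs => rw [hv]
    simp only [map_sum, hw, Finset.smul_sum, sub_smul, Finset.sum_sub_distrib]
  have ho : ∀ a a', a ≠ a' → ⟪w a, w a'⟫_ℂ = 0 := fun a a' h =>
    unitary_inner_eq_zero hU (hw a) (hw a') h
  refine (pow_le_pow_iff_left₀ (norm_nonneg _) (by positivity) two_ne_zero).1 ?_
  rw [h1, unitary_norm_sum_sq _ _ fun a _ a' _ h => by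
    rw [inner_smul_left, inner_smul_right, ho a a' h, mul_zero, mul_zero]]
  conv_rhs => rw [hv, mul_pow, unitary_norm_sum_sq _ _ fun a _ a' _ h => ho a a' h, Finset.mul_sum]
  refine Finset.sum_le_sum fun a ha => ?_
  obtain ⟨i, -, rfl⟩ := Finset.mem_image.1 ha
  rw [norm_smul, mul_pow]
  gcongr
  exact hr i

end Inner

end Cfsg.Agent.Ch

namespace Cfsg

open Module Cfsg.Agent.Ch

variable {G : Type*} [Group G] [Finite G] {χ : G → ℂ}

/-- Every character is afforded by a unitary representation. -/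
theorem IsCharacter.exists_unitary (h : IsCharacter G χ) :
    ∃ ρ : Representation ℂ G (EuclideanSpace ℂ (Fin (charDegree χ))),
      ρ.character = χ ∧ ∀ g v, ‖ρ g v‖ = ‖v‖ := by
  obtain ⟨ρ, hρ⟩ := h.exists_rep
  obtain ⟨e, he⟩ := unitary_exists_equiv ρ
  let e' := e.trans (LinearIsometryEquiv.piLpCongrLeft 2 ℂ ℂ
    (finCongr (by simp : finrank ℂ (Fin (charDegree χ) → ℂ) = charDegree χ))).toLinearEquiv
  have he' : ∀ v, ‖e' v‖ = ‖e v‖ := fun v => by simp [e']
  refine ⟨repCongr ρ e', by rw [character_repCongr, hρ], fun g v => ?_⟩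
  rw [repCongr_apply, he', he, ← he', e'.apply_symm_apply]

end Cfsg
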