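import Mathlib
import Cfsg.Agent.Ch.Unitary

/-!
# Frobenius' form of Jordan's theorem on finite linear groups
-/

set_option autoImplicit false

namespace Cfsg.Agent.Ch

open Module
open scoped ComplexConjugate InnerProductSpace

variable {G : Type*} [Group G]

/-- A set of pairwise commuting elements lies in the abelian subgroup `Z(C(S))`. -/
theorem jordan_comm_of_mem {S : Set G} {x y : G}
    (hx : x ∈ Subgroup.centralizer S ⊓ Subgroup.centralizer (Subgroup.centralizer S : Set G))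
    (hy : y ∈ Subgroup.centralizer S ⊓ Subgroup.centralizer (Subgroup.centralizer S : Set G)) :
    x * y = y * x :=
  hy.2 x hx.1

theorem jordan_mem_of_comm {S : Set G} (hS : ∀ a ∈ S, ∀ b ∈ S, a * b = b * a) {x : G}
    (hx : x ∈ S) :
    x ∈ Subgroup.centralizer S ⊓ Subgroup.centralizer (Subgroup.centralizer S : Set G) :=
  ⟨fun y hy => hS y hy x hx, fun _ hy => (hy x hx).symm⟩

section Inner

variable {E : Type*} [NormedAddCommGroup E] [InnerProductSpace ℂ E] [FiniteDimensional ℂ E]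
  [Finite G] {ρ : Representation ℂ G E}

/-- If `a` commutes with `b a b⁻¹` and `b` is close to the identity then `a` commutes with `b`. -/
theorem jordan_comm_of_comm_conj (hU : ∀ g v, ‖ρ g v‖ = ‖v‖) (hf : Function.Injective ρ)
    {a b : G} (hb : ∀ v, v ≠ 0 → ‖ρ b v - v‖ < ‖v‖)
    (h : a * (b * a * b⁻¹) = b * a * b⁻¹ * a) : a * b = b * a := by
  have hS : ∀ x ∈ ({a, b * a * b⁻¹} : Set G), ∀ y ∈ ({a, b * a * b⁻¹} : Set G),
      x * y = y * x := by
    rintro x (rfl | rfl) y (rfl | rfl) <;> simp [h]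
  obtain ⟨e, l, he⟩ := diag_exists_basis_subgroup ρ _ fun x hx y hy =>
    jordan_comm_of_mem (S := {a, b * a * b⁻¹}) hx hy
  have h1 := he ⟨a, jordan_mem_of_comm hS (by simp)⟩
  have h2 := he ⟨b * a * b⁻¹, jordan_mem_of_comm hS (by simp)⟩
  simp only at h1 h2
  have h3 : ρ a = ρ (b * a * b⁻¹) := by
    refine e.ext fun i => ?_
    rw [h1, h2]
    congr 1
    by_contra hne
    have h4 : ρ a (ρ b⁻¹ (e i)) = l i ⟨b * a * b⁻¹, jordan_mem_of_comm hS (by simp)⟩ •
        ρ b⁻¹ (e i) := by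
      rw [← map_smul, ← h2, ← Module.End.mul_apply, ← Module.End.mul_apply, ← map_mul, ← map_mul]
      congr 2
      group
    have h5 := unitary_inner_eq_zero (hU a) (h1 i) h4 hne
    have h6 := hb (ρ b⁻¹ (e i)) (by rw [← norm_ne_zero_iff, hU, norm_ne_zero_iff]; exact e.ne_zero i)
    rw [← Module.End.mul_apply, ← map_mul, mul_inv_cancel, map_one, Module.End.one_apply] at h6
    have h7 := norm_add_sq_eq_norm_sq_add_norm_sq_of_inner_eq_zero (𝕜 := ℂ) (e i) (-ρ b⁻¹ (e i))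
      (by rw [inner_neg_right, h5, neg_zero])
    rw [← sub_eq_add_neg, norm_neg] at h7
    nlinarith [norm_nonneg (e i - ρ b⁻¹ (e i)), norm_nonneg (e i), norm_nonneg (ρ b⁻¹ (e i))]
  have := hf h3
  calc a * b = b * a * b⁻¹ * b := by rw [← this]
    _ = b * a := by group

/-- The distance of `ρ g` from the scalar `c` in the operator norm. -/
noncomputable def jordanDist (ρ : Representation ℂ G E) (c : ℂ) (g : G) : ℝ :=
  ‖LinearMap.toContinuousLinearMap (ρ g - c • 1)‖

omit [Finite G] in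
theorem jordanDist_nonneg (c : ℂ) (g : G) : 0 ≤ jordanDist ρ c g := norm_nonneg _

omit [Finite G] in
theorem le_jordanDist (c : ℂ) (g : G) (v : E) : ‖ρ g v - c • v‖ ≤ jordanDist ρ c g * ‖v‖ :=
  (LinearMap.toContinuousLinearMap (ρ g - c • 1)).le_opNorm v

omit [Finite G] in
theorem jordanDist_le {c : ℂ} {g : G} {r : ℝ} (hr : 0 ≤ r)
    (h : ∀ v, ‖ρ g v - c • v‖ ≤ r * ‖v‖) : jordanDist ρ c g ≤ r :=
  ContinuousLinearMap.opNorm_le_bound _ hr h

omit [Finite G] in
theorem jordanDist_conj_le (hU : ∀ g v, ‖ρ g v‖ = ‖v‖) (c : ℂ) (g x : G) :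
    jordanDist ρ c (x * g * x⁻¹) ≤ jordanDist ρ c g := by
  refine jordanDist_le (jordanDist_nonneg _ _) fun v => ?_
  have h := le_jordanDist (ρ := ρ) c g (ρ x⁻¹ v)
  rw [hU, ← hU x, map_sub, map_smul, ← Module.End.mul_apply (ρ x) (ρ x⁻¹), ← map_mul,
    mul_inv_cancel, map_one] at h
  simpa using h

omit [Finite G] in
theorem jordanDist_commutator_le (hU : ∀ g v, ‖ρ g v‖ = ‖v‖) (c : ℂ) (a b : G) :
    jordanDist ρ 1 (a * b * a⁻¹ * b⁻¹) ≤ 2 * jordanDist ρ c a * jordanDist ρ 1 b := by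
  have ha := jordanDist_nonneg (ρ := ρ) c a
  have hb := jordanDist_nonneg (ρ := ρ) 1 b
  refine jordanDist_le (by positivity) fun v => ?_
  obtain ⟨w, rfl⟩ : ∃ w, v = ρ b (ρ a w) := ⟨ρ a⁻¹ (ρ b⁻¹ v), by
    simp only [← Module.End.mul_apply, ← map_mul, mul_inv_cancel_left, mul_inv_cancel,
      map_one, Module.End.one_apply]⟩
  have h1 : ρ (a * b * a⁻¹ * b⁻¹) (ρ b (ρ a w)) = ρ a (ρ b w) := by
    simp only [← Module.End.mul_apply, ← map_mul]
    congr 2
    group
  have h2 : ρ a (ρ b w) - (1 : ℂ) • ρ b (ρ a w) =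
      (ρ a (ρ b w - (1 : ℂ) • w) - c • (ρ b w - (1 : ℂ) • w)) -
        (ρ b (ρ a w - c • w) - (1 : ℂ) • (ρ a w - c • w)) := by
    simp only [map_sub, map_smul, one_smul, smul_sub]
    abel
  rw [h1, h2, hU, hU]
  have h3 := le_jordanDist (ρ := ρ) c a (ρ b w - (1 : ℂ) • w)
  have h4 := le_jordanDist (ρ := ρ) 1 b (ρ a w - c • w)
  have h5 := mul_le_mul_of_nonneg_left (le_jordanDist (ρ := ρ) c a w) hb
  have h6 := mul_le_mul_of_nonneg_left (le_jordanDist (ρ := ρ) 1 b w) ha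
  refine (norm_sub_le _ _).trans ?_
  nlinarith

/-- Frobenius: an element within `1 / 2` of a scalar commutes with every element within `1` of
the identity. -/
theorem jordan_comm_of_dist (hU : ∀ g v, ‖ρ g v‖ = ‖v‖) (hf : Function.Injective ρ) {c : ℂ}
    {a b : G} (ha : jordanDist ρ c a < 1 / 2) (hb : jordanDist ρ 1 b < 1) : a * b = b * a := by
  by_contra hab
  obtain ⟨b, ⟨hb, hab⟩, hmin⟩ := Set.exists_min_image
    {b | jordanDist ρ 1 b < 1 ∧ a * b ≠ b * a} (jordanDist ρ 1) (Set.toFinite _) ⟨b, hb, hab⟩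
  have h0 : 0 < jordanDist ρ 1 b := by
    refine (jordanDist_nonneg _ _).lt_of_ne' fun h => hab ?_
    have : ρ b = ρ 1 := LinearMap.ext fun v => by
      have := le_jordanDist (ρ := ρ) 1 b v
      rw [h, zero_mul, norm_le_zero_iff, sub_eq_zero] at this
      simpa using this
    rw [hf this, mul_one, one_mul]
  have h1 : jordanDist ρ 1 (a * b * a⁻¹ * b⁻¹) < jordanDist ρ 1 b :=
    (jordanDist_commutator_le hU c a b).trans_lt (by nlinarith)
  have h2 : a * (a * b * a⁻¹ * b⁻¹) = a * b * a⁻¹ * b⁻¹ * a := by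
    by_contra h
    exact absurd (hmin _ ⟨h1.trans hb, h⟩) (not_le.2 h1)
  refine hab (jordan_comm_of_comm_conj hU hf (fun v hv => ?_) ?_)
  · have := le_jordanDist (ρ := ρ) 1 b v
    rw [one_smul] at this
    exact this.trans_lt (mul_lt_of_lt_one_left (norm_pos_iff.2 hv) hb)
  · have h3 : Commute a ((a * b * a⁻¹ * b⁻¹)⁻¹ * a) :=
      (show Commute a (a * b * a⁻¹ * b⁻¹) from h2).inv_right.mul_right (Commute.refl a)
    rwa [show (a * b * a⁻¹ * b⁻¹)⁻¹ * a = b * a * b⁻¹ by group] at h3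

end Inner

/-- Two points of the unit circle in the same one of twelve equal arcs. -/
theorem jordan_norm_sub_lt {z w : ℂ} (hz : ‖z‖ = 1) (hw : ‖w‖ = 1)
    (h : ⌊(Real.pi - z.arg) / (Real.pi / 6)⌋ = ⌊(Real.pi - w.arg) / (Real.pi / 6)⌋) :
    ‖z⁻¹ * w - ((√3 / 2 : ℝ) : ℂ)‖ < 1 / 2 := by
  have hpi := Real.pi_pos
  have h1 := Int.abs_sub_lt_one_of_floor_eq_floor h
  rw [← sub_div, abs_div, abs_of_pos (by positivity : 0 < Real.pi / 6),
    div_lt_one (by positivity), show Real.pi - z.arg - (Real.pi - w.arg) = w.arg - z.arg by ring]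
    at h1
  have h2 := Real.cos_lt_cos_of_nonneg_of_le_pi (abs_nonneg _) (by linarith) h1
  rw [Real.cos_abs, Real.cos_pi_div_six] at h2
  have h3 : z⁻¹ * w = Complex.exp (((w.arg - z.arg : ℝ) : ℂ) * Complex.I) := by
    conv_lhs => rw [← Complex.norm_mul_exp_arg_mul_I z, ← Complex.norm_mul_exp_arg_mul_I w, hz, hw]
    rw [Complex.ofReal_one, one_mul, one_mul, ← Complex.exp_neg, ← Complex.exp_add]
    congr 1
    push_cast
    ring
  rw [h3]
  refine lt_of_pow_lt_pow_left₀ 2 (by norm_num) ?_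
  rw [Complex.sq_norm, Complex.normSq_apply]
  simp only [Complex.sub_re, Complex.exp_ofReal_mul_I_re, Complex.ofReal_re, Complex.sub_im,
    Complex.exp_ofReal_mul_I_im, Complex.ofReal_im, sub_zero]
  have h4 := Real.sin_sq_add_cos_sq (w.arg - z.arg)
  have h5 : √3 * √3 = 3 := Real.mul_self_sqrt (by norm_num)
  have h6 : 0 < √3 := by positivity
  nlinarith

theorem jordan_floor_mem (z : ℂ) :
    ⌊(Real.pi - z.arg) / (Real.pi / 6)⌋ ∈ Finset.Ico (0 : ℤ) 12 := by
  have hpi := Real.pi_pos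
  rw [Finset.mem_Ico, Int.floor_nonneg, Int.floor_lt, div_lt_iff₀ (by positivity)]
  have h1 := z.arg_le_pi
  have h2 := z.neg_pi_lt_arg
  exact ⟨div_nonneg (by linarith) (by positivity), by push_cast; linarith⟩

end Cfsg.Agent.Ch

namespace Cfsg

open Module Cfsg.Agent.Ch

variable {G : Type*} [Group G] [Finite G] {χ : G → ℂ}

/-- A finite linear group of degree `n` has an abelian normal subgroup meeting every abelian
subgroup in a subgroup of index at most `12 ^ n`. -/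
theorem IsCharacter.exists_jordan_subgroup (h : IsCharacter G χ) (hf : charKer χ = ⊥) :
    ∃ A : Subgroup G, A.Normal ∧ (∀ x ∈ A, ∀ y ∈ A, x * y = y * x) ∧
      ∀ H : Subgroup G, (∀ x ∈ H, ∀ y ∈ H, x * y = y * x) →
        (A.subgroupOf H).index ≤ 12 ^ charDegree χ := by
  obtain ⟨ρ, hρ, hU⟩ := h.exists_unitary
  rw [← hρ, charKer_character, MonoidHom.ker_eq_bot_iff] at hf
  let c : ℂ := ((√3 / 2 : ℝ) : ℂ)
  let S : Set G := {g | jordanDist ρ c g < 1 / 2}
  have h3 : √3 * √3 = 3 := Real.mul_self_sqrt (by norm_num)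
  have h3' : 0 < √3 := by positivity
  have hS : ∀ a ∈ S, ∀ b ∈ S, a * b = b * a := fun a ha b hb => by
    refine jordan_comm_of_dist hU hf ha ?_
    have hc : ‖1 - c‖ ≤ 1 / 2 := by
      rw [show 1 - c = ((1 - √3 / 2 : ℝ) : ℂ) by simp [c], Complex.norm_real, Real.norm_eq_abs,
        abs_le]
      constructor <;> nlinarith
    refine (jordanDist_le (r := jordanDist ρ c b + 1 / 2)
      (add_nonneg (jordanDist_nonneg _ _) (by norm_num)) fun v => ?_).trans_lt
      (by have : jordanDist ρ c b < 1 / 2 := hb; linarith)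
    rw [show ρ b v - (1 : ℂ) • v = (ρ b v - c • v) - (1 - c) • v by rw [sub_smul]; abel, add_mul]
    refine (norm_sub_le _ _).trans (add_le_add (le_jordanDist _ _ _) ?_)
    rw [norm_smul]
    gcongr
  have hC : (Subgroup.centralizer S).Normal := ⟨fun x hx g s hs => by
    have := hx (g⁻¹ * s * g⁻¹⁻¹) ((jordanDist_conj_le hU c s g⁻¹).trans_lt hs)
    calc s * (g * x * g⁻¹) = g * (g⁻¹ * s * g⁻¹⁻¹ * x) * g⁻¹ := by group
      _ = g * x * g⁻¹ * s := by rw [this]; group⟩
  refine ⟨Subgroup.centralizer S ⊓ Subgroup.centralizer (Subgroup.centralizer S : Set G),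
    inferInstance, fun x hx y hy => jordan_comm_of_mem hx hy, fun H hH => ?_⟩
  obtain ⟨e, l, he⟩ := diag_exists_basis_subgroup ρ H hH
  let s : H → Fin (finrank ℂ (EuclideanSpace ℂ (Fin (charDegree χ)))) → Finset.Ico (0 : ℤ) 12 :=
    fun x i => ⟨_, jordan_floor_mem (l i x)⟩
  have hs : ∀ x y : H, s x = s y → ((x⁻¹ * y : H) : G) ∈ S := fun x y hxy => by
    have h1 : ∀ i, ‖l i (x⁻¹ * y) - c‖ < 1 / 2 := fun i => by
      rw [map_mul, diag_hom_inv]
      exact jordan_norm_sub_lt (diag_norm_hom _ _) (diag_norm_hom _ _)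
        (congrArg Subtype.val (congrFun hxy i))
    obtain ⟨r, hr0, hr1, hr⟩ : ∃ r : ℝ, 0 ≤ r ∧ r < 1 / 2 ∧ ∀ i, ‖l i (x⁻¹ * y) - c‖ ≤ r := by
      refine ⟨‖fun i => l i (x⁻¹ * y) - c‖, norm_nonneg _, ?_, fun i =>
        norm_le_pi_norm (fun i => l i (x⁻¹ * y) - c) i⟩
      exact (pi_norm_lt_iff (by norm_num)).2 h1
    exact (jordanDist_le hr0 (unitary_norm_sub_le (hU _) e _ (he (x⁻¹ * y)) hr0 hr)).trans_lt hr1
  have := Nat.card_le_card_of_injective
    (fun q : H ⧸ (Subgroup.centralizer S ⊓ Subgroup.centralizer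
      (Subgroup.centralizer S : Set G)).subgroupOf H => s q.out) fun q q' hq => by
      rw [← q.out_eq', ← q'.out_eq', QuotientGroup.eq]
      exact jordan_mem_of_comm hS (hs _ _ hq)
  rw [Nat.card_fun, Nat.card_eq_finsetCard, Nat.card_fin, finrank_euclideanSpace_fin] at this
  exact this

end Cfsg
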