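import Mathlib
import Cfsg.Agent.Ch.MGroup
import Cfsg.Agent.Deg.PGrp
import Cfsg.Agent.GT.Fitting
import Cfsg.Agent.GT.Conj
import Cfsg.Agent.GT.CoprimeNilp

/-!
# Solvable irreducible linear groups with a non-normal Sylow subgroup (Winter)
-/

set_option autoImplicit false

namespace Cfsg.Agent.Ch

open Cfsg

universe u

variable {G : Type*} [Group G] [Finite G] {p : ℕ} [hp : Fact p.Prime]

/-- A Sylow subgroup which is normal modulo the kernels of all constituents of a faithful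
character is normal. -/
theorem linW_normal_of_forall {G : Type*} [Group G] [Fintype G] {χ : G → ℂ} (hχ : IsCharacter G χ)
    (hf : charKer χ = ⊥) (P : Sylow p G) (h : ∀ θ, IsIrrCharacter G θ → classInner χ θ ≠ 0 →
      ((P : Subgroup G) ⊔ charKer θ).Normal) : (P : Subgroup G).Normal := by
  set N : Subgroup G := ⨅ θ : {θ // IsIrrCharacter G θ ∧ classInner χ θ ≠ 0},
    ((P : Subgroup G) ⊔ charKer θ.1)
  have hN : N.Normal := Subgroup.normal_iInf_normal fun θ => h _ θ.2.1 θ.2.2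
  obtain ⟨k, hk⟩ := P.isPGroup'.exists_card_eq
  have h1 : IsPGroup p N := fun a => ⟨k, Subtype.ext (Subgroup.mem_bot.1 (hf ▸
    hχ.mem_charKer_iff_forall_constituent.2 fun θ hθ hne => by
      have := hθ.isCharacter.charKer_normal
      obtain ⟨x, hx, y, hy, h2⟩ := Subgroup.mem_sup_of_normal_right.1
        (Subgroup.mem_iInf.1 a.2 ⟨θ, hθ, hne⟩)
      rw [← QuotientGroup.eq_one_iff, Subgroup.coe_pow, ← h2, QuotientGroup.mk_pow,
        QuotientGroup.mk_mul, (QuotientGroup.eq_one_iff y).2 hy, mul_one, ← QuotientGroup.mk_pow,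
        ← hk, show x ^ Nat.card P = 1 from congrArg Subtype.val (pow_card_eq_one' (x := (⟨x, hx⟩ : P))),
        QuotientGroup.mk_one]))⟩
  rwa [← P.is_maximal' h1 (le_iInf fun _ => le_sup_left)]

theorem linW_relIndex_modEq {P K : Subgroup G} (hP : IsPGroup p P)
    (hn : P ≤ Subgroup.normalizer (K : Set G)) (hK : ¬ p ∣ Nat.card K) :
    (K ⊓ Subgroup.centralizer (P : Set G)).relIndex K ≡ 1 [MOD p] := by
  have h1 := GT.card_modEq_card_inf_centralizer hP hn
  have h2 := (Subgroup.subgroupOf (K ⊓ Subgroup.centralizer (P : Set G)) K).card_mul_index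
  rw [Nat.card_congr (Subgroup.subgroupOfEquivOfLe inf_le_left).toEquiv] at h2
  refine Nat.ModEq.cancel_left_of_coprime (c := Nat.card (K ⊓ Subgroup.centralizer (P : Set G) :
    Subgroup G)) ((hp.out.coprime_iff_not_dvd).2 fun h => hK (h.trans
      (Subgroup.card_dvd_of_le inf_le_left))) ?_
  rwa [mul_one, Subgroup.relIndex, h2]

omit hp in
theorem linW_isPrimePow {r : ℕ} (hr : r.Prime) {K C : Subgroup G} (hK : IsPGroup r K)
    (h : ¬ K ≤ C) : IsPrimePow (C.relIndex K) := by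
  have := Fact.mk hr
  obtain ⟨k, hk⟩ := hK.index (C.subgroupOf K)
  rw [Subgroup.relIndex, hk]
  refine hr.isPrimePow.pow fun h0 => h (Subgroup.relIndex_eq_one.1 ?_)
  rw [Subgroup.relIndex, hk, h0, pow_zero]

theorem linW_complement {P H V : Subgroup G} (hP : IsPGroup p P) (hPH : P ≤ H)
    (hM : ∀ M : Subgroup G, M.Normal → P ≤ M → M = ⊤) (hV : GT.IsMinNormal V)
    [Group.IsSolvable V] (h1 : H ⊔ V = ⊤) (h2 : ¬ V ≤ H) (hi : ¬ p ∣ H.index) :
    ∃ q, IsPrimePow q ∧ q ∣ H.index ∧ q ≡ 1 [MOD p] := by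
  have := hV.normal
  obtain ⟨r, hr, hVr, hc⟩ := hV.exists_isPGroup
  have h3 : (H ⊓ V).Normal := GT.normal_of_top_le_normalizer (h1 ▸ sup_le
    (GT.CopAct.le_normalizer_inf Subgroup.le_normalizer Subgroup.le_normalizer_of_normal)
    (GT.CopAct.le_normalizer_of_le_centralizer fun a ha b hb =>
      congrArg Subtype.val (hc.is_comm.comm (⟨b, hb.2⟩ : V) ⟨a, ha⟩)))
  have h4 : H ⊓ V = ⊥ := (hV.eq_bot_or_eq inf_le_right).resolve_right fun h =>
    h2 (h ▸ inf_le_left)
  have h5 : H.index = Nat.card V := by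
    have h5 := GT.card_sup_of_inf_eq_bot Subgroup.le_normalizer_of_normal h4
    rw [h1, Subgroup.card_top, ← H.card_mul_index] at h5
    exact Nat.eq_of_mul_eq_mul_left Nat.card_pos h5
  refine ⟨_, linW_isPrimePow hr hVr fun h => h2 ?_, h5 ▸ Subgroup.relIndex_dvd_card _ _,
    linW_relIndex_modEq hP Subgroup.le_normalizer_of_normal (h5 ▸ hi)⟩
  have h6 := hM _ inferInstance (Subgroup.le_centralizer_iff.1 (h.trans inf_le_right))
  have h7 : H.Normal := GT.normal_of_top_le_normalizer (h1 ▸ sup_le Subgroup.le_normalizer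
    (GT.CopAct.le_normalizer_of_le_centralizer (Subgroup.le_centralizer_iff.1 (h6 ▸ le_top))))
  exact hM H h7 hPH ▸ le_top

/-- The index of a proper subgroup containing a Sylow subgroup which generates a solvable group as
a normal subgroup. -/
theorem linW_index [Group.IsSolvable G] {T : Subgroup G} (hT : T ≠ ⊤) (hi : ¬ p ∣ T.index)
    (P : Sylow p G) (hM : ∀ M : Subgroup G, M.Normal → (P : Subgroup G) ≤ M → M = ⊤) :
    ∃ q, IsPrimePow q ∧ q ∣ T.index ∧ q ≡ 1 [MOD p] := by
  obtain ⟨H, hH, hTH⟩ := GT.exists_isCoatom_ge hT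
  have hd := Subgroup.index_dvd_of_le hTH
  have hi' : ¬ p ∣ H.index := fun h => hi (h.trans hd)
  obtain ⟨S⟩ : Nonempty (Sylow p H) := inferInstance
  have hS := S.isPGroup'.map H.subtype
  set Q := hS.toSylow (by
    rw [Subgroup.index_map_subtype]
    exact fun h => (hp.out.dvd_mul.1 h).elim S.not_dvd_index hi')
  have hQH : (Q : Subgroup G) ≤ H := Subgroup.map_subtype_le _
  have hQ : ∀ M : Subgroup G, M.Normal → (Q : Subgroup G) ≤ M → M = ⊤ := fun M hM' h => by
    obtain ⟨g, hg⟩ := MulAction.exists_smul_eq G Q P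
    refine hM M hM' (hg ▸ ?_)
    rintro _ ⟨x, hx, rfl⟩
    exact hM'.conj_mem x (h hx) g
  set π := QuotientGroup.mk' H.normalCore
  have hs : Function.Surjective π := QuotientGroup.mk'_surjective _
  have hk : π.ker ≤ H := (QuotientGroup.ker_mk' _).le.trans H.normalCore_le
  have : Nontrivial (G ⧸ H.normalCore) := QuotientGroup.nontrivial_iff.2 fun h =>
    hH.1 (eq_top_iff.2 (h ▸ H.normalCore_le))
  obtain ⟨V, hV⟩ := GT.exists_isMinNormal (G ⧸ H.normalCore)
  have := hV.normal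
  have h1 : ¬ V.comap π ≤ H := fun h => hV.ne_bot (by
    rw [← Subgroup.map_comap_eq_self_of_surjective hs V, Subgroup.map_eq_bot_iff,
      QuotientGroup.ker_mk']
    exact Subgroup.normal_le_normalCore.2 h)
  obtain ⟨q, h2, h3, h4⟩ := linW_complement (Q.isPGroup'.map π) (Subgroup.map_mono hQH)
    (fun M _ h => by
      rw [← Subgroup.map_comap_eq_self_of_surjective hs M,
        hQ _ inferInstance (Subgroup.map_le_iff_le_comap.1 h), Subgroup.map_top_of_surjective _ hs])
    hV (by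
      rw [← Subgroup.map_comap_eq_self_of_surjective hs V, ← Subgroup.map_sup,
        hH.2 _ (left_lt_sup.2 h1), Subgroup.map_top_of_surjective _ hs])
    (fun h => h1 ((Subgroup.comap_mono h).trans (Subgroup.comap_map_eq_self hk).le))
    (by rwa [Subgroup.index_map_eq _ hs hk])
  exact ⟨q, h2, (Subgroup.index_map_eq _ hs hk ▸ h3).trans hd, h4⟩

omit hp in
/-- Constituents of the restriction to a subgroup of class two. -/
theorem linW_exists_sq {χ : G → ℂ} (hχ : IsIrrCharacter G χ) (hf : charKer χ = ⊥) {U : Subgroup G}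
    [Fintype U] (hU : ⁅U, U⁆ ≤ Subgroup.center G) : ∃ θ, IsIrrCharacter U θ ∧
      classInner (fun u : U => χ u) θ ≠ 0 ∧ charDegree θ ^ 2 = (Subgroup.center U).index := by
  obtain ⟨θ, hθ, hne⟩ := exists_irr_under U hχ
  have h1 : ∀ z ∈ commutator U, (z : G) ∈ Subgroup.center G := fun z hz =>
    hU (Subgroup.map_subtype_commutator U ▸ Subgroup.mem_map_of_mem U.subtype hz)
  refine ⟨θ, hθ, hne, Deg.sq_charDegree_eq_index_center hθ (fun z hz => Subgroup.mem_center_iff.2
    fun g => Subtype.ext (Subgroup.mem_center_iff.1 (h1 z hz) g)) (eq_bot_iff.2 fun z hz => ?_)⟩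
  obtain ⟨lam, h2, h3⟩ := hχ.exists_center_hom
  have h4 := classInner_comp_equiv (Equiv.mulLeft z) (fun u : U => χ u) θ
  simp only [Equiv.coe_mulLeft, apply_mul_of_mem_charKer hz.1, Subgroup.coe_mul,
    h2 ⟨z, h1 z hz.2⟩] at h4
  have h5 := (classInner_smul_left (lam ⟨z, h1 z hz.2⟩) (fun u : U => χ u) θ).symm.trans h4
  have h6 : (⟨z, h1 z hz.2⟩ : Subgroup.center G) ∈ lam.ker :=
    Units.val_eq_one.1 (mul_right_cancel₀ hne (h5.trans (one_mul _).symm))
  rw [h3, hf, Subgroup.mem_subgroupOf, Subgroup.mem_bot] at h6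
  exact Subtype.ext h6

/-- The degree `n` is divisible by a prime power congruent to `-1`, `0` or `1` modulo `p`. -/
def WinterCond (p n : ℕ) : Prop :=
  ∃ q : ℕ, IsPrimePow q ∧ q ∣ n ∧
    ((q : ℤ) ≡ -1 [ZMOD p] ∨ (q : ℤ) ≡ 0 [ZMOD p] ∨ (q : ℤ) ≡ 1 [ZMOD p])

omit hp in
theorem WinterCond.of_dvd {m n : ℕ} (h : WinterCond p m) (hd : m ∣ n) : WinterCond p n :=
  let ⟨q, h1, h2, h3⟩ := h
  ⟨q, h1, h2.trans hd, h3⟩

/-- The primitive case. -/
theorem linW_primitive [Group.IsSolvable G] {χ : G → ℂ} (hχ : IsIrrCharacter G χ)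
    (hf : charKer χ = ⊥) (hd : ¬ p ∣ charDegree χ)
    (hA : ∀ A : Subgroup G, A.Normal → (∀ a ∈ A, ∀ b ∈ A, a * b = b * a) → A ≤ Subgroup.center G)
    (P : Sylow p G) (hM : ∀ M : Subgroup G, M.Normal → (P : Subgroup G) ≤ M → M = ⊤)
    (hP : ¬ (P : Subgroup G).Normal) : WinterCond p (charDegree χ) := by
  obtain ⟨r, hr, h1⟩ : ∃ r : ℕ, r.Prime ∧ ¬ pCore r G ≤ Subgroup.center G := by
    by_contra h
    push Not at h
    have h1 := GT.fitting_eq_top_iff.1 (eq_top_iff.2 fun g _ => GT.centralizer_fitting_le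
      fun x hx => (Subgroup.mem_center_iff.1 (GT.fitting_le_iff.2 h hx) g).symm)
    exact hP (GT.isNilpotent_iff_sylow_normal.1 h1 p hp P)
  have := Fact.mk hr
  obtain ⟨Q, -, ⟨hQn, hQ, hQZ⟩, hmin⟩ := GT.exists_minimal_le
    (P := fun Q : Subgroup G => Q.Normal ∧ IsPGroup r Q ∧ ¬ Q ≤ Subgroup.center G)
    ⟨inferInstance, GT.isPGroup_pCore r, h1⟩
  have h2 : ⁅Q, Q⁆ ≤ Subgroup.center G := by_contra fun h =>
    (GT.commutator_lt_of_isSolvable (N := Q) fun h => hQZ (h ▸ bot_le)).ne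
      (hmin _ ⟨inferInstance, hQ.to_le (Subgroup.commutator_le_left _ _), h⟩
        (Subgroup.commutator_le_left _ _))
  have h3 : Q ⊓ Subgroup.centralizer Q ≤ Subgroup.center G :=
    hA _ inferInstance fun a ha b hb => hb.2 a ha.1
  have := Fintype.ofFinite G
  have := Fintype.ofFinite Q
  obtain ⟨θ, hθ, hne, h4⟩ := linW_exists_sq hχ hf h2
  have h5 : Subgroup.center Q = (Subgroup.center G).subgroupOf Q := le_antisymm
    (fun z hz => h3 ⟨z.2, fun g hg => congrArg Subtype.val (Subgroup.mem_center_iff.1 hz ⟨g, hg⟩)⟩)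
    fun z hz => Subgroup.mem_center_iff.2 fun g => Subtype.ext (Subgroup.mem_center_iff.1 hz g)
  have h6 := charDegree_dvd_of_under hχ hθ hne
  have h7 : ¬ p ∣ Nat.card Q := fun h => by
    obtain ⟨k, hk⟩ := hQ.exists_card_eq
    obtain rfl := (Nat.prime_dvd_prime_iff_eq hp.out hr).1 (hp.out.dvd_of_dvd_pow (hk ▸ h))
    obtain ⟨j, hj⟩ := Deg.exists_charDegree_eq_pow hQ hθ
    rcases j with _ | j
    · rw [hj, h5] at h4
      exact hQZ (Subgroup.relIndex_eq_one.1 h4.symm)
    · exact hd ((hj ▸ dvd_pow_self p j.succ_ne_zero).trans h6)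
  set C := Q ⊓ Subgroup.centralizer ((P : Subgroup G) : Set G) with hC
  have := Fintype.ofFinite C
  obtain ⟨φ, hφ, -, h8⟩ := linW_exists_sq hχ hf (U := C)
    ((Subgroup.commutator_mono inf_le_left inf_le_left).trans h2)
  have h9 : ⁅Q, (P : Subgroup G)⁆ ≤ Subgroup.centralizer C :=
    GT.CopAct.commutator_le_centralizer_of_three
      (Subgroup.commutator_eq_bot_iff_le_centralizer.2
        (((Subgroup.commutator_mono le_rfl inf_le_left).trans h2).trans
          (Subgroup.center_le_centralizer _)))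
      (by rw [Subgroup.commutator_eq_bot_iff_le_centralizer.2 inf_le_right,
        Subgroup.commutator_bot_left])
  have h10 : Subgroup.center C = (Subgroup.center G).subgroupOf C := le_antisymm
    (fun z hz => h3 ⟨z.2.1, fun g hg => by
      obtain ⟨x, hx, c, hc, rfl⟩ := GT.CopAct.exists_eq_commutator_mul_centralizer
        (A := P) Subgroup.le_normalizer_of_normal (GT.CopAct.coprime_of_isPGroup_left P.isPGroup' h7)
        (Or.inl inferInstance) hg
      have e1 : c * z = z * c := congrArg Subtype.val (Subgroup.mem_center_iff.1 hz ⟨c, hc⟩)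
      change x * c * z = z * (x * c)
      rw [mul_assoc, e1, ← mul_assoc, ← h9 hx z z.2, mul_assoc]⟩)
    fun z hz => Subgroup.mem_center_iff.2 fun g => Subtype.ext (Subgroup.mem_center_iff.1 hz g)
  have h11 : Subgroup.center G ⊓ Q = Subgroup.center G ⊓ C := le_antisymm
    (le_inf inf_le_left (le_inf inf_le_right
      (inf_le_left.trans (Subgroup.center_le_centralizer _)))) (inf_le_inf_left _ inf_le_left)
  have h12 := Subgroup.relIndex_mul_relIndex (Subgroup.center G ⊓ C) C Q inf_le_right inf_le_left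
  rw [Subgroup.inf_relIndex_right, ← h11, Subgroup.inf_relIndex_right,
    show (Subgroup.center G).relIndex Q = _ from (h5 ▸ h4).symm,
    show (Subgroup.center G).relIndex C = _ from (h10 ▸ h8).symm] at h12
  obtain ⟨q, hq⟩ := (Nat.pow_dvd_pow_iff two_ne_zero).1 (Dvd.intro _ h12)
  rw [hq, mul_pow] at h12
  have h13 : C.relIndex Q = q ^ 2 := Nat.eq_of_mul_eq_mul_left (pow_pos hφ.charDegree_pos 2) h12
  have h14 := linW_isPrimePow hr hQ (C := C) fun h => hQZ fun x hx => Subgroup.mem_center_iff.2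
    fun g => ((hM _ inferInstance (Subgroup.le_centralizer_iff.1 (h.trans inf_le_right))).ge
      (Subgroup.mem_top g) x hx).symm
  have h15 := linW_relIndex_modEq P.isPGroup' (K := Q) Subgroup.le_normalizer_of_normal h7
  rw [← hC, h13] at h15
  refine ⟨q, (isPrimePow_pow_iff two_ne_zero).1 (h13 ▸ h14), (Dvd.intro_left _ hq.symm).trans h6,
    ?_⟩
  have h16 : (p : ℤ) ∣ (-1 - q) * (1 - q) := by
    have := (Nat.modEq_iff_dvd.1 h15.symm)
    push_cast at this
    convert this using 1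
    ring
  exact ((Nat.prime_iff_prime_int.1 hp.out).dvd_or_dvd h16).imp Int.modEq_iff_dvd.2
    fun h => Or.inr (Int.modEq_iff_dvd.2 h)

theorem linW_aux (G : Type u) [Group G] [Finite G] : Group.IsSolvable G → ∀ χ : G → ℂ,
    IsIrrCharacter G χ → ∀ P : Sylow p G, ¬ ((P : Subgroup G) ⊔ charKer χ).Normal →
      WinterCond p (charDegree χ) := by
  refine GT.subgroup_quotient_induction (P := fun G _ _ => Group.IsSolvable G → ∀ χ : G → ℂ,
    IsIrrCharacter G χ → ∀ P : Sylow p G, ¬ ((P : Subgroup G) ⊔ charKer χ).Normal →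
      WinterCond p (charDegree χ)) (fun G _ _ ih1 ih2 hs χ hχ P hP => ?_) G
  by_cases hf : charKer χ = ⊥
  swap
  · have := hχ.isCharacter.charKer_normal
    obtain ⟨ψ, hψ, h1, h2⟩ := hχ.exists_faithful_quotient _ rfl
    refine (ih2 _ hf inferInstance ψ hψ (P.mapSurjective (QuotientGroup.mk'_surjective _))
      fun h => hP ?_).of_dvd (charDegree_congr (congrFun h2 1)).symm.dvd
    rw [h1, sup_bot_eq, Sylow.coe_mapSurjective] at h
    have h3 := h.comap (QuotientGroup.mk' (charKer χ))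
    rwa [Subgroup.comap_map_eq, QuotientGroup.ker_mk'] at h3
  rw [hf, sup_bot_eq] at hP
  by_cases hd : p ∣ charDegree χ
  · exact ⟨p, hp.out.isPrimePow, hd, Or.inr (Or.inl (Int.modEq_zero_iff_dvd.2 dvd_rfl))⟩
  have := Fintype.ofFinite G
  by_cases hM : ∀ M : Subgroup G, M.Normal → (P : Subgroup G) ≤ M → M = ⊤
  swap
  · push Not at hM
    obtain ⟨M, _, hPM, hM⟩ := hM
    have := Fintype.ofFinite M
    by_contra H
    have h1 := linW_normal_of_forall (hχ.isCharacter.restrict M)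
      (by rw [hχ.isCharacter.charKer_restrict, hf, Subgroup.bot_subgroupOf]) (P.subtype hPM)
      fun θ hθ hne => by_contra fun h =>
        H ((ih1 M hM inferInstance θ hθ _ h).of_dvd (charDegree_dvd_of_under hχ hθ hne))
    have h2 := Sylow.characteristic_of_normal _ h1
    have h3 : ((P.subtype hPM : Subgroup M).map M.subtype).Normal := inferInstance
    rw [Sylow.coe_subtype, Subgroup.subgroupOf_map_subtype, inf_eq_left.2 hPM] at h3
    exact hP h3
  by_cases hA : ∀ A : Subgroup G, A.Normal → (∀ a ∈ A, ∀ b ∈ A, a * b = b * a) →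
    A ≤ Subgroup.center G
  · exact linW_primitive hχ hf hd hA P hM hP
  push Not at hA
  obtain ⟨A, _, h1, h2⟩ := hA
  obtain ⟨T, ψ, hT, -, hψ, h3⟩ := exists_indFun_of_abelian_normal hχ A
    (fun a ha b hb => by rw [h1 a ha b hb]; simp) (by rwa [hχ.charCenter_eq_center hf])
  have h4 : T.index ∣ charDegree χ := h3 ▸ Deg.charDegree_indFun T hψ.isCharacter ▸ Dvd.intro _ rfl
  obtain ⟨q, h5, h6, h7⟩ := linW_index hT (fun h => hd (h.trans h4)) P hM
  exact ⟨q, h5, h6.trans h4, Or.inr (Or.inr (Int.natCast_modEq_iff.2 h7))⟩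

/-- Winter's theorem. -/
theorem linW_winter [hs : Group.IsSolvable G] {χ : G → ℂ} (hχ : IsIrrCharacter G χ) (P : Sylow p G)
    (hP : ¬ ((P : Subgroup G) ⊔ charKer χ).Normal) : WinterCond p (charDegree χ) :=
  linW_aux G hs χ hχ P hP

end Cfsg.Agent.Ch
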