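import Mathlib
import Cfsg.Agent.Ch.LinWinter
import Cfsg.Agent.Ch.LinFT
import Cfsg.Agent.GT.PSolvable
import Cfsg.Agent.GT.CoprimeSylow
import Cfsg.Agent.GT.TransferEval

/-!
# Linear groups of degree less than `p`: theorems of Itô, Blichfeldt and Feit–Thompson
-/

set_option autoImplicit false

namespace Cfsg.Agent.Ch

open Cfsg
open scoped Pointwise

variable {G : Type*} [Group G] [Finite G] {p : ℕ} [hp : Fact p.Prime]

theorem linI_normal_of_subtype {M : Subgroup G} [M.Normal] {P : Sylow p G}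
    (hPM : (P : Subgroup G) ≤ M) (h : (P.subtype hPM : Subgroup M).Normal) :
    (P : Subgroup G).Normal := by
  have h2 := Sylow.characteristic_of_normal _ h
  have h3 : ((P.subtype hPM : Subgroup M).map M.subtype).Normal := inferInstance
  rwa [Sylow.coe_subtype, Subgroup.subgroupOf_map_subtype, inf_eq_left.2 hPM] at h3

/-- In a `p`-solvable group an abelian Sylow `p`-subgroup centralizing `O_{p'}` is normal. -/
theorem linI_normal_of_le_centralizer (hG : IsPSolvable p G) (P : Sylow p G)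
    (hab : ∀ a ∈ (P : Subgroup G), ∀ b ∈ (P : Subgroup G), a * b = b * a)
    (h : pPrimeCore p G ≤ Subgroup.centralizer ((P : Subgroup G) : Set G)) :
    (P : Subgroup G).Normal := by
  set π := QuotientGroup.mk' (pPrimeCore p G)
  set Q := P.mapSurjective (QuotientGroup.mk'_surjective (pPrimeCore p G))
  have h1 : pCore p _ = (Q : Subgroup (G ⧸ pPrimeCore p G)) := le_antisymm (GT.pCore_le_sylow Q)
    (le_trans (by
      rintro _ ⟨a, ha, rfl⟩ x hx
      obtain ⟨b, hb, rfl⟩ := GT.pCore_le_sylow Q hx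
      rw [← map_mul, hab b hb a ha, map_mul])
      ((hG.quotient _).centralizer_pCore_le GT.pPrimeCore_quotient_pPrimeCore))
  have h2 : ((P : Subgroup G) ⊔ pPrimeCore p G).Normal := by
    have h2 : (Q : Subgroup (G ⧸ pPrimeCore p G)).Normal := h1 ▸ inferInstance
    have h3 := h2.comap π
    rwa [Sylow.coe_mapSurjective, Subgroup.comap_map_eq, QuotientGroup.ker_mk'] at h3
  have h4 : (P : Subgroup G) ≤ (P : Subgroup G) ⊔ pPrimeCore p G := le_sup_left
  exact linI_normal_of_subtype h4 ((Subgroup.normal_subgroupOf_iff_le_normalizer h4).2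
    (sup_le Subgroup.le_normalizer (h.trans (Subgroup.centralizer_le_normalizer _))))

/-- Itô's theorem on `p`-solvable linear groups of degree less than `p`. -/
theorem linI_ito {χ : G → ℂ} (hχ : IsCharacter G χ) (hf : charKer χ = ⊥) (hG : IsPSolvable p G)
    (hd : charDegree χ < p) (P : Sylow p G) (hP : ¬ (P : Subgroup G).Normal) :
    charDegree χ + 1 = p ∧ (∃ k, charDegree χ = 2 ^ k) ∧ IsIrrCharacter G χ := by
  have hab := hχ.comm_of_isPGroup hf hp.out hd P.isPGroup'
  have hcop := GT.CopAct.coprime_of_isPGroup_left P.isPGroup' (GT.not_dvd_card_pPrimeCore hp.out)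
  have hPs := GT.CopAct.isSolvable_of_isPGroup P.isPGroup'
  obtain ⟨r, _, Q, hQK, hQ, hPQ, hQC⟩ : ∃ (r : ℕ) (_ : Fact r.Prime) (Q : Subgroup G),
      Q ≤ pPrimeCore p G ∧ IsPGroup r Q ∧ (P : Subgroup G) ≤ Subgroup.normalizer (Q : Set G) ∧
        ¬ Q ≤ Subgroup.centralizer ((P : Subgroup G) : Set G) := by
    by_contra h
    push Not at h
    exact hP (linI_normal_of_le_centralizer hG P hab (GT.CopAct.le_of_forall_invariant_pgroup_le
      Subgroup.le_normalizer_of_normal hcop (Or.inl hPs) fun r hr => h r hr))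
  have hQs := GT.CopAct.isSolvable_of_isPGroup hQ
  have := GT.isSolvable_sup_of_le_normalizer hPQ
  set H := (P : Subgroup G) ⊔ Q
  have := Fintype.ofFinite H
  have h1 : ¬ (P.subtype (le_sup_left : _ ≤ H) : Subgroup H).Normal := fun h => hQC
    (GT.le_centralizer_of_le_normalizer (le_sup_right.trans
      ((Subgroup.normal_subgroupOf_iff_le_normalizer le_sup_left).1 h)) hPQ
      (inf_comm Q _ ▸ GT.CopAct.inf_eq_bot_of_coprime (GT.CopAct.coprime_mono hcop le_rfl hQK)))
  obtain ⟨θ, hθ, hne, h2⟩ : ∃ θ, IsIrrCharacter H θ ∧ classInner (fun x : H => χ x) θ ≠ 0 ∧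
      ¬ ((P.subtype (le_sup_left : _ ≤ H) : Subgroup H) ⊔ charKer θ).Normal := by
    by_contra h
    push Not at h
    exact h1 (linW_normal_of_forall (hχ.restrict H)
      (by rw [hχ.charKer_restrict, hf, Subgroup.bot_subgroupOf]) _ h)
  obtain ⟨q, h3, h4, h5⟩ := linW_winter hθ _ h2
  have h6 : charDegree θ ≤ charDegree χ := (hχ.restrict H).charDegree_irr_le hθ hne
  have h7 := Nat.le_of_dvd hθ.charDegree_pos h4
  have h8 := h3.one_lt
  have h9 : p ≤ q + 1 := by
    rcases h5 with h | h | h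
    · have := Int.le_of_dvd (by omega) h.symm.dvd
      omega
    · have := Int.le_of_dvd (by omega) h.symm.dvd
      omega
    · have := Int.le_of_dvd (by omega) h.symm.dvd
      omega
  refine ⟨by omega, ?_, IsIrrCharacter.of_restrict H hχ ?_⟩
  · obtain ⟨s, k, hs, hk, rfl⟩ := (isPrimePow_nat_iff q).1 h3
    have h10 : Even (s ^ k) := by
      have := hp.out.even_sub_one (by omega)
      rwa [show p - 1 = s ^ k by omega] at this
    obtain rfl := hs.even_iff.1 (Nat.even_pow.1 h10).1
    exact ⟨k, by omega⟩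
  · rw [(hχ.restrict H).eq_irr_of_apply_one hθ hne (by
      rw [← hθ.coe_charDegree, ← (hχ.restrict H).coe_charDegree, charDegree_restrict,
        show charDegree χ = charDegree θ by omega])]
    exact hθ

omit hp in
theorem linI_le_pCoreOf {H A : Subgroup G} (hH : ∀ S : Sylow p H, (S : Subgroup H).Normal)
    (hA : IsPGroup p A) (h : A ≤ H) : A ≤ pCoreOf p H := by
  obtain ⟨S, hS⟩ := (hA.comap_subtype (K := H)).exists_le_sylow
  have := hH S
  exact GT.le_map_subtype_of_subgroupOf_le h (GT.pCore_eq_sylow S ▸ hS)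

theorem linI_isPSolvable {S : Sylow p G} (h : (S : Subgroup G).Normal) : IsPSolvable p G :=
  IsPSolvable.extension (S : Subgroup G) (GT.isPSolvable_of_isPGroup S.isPGroup')
    (GT.isPSolvable_of_not_dvd S.not_dvd_index)

/-- The minimal counterexample in the theorem of Blichfeldt and Feit–Thompson. -/
theorem linI_card_lt {χ : G → ℂ} (hχ : IsCharacter G χ) (hf : charKer χ = ⊥)
    (hd : charDegree χ + 1 < p)
    (ih : ∀ H : Subgroup G, H ≠ ⊤ → ∀ S : Sylow p H, (S : Subgroup H).Normal)
    (P : Sylow p G) (hP : ¬ (P : Subgroup G).Normal) :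
    Nat.card P < (charDegree χ + 1) ^ 2 := by
  have := Fintype.ofFinite G
  have hab : ∀ {A : Subgroup G}, IsPGroup p A → ∀ a ∈ A, ∀ b ∈ A, a * b = b * a := fun hA =>
    hχ.comm_of_isPGroup hf hp.out (by omega) hA
  have hM : ∀ M : Subgroup G, M.Normal → (P : Subgroup G) ≤ M → M = ⊤ := fun M _ h =>
    by_contra fun h' => hP (linI_normal_of_subtype h (ih M h' _))
  have h1 : commutator G = ⊤ := by_contra fun h => by
    obtain ⟨S⟩ : Nonempty (Sylow p (commutator G)) := inferInstance
    have h2 := IsPSolvable.extension (commutator G) (linI_isPSolvable (ih _ h S))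
      (GT.isPSolvable_of_isSolvable (inferInstanceAs (Group.IsSolvable (Abelianization G))))
    have := (linI_ito hχ hf h2 (by omega) P hP).1
    omega
  have h2 : (P : Subgroup G) ⊓ Subgroup.center G = ⊥ := by
    have h2 := GT.Tr.sylow_inf_commutator_inf_center_le P
    rwa [h1, inf_top_eq, Subgroup.commutator_eq_bot_iff_le_centralizer.2
      fun a ha b hb => hab P.isPGroup' b hb a ha, le_bot_iff] at h2
  have h3 : ∀ g ∉ Subgroup.center G, ∀ {A : Subgroup G}, IsPGroup p A →
      A ≤ Subgroup.centralizer {g} → A ≤ pCoreOf p (Subgroup.centralizer {g}) :=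
    fun g hg A hA h => linI_le_pCoreOf (ih _ fun h => hg (Subgroup.mem_center_iff.2 fun x =>
      (h.ge (Subgroup.mem_top x) g rfl).symm)) hA h
  have h4 : ∀ x ∈ (P : Subgroup G), x ≠ 1 → ∀ {A : Subgroup G}, IsPGroup p A →
      A ≤ Subgroup.centralizer {x} → A ≤ P := fun x hx h A hA hle => by
    have h5 : x ∉ Subgroup.center G := fun h' => h (Subgroup.mem_bot.1 (h2 ▸ ⟨hx, h'⟩))
    rw [← P.is_maximal' (GT.isPGroup_pCoreOf p _) (h3 x h5 P.isPGroup' fun a ha y hy =>
      hy ▸ hab P.isPGroup' x hx a ha)]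
    exact h3 x h5 hA hle
  obtain ⟨θ, hθ, hne, h5⟩ : ∃ θ, IsIrrCharacter G θ ∧ classInner χ θ ≠ 0 ∧ charDegree θ ≠ 1 := by
    by_contra h
    push Not at h
    refine hP ⟨fun x _ g => ?_⟩
    have h5 : g * x * g⁻¹ ∈ charKer χ := hχ.mem_charKer_iff_forall_constituent.2 fun θ hθ hne =>
      (Deg.charDegree_eq_one_iff_commutator_le hθ).1 (h θ hθ hne) (h1 ▸ Subgroup.mem_top _)
    rw [hf, Subgroup.mem_bot] at h5
    exact h5 ▸ one_mem _
  refine (linFT_card_lt P (hab P.isPGroup') h2 (fun g hg a h hh k hk h6 h7 h8 h9 => ?_) hM hθ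
    h5).trans_le (Nat.pow_le_pow_left ((add_comm _ _).trans_le (Nat.succ_le_succ
      (hχ.charDegree_irr_le hθ hne))) 2)
  have hk' : a * k * a⁻¹ ∈ ((a • P : Sylow p G) : Subgroup G) := ⟨k, hk, rfl⟩
  have hz := (a • P).isPGroup'.to_le (Subgroup.zpowers_le.2 hk')
  have h10 := h3 g hg (P.isPGroup'.to_le (Subgroup.zpowers_le.2 hh))
    (Subgroup.zpowers_le.2 fun y hy => hy ▸ h8.symm) (Subgroup.mem_zpowers h)
  have h11 := h3 g hg hz (Subgroup.zpowers_le.2 fun y hy => hy ▸ h9.symm) (Subgroup.mem_zpowers _)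
  have h12 := h4 h hh h6 hz (Subgroup.zpowers_le.2 fun y hy =>
    hy ▸ hab (GT.isPGroup_pCoreOf p _) _ h10 _ h11) (Subgroup.mem_zpowers _)
  have h13 := h4 _ h12 (by simpa using h7) (a • P).isPGroup' fun y hy z hz =>
    hz ▸ hab (a • P).isPGroup' _ hk' y hy
  exact Sylow.smul_eq_iff_mem_normalizer.1 (Sylow.ext ((a • P).is_maximal' P.isPGroup' h13).symm)

omit [Finite G] in
theorem linI_normal_of_equiv {H : Type*} [Group H] [Finite H] (e : H ≃* G)
    (h : ∀ S : Sylow p G, (S : Subgroup G).Normal) (S : Sylow p H) : (S : Subgroup H).Normal := by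
  have h1 : (((S : Subgroup H).map (e : H →* G)).comap (e : H →* G)).Normal :=
    (h (S.mapSurjective (f := (e : H →* G)) e.surjective)).comap (e : H →* G)
  rwa [Subgroup.comap_map_eq_self_of_injective e.injective] at h1

/-- Blichfeldt, Feit–Thompson: reduction to Sylow subgroups of small order. -/
theorem linI_normal {χ : G → ℂ} (hχ : IsCharacter G χ) (hf : charKer χ = ⊥)
    (hd : charDegree χ + 1 < p) (h : ∀ (K : Subgroup G) (S : Sylow p K),
      Nat.card S < (charDegree χ + 1) ^ 2 → (S : Subgroup K).Normal) (P : Sylow p G) :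
    (P : Subgroup G).Normal := by
  refine linI_normal_of_equiv Subgroup.topEquiv.symm (GT.subgroup_lt_induction
    (P := fun H : Subgroup G => ∀ S : Sylow p H, (S : Subgroup H).Normal) (fun H ih S => ?_) ⊤) P
  by_contra hS
  refine hS (h H S (linI_card_lt (hχ.restrict H)
    (by rw [hχ.charKer_restrict, hf, Subgroup.bot_subgroupOf]) hd (fun K hK => ?_) S hS))
  refine linI_normal_of_equiv (K.equivMapOfInjective _ H.subtype_injective) (ih _ ?_)
  refine lt_of_le_of_ne (Subgroup.map_subtype_le K) fun h => hK ?_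
  rw [← GT.subgroupOf_map_subtype_self H K, h, Subgroup.subgroupOf_self]

end Cfsg.Agent.Ch
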