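import Mathlib
import Cfsg.Agent.Ch.SmallDegree
import Cfsg.Agent.Ch.MultiplierCrit
import Cfsg.Agent.GT.Cores
import Cfsg.Agent.GT.TransferEval

/-!
# Blichfeldt's theorem on Hall subgroups of linear groups
-/

set_option autoImplicit false

namespace Cfsg

open Cfsg.Agent Cfsg.Agent.Ch
open scoped ComplexConjugate

universe u

variable {G : Type*} [Group G] [Finite G] {χ : G → ℂ}

/-- A field automorphism raising `p`-power roots of unity to the `k`-th power and fixing the
values of characters at `p`-regular elements. -/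
theorem Agent.Ch.blich_exists_aut (G : Type*) [Group G] [Finite G] {p k : ℕ} (hp : p.Prime)
    (hk : k.Coprime p) : ∃ σ : ℂ ≃+* ℂ,
      (∀ ψ : G → ℂ, IsGeneralizedCharacter G ψ → ∀ g, ¬ p ∣ orderOf g → σ (ψ g) = ψ g) ∧
      ∀ ψ : G → ℂ, IsGeneralizedCharacter G ψ → ∀ (g : G) (j : ℕ), g ^ p ^ j = 1 →
        σ (ψ g) = ψ (g ^ k) := by
  obtain ⟨a, b, hb, hab⟩ := Nat.exists_eq_pow_mul_and_not_dvd (Nat.card_pos (α := G)).ne' p hp.ne_one
  have hc := (Nat.Prime.coprime_iff_not_dvd hp).2 hb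
  obtain ⟨σ, h1, h2⟩ := galois_exists_pow_fix (a := p ^ a) (b := b) (k := k)
    (pow_ne_zero _ hp.ne_zero) (by rintro rfl; simp at hb) (hc.pow_left a) (hk.pow_right a)
  refine ⟨σ, fun ψ hψ g hg => hψ.galois_apply_of_fix (σ : ℂ →+* ℂ) h2 ?_, fun ψ hψ g j hg =>
    hψ.galois_apply_of_pow_eq_one (σ : ℂ →+* ℂ) h1 ?_⟩
  · refine orderOf_dvd_iff_pow_eq_one.1 (Nat.Coprime.dvd_of_dvd_mul_left
      (((Nat.Prime.coprime_iff_not_dvd hp).2 hg).symm.pow_right a) (hab ▸ orderOf_dvd_natCard g))
  · refine orderOf_dvd_iff_pow_eq_one.1 (Nat.Coprime.dvd_of_dvd_mul_right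
      ((hc.pow_left j).coprime_dvd_left (orderOf_dvd_of_pow_eq_one hg))
      (hab ▸ orderOf_dvd_natCard g))

theorem Agent.Ch.blich_eq_or_eq_of_add_eq {a b c d : G → ℂ} (ha : IsIrrCharacter G a)
    (hb : IsCharacter G b) (hc : IsIrrCharacter G c) (hd : IsIrrCharacter G d)
    (h : a + b = c + d) : a = c ∨ a = d := by
  have := Fintype.ofFinite G
  by_contra H
  push Not at H
  have h1 := (ha.isCharacter.classInner_add_ne_zero_iff hb ha.isCharacter).2
    (Or.inl (by rw [ha.classInner_self]; exact one_ne_zero))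
  rw [h, classInner_add_left, hc.classInner_eq_zero ha H.1.symm,
    hd.classInner_eq_zero ha H.2.symm, add_zero] at h1
  exact h1 rfl

/-- If no element has order divisible by `p q`, an irreducible character is fixed by all
automorphisms fixing `p`-regular values or by all automorphisms fixing `q`-regular values. -/
theorem IsIrrCharacter.galois_fix_or_fix (h : IsIrrCharacter G χ) {p q : ℕ}
    (hpq : ∀ g : G, ¬ p ∣ orderOf g ∨ ¬ q ∣ orderOf g) {σ τ : ℂ ≃+* ℂ}
    (hσ : ∀ ψ : G → ℂ, IsGeneralizedCharacter G ψ → ∀ g, ¬ p ∣ orderOf g → σ (ψ g) = ψ g)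
    (hτ : ∀ ψ : G → ℂ, IsGeneralizedCharacter G ψ → ∀ g, ¬ q ∣ orderOf g → τ (ψ g) = ψ g) :
    (∀ g, σ (χ g) = χ g) ∨ ∀ g, τ (χ g) = χ g := by
  have h1 := h.galois (σ : ℂ →+* ℂ)
  have h2 := h.galois (τ : ℂ →+* ℂ)
  have h3 := h1.galois (τ : ℂ →+* ℂ)
  refine (blich_eq_or_eq_of_add_eq h h3.isCharacter h1 h2 (funext fun g => ?_)).imp
    (fun H g => (congrFun H g).symm) (fun H g => (congrFun H g).symm)
  change χ g + τ (σ (χ g)) = σ (χ g) + τ (χ g)
  rcases hpq g with hg | hg
  · rw [hσ χ h.isGeneralizedCharacter g hg]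
  · rw [hτ χ h.isGeneralizedCharacter g hg, add_comm]
    congr 1
    exact hτ _ h1.isGeneralizedCharacter g hg

/-- A character of degree less than `p - 1` which is rational at an element of order `p` has it in
its kernel. -/
theorem IsCharacter.mem_charKer_of_rat (h : IsCharacter G χ) {p : ℕ} (hp : p.Prime) {x : G}
    (hx : orderOf x = p) (hd : charDegree χ + 1 < p)
    (hr : ∀ k : ℕ, k.Coprime p → χ (x ^ k) = χ x) : x ∈ charKer χ := by
  classical
  obtain ⟨m, hm⟩ := h.isGeneralizedCharacter.exists_int_of_apply_pow_eq (g := x) fun k hk =>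
    hr k (hk.coprime_dvd_right (hx ▸ orderOf_dvd_natCard x))
  have h1 := h.prime_dvd_sub_charDegree hp (a := 1) (by rw [pow_one, ← hx, pow_orderOf_eq_one])
    hm.symm
  have h2 := h.norm_le x
  rw [← hm, Complex.norm_intCast, ← Int.cast_abs] at h2
  have h3 : m ≤ charDegree χ := (le_abs_self m).trans (by exact_mod_cast h2)
  have := Fintype.ofFinite (Subgroup.zpowers x)
  have h4 := (h.restrict (Subgroup.zpowers x)).re_classInner_nonneg IsCharacter.one
  have h5 : ∀ y ∈ (Finset.univ : Finset (Subgroup.zpowers x)).erase 1, χ y = m := by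
    rintro ⟨y, hy⟩ hy1
    obtain ⟨k, rfl⟩ := mem_powers_iff_mem_zpowers.2 hy
    refine (hr k ((Nat.Prime.coprime_iff_not_dvd hp).2 fun hk => ?_).symm).trans hm.symm
    exact Finset.ne_of_mem_erase hy1 (Subtype.ext (orderOf_dvd_iff_pow_eq_one.1 (hx ▸ hk)))
  rw [classInner_one_right, ← Finset.add_sum_erase _ _ (Finset.mem_univ 1), Finset.sum_congr rfl h5,
    Finset.sum_const, Finset.card_erase_of_mem (Finset.mem_univ _), Finset.card_univ,
    ← Nat.card_eq_fintype_card, Nat.card_zpowers, hx, OneMemClass.coe_one, ← h.coe_charDegree,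
    nsmul_eq_mul, Nat.cast_pred hp.pos, ← Complex.ofReal_natCast, ← Complex.ofReal_inv,
    Complex.re_ofReal_mul, mul_nonneg_iff_of_pos_left (by have := hp.pos; positivity)] at h4
  simp only [Complex.add_re, Complex.natCast_re, Complex.mul_re, Complex.sub_re, Complex.ofReal_re,
    Complex.one_re, Complex.intCast_re, Complex.intCast_im, mul_zero, sub_zero] at h4
  have h6 : (0 : ℤ) ≤ charDegree χ + (p - 1) * m := by exact_mod_cast h4
  have h7 : (charDegree χ : ℤ) + 1 < p := by exact_mod_cast hd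
  have h8 : 0 ≤ m := by nlinarith
  have h9 : m - charDegree χ = 0 := Int.eq_zero_of_abs_lt_dvd h1 (by rw [abs_lt]; omega)
  rw [h.mem_charKer, ← hm, ← h.coe_charDegree, sub_eq_zero.1 h9, Int.cast_natCast]

/-- A linear group of degree `n` whose order is divisible by primes `p, q > n + 1` has commuting
elements of orders `p` and `q`. -/
theorem IsCharacter.exists_commute_of_lt (h : IsCharacter G χ) (hf : charKer χ = ⊥) {p q : ℕ}
    (hp : p.Prime) (hq : q.Prime) (hpd : p ∣ Nat.card G) (hqd : q ∣ Nat.card G)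
    (hpn : charDegree χ + 1 < p) (hqn : charDegree χ + 1 < q) :
    ∃ x y : G, orderOf x = p ∧ orderOf y = q ∧ x * y = y * x := by
  have := Fintype.ofFinite G
  by_contra H
  push Not at H
  have hpq : ∀ g : G, ¬ p ∣ orderOf g ∨ ¬ q ∣ orderOf g := fun g => by
    by_contra H'
    push Not at H'
    exact H _ _ (orderOf_pow_orderOf_div (orderOf_pos g).ne' H'.1)
      (orderOf_pow_orderOf_div (orderOf_pos g).ne' H'.2) (pow_mul_comm _ _ _)
  have := Fact.mk hp
  have := Fact.mk hq
  obtain ⟨x, hx⟩ := exists_prime_orderOf_dvd_card' p hpd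
  obtain ⟨y, hy⟩ := exists_prime_orderOf_dvd_card' q hqd
  refine H x y hx hy (commutatorElement_eq_one_iff_mul_comm.1 ?_)
  rw [← Subgroup.mem_bot, ← hf, h.mem_charKer_iff_forall_constituent]
  intro φ hφ hne
  have hd := h.charDegree_irr_le hφ hne
  have := hφ.isCharacter.charKer_normal
  have key : x ∈ charKer φ ∨ y ∈ charKer φ := by
    by_contra H'
    push Not at H'
    have h1 := mt (hφ.isCharacter.mem_charKer_of_rat hp hx (by omega)) H'.1
    have h2 := mt (hφ.isCharacter.mem_charKer_of_rat hq hy (by omega)) H'.2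
    push Not at h1 h2
    obtain ⟨k, hk, h1⟩ := h1
    obtain ⟨l, hl, h2⟩ := h2
    obtain ⟨σ, hσ, hσ'⟩ := blich_exists_aut G hp hk
    obtain ⟨τ, hτ, hτ'⟩ := blich_exists_aut G hq hl
    rcases hφ.galois_fix_or_fix hpq hσ hτ with h3 | h3
    · exact h1 ((hσ' φ hφ.isGeneralizedCharacter x 1
        (by rw [pow_one, ← hx, pow_orderOf_eq_one])).symm.trans (h3 x))
    · exact h2 ((hτ' φ hφ.isGeneralizedCharacter y 1
        (by rw [pow_one, ← hy, pow_orderOf_eq_one])).symm.trans (h3 y))
  rcases key with h1 | h1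
  · rw [commutatorElement_def, mul_assoc, mul_assoc, ← mul_assoc y]
    exact Subgroup.mul_mem _ h1 (this.conj_mem _ (Subgroup.inv_mem _ h1) y)
  · exact Subgroup.mul_mem _ (this.conj_mem _ h1 x) (Subgroup.inv_mem _ h1)

/-- If `p` divides the order of the abelianization there is a normal subgroup of index `p`. -/
theorem Agent.Ch.blich_exists_normal_index {p : ℕ} (hp : p.Prime) (h : p ∣ (commutator G).index) :
    ∃ N : Subgroup G, N.Normal ∧ N.index = p := by
  obtain ⟨W, hW⟩ := exists_index_eq_prime (A := Abelianization G) hp h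
  exact ⟨W.comap Abelianization.of, inferInstance,
    (Subgroup.index_comap_of_surjective W (f := Abelianization.of)
      (fun x => QuotientGroup.mk_surjective x)).trans hW⟩

theorem Agent.Ch.blich_aux (n : ℕ) (m : ℕ) : ∀ (G : Type u) [Group G] [Finite G] (χ : G → ℂ),
    Nat.card G = m → IsCharacter G χ → charKer χ = ⊥ → charDegree χ ≤ n →
      ∃ A : Subgroup G, IsPiHall {p | n + 1 < p} A := by
  induction m using Nat.strong_induction_on with
  | _ m ih =>
  intro G _ _ χ hm hχ hf hn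
  set π : Set ℕ := {p | n + 1 < p} with hπ
  have IH : ∀ H : Subgroup G, H ≠ ⊤ → ∃ A, IsPiHallOf π A H := fun H hH => by
    obtain ⟨A, hA⟩ := ih _ (hm ▸ GT.card_lt_of_ne_top hH) H _ rfl (hχ.restrict H)
      (by rw [hχ.charKer_restrict, hf, Subgroup.bot_subgroupOf]) (by rwa [charDegree_restrict])
    exact ⟨_, hA.map_subtype⟩
  have hab : ∀ A : Subgroup G, GT.IsPiNum π (Nat.card A) → ∀ a ∈ A, ∀ b ∈ A, a * b = b * a :=
    fun A hA => hχ.comm_subgroup_of_lt_primes hf A fun p hp hd => by
      have : n + 1 < p := hA p hp hd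
      omega
  by_cases hz : ∃ z ∈ Subgroup.center G, (orderOf z).Prime ∧ orderOf z ∈ π
  · obtain ⟨z, hz, p, hzp, hp, hpπ⟩ : ∃ z ∈ Subgroup.center G, ∃ p, orderOf z = p ∧
        p.Prime ∧ p ∈ π := hz.imp fun z hz => ⟨hz.1, _, rfl, hz.2⟩
    have := Fact.mk hp
    obtain ⟨P, hP⟩ := (IsPGroup.of_card (p := p) (n := 1) (G := Subgroup.zpowers z)
      (by rw [Nat.card_zpowers, hzp, pow_one])).exists_le_sylow
    have hPπ := GT.isPiNum_of_isPGroup hp P.isPGroup' hpπ
    have hz' : z ∉ commutator G := fun hz' => by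
      have h1 := GT.Tr.sylow_inf_commutator_inf_center_le P
        ⟨⟨hP (Subgroup.mem_zpowers z), hz'⟩, hz⟩
      rw [Subgroup.commutator_eq_bot_iff_le_centralizer.2
        (fun a ha b hb => (hab P hPπ a ha b hb).symm), Subgroup.mem_bot] at h1
      rw [h1, orderOf_one] at hzp
      exact hp.ne_one hzp.symm
    obtain ⟨N, hN, hNp⟩ := blich_exists_normal_index (G := G) hp (by
      by_contra hd
      exact hz' (GT.mem_of_coprime_orderOf_index
        (hzp ▸ (Nat.Prime.coprime_iff_not_dvd hp).2 hd)))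
    obtain ⟨A, hA⟩ := IH N (by rintro rfl; simp at hNp; exact hp.ne_one hNp.symm)
    by_contra H
    -- all Sylow subgroups of `A` are normal
    have key : ∀ q : ℕ, q.Prime → q ∈ π → q ≠ p → ¬ q ∣ (piCore π G).index := by
      intro q hq hqπ hqp
      have := Fact.mk hq
      have h1 : ¬ q ∣ A.index := by
        rw [← Subgroup.relIndex_mul_index hA.le, hNp]
        exact fun h => ((Nat.Prime.dvd_mul hq).1 h).elim
          (fun h => hA.relIndex q hq h hqπ) fun h => hqp ((Nat.prime_dvd_prime_iff_eq hq hp).1 h)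
      obtain ⟨Q, hQ⟩ := GT.Tr.exists_sylow_le_of_not_dvd_index h1
      have h2 : Subgroup.normalizer (Q : Set G) = ⊤ := by
        by_contra h2
        obtain ⟨B, hB⟩ := IH _ h2
        refine H ⟨B, hB.isPiHall ?_⟩
        have h4 : A ≤ Subgroup.normalizer (Q : Set G) := fun a ha =>
          Subgroup.centralizer_le_normalizer _ fun b hb => hab A hA.card b (hQ hb) a ha
        refine hA.relIndex.of_dvd ?_
        have h5 := Sylow.normalizer_sup_eq_top' Q (hQ.trans hA.le)
        rw [sup_comm] at h5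
        rw [← GT.Tr.relIndex_eq_index_of_sup_eq_top h5]
        exact Subgroup.relIndex_dvd_of_le_left N h4
      have : (Q : Subgroup G).Normal := Subgroup.normalizer_eq_top_iff.1 h2
      exact fun h => Q.not_dvd_index (h.trans (Subgroup.index_dvd_of_le
        (GT.le_piCore (GT.isPiNum_of_isPGroup hq Q.isPGroup' hqπ))))
    refine H ⟨P ⊔ piCore π G, GT.isPiHall_iff.2 ⟨hPπ.card_sup (GT.isPiNum_piCore π), ?_⟩⟩
    intro q hq hqd hqπ
    by_cases hqp : q = p
    · rw [hqp] at hqd
      exact P.not_dvd_index (hqd.trans (Subgroup.index_dvd_of_le le_sup_left))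
    · exact key q hq hqπ hqp (hqd.trans (Subgroup.index_dvd_of_le le_sup_right))
  · push Not at hz
    obtain ⟨A, hA, hmax⟩ := Set.exists_max_image {A : Subgroup G | GT.IsPiNum π (Nat.card A)}
      (fun A => Nat.card A) (Set.toFinite _) ⟨⊥, GT.isPiNum_card_bot π⟩
    have h1 : ∀ x ∈ A, (orderOf x).Prime → IsPiHallOf π A (Subgroup.centralizer {x}) := by
      intro x hx hp
      have hle : A ≤ Subgroup.centralizer {x} := fun a ha => by
        rw [Subgroup.mem_centralizer_singleton_iff]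
        exact hab A hA a ha x hx
      obtain ⟨B, hB⟩ := IH (Subgroup.centralizer {x}) fun h => hz x (by
        rw [Subgroup.mem_center_iff]
        intro g
        exact Subgroup.mem_centralizer_singleton_iff.1 (h ▸ Subgroup.mem_top g)) hp
        (GT.IsPiNum.orderOf_mem hA hx _ hp dvd_rfl)
      exact hB.of_card_eq hle (le_antisymm
        (Nat.le_of_dvd Nat.card_pos (hB.card_dvd hle hA)) (hmax B hB.card))
    have h2 : ∀ q : ℕ, q.Prime → q ∣ Nat.card A → ¬ q ∣ A.index := by
      intro q hq hqd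
      have := Fact.mk hq
      obtain ⟨x, hx, hxq⟩ := GT.exists_mem_orderOf_eq_prime hq hqd
      have h3 := h1 x hx (hxq ▸ hq)
      obtain ⟨Q, hQ⟩ := (IsPGroup.of_card (p := q) (n := 1) (G := Subgroup.zpowers x)
        (by rw [Nat.card_zpowers, hxq, pow_one])).exists_le_sylow
      have hle : (Q : Subgroup G) ≤ Subgroup.centralizer {x} := fun a ha => by
        rw [Subgroup.mem_centralizer_singleton_iff]
        exact hab Q (GT.isPiNum_of_isPGroup hq Q.isPGroup' (hA q hq hqd)) a ha x
          (hQ (Subgroup.mem_zpowers x))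
      rw [← Subgroup.relIndex_mul_index h3.le]
      exact fun h => ((Nat.Prime.dvd_mul hq).1 h).elim (fun h => h3.relIndex q hq h (hA q hq hqd))
        fun h => Q.not_dvd_index (h.trans (Subgroup.index_dvd_of_le hle))
    refine ⟨A, GT.isPiHall_iff.2 ⟨hA, fun q hq hqd hqπ => ?_⟩⟩
    have hqA : ¬ q ∣ Nat.card A := fun h => h2 q hq h hqd
    have hqG : q ∣ Nat.card G := hqd.trans A.index_dvd_card
    have hA1 : A ≠ ⊥ := by
      rintro rfl
      have := Fact.mk hq
      obtain ⟨y, hy⟩ := exists_prime_orderOf_dvd_card' q hqG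
      have := hmax (Subgroup.zpowers y) (by
        change GT.IsPiNum π _
        rw [Nat.card_zpowers, hy]
        exact GT.isPiNum_of_prime_mem hq hqπ)
      rw [Nat.card_zpowers, hy, Subgroup.card_bot] at this
      exact absurd hq.two_le (by omega)
    obtain ⟨p, hp, hpd⟩ := GT.exists_prime_dvd_card_of_ne_bot hA1
    have hpπ : n + 1 < p := hA p hp hpd
    have hqπ' : n + 1 < q := hqπ
    obtain ⟨x, y, hx, hy, hxy⟩ := hχ.exists_commute_of_lt hf hp hq
      (hpd.trans A.card_subgroup_dvd_card) hqG (by omega) (by omega)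
    have := Fact.mk hp
    obtain ⟨P, hP⟩ := GT.Tr.exists_sylow_le_of_not_dvd_index (h2 p hp hpd)
    obtain ⟨P', hP'⟩ := (IsPGroup.of_card (p := p) (n := 1) (G := Subgroup.zpowers x)
      (by rw [Nat.card_zpowers, hx, pow_one])).exists_le_sylow
    obtain ⟨g, rfl⟩ := MulAction.exists_smul_eq G P' P
    have h3 := h1 (g * x * g⁻¹) (hP (Subgroup.smul_mem_pointwise_smul x (MulAut.conj g) _
      (hP' (Subgroup.mem_zpowers x)))) (by rw [← MulAut.conj_apply, MulEquiv.orderOf_eq, hx]; exact hp)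
    have h4 : g * y * g⁻¹ ∈ Subgroup.centralizer {g * x * g⁻¹} := by
      rw [Subgroup.mem_centralizer_singleton_iff]
      calc g * y * g⁻¹ * (g * x * g⁻¹) = g * (y * x) * g⁻¹ := by group
        _ = _ := by rw [← hxy]; group
    have h5 := Subgroup.orderOf_dvd_natCard _ h4
    rw [← MulAut.conj_apply, MulEquiv.orderOf_eq, hy, ← GT.card_mul_relIndex h3.le] at h5
    exact ((Nat.Prime.dvd_mul hq).1 h5).elim hqA fun h => h3.relIndex q hq h hqπ

/-- Blichfeldt: a linear group of degree at most `n` has an abelian Hall subgroup for the set of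
primes exceeding `n + 1`. -/
theorem IsCharacter.exists_abelian_isPiHall (h : IsCharacter G χ) (hf : charKer χ = ⊥) {n : ℕ}
    (hn : charDegree χ ≤ n) : ∃ A : Subgroup G, IsPiHall {p | n + 1 < p} A ∧
      ∀ a ∈ A, ∀ b ∈ A, a * b = b * a := by
  obtain ⟨A, hA⟩ := blich_aux n _ G χ rfl h hf hn
  refine ⟨A, hA, h.comm_subgroup_of_lt_primes hf A fun p hp hd => ?_⟩
  have : n + 1 < p := hA.card p hp hd
  omega

end Cfsg
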