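import Mathlib
import Cfsg.Agent.Ch.GlaubCyclic
import Cfsg.Agent.Ch.SmallDegree
import Cfsg.Agent.Ch.Galois
import Cfsg.Agent.Ch.Clifford
import Cfsg.Agent.GT.PSolvable
import Cfsg.Agent.GT.CoprimeFixed

/-!
# The bounds of Schur and Dixon for the `p`-part of the order of a linear group
-/

set_option autoImplicit false

namespace Cfsg.Agent.Ch

open Cfsg

variable {G : Type*} [Group G] [Finite G] {p : ℕ}

theorem linD_re_sum_nonneg {ψ : G → ℂ} (hψ : IsCharacter G ψ) {g : G} {n : ℕ} (hg : g ^ n = 1) :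
    0 ≤ ∑ j ∈ Finset.range n, (ψ (g ^ j)).re := by
  obtain ⟨μ, h1, h2⟩ := hψ.exists_roots_nat g
  simp only [h2, ← Complex.re_sum]
  rw [Finset.sum_comm, Complex.re_sum]
  refine Finset.sum_nonneg fun i _ => ?_
  by_cases h : μ i = 1
  · simp [h]
  · obtain ⟨k, rfl⟩ := orderOf_dvd_of_pow_eq_one hg
    rw [geom_sum_eq h, pow_mul, h1, one_pow, sub_self, zero_div, Complex.zero_re]

/-- The values of a rational character of a `p`-group. -/
theorem linD_value (hp : p.Prime) {ψ : G → ℂ} (hψ : IsCharacter G ψ) (hG : IsPGroup p G)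
    (hr : ∀ g k, k.Coprime p → ψ (g ^ k) = ψ g) {g : G} (hg : g ∉ charKer ψ) :
    ∃ y ∈ Finset.Icc 1 (charDegree ψ / (p - 1)), ψ g = charDegree ψ - p * y := by
  have := Fact.mk hp
  obtain ⟨a, ha⟩ := hG.exists_card_eq
  rcases a with _ | a
  · rw [pow_zero, ← Subgroup.card_top, Subgroup.card_eq_one] at ha
    exact absurd (Subgroup.mem_bot.1 (ha ▸ Subgroup.mem_top g) ▸ one_mem _) hg
  have h1 : g ^ p ^ (a + 1) = 1 := ha ▸ pow_card_eq_one'
  obtain ⟨m, hm⟩ := hψ.isGeneralizedCharacter.exists_int_of_apply_pow_eq (g := g) fun k hk =>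
    hr g k (hk.coprime_dvd_right (ha ▸ dvd_pow_self p a.succ_ne_zero))
  obtain ⟨y, hy⟩ := hψ.prime_dvd_sub_charDegree hp h1 hm.symm
  have h2 : m < charDegree ψ := by
    have h2 := hψ.re_le g
    rw [hψ.re_apply_one, ← hm, Complex.intCast_re] at h2
    refine lt_of_le_of_ne (by exact_mod_cast h2) fun h => hg (hψ.mem_charKer.2 ?_)
    rw [← hm, h, Int.cast_natCast, hψ.coe_charDegree]
  have h3 := linD_re_sum_nonneg hψ h1
  have h4 := Finset.card_filter_add_card_filter_not (s := Finset.range (p ^ (a + 1)))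
    fun j => (p ^ (a + 1)).Coprime j
  rw [← Finset.sum_filter_add_sum_filter_not _ fun j => (p ^ (a + 1)).Coprime j,
    Finset.sum_congr rfl (g := fun _ => (m : ℝ)) fun j hj => by
      rw [hr g j ((Finset.mem_filter.1 hj).2.symm.coprime_dvd_right
        (dvd_pow_self p a.succ_ne_zero)), ← hm, Complex.intCast_re], Finset.sum_const] at h3
  have h5 := Finset.sum_le_card_nsmul
    ((Finset.range (p ^ (a + 1))).filter fun j => ¬ (p ^ (a + 1)).Coprime j)
    (fun j => (ψ (g ^ j)).re) (charDegree ψ) fun j _ => hψ.re_apply_one ▸ hψ.re_le _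
  rw [← Nat.totient_eq_card_coprime, Nat.totient_prime_pow_succ hp] at h3 h4
  obtain ⟨q, rfl⟩ := Nat.exists_eq_add_of_le' hp.one_le
  rw [Finset.card_range, Nat.add_sub_cancel] at h4
  rw [add_left_cancel (h4.trans (by ring : _ = (q + 1) ^ a * q + (q + 1) ^ a))] at h5
  simp only [Nat.add_sub_cancel, nsmul_eq_mul] at h3 h5 ⊢
  have h6 : (0 : ℝ) ≤ q * m + charDegree ψ := by
    refine le_of_mul_le_mul_left (a := (((q + 1) ^ a : ℕ) : ℝ)) ?_ (by positivity)
    push_cast at h3 h5 ⊢
    linarith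
  have h7 : (0 : ℤ) ≤ q * m + charDegree ψ := by exact_mod_cast h6
  have h8 : 0 < q := by have := hp.one_lt; omega
  push_cast at hy
  have h9 : 0 < -y := by nlinarith
  refine ⟨(-y).toNat, Finset.mem_Icc.2 ⟨by omega, (Nat.le_div_iff_mul_le h8).2 ?_⟩, ?_⟩
  · zify
    rw [Int.toNat_of_nonneg h9.le]
    nlinarith
  · rw [← hm, ← Int.cast_natCast (-y).toNat, Int.toNat_of_nonneg h9.le,
      show m = charDegree ψ + (q + 1) * y by linarith]
    push_cast
    ring

/-- Schur's bound for the order of a `p`-group with a faithful rational valued character. -/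
theorem linD_schur (hp : p.Prime) {ψ : G → ℂ} (hψ : IsCharacter G ψ) (hG : IsPGroup p G)
    (hf : charKer ψ = ⊥) (hr : ∀ g k, k.Coprime p → ψ (g ^ k) = ψ g) :
    Nat.card G ∣ p ^ (charDegree ψ / (p - 1)) * (charDegree ψ / (p - 1)).factorial := by
  set t := charDegree ψ / (p - 1)
  obtain ⟨k, hk⟩ := (IsGeneralizedCharacter.prod (s := Finset.Icc 1 t)
    (f := fun y => ψ - (fun _ => (charDegree ψ : ℂ)) + fun _ => ((p * y : ℕ) : ℂ)) fun y _ =>
      (hψ.isGeneralizedCharacter.sub (IsCharacter.natCast_const _).isGeneralizedCharacter).add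
        (IsCharacter.natCast_const _).isGeneralizedCharacter).exists_apply_one_eq_card_mul ⊤
    fun g _ hg => by
      obtain ⟨y, hy, h⟩ := linD_value hp hψ hG hr (g := g) (by rwa [hf, Subgroup.mem_bot])
      rw [Finset.prod_apply]
      exact Finset.prod_eq_zero hy (by simp [h])
  simp only [Finset.prod_apply, Pi.add_apply, Pi.sub_apply, hψ.coe_charDegree, sub_self, zero_add,
    ← Nat.cast_prod, Subgroup.card_top] at hk
  rw [Finset.prod_mul_distrib, Finset.prod_const, Nat.card_Icc, Nat.add_sub_cancel,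
    ← Finset.Ico_add_one_right_eq_Icc, Finset.prod_Ico_id_eq_factorial] at hk
  exact Int.natCast_dvd_natCast.1 ⟨k, by exact_mod_cast hk⟩

/-- An invariant character of a normal Hall subgroup `N` extends to a character with values in the
field of `|N|`-th roots of unity. -/
theorem linD_exists_extends {N : Subgroup G} [N.Normal] (hc : (Nat.card N).Coprime N.index)
    (n : ℕ) : ∀ η : N → ℂ, IsCharacter N η → charDegree η = n → (∀ g : G, conjChar g η = η) →
      ∃ ψ, IsCharacter G ψ ∧ (∀ x : N, ψ x = η x) ∧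
        ∀ σ : ℂ →+* ℂ, (∀ ζ : ℂ, ζ ^ Nat.card N = 1 → σ ζ = ζ) → ∀ y, σ (ψ y) = ψ y := by
  classical
  have := Fintype.ofFinite G
  have := Fintype.ofFinite N
  induction n using Nat.strong_induction_on with | h n ih => ?_
  intro η hη hn hinv
  by_cases h0 : η = 0
  · exact ⟨0, IsCharacter.zero, by simp [h0], by simp⟩
  obtain ⟨θ, hθ, hne⟩ := hη.exists_irr_constituent h0
  have hNT := le_inertia hθ.isClassFunction
  have := Fintype.ofFinite (inertia N θ)
  have e := Nat.card_congr (Subgroup.subgroupOfEquivOfLe hNT).toEquiv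
  have h1 := Subgroup.relIndex_dvd_index_of_le hNT
  obtain ⟨a, ha⟩ := Glb.exists_canExt h1 (e ▸ hc) (isIrrCharacter_subgroupOf hNT hθ)
    fun s _ g g' h => (conjChar_apply_of_eq (s : G) θ ⟨g, g.2⟩ _ (congrArg Subtype.val h)).symm.trans
      (mem_inertia.1 s.2 ⟨g, g.2⟩)
  have h2 : classInner (fun n : N => a ⟨n, hNT n.2⟩) θ = 1 := by
    rw [show (fun n : N => a ⟨n, hNT n.2⟩) = θ from funext fun n => ha.ext ⟨⟨n, hNT n.2⟩, n.2⟩,
      hθ.classInner_self]
  have h3 := clifford_corr_irr hθ rfl hNT ha.irrh (h2 ▸ one_ne_zero)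
  have h4 := (clifford_corr_mult hθ rfl hNT ha.irrh (h2 ▸ one_ne_zero)).trans h2
  have h5 := clifford h3 hθ (h4 ▸ one_ne_zero)
  rw [h4, one_smul] at h5
  have h6 := isCharacter_sum_conjugates (G := G) hθ.isCharacter
  have h7 : IsCharacter N (η - ∑ φ ∈ conjugates θ, φ) :=
    (hη.isGeneralizedCharacter.sub h6.isGeneralizedCharacter).isCharacter_of_nonneg fun φ => by
      rw [classInner_sub_left, classInner_sum_conjugates hθ φ.2]
      split_ifs with h
      · obtain ⟨g, hg⟩ := mem_conjugates.1 h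
        rw [hg, classInner_conjChar_right, hinv, Complex.sub_re, Complex.one_re, sub_nonneg]
        exact hη.one_le_re_classInner hθ.isCharacter hne
      · simpa using hη.re_classInner_nonneg φ.isCharacter
  have h8 := h7.charDegree_add h6
  rw [sub_add_cancel, hn, ← h5, charDegree_restrict] at h8
  obtain ⟨ψ, h9, h10, h11⟩ := ih _ (h8 ▸ Nat.lt_add_of_pos_right h3.charDegree_pos) _ h7
    (by rw [h5]) fun g => by rw [conjChar_sub, hinv, conjChar_sum_conjugates]
  refine ⟨ψ + indFun _ a, h9.add h3.isCharacter, fun x => ?_, fun σ hσ y => ?_⟩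
  · rw [Pi.add_apply, h10, congrFun h5 x, Pi.sub_apply, sub_add_cancel]
  · rw [Pi.add_apply, map_add, h11 σ hσ]
    simp only [indFun, map_mul, map_inv₀, map_natCast, map_sum]
    congr 2
    refine Finset.sum_congr rfl fun x _ => ?_
    by_cases h : x⁻¹ * y * x ∈ inertia N θ
    · rw [extendByZero_of_mem _ _ h, ha.galois h1 (e ▸ hc) σ (e ▸ hσ)]
    · rw [extendByZero_of_not_mem _ _ h, map_zero]

/-- A character of `G` gives an invariant character of a normal `p'`-subgroup of `G / R` for a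
normal `p`-subgroup `R`. -/
theorem linD_exists_invariant [hp : Fact p.Prime] {χ : G → ℂ} (hχ : IsCharacter G χ)
    (hf : charKer χ = ⊥) {R : Subgroup G} [R.Normal] (hR : IsPGroup p R) {K : Subgroup (G ⧸ R)}
    [K.Normal] (hK : ¬ p ∣ Nat.card K) : ∃ η : K → ℂ, IsCharacter K η ∧ charKer η = ⊥ ∧
      η 1 = χ 1 ∧ ∀ g : G ⧸ R, conjChar g η = η := by
  set π := QuotientGroup.mk' R
  have h1 : R.relIndex (K.comap π) = Nat.card K := by
    have h1 := Subgroup.relIndex_ker (K.comap π) π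
    rwa [Subgroup.map_comap_eq_self_of_surjective (QuotientGroup.mk'_surjective R),
      QuotientGroup.ker_mk'] at h1
  obtain ⟨H, h2, h3, h4, h5⟩ := GT.exists_complement_of_coprime_relIndex
    (QuotientGroup.le_comap_mk' R K) Subgroup.le_normalizer_of_normal
    (by
      obtain ⟨k, hk⟩ := hR.exists_card_eq
      exact h1 ▸ hk ▸ (hp.out.coprime_iff_not_dvd.2 hK).pow_left k)
  rw [h1] at h5
  let f : H →* K := (π.comp H.subtype).codRestrict K fun x => h2 x.2
  have h6 : Function.Injective f := (injective_iff_map_eq_one f).2 fun x hx => Subtype.ext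
    (Subgroup.mem_bot.1 (h4 ▸ ⟨(QuotientGroup.eq_one_iff _).1 (congrArg Subtype.val hx), x.2⟩))
  let e := MulEquiv.ofBijective f ((Nat.bijective_iff_injective_and_card f).2 ⟨h6, h5⟩)
  refine ⟨fun k => χ (e.symm k), (hχ.restrict H).comp_mulEquiv e.symm, ?_, by simp, fun g => ?_⟩
  · refine (((hχ.restrict H).comp_mulEquiv e.symm).charKer_eq_bot_iff).2 fun k hk => ?_
    simpa using hχ.charKer_eq_bot_iff.1 hf (e.symm k) (by simpa using hk)
  obtain ⟨g, rfl⟩ := QuotientGroup.mk_surjective g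
  funext k
  obtain ⟨l, rfl⟩ := e.surjective k
  have hc := (GT.CopAct.coprime_of_isPGroup_left hR (h5 ▸ hK)).symm
  obtain ⟨r, hr, h7⟩ := GT.CopAct.exists_conj_mem_of_le_sup Subgroup.le_normalizer_of_normal hc
    (Or.inr (GT.CopAct.isSolvable_of_isPGroup hR)) (B := Subgroup.zpowers (g * l * g⁻¹))
    (Subgroup.zpowers_le.2 (h3 ▸ Subgroup.Normal.conj_mem inferInstance _ (h2 l.2) g)) (by
      rw [Nat.card_zpowers, ← MulAut.conj_apply, MulEquiv.orderOf_eq, Subgroup.orderOf_coe]
      exact hc.coprime_dvd_left (orderOf_dvd_natCard l))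
  rw [conjChar_apply_of_eq _ _ _ (e ⟨_, h7 _ (Subgroup.mem_zpowers _)⟩) (by
      change π (r * _ * r⁻¹) = π g * π l * (π g)⁻¹
      simp [π, (QuotientGroup.eq_one_iff r).2 hr]),
    e.symm_apply_apply, e.symm_apply_apply, hχ.isClassFunction.conj_eq, hχ.isClassFunction.conj_eq]

/-- Dixon's bound for `p`-solvable linear groups. -/
theorem linD_dixon [hp : Fact p.Prime] {χ : G → ℂ} (hχ : IsCharacter G χ) (hf : charKer χ = ⊥)
    (hG : IsPSolvable p G) : p ^ (pCore p G).index.factorization p ∣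
      p ^ (charDegree χ / (p - 1)) * (charDegree χ / (p - 1)).factorial := by
  obtain ⟨η, hη, h1, h2, h3⟩ := linD_exists_invariant hχ hf (GT.isPGroup_pCore p)
    (GT.not_dvd_card_pPrimeCore (G := G ⧸ pCore p G) hp.out)
  set K := pPrimeCore p (G ⧸ pCore p G)
  obtain ⟨P⟩ : Nonempty (Sylow p (G ⧸ pCore p G)) := inferInstance
  have hK : K ≤ K ⊔ P := le_sup_left
  have hP : (P : Subgroup (G ⧸ pCore p G)) ≤ K ⊔ P := le_sup_right
  have hc := GT.CopAct.coprime_of_isPGroup_left P.isPGroup' (GT.not_dvd_card_pPrimeCore hp.out)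
  have e := Nat.card_congr (Subgroup.subgroupOfEquivOfLe hK).toEquiv
  obtain ⟨ψ, hψ, h4, h5⟩ := linD_exists_extends (N := K.subgroupOf (K ⊔ P)) (by
      rw [e, ← Subgroup.relIndex, Subgroup.relIndex_sup_left]
      exact hc.symm.coprime_dvd_right (Subgroup.relIndex_dvd_card _ _))
    _ _ (isCharacter_subgroupOf hK hη) rfl fun g => funext fun x => congrFun (h3 g) ⟨x, x.2⟩
  have h6 : ∀ x ∈ charKer ψ, x.1 ∈ K → x = 1 := fun x hx h => Subtype.ext (Subtype.ext_iff.1
    (hη.charKer_eq_bot_iff.1 h1 ⟨x, h⟩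
      ((h4 ⟨x, h⟩).symm.trans ((apply_eq_of_mem_charKer hx).trans (h4 1)))) :)
  have := hψ.charKer_normal
  have h7 : charKer ψ = ⊥ := eq_bot_iff.2 fun x hx => h6 x hx
    ((hG.quotient _).centralizer_pPrimeCore_le GT.pCore_quotient_pCore fun k hk => by
      have h7 := congrArg Subtype.val (h6 (⟨k, hK hk⟩ * x * ⟨k, hK hk⟩⁻¹ * x⁻¹)
        (mul_mem (this.conj_mem _ hx _) (inv_mem hx)) (by
          simpa [mul_assoc] using mul_mem hk
            (Subgroup.Normal.conj_mem inferInstance _ (inv_mem hk) x.1)))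
      simpa [mul_inv_eq_iff_eq_mul] using h7)
  have h8 := linD_schur hp.out (hψ.comp (Subgroup.inclusion hP)) P.isPGroup' (by
    rw [hψ.charKer_comp, h7, MonoidHom.comap_bot, Subgroup.ker_inclusion]) fun g k hk => by
      obtain ⟨j, hj⟩ := P.isPGroup'.exists_card_eq
      obtain ⟨σ, h8, h9⟩ := galois_exists_pow_fix Nat.card_pos.ne' Nat.card_pos.ne' hc
        (k := k) (hj ▸ hk.pow_right j)
      rw [← (hψ.comp (Subgroup.inclusion hP)).galois_apply_of_pow_eq_one (σ : ℂ →+* ℂ) h8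
        pow_card_eq_one']
      exact h5 _ (e ▸ h9) _
  rwa [charDegree_congr (ψ := χ) (((congrArg ψ (map_one _)).trans (h4 1)).trans h2),
    P.card_eq_multiplicity] at h8

end Cfsg.Agent.Ch
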