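import Mathlib
import Cfsg.Agent.Ch.RealChar
import Cfsg.Agent.GT.MinNormal
import Cfsg.Agent.GT.PPrimeCore
import Cfsg.Agent.GT.CoprimeFixed

/-!
# Groups whose real irreducible characters have degree prime to `p`

`pCl p G` is the subgroup generated by the `p`-elements.  If `pCl p G` is solvable, all real
irreducible characters have degree prime to `p` and `G` is generated by its `2`-elements and a
Sylow `p`-subgroup `P`, then `P` is normal.
-/

set_option autoImplicit false
open Cfsg ComplexConjugate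

namespace Cfsg.Agent.Ch.RC

universe u

variable {G : Type*} [Group G] {G' : Type*} [Group G'] {p : ℕ}

theorem eq_one_of_dvd_pow_of_not_dvd (hp : p.Prime) {n k : ℕ} (h : n ∣ p ^ k) (h' : ¬ p ∣ n) :
    n = 1 :=
  Nat.eq_one_of_dvd_coprimes ((hp.coprime_iff_not_dvd.2 h').pow_left k) h dvd_rfl

/-- The subgroup generated by the `p`-elements. -/
abbrev pCl (p : ℕ) (G : Type*) [Group G] : Subgroup G :=
  Subgroup.closure {g : G | ∃ k : ℕ, orderOf g = p ^ k}

theorem pCl_eq [Finite G] (hp : p.Prime) : pCl p G = GT.piResidual {p}ᶜ G := by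
  unfold pCl GT.piResidual
  congr 1
  ext g
  simp only [Set.mem_ofPred_eq, compl_compl]
  exact (GT.isPiNum_singleton_iff hp (orderOf_pos g).ne').symm

theorem pCl_normal [Finite G] (hp : p.Prime) : (pCl p G).Normal := by
  rw [pCl_eq hp]; infer_instance

theorem pCl_characteristic [Finite G] (hp : p.Prime) : (pCl p G).Characteristic := by
  rw [pCl_eq hp]; infer_instance

theorem not_dvd_index_pCl [Finite G] (hp : p.Prime) : ¬ p ∣ (pCl p G).index := by
  rw [pCl_eq hp]
  exact (GT.isPiNum_compl_singleton_iff_not_dvd hp).1 (GT.isPiNum_index_piResidual _)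

theorem odd_index_pCl [Finite G] : Odd (pCl 2 G).index := by
  rw [← Nat.not_even_iff_odd, even_iff_two_dvd]
  exact not_dvd_index_pCl Nat.prime_two

theorem map_pCl_of_surjective [Finite G] (hp : p.Prime) {f : G →* G'}
    (hf : Function.Surjective f) : (pCl p G).map f = pCl p G' := by
  have := Finite.of_surjective f hf
  rw [pCl_eq hp, pCl_eq hp, GT.map_piResidual_of_surjective hf]

theorem map_pCl_le [Finite G] [Finite G'] (hp : p.Prime) (f : G →* G') :
    (pCl p G).map f ≤ pCl p G' := by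
  rw [pCl_eq hp, pCl_eq hp]; exact GT.map_piResidual_le f

theorem map_pCl_subtype_of_le [Finite G] (hp : p.Prime) {H : Subgroup G} (h : pCl p G ≤ H) :
    (pCl p H).map H.subtype = pCl p G := by
  rw [pCl_eq hp] at h
  rw [pCl_eq hp, pCl_eq hp, GT.map_piResidual_subtype_of_le h]

theorem pCl_eq_subgroupOf [Finite G] (hp : p.Prime) {H : Subgroup G} (h : pCl p G ≤ H) :
    pCl p H = (pCl p G).subgroupOf H := by
  rw [← map_pCl_subtype_of_le hp h, Subgroup.subgroupOf,
    Subgroup.comap_map_eq_self_of_injective H.subtype_injective]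

theorem le_pCl [Finite G] [Fact p.Prime] {P : Subgroup G} (hP : IsPGroup p P) : P ≤ pCl p G := by
  intro x hx
  obtain ⟨k, hk⟩ := IsPGroup.iff_orderOf.1 hP ⟨x, hx⟩
  exact Subgroup.subset_closure ⟨k, by rw [← hk, Subgroup.orderOf_mk]⟩

theorem isSolvable_pCl_of_injective [Finite G] [Finite G'] (hp : p.Prime) {f : G →* G'}
    (hf : Function.Injective f) (h : Group.IsSolvable (pCl p G')) :
    Group.IsSolvable (pCl p G) := by
  have := GT.isSolvable_of_le (map_pCl_le hp f)
  exact GT.isSolvable_of_map_of_injective hf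

theorem isSolvable_pCl_of_surjective [Finite G] (hp : p.Prime) {f : G →* G'}
    (hf : Function.Surjective f) (h : Group.IsSolvable (pCl p G)) :
    Group.IsSolvable (pCl p G') := by
  rw [← map_pCl_of_surjective hp hf]
  exact GT.isSolvable_map _ f

/-- All real irreducible characters have degree prime to `p`. -/
def RealPPrime (p : ℕ) (G : Type*) [Group G] : Prop :=
  ∀ χ : IrrCharacter G, (∀ g : G, ((χ : G → ℂ) g).im = 0) → ¬ p ∣ charDegree (χ : G → ℂ)

theorem RealPPrime.of_surjective (h : RealPPrime p G) {f : G →* G'}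
    (hf : Function.Surjective f) : RealPPrime p G' := fun χ hχ => by
  have := h ⟨_, χ.2.comp_surjective f hf⟩ fun g => hχ (f g)
  rwa [charDegree_comp] at this

theorem RealPPrime.of_odd_index [Finite G] (h : RealPPrime p G) {N : Subgroup G} [N.Normal]
    (hodd : Odd N.index) : RealPPrime p N := fun θ hθ hd => by
  obtain ⟨χ, hχ, he⟩ := exists_real_dvd_degree hodd θ.2 hθ
  exact h χ hχ (he ▸ hd.mul_left _)

/-- An irreducible character of degree prime to `p` has the abelian normal subgroup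
`N = [N, P]` in its kernel. -/
theorem le_charKer_of_commutator_eq [Finite G] [Fact p.Prime] {N P : Subgroup G} [N.Normal]
    (hP : IsPGroup p P) (hN : IsMulCommutative N) (hNP : N ≤ ⁅N, P⁆) {χ : G → ℂ}
    (hχ : IsIrrCharacter G χ) (h : ¬ p ∣ charDegree χ) : N ≤ charKer χ := by
  have := Fintype.ofFinite N
  obtain ⟨θ, hθ, hne, hinv⟩ := exists_invariant_under hP N hχ h
  obtain ⟨f, rfl⟩ := hθ.exists_monoidHom_of_comm fun a b => hN.is_comm.comm a b
  refine le_charKer_of_constituent hχ le_rfl hθ hne fun m hm => ?_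
  have h1 : ⁅N, P⁆ ≤ f.ker.map N.subtype := by
    rw [Subgroup.commutator_le]
    intro n hn x hx
    have h2 := mem_inertia.1 (hinv hx) ⟨n⁻¹, N.inv_mem hn⟩
    refine ⟨⟨n, hn⟩ * ⟨x * n⁻¹ * x⁻¹, ‹N.Normal›.conj_mem _ (N.inv_mem hn) x⟩, ?_, ?_⟩
    · rw [SetLike.mem_coe, MonoidHom.mem_ker, map_mul, Units.val_injective h2, ← map_mul]
      exact (congrArg f (Subtype.ext (mul_inv_cancel n))).trans f.map_one
    · simp [commutatorElement_def, mul_assoc]
  obtain ⟨y, hy, rfl⟩ := h1 (hNP hm)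
  have hy' : f y = 1 := hy
  simp [hy']

theorem sylow_normal_aux [Finite G] [hp : Fact p.Prime] (hreal : RealPPrime p G) (P : Sylow p G)
    (htop : pCl 2 G ⊔ P = ⊤) {N : Subgroup G} (hmin : GT.IsMinNormal N) {q : ℕ} (hq : q.Prime)
    (hel : IsElementaryAbelian q N) (hPN : ((P : Subgroup G) ⊔ N).Normal) :
    (P : Subgroup G).Normal := by
  have hN := hmin.normal
  set H := Subgroup.normalizer ((P : Subgroup G) : Set G) with hH
  suffices h : H = ⊤ from Subgroup.normalizer_eq_top_iff.1 h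
  have hPH : (P : Subgroup G) ≤ H := Subgroup.le_normalizer
  have hHN : H ⊔ N = ⊤ := by
    have : H ⊔ ((P : Subgroup G) ⊔ N) = ⊤ :=
      Sylow.normalizer_sup_eq_top' (N := (P : Subgroup G) ⊔ N) P le_sup_left
    rwa [← sup_assoc, sup_eq_left.2 hPH] at this
  have hcomm : ∀ a ∈ N, ∀ b ∈ N, a * b = b * a := fun a ha b hb =>
    congrArg Subtype.val (hel.1.is_comm.comm ⟨a, ha⟩ ⟨b, hb⟩)
  have hdec : ∀ g : G, ∃ h ∈ H, ∃ n ∈ N, g = h * n := by
    intro g
    have : g ∈ ((H ⊔ N : Subgroup G) : Set G) := by rw [hHN]; trivial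
    rw [Subgroup.mul_normal] at this
    obtain ⟨h, hh, n, hn, rfl⟩ := this
    exact ⟨h, hh, n, hn, rfl⟩
  have hNH : (N ⊓ H).Normal := ⟨fun x hx g => by
    obtain ⟨h, hh, n, hn, rfl⟩ := hdec g
    have : h * n * x * (h * n)⁻¹ = h * x * h⁻¹ := by
      rw [mul_assoc h n x, hcomm n hn x hx.1]; group
    rw [this]
    exact ⟨hN.conj_mem _ hx.1 _, H.mul_mem (H.mul_mem hh hx.2) (H.inv_mem hh)⟩⟩
  rcases hmin.eq_bot_or_eq (K := N ⊓ H) inf_le_left with hbot | heq
  swap
  · rw [← hHN, eq_comm, sup_eq_left, ← heq]; exact inf_le_right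
  have hone : ∀ x ∈ N, x ∈ H → x = 1 := fun x h1 h2 => by
    have : x ∈ N ⊓ H := ⟨h1, h2⟩
    rwa [hbot, Subgroup.mem_bot] at this
  have hNP : N ≤ ⁅N, (P : Subgroup G)⁆ := by
    have hnorm : (⁅N, (P : Subgroup G)⁆ : Subgroup G).Normal := by
      refine GT.normal_of_top_le_normalizer ?_
      rw [← hHN]
      exact sup_le (GT.CopAct.le_normalizer_commutator Subgroup.le_normalizer_of_normal le_rfl)
        (Subgroup.normalizer_commutator_ge_left _ _)
    rcases hmin.eq_bot_or_eq (K := ⁅N, (P : Subgroup G)⁆) (Subgroup.commutator_le_left _ _)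
      with h | h
    · exfalso
      apply hmin.ne_bot
      rw [← hbot, eq_comm, inf_eq_left]
      exact (Subgroup.commutator_eq_bot_iff_le_centralizer.1 h).trans
        (Subgroup.centralizer_le_normalizer _)
    · exact h.ge
  have hker : ∀ χ : IrrCharacter G, (∀ g, ((χ : G → ℂ) g).im = 0) → N ≤ charKer (χ : G → ℂ) :=
    fun χ hχ => le_charKer_of_commutator_eq P.isPGroup' hel.1 hNP χ.2 (hreal χ hχ)
  by_cases hq2 : q = 2
  · exfalso
    apply hmin.ne_bot
    rw [eq_bot_iff]
    intro m hm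
    rw [Subgroup.mem_bot]
    refine eq_one_of_sq_mul_eq hker (g := 1) ?_ (s := 1) (one_mul 1) hm ?_
    · intro u hu
      obtain ⟨h, hh, n, hn, rfl⟩ := hdec u
      refine ⟨h, hone _ ?_ (H.mul_mem hh hh), by simpa using hn⟩
      have h1 : h * h = (1⁻¹ * (h * n * (h * n))) * (n⁻¹ * (h⁻¹ * n⁻¹ * h⁻¹⁻¹)) := by group
      rw [h1]
      exact N.mul_mem hu (N.mul_mem (N.inv_mem hn) (hN.conj_mem _ (N.inv_mem hn) _))
    · have := hel.2 m hm
      rw [hq2, pow_two] at this
      simpa using this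
  have hodd : ∀ m ∈ N, ¬ 2 ∣ orderOf m := fun m hm h2 =>
    hq2 ((Nat.prime_dvd_prime_iff_eq Nat.prime_two hq).1
      (h2.trans (orderOf_dvd_of_pow_eq_one (hel.2 m hm)))).symm
  rw [eq_top_iff, ← htop]
  refine sup_le ((Subgroup.closure_le _).2 ?_) hPH
  rintro s ⟨k, hk⟩
  obtain ⟨h, hh, n, hn, rfl⟩ := hdec s
  have hc : Commute (h * n) n := commute_of_two_element hodd hker k _ hk n hn
  have hc' : Commute h n := by
    have := hc.mul_left (Commute.refl n).inv_left
    simpa using this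
  have h1 : h ^ 2 ^ k * n ^ 2 ^ k = 1 := by rw [← hc'.mul_pow, ← hk, pow_orderOf_eq_one]
  have h2 : n ^ 2 ^ k = 1 := by
    refine hone _ (N.pow_mem hn _) ?_
    rw [eq_inv_of_mul_eq_one_right h1]
    exact H.inv_mem (H.pow_mem hh _)
  have h3 : n = 1 := by
    rw [← orderOf_eq_one_iff]
    exact eq_one_of_dvd_pow_of_not_dvd Nat.prime_two (orderOf_dvd_of_pow_eq_one h2) (hodd n hn)
  rw [h3, mul_one]
  exact hh

theorem sylow_normal [hp : Fact p.Prime] (G : Type u) [Group G] [Finite G] :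
    Group.IsSolvable (pCl p G) → RealPPrime p G → ∀ P : Sylow p G, pCl 2 G ⊔ P = ⊤ →
      (P : Subgroup G).Normal := by
  refine GT.card_induction (P := fun G _ _ => Group.IsSolvable (pCl p G) → RealPPrime p G →
    ∀ P : Sylow p G, pCl 2 G ⊔ P = ⊤ → (P : Subgroup G).Normal) ?_ G
  intro G _ _ ih hsolv hreal P htop
  by_cases hP : (P : Subgroup G) = ⊥
  · rw [hP]; infer_instance
  have := pCl_normal (G := G) hp.out
  have hne : pCl p G ≠ ⊥ := fun h => hP (eq_bot_iff.2 (h ▸ le_pCl P.isPGroup'))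
  obtain ⟨N, q, hmin, -, hq, hel⟩ := GT.exists_isMinNormal_elementary_le hne
  have hN := hmin.normal
  have hs := QuotientGroup.mk'_surjective N
  have hlt : Nat.card (G ⧸ N) < Nat.card G := by
    rw [← N.index_eq_card, ← N.index_mul_card]
    exact lt_mul_of_one_lt_right (Nat.pos_of_ne_zero N.index_ne_zero_of_finite)
      ((Subgroup.one_lt_card_iff_ne_bot N).2 hmin.ne_bot)
  have h1 := ih (G ⧸ N) hlt (isSolvable_pCl_of_surjective hp.out hs hsolv)
    (hreal.of_surjective hs) (P.mapSurjective hs) (by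
      rw [Sylow.coe_mapSurjective, ← map_pCl_of_surjective Nat.prime_two hs,
        ← Subgroup.map_sup, htop, ← MonoidHom.range_eq_map, MonoidHom.range_eq_top.2 hs])
  have h2 := h1.comap (QuotientGroup.mk' N)
  rw [Sylow.coe_mapSurjective, Subgroup.comap_map_eq, QuotientGroup.ker_mk'] at h2
  exact sylow_normal_aux hreal P htop hmin hq hel h2

/-- If `U` is a normal subgroup containing `K = pCl 2 G` with `U / K` a `p`-group then `U` has
a normal Sylow `p`-subgroup. -/
theorem sylow_normal_of_relIndex [hp : Fact p.Prime] [Finite G]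
    (hsolv : Group.IsSolvable (pCl p G)) (hreal : RealPPrime p G) {U : Subgroup G} [U.Normal]
    (hKU : pCl 2 G ≤ U) (hUp : ∃ a : ℕ, (pCl 2 G).relIndex U = p ^ a) (Q : Sylow p U) :
    (Q : Subgroup U).Normal := by
  refine sylow_normal U (isSolvable_pCl_of_injective hp.out U.subtype_injective hsolv)
    (hreal.of_odd_index (odd_index_pCl.of_dvd_nat (Subgroup.index_dvd_of_le hKU))) Q ?_
  obtain ⟨a, ha⟩ := hUp
  rw [pCl_eq_subgroupOf Nat.prime_two hKU, ← Subgroup.index_eq_one]
  have h1 : ((pCl 2 G).subgroupOf U ⊔ Q).index ∣ p ^ a :=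
    ha ▸ Subgroup.index_dvd_of_le le_sup_left
  have h2 : ¬ p ∣ ((pCl 2 G).subgroupOf U ⊔ Q).index := fun h =>
    Q.not_dvd_index (h.trans (Subgroup.index_dvd_of_le le_sup_right))
  exact eq_one_of_dvd_pow_of_not_dvd hp.out h1 h2

end Cfsg.Agent.Ch.RC
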