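import Mathlib
import Cfsg.Agent.Ch.CliffordRel
import Cfsg.Agent.Ch.MGroup
import Cfsg.Agent.GT.Fitting
import Cfsg.Agent.GT.Schmidt

/-!
# Relative M-groups
-/

set_option autoImplicit false

namespace Cfsg.Agent.Ch

open Cfsg
open scoped ComplexConjugate

universe u

variable {G : Type*} [Group G]

theorem isSolvable_quotient_subgroupOf (N T : Subgroup G) [N.Normal]
    (h : Group.IsSolvable (G ⧸ N)) : Group.IsSolvable (T ⧸ N.subgroupOf T) := by
  refine Group.isSolvable_of_isSolvable_injective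
    (f := QuotientGroup.map (N.subgroupOf T) N T.subtype fun _ hx => hx) ?_
  rw [← MonoidHom.ker_eq_bot_iff]
  refine (QuotientGroup.ker_map _ _ _ _).trans ?_
  rw [Subgroup.map_eq_bot_iff, QuotientGroup.ker_mk']
  exact le_rfl

theorem isSolvable_quotient_of_le {N L : Subgroup G} [N.Normal] [L.Normal] (hNL : N ≤ L)
    (h : Group.IsSolvable (G ⧸ N)) : Group.IsSolvable (G ⧸ L) :=
  Group.isSolvable_of_surjective (f := QuotientGroup.map N L (MonoidHom.id G) hNL)
    (QuotientGroup.map_surjective_of_surjective _ _ _ QuotientGroup.mk_surjective _)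

theorem commutator_le_of_chief {K L : Subgroup G} [L.Normal] (h : IsChiefFactor K L)
    (hs : Group.IsSolvable (G ⧸ L)) : ⁅K, K⁆ ≤ L := by
  have := h.2.1
  rcases h.2.2.2 (⁅K, K⁆ ⊔ L) inferInstance le_sup_right
    (sup_le (Subgroup.commutator_le_right K K) h.1.le) with h1 | h1
  · exact le_sup_left.trans h1.le
  · exfalso
    have h2 : K.map (QuotientGroup.mk' L) ≠ ⊥ := by
      rw [Ne, Subgroup.map_eq_bot_iff, QuotientGroup.ker_mk']
      exact h.1.not_ge
    have h3 := Group.IsSolvable.commutator_lt_of_ne_bot h2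
    rw [← Subgroup.map_commutator] at h3
    refine h3.not_ge ?_
    conv_lhs => rw [← h1]
    rw [Subgroup.map_sup, (Subgroup.map_eq_bot_iff L).2 (QuotientGroup.ker_mk' L).ge, sup_bot_eq]

/-- The two ways of viewing `H ⊓ T` as a subgroup of a subgroup. -/
def swapSub (H T : Subgroup G) : H.subgroupOf T ≃* T.subgroupOf H where
  toFun x := ⟨⟨x.1.1, x.2⟩, x.1.2⟩
  invFun x := ⟨⟨x.1.1, x.2⟩, x.1.2⟩
  left_inv _ := rfl
  right_inv _ := rfl
  map_mul' _ _ := rfl

/-- If `(ψ^G)_H` is irreducible then so is `ψ_{T ∩ H}`, and `|H : T ∩ H| = |G : T|`. -/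
theorem isIrr_res_of_res_indFun [Fintype G] {H T : Subgroup G} {ψ : T → ℂ}
    (hψ : IsCharacter T ψ) (h : IsIrrCharacter H (fun x : H => indFun T ψ x)) :
    IsIrrCharacter (H.subgroupOf T) (fun x => ψ x) ∧ T.relIndex H = T.index := by
  classical
  set η := indFun T ψ with hη
  have hηc : IsCharacter G η := isCharacter_indFun T hψ
  have hηirr : IsIrrCharacter G η := IsIrrCharacter.of_restrict H hηc h
  have hψ0 : ψ ≠ 0 := fun h0 => hηirr.ne_zero (by rw [hη, h0]; exact (indLin T).map_zero)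
  have hψirr : IsIrrCharacter T ψ := by
    obtain ⟨φ, hφ, h1⟩ := hψ.exists_irr_constituent hψ0
    obtain ⟨ξ, hξ, rfl⟩ := hψ.exists_eq_irr_add hφ h1
    rw [hη, indFun_add] at hηirr
    rcases hηirr.eq_zero_or_eq_zero_of_add (isCharacter_indFun T hφ.isCharacter)
      (isCharacter_indFun T hξ) with h2 | h2
    · exact absurd h2 (indFun_ne_zero T hφ.apply_one_ne_zero)
    · have : ξ = 0 := by
        by_contra h3
        exact indFun_ne_zero T (fun h4 => h3 (hξ.eq_zero_of_apply_one h4)) h2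
      simpa [this] using hφ
  obtain ⟨ξ, hξ, hres⟩ := (hηc.restrict T).exists_eq_irr_add hψirr (by
    rw [← classInner_indFun_eq_res T hψ hηc, hηirr.classInner_self]; exact one_ne_zero)
  let α : T.subgroupOf H → ℂ := fun x => ψ ⟨x.1.1, x.2⟩
  let β : T.subgroupOf H → ℂ := fun x => ξ ⟨x.1.1, x.2⟩
  have hα : IsCharacter _ α := (hψ.restrict (H.subgroupOf T)).comp_mulEquiv (swapSub T H)
  have hβ : IsCharacter _ β := (hξ.restrict (H.subgroupOf T)).comp_mulEquiv (swapSub T H)
  obtain ⟨n, hn⟩ := hα.exists_nat_classInner hα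
  have h1 : (n : ℝ) ≤ (classInner (indFun (T.subgroupOf H) α) (fun x : H => η x)).re := by
    rw [classInner_indFun_left _ _ h.isClassFunction]
    have : (fun x : T.subgroupOf H => η ((x : H) : G)) = α + β := by
      ext x
      exact congrFun hres ⟨x.1.1, x.2⟩
    rw [this, classInner_add_right, hn, Complex.add_re, Complex.natCast_re]
    have := hα.re_classInner_nonneg hβ
    linarith
  have h2 := (isCharacter_indFun _ hα).mul_charDegree_irr_le h h1
  have hd := hψirr.charDegree_pos
  have h3 : charDegree (indFun (T.subgroupOf H) α) = T.relIndex H * charDegree ψ := by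
    rw [(isCharacter_indFun _ hα).charDegree_eq_iff, indFun_one]
    push_cast
    rw [hψ.coe_charDegree]
    rfl
  have h4 : charDegree (fun x : H => η x) = T.index * charDegree ψ := by
    rw [h.isCharacter.charDegree_eq_iff]
    push_cast
    rw [hψ.coe_charDegree]
    exact indFun_one T ψ
  have h5 : T.relIndex H ≤ T.index := by
    rw [← Subgroup.relIndex_top_right]
    exact Subgroup.relIndex_le_of_le_right le_top
      (by rw [Subgroup.relIndex_top_right]; exact T.index_ne_zero_of_finite)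
  have h6 : n ≠ 0 := by
    rintro rfl
    rw [Nat.cast_zero, classInner_self_eq_zero] at hn
    exact hψirr.apply_one_ne_zero (congrFun hn 1)
  have h7 : 0 < T.index := Nat.pos_of_ne_zero T.index_ne_zero_of_finite
  rw [h3, h4, ← mul_assoc] at h2
  have h8 := Nat.le_of_mul_le_mul_right h2 hd
  have h9 : n = 1 := by
    by_contra h10
    have : 2 * T.index ≤ n * T.index := Nat.mul_le_mul_right _ (by omega)
    omega
  subst h9
  refine ⟨?_, by omega⟩
  exact (hα.isIrr_of_classInner_self (by simpa using hn)).comp_mulEquiv (swapSub H T)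

/-- Transport of a function on a subgroup of `T` to the image in `G`. -/
noncomputable def mapSub {T : Subgroup G} (U : Subgroup T) (ψ : U → ℂ) : U.map T.subtype → ℂ :=
  fun x => ψ ((U.equivMapOfInjective T.subtype T.subtype_injective).symm x)

theorem mapSub_apply {T : Subgroup G} (U : Subgroup T) (ψ : U → ℂ) (x : U)
    (hx : ((x : T) : G) ∈ U.map T.subtype) : mapSub U ψ ⟨(x : T), hx⟩ = ψ x := by
  unfold mapSub
  congr 1
  rw [MulEquiv.symm_apply_eq]
  rfl

theorem indFun_mapSub [Fintype G] {T : Subgroup G} [Fintype T] (U : Subgroup T) (ψ : U → ℂ) :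
    indFun (U.map T.subtype) (mapSub U ψ) = indFun T (indFun U ψ) :=
  (indFun_indFun T U ψ _ fun x => mapSub_apply U ψ x _).symm

theorem isIrrCharacter_mapSub {T : Subgroup G} (U : Subgroup T) {ψ : U → ℂ}
    (hψ : IsIrrCharacter U ψ) : IsIrrCharacter _ (mapSub U ψ) :=
  hψ.comp_mulEquiv _

theorem isCharacter_mapSub {T : Subgroup G} (U : Subgroup T) {ψ : U → ℂ}
    (hψ : IsCharacter U ψ) : IsCharacter _ (mapSub U ψ) :=
  hψ.comp_mulEquiv _

/-- Relative M-groups from non-square chief factors. -/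
theorem relative_M_of_nonsquare (G : Type u) [Group G] [Finite G] :
    ∀ [Fintype G] (N : Subgroup G) [N.Normal], Group.IsSolvable (G ⧸ N) →
    (∀ (H K L : Subgroup G), N ≤ L → L < K → K ≤ H → (∀ h ∈ H, ∀ k ∈ K, h * k * h⁻¹ ∈ K) →
      (∀ h ∈ H, ∀ l ∈ L, h * l * h⁻¹ ∈ L) → (∀ M : Subgroup G, L ≤ M → M ≤ K →
        (∀ h ∈ H, ∀ m ∈ M, h * m * h⁻¹ ∈ M) → M = L ∨ M = K) → ¬ IsSquare (L.relIndex K)) →
    ∀ χ : G → ℂ, IsIrrCharacter G χ → ∃ (H : Subgroup G) (hNH : N ≤ H) (ψ : H → ℂ),
      IsIrrCharacter H ψ ∧ indFun H ψ = χ ∧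
        IsIrrCharacter N (fun n : N => ψ ⟨(n : G), hNH n.2⟩) := by
  revert G
  refine GT.card_induction fun G _ _ ih => ?_
  intro _ N _ hsolv hchief χ hχ
  classical
  obtain ⟨K, -, ⟨hKn, hNK, hK⟩, hmin⟩ := GT.exists_minimal_le
    (P := fun K : Subgroup G => K.Normal ∧ N ≤ K ∧ IsIrrCharacter K (fun k : K => χ k)) (H := ⊤)
    ⟨inferInstance, le_top, hχ.comp_mulEquiv Subgroup.topEquiv⟩
  rcases hNK.eq_or_lt with rfl | hlt
  · exact ⟨⊤, le_top, fun x => χ x, hχ.comp_mulEquiv Subgroup.topEquiv,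
      indFun_top hχ.isClassFunction, hK⟩
  obtain ⟨L, hL, hNL⟩ := GT.exists_isChiefFactor_below hlt
  have hLn := hL.2.2.1
  have hab := commutator_le_of_chief hL (isSolvable_quotient_of_le hNL hsolv)
  obtain ⟨φ, hφ, h⟩ := exists_irr_under_of_le hL.1.le hK
  rcases going_down hL.1.le hL.2.2.2 hab hK (conjChar_res hχ.isClassFunction) hφ h with
    h1 | ⟨e, -, h2⟩ | ⟨h1, -⟩
  · exact absurd (hmin L ⟨hLn, hNL, h1 ▸ hφ⟩ hL.1.le) hL.1.ne
  · exact absurd ⟨e, by rw [← h2, sq]⟩ (hchief ⊤ K L hNL hL.1 le_top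
      (fun g _ k hk => hKn.conj_mem k hk g) (fun g _ k hk => hLn.conj_mem k hk g)
      fun M h1 h2 h3 => hL.2.2.2 M ⟨fun m hm g => h3 g trivial m hm⟩ h1 h2)
  set T := inertia L φ with hT
  have hLT : L ≤ T := le_inertia hφ.isClassFunction
  have hNT : N ≤ T := hNL.trans hLT
  have hTtop : T ≠ ⊤ := by
    intro h0
    rw [h0, top_inf_eq] at h1
    exact hL.1.ne' h1
  obtain ⟨η, hη, -, rfl, -⟩ := clifford_corr_surj hφ hT hLT hχ h
  obtain ⟨U, hNU, ψ, hψ, rfl, hψN⟩ := ih T (GT.card_lt_of_ne_top hTtop) (N.subgroupOf T)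
    (isSolvable_quotient_subgroupOf N T hsolv) (by
      intro H' K' L' h1 h2 h3 h4 h5 h6
      have := hchief (H'.map T.subtype) (K'.map T.subtype) (L'.map T.subtype)
        (by
          rw [← inf_eq_left.2 hNT, ← Subgroup.subgroupOf_map_subtype]
          exact Subgroup.map_mono h1)
        ((Subgroup.map_lt_map_iff_of_injective T.subtype_injective).2 h2) (Subgroup.map_mono h3)
        (by
          rintro _ ⟨a, ha, rfl⟩ _ ⟨b, hb, rfl⟩
          exact ⟨_, h4 a ha b hb, rfl⟩)
        (by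
          rintro _ ⟨a, ha, rfl⟩ _ ⟨b, hb, rfl⟩
          exact ⟨_, h5 a ha b hb, rfl⟩)
        (by
          intro M hM1 hM2 hM3
          have hMT : M ≤ T := hM2.trans (Subgroup.map_subtype_le K')
          have hM : (M.subgroupOf T).map T.subtype = M := by
            rw [Subgroup.subgroupOf_map_subtype, inf_eq_left.2 hMT]
          rcases h6 (M.subgroupOf T) (Subgroup.map_le_iff_le_comap.1 hM1)
            (fun x hx => by
              obtain ⟨y, hy, hxy⟩ := hM2 hx
              exact (Subtype.ext hxy : y = x) ▸ hy)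
            (fun a ha m hm => hM3 a ⟨a, ha, rfl⟩ m hm) with h7 | h7
          · exact Or.inl (by rw [← hM, h7])
          · exact Or.inr (by rw [← hM, h7]))
      rwa [Subgroup.relIndex_map_map_of_injective _ _ T.subtype_injective] at this) η hη
  have hNU' : N ≤ U.map T.subtype := fun n hn => ⟨⟨n, hNT hn⟩, hNU hn, rfl⟩
  refine ⟨U.map T.subtype, hNU', mapSub U ψ, isIrrCharacter_mapSub U hψ, indFun_mapSub U ψ, ?_⟩
  rw [← isIrrCharacter_subgroupOf_iff hNT]
  convert hψN using 2 with x
  exact mapSub_apply U ψ ⟨x, hNU x.2⟩ _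

/-- All Sylow subgroups are abelian. -/
def AbelianSylows (X : Type*) [Group X] : Prop :=
  ∀ p : ℕ, p.Prime → ∀ P : Sylow p X, IsMulCommutative P

theorem AbelianSylows.of_injective {X Y : Type*} [Group X] [Group Y] (h : AbelianSylows Y)
    (f : X →* Y) (hf : Function.Injective f) : AbelianSylows X := by
  intro p hp P
  obtain ⟨Q, hQ⟩ := (P.isPGroup'.map f).exists_le_sylow
  have := h p hp Q
  refine ⟨⟨fun a b => Subtype.ext (hf ?_)⟩⟩
  simp only [Subgroup.coe_mul, map_mul]
  exact congrArg Subtype.val (mul_comm' (⟨f a, hQ ⟨a, a.2, rfl⟩⟩ : Q) ⟨f b, hQ ⟨b, b.2, rfl⟩⟩)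

theorem AbelianSylows.of_surjective {X Y : Type*} [Group X] [Group Y] [Finite X]
    (h : AbelianSylows X) (f : X →* Y) (hf : Function.Surjective f) : AbelianSylows Y := by
  intro p hp P
  have := Fact.mk hp
  obtain ⟨Q, rfl⟩ := Sylow.mapSurjective_surjective hf p P
  have := h p hp Q
  refine ⟨⟨fun a b => ?_⟩⟩
  obtain ⟨_, a, ha, rfl⟩ := a
  obtain ⟨_, b, hb, rfl⟩ := b
  refine Subtype.ext ?_
  have h1 : a * b = b * a := congrArg Subtype.val (mul_comm' (⟨a, ha⟩ : Q) ⟨b, hb⟩)
  change f a * f b = f b * f a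
  rw [← map_mul, h1, map_mul]

/-- In a solvable group, an irreducible character restricting irreducibly to a normal subgroup
with abelian Sylow subgroups is monomial. -/
theorem isMonomial_of_res_abelianSylows (G : Type u) [Group G] [Finite G] :
    ∀ [Fintype G] [Group.IsSolvable G] (M : Subgroup G) [M.Normal], AbelianSylows M →
      ∀ η : G → ℂ, IsCharacter G η → IsIrrCharacter M (fun m : M => η m) → IsMonomial η := by
  revert G
  refine GT.card_induction fun G _ _ ih => ?_
  intro _ _ M _ hM η hηc hηM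
  classical
  have hη := IsIrrCharacter.of_restrict M hηc hηM
  have := hηc.charKer_normal
  set f := QuotientGroup.mk' (charKer η) with hf
  set M' := M.map f with hM'
  have : M'.Normal := Subgroup.Normal.map inferInstance _ (QuotientGroup.mk'_surjective _)
  have hM'ab : AbelianSylows M' := hM.of_surjective (f.subgroupMap M) (f.subgroupMap_surjective M)
  have hA : AbelianSylows (fittingOf M') :=
    hM'ab.of_injective _ (Subgroup.inclusion_injective (GT.fittingOf_le M'))
  have := GT.isNilpotent_fittingOf M'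
  have := GT.fittingOf_normal M'
  have hcomm := GT.Schmidt.isMulCommutative_of_isNilpotent hA
  by_cases hc : fittingOf M' ≤ Subgroup.center _
  · have h1 : M' ≤ Subgroup.center _ := by
      refine le_trans (le_trans ?_ (GT.inf_centralizer_fittingOf_le M')) hc
      refine le_inf le_rfl fun x _ y hy => ?_
      exact (Subgroup.mem_center_iff.1 (hc hy) x).symm
    obtain ⟨lam, hlam⟩ := exists_hom_of_commutator_mem_charKer hηM (by
      intro a b
      rw [hηc.charKer_restrict, Subgroup.mem_subgroupOf, ← QuotientGroup.ker_mk' (charKer η),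
        MonoidHom.mem_ker]
      have := Subgroup.mem_center_iff.1 (h1 ⟨a, a.2, rfl⟩) (f b)
      simp only [Subgroup.coe_mul, Subgroup.coe_inv, map_mul, map_inv, ← hf, ← this]
      group)
    have h2 : η 1 = 1 := by simpa using congrFun hlam 1
    obtain ⟨mu, rfl⟩ := hηc.exists_monoidHom_of_apply_one h2
    exact isMonomial_hom mu
  · obtain ⟨T, ψ, hT, -, hψ, rfl⟩ := exists_indFun_of_quotient hη (fittingOf M')
      (fun a ha b hb => congrArg Subtype.val (mul_comm' (⟨a, ha⟩ : fittingOf M') ⟨b, hb⟩)) hc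
    refine IsMonomial.indFun T (ih T (GT.card_lt_of_ne_top hT) (M.subgroupOf T) ?_ ψ
      hψ.isCharacter (isIrr_res_of_res_indFun hψ.isCharacter hηM).1)
    exact hM.of_injective ((T.subgroupOf M).subtype.comp (swapSub M T).toMonoidHom)
      (Subtype.val_injective.comp (swapSub M T).injective)

end Cfsg.Agent.Ch
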