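import Mathlib
import Cfsg.Agent.Ch.RelativeM
import Cfsg.Agent.Ch.GlaubPGroup

/-!
# Invariant constituents under coprime action (Isaacs 13.27 - 13.30)
-/

set_option autoImplicit false

namespace Cfsg.Agent.Ch

open Cfsg Glb _root_.Cfsg.Agent.GT
open scoped ComplexConjugate

variable {Γ : Type*} [Group Γ]

theorem cj_mul {G : Subgroup Γ} {a b : Γ} (ha : a ∈ Subgroup.normalizer (G : Set Γ))
    (hb : b ∈ Subgroup.normalizer (G : Set Γ)) (g : G) :
    cj (mul_mem ha hb) g = cj ha (cj hb g) :=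
  Subtype.ext (by simp [coe_cj, mul_assoc])

theorem mem_invSub_iff {G : Subgroup Γ} {α : Type*} {χ : G → α} {s : Γ}
    (hs : s ∈ Subgroup.normalizer (G : Set Γ)) :
    s ∈ invSub χ ↔ (fun g => χ (cj hs g)) = χ :=
  ⟨fun h => funext fun g => h.2 g _ rfl, fun h => ⟨hs, fun g g' hg => by
    rw [show g' = cj hs g from Subtype.ext hg]; exact congrFun h g⟩⟩

theorem le_invSub_self {G : Subgroup Γ} {χ : G → ℂ} (h : IsClassFunction G χ) : G ≤ invSub χ :=
  (inv_iff_le Subgroup.le_normalizer).1 (inv_self h)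

theorem classInner_res_cj {N G : Subgroup Γ} [Fintype N] (hNG : N ≤ G) {s : Γ}
    (hG : s ∈ Subgroup.normalizer (G : Set Γ)) (hN : s ∈ Subgroup.normalizer (N : Set Γ))
    (χ : G → ℂ) (θ : N → ℂ) :
    classInner (fun n : N => χ (cj hG ⟨n, hNG n.2⟩)) (fun n => θ (cj hN n)) =
      classInner (fun n : N => χ ⟨n, hNG n.2⟩) θ :=
  classInner_comp_mulEquiv (cj hN) (fun n : N => χ ⟨n, hNG n.2⟩) θ

/-- Clifford: two constituents of a restriction to a relatively normal subgroup are conjugate. -/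
theorem exists_cj_of_under [Finite Γ] {N G : Subgroup Γ} [Fintype N] (hNG : N ≤ G)
    (hn : G ≤ Subgroup.normalizer (N : Set Γ)) {χ : G → ℂ} (hχ : IsIrrCharacter G χ)
    {θ φ : N → ℂ} (hθ : IsIrrCharacter N θ) (hφ : IsIrrCharacter N φ)
    (h : classInner (fun n : N => χ ⟨n, hNG n.2⟩) θ ≠ 0)
    (h' : classInner (fun n : N => χ ⟨n, hNG n.2⟩) φ ≠ 0) :
    ∃ (g : Γ) (hg : g ∈ G), φ = fun n => θ (cj (hn hg) n) := by
  have := Fintype.ofFinite G
  have := Fintype.ofFinite (N.subgroupOf G)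
  have := Subgroup.normal_subgroupOf_of_le_normalizer hn
  rw [← classInner_res_subgroupOf hNG] at h h'
  obtain ⟨k, hk⟩ := mem_conjugates.1 (mem_conjugates_of_under hχ
    (isIrrCharacter_subgroupOf hNG hθ) (isIrrCharacter_subgroupOf hNG hφ) h h')
  exact ⟨k, k.2, subOf_injective hNG hk⟩

/-- Frattini argument. -/
theorem exists_mul_inv_mem_invSub [Finite Γ] {N G : Subgroup Γ} [Fintype N] (hNG : N ≤ G)
    (hn : G ≤ Subgroup.normalizer (N : Set Γ)) {χ : G → ℂ} (hχ : IsIrrCharacter G χ)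
    {θ : N → ℂ} (hθ : IsIrrCharacter N θ) (h : classInner (fun n : N => χ ⟨n, hNG n.2⟩) θ ≠ 0)
    {s : Γ} (hs : s ∈ invSub χ) (hsN : s ∈ Subgroup.normalizer (N : Set Γ)) :
    ∃ g ∈ G, s * g⁻¹ ∈ invSub θ := by
  have h' : classInner (fun n : N => χ ⟨n, hNG n.2⟩) (fun n => θ (cj hsN n)) ≠ 0 := by
    rw [← classInner_res_cj hNG hs.1 hsN] at h
    convert h using 3 with n
    exact (hs.2 _ _ rfl).symm
  obtain ⟨g, hg, h2⟩ := exists_cj_of_under hNG hn hχ hθ (hθ.comp_mulEquiv (cj hsN)) h h'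
  refine ⟨g, hg, mul_mem hsN (inv_mem (hn hg)), fun a b hab => ?_⟩
  have := congrFun h2 (cj (inv_mem (hn hg)) a)
  convert this using 2 <;> apply Subtype.ext
  · simp [hab, coe_cj, mul_assoc]
  · simp [coe_cj, mul_assoc]

/-- Glauberman's lemma modulo a normal subgroup, in subgroup form. -/
theorem exists_conj_mem_of_coprime_rel [Finite Γ] {N K S T : Subgroup Γ}
    (hKN : K ≤ Subgroup.normalizer (N : Set Γ)) (hSN : S ≤ Subgroup.normalizer (N : Set Γ))
    (hSK : S ≤ Subgroup.normalizer (K : Set Γ)) (hNT : N ≤ T)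
    (hc : (N.relIndex K).Coprime (N.relIndex S)) [(N.subgroupOf K).Normal]
    (hs : Group.IsSolvable S ∨ Group.IsSolvable (K ⧸ N.subgroupOf K))
    (h : ∀ s ∈ S, ∃ k ∈ K, s * k⁻¹ ∈ T) : ∃ k ∈ K, ∀ s ∈ S, k * s * k⁻¹ ∈ T := by
  set M := Subgroup.normalizer (N : Set Γ) with hM
  let q : M →* M ⧸ N.subgroupOf M := QuotientGroup.mk' _
  have hcard : ∀ U : Subgroup Γ, U ≤ M → Nat.card ((U.subgroupOf M).map q) = N.relIndex U := by
    intro U hU
    rw [← Subgroup.relIndex_ker, QuotientGroup.ker_mk', Subgroup.relIndex_subgroupOf hU]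
  let T' := (T.subgroupOf M).map q
  have hT' : ∀ x : M, q x ∈ T' ↔ (x : Γ) ∈ T := by
    intro x
    rw [← Subgroup.mem_comap, Subgroup.comap_map_eq, QuotientGroup.ker_mk',
      sup_eq_left.2 (Subgroup.subgroupOf_mono M hNT), Subgroup.mem_subgroupOf]
  obtain ⟨_, ⟨k, hk, rfl⟩, hfix⟩ := exists_fixed_point_of_coprime (X := _ ⧸ T')
    ((K.subgroupOf M).map q) ((S.subgroupOf M).map q) (by
      rw [Subgroup.le_normalizer_iff]
      rintro _ ⟨s, hs, rfl⟩ _ ⟨k, hk, rfl⟩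
      exact ⟨s * k * s⁻¹, Subgroup.le_normalizer_iff.1 hSK s hs k hk, by simp⟩)
    (by rwa [hcard K hKN, hcard S hSN]) (by
      rcases hs with hs | hs
      · right
        have := isSolvable_subgroupOf S M
        exact isSolvable_map _ _
      · left
        let f : K →* (K.subgroupOf M).map q :=
          (q.comp (Subgroup.inclusion hKN)).codRestrict _ fun k => ⟨_, k.2, rfl⟩
        refine Group.isSolvable_of_surjective (f := QuotientGroup.lift (N.subgroupOf K) f ?_) ?_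
        · intro n hn
          exact Subtype.ext ((QuotientGroup.eq_one_iff _).2 hn)
        · rintro ⟨_, k, hk, rfl⟩
          exact ⟨(⟨k, hk⟩ : K), rfl⟩)
    ((1 : M ⧸ N.subgroupOf M) : _ ⧸ T') (by
      rintro _ ⟨s, hs, rfl⟩
      obtain ⟨k, hk, hsk⟩ := h s⁻¹ (inv_mem hs)
      refine ⟨q ⟨k⁻¹, hKN (inv_mem hk)⟩, ⟨⟨k⁻¹, hKN (inv_mem hk)⟩, K.inv_mem hk, rfl⟩, ?_⟩
      rw [MulAction.Quotient.smul_mk, MulAction.Quotient.smul_mk, QuotientGroup.eq, smul_eq_mul,
        smul_eq_mul, mul_one, mul_one, ← map_inv, ← map_mul, hT']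
      simpa using inv_mem hsk)
  refine ⟨k⁻¹, inv_mem hk, fun s hs => ?_⟩
  have := hfix (q ⟨s⁻¹, hSN (inv_mem hs)⟩) ⟨⟨s⁻¹, hSN (inv_mem hs)⟩, S.inv_mem hs, rfl⟩
  rw [MulAction.Quotient.smul_mk, MulAction.Quotient.smul_mk, QuotientGroup.eq, smul_eq_mul,
    smul_eq_mul, mul_one, ← map_mul, ← map_inv, ← map_mul, hT'] at this
  simpa [mul_assoc] using this

theorem inv_cj_of_conj_mem {N S : Subgroup Γ} {α : Type*} {θ : N → α} {k : Γ}
    (hk : k ∈ Subgroup.normalizer (N : Set Γ)) (h : ∀ s ∈ S, k * s * k⁻¹ ∈ invSub θ) :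
    Inv S (fun n => θ (cj hk n)) := fun s hs a b hab =>
  (h s hs).2 _ _ (by simp [coe_cj, hab, mul_assoc])

/-- An invariant character has an invariant constituent (Isaacs 13.27). -/
theorem exists_inv_under [Finite Γ] {G S N : Subgroup Γ} [Fintype N] (hNG : N ≤ G)
    (hGN : G ≤ Subgroup.normalizer (N : Set Γ)) (hSG : S ≤ Subgroup.normalizer (G : Set Γ))
    (hSN : S ≤ Subgroup.normalizer (N : Set Γ)) (hc : (N.relIndex G).Coprime (N.relIndex S))
    [(N.subgroupOf G).Normal]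
    (hs : Group.IsSolvable S ∨ Group.IsSolvable (G ⧸ N.subgroupOf G))
    {χ : G → ℂ} (hχ : IsIrrCharacter G χ) (hinv : Inv S χ) :
    ∃ θ : N → ℂ, IsIrrCharacter N θ ∧ classInner (fun n : N => χ ⟨n, hNG n.2⟩) θ ≠ 0 ∧
      Inv S θ := by
  obtain ⟨θ, hθ, h⟩ := exists_irr_under_of_le hNG hχ
  obtain ⟨k, hk, h1⟩ := exists_conj_mem_of_coprime_rel hGN hSN hSG
    (le_invSub_self hθ.isClassFunction) hc hs fun s hs =>
      exists_mul_inv_mem_invSub hNG hGN hχ hθ h ((inv_iff_le hSG).1 hinv hs) (hSN hs)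
  refine ⟨_, hθ.comp_mulEquiv (cj (hGN hk)), ?_, inv_cj_of_conj_mem (hGN hk) h1⟩
  rw [← classInner_res_cj hNG (Subgroup.le_normalizer hk) (hGN hk)] at h
  convert h using 3 with n
  exact (inv_self hχ.isClassFunction k hk _ _ rfl).symm

/-- Relative form of the transitivity of linear characters. -/
theorem exists_hom_mul_of_over_rel [Finite Γ] {G M : Subgroup Γ} [Fintype M] (hMG : M ≤ G)
    (hab : ⁅G, G⁆ ≤ M) {χ ψ : G → ℂ} (hχ : IsIrrCharacter G χ) (hψ : IsIrrCharacter G ψ)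
    {φ : M → ℂ} (hφ : IsIrrCharacter M φ)
    (h1 : classInner (fun n : M => χ ⟨n, hMG n.2⟩) φ ≠ 0)
    (h2 : classInner (fun n : M => ψ ⟨n, hMG n.2⟩) φ ≠ 0) :
    ∃ lam : G →* ℂˣ, (∀ n : G, (n : Γ) ∈ M → lam n = 1) ∧ lam ^ M.relIndex G = 1 ∧
      ψ = fun g => lam g * χ g := by
  have := Fintype.ofFinite G
  have := Fintype.ofFinite (M.subgroupOf G)
  have : (M.subgroupOf G).Normal := Subgroup.Normal.of_commutator_le _ (commutator_le_subgroupOf hab)
  rw [← classInner_res_subgroupOf hMG] at h1 h2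
  obtain ⟨lam, h3, h4⟩ := exists_hom_mul_of_over (commutator_le_subgroupOf hab) hχ hψ
    (isIrrCharacter_subgroupOf hMG hφ) h1 h2
  exact ⟨lam, h3, hom_pow_index_eq_one _ lam h3, h4⟩

/-- Going up over an abelian quotient. -/
theorem exists_inv_over_of_comm [Finite Γ] {G S M : Subgroup Γ} [Fintype M] (hMG : M ≤ G)
    (hab : ⁅G, G⁆ ≤ M) (hSG : S ≤ Subgroup.normalizer (G : Set Γ))
    (hSM : S ≤ Subgroup.normalizer (M : Set Γ)) (hc : (M.relIndex G).Coprime (G.relIndex S))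
    {φ : M → ℂ} (hφ : IsIrrCharacter M φ) (hinv : Inv S φ) :
    ∃ χ : G → ℂ, IsIrrCharacter G χ ∧ classInner (fun n : M => χ ⟨n, hMG n.2⟩) φ ≠ 0 ∧
      Inv S χ := by
  classical
  obtain ⟨χ, hχ, h⟩ := exists_irr_over_of_le hMG hφ
  have key : ∀ s : S, ∃ lam : G →* ℂˣ, (∀ n : G, (n : Γ) ∈ M → lam n = 1) ∧
      lam ^ M.relIndex G = 1 ∧ (fun g => χ (cj (hSG s⁻¹.2) g)) = fun g => lam g * χ g := by
    intro s
    refine exists_hom_mul_of_over_rel hMG hab hχ (hχ.comp_mulEquiv _) hφ h ?_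
    rwa [← hinv.cj_eq s⁻¹.2 (hSM s⁻¹.2), classInner_res_cj]
  choose lam h1 h2 h3 using key
  have := Fintype.ofFinite (S ⧸ G.subgroupOf S)
  let F : S ⧸ G.subgroupOf S → G → ℂ := fun q g => χ (cj (hSG q.out⁻¹.2) g)
  have hF : ∀ (q : S ⧸ G.subgroupOf S) (t : S) (g : G),
      F q (cj (hSG t⁻¹.2) g) = F (t • q) g := by
    intro q t g
    have h4 : ((t • q).out)⁻¹ * (t * q.out) ∈ G.subgroupOf S := by
      rw [← QuotientGroup.eq, QuotientGroup.out_eq', ← smul_eq_mul, ← MulAction.Quotient.smul_mk,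
        QuotientGroup.out_eq']
    refine (inv_self hχ.isClassFunction _ h4 _ _ ?_).symm
    simp [coe_cj, mul_assoc]
  set n := G.relIndex S with hn
  have hcard : Fintype.card (S ⧸ G.subgroupOf S) = n := by
    rw [← Nat.card_eq_fintype_card]; rfl
  obtain ⟨m, hm⟩ : ∃ m : ℕ, n * m ≡ 1 [MOD M.relIndex G] :=
    ⟨_, Nat.exists_mul_mod_eq_of_coprime 1 hc.symm Subgroup.index_ne_zero_of_finite
      |>.choose_spec.2⟩
  let mu : G →* ℂˣ := ∏ q : S ⧸ G.subgroupOf S, lam q.out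
  have hmu : ∀ g, (mu g : ℂ) * χ g ^ n = ∏ q, F q g := by
    intro g
    simp only [F, fun q : S ⧸ G.subgroupOf S => congrFun (h3 q.out) g, Finset.prod_mul_distrib,
      Finset.prod_const, Finset.card_univ, hcard, mu]
    simp
  refine ⟨fun g => ((mu ^ m) g : ℂ) * χ g, hχ.monoidHom_mul _, ?_, inv_of_cj hSG fun s hs => ?_⟩
  · convert h using 3 with x
    simp [mu, h1 _ ⟨x, hMG x.2⟩ x.2]
  · ext g
    set t : S := ⟨s, hs⟩⁻¹ with ht
    have h5 := hmu (cj (hSG t⁻¹.2) g)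
    simp only [hF] at h5
    rw [Fintype.prod_equiv (MulAction.toPerm t) (fun q => F (t • q) g) (fun q => F q g)
      (fun _ => rfl), ← hmu,
      congrFun (h3 t) g] at h5
    rw [show cj (hSG hs) g = cj (hSG t⁻¹.2) g from Subtype.ext (by simp [coe_cj, ht]),
      congrFun (h3 t) g]
    by_cases h0 : χ g = 0
    · simp [h0]
    have h6 : mu (cj (hSG t⁻¹.2) g) * lam t g ^ n = mu g := by
      rw [mul_pow, ← mul_assoc] at h5
      exact_mod_cast mul_right_cancel₀ (pow_ne_zero _ h0) h5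
    have h7 : lam t g ^ (n * m) = lam t g := by
      have h8 : lam t g ^ M.relIndex G = 1 := DFunLike.congr_fun (h2 t) g
      rw [pow_eq_pow_of_modEq hm h8, pow_one]
    rw [← mul_assoc]
    congr 1
    rw [MonoidHom.pow_apply, MonoidHom.pow_apply, ← h6, mul_pow, ← pow_mul, h7]
    simp

theorem commutator_sup_lt_of_isSolvable {N G : Subgroup Γ} (hNG : N < G)
    [(N.subgroupOf G).Normal] (hs : Group.IsSolvable (G ⧸ N.subgroupOf G)) : ⁅G, G⁆ ⊔ N < G := by
  refine lt_of_le_of_ne (sup_le (Subgroup.commutator_le_self G) hNG.le) fun h => ?_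
  have : Nontrivial (G ⧸ N.subgroupOf G) := by
    rw [QuotientGroup.nontrivial_iff, Ne, Subgroup.subgroupOf_eq_top]
    exact hNG.not_ge
  refine (Group.IsSolvable.commutator_lt_top_of_nontrivial (G ⧸ N.subgroupOf G)).ne ?_
  have h1 : commutator G ⊔ N.subgroupOf G = ⊤ := by
    apply Subgroup.map_injective G.subtype_injective
    rw [Subgroup.map_sup, Subgroup.map_subtype_commutator, Subgroup.subgroupOf_map_subtype,
      inf_eq_left.2 hNG.le, h, ← MonoidHom.range_eq_map, Subgroup.range_subtype]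
  have h2 := congrArg (Subgroup.map (QuotientGroup.mk' (N.subgroupOf G))) h1
  rwa [Subgroup.map_sup, (Subgroup.map_eq_bot_iff _).2 (QuotientGroup.ker_mk' _).ge, sup_bot_eq,
    commutator_def, Subgroup.map_commutator,
    Subgroup.map_top_of_surjective _ (QuotientGroup.mk'_surjective _)] at h2

theorem isSolvable_quotient_rel_of_le {N M G : Subgroup Γ} (hMG : M ≤ G)
    [(N.subgroupOf G).Normal] [(N.subgroupOf M).Normal]
    (hs : Group.IsSolvable (G ⧸ N.subgroupOf G)) : Group.IsSolvable (M ⧸ N.subgroupOf M) := by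
  refine Group.isSolvable_of_isSolvable_injective
    (f := QuotientGroup.map (N.subgroupOf M) (N.subgroupOf G) (Subgroup.inclusion hMG)
      fun _ hx => hx) ?_
  rw [← MonoidHom.ker_eq_bot_iff]
  refine (QuotientGroup.ker_map _ _ _ _).trans ?_
  rw [Subgroup.map_eq_bot_iff, QuotientGroup.ker_mk']
  exact fun _ hx => hx

/-- An invariant character lies under an invariant character, `G / N` solvable (Isaacs 13.28). -/
theorem exists_inv_over_of_solvable_quotient [Finite Γ] {G S N : Subgroup Γ} [Fintype N]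
    (hNG : N ≤ G) (hGN : G ≤ Subgroup.normalizer (N : Set Γ))
    (hSG : S ≤ Subgroup.normalizer (G : Set Γ)) (hSN : S ≤ Subgroup.normalizer (N : Set Γ))
    (hc : (N.relIndex G).Coprime (N.relIndex S)) [hn : (N.subgroupOf G).Normal]
    (hs : Group.IsSolvable (G ⧸ N.subgroupOf G)) {θ : N → ℂ} (hθ : IsIrrCharacter N θ)
    (hinv : Inv S θ) :
    ∃ χ : G → ℂ, IsIrrCharacter G χ ∧ classInner (fun n : N => χ ⟨n, hNG n.2⟩) θ ≠ 0 ∧
      Inv S χ := by
  revert hNG hGN hSG hc hn hs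
  induction G using subgroup_lt_induction with
  | _ G ih =>
  intro hNG hGN hSG hc hn hs
  rcases hNG.eq_or_lt with rfl | hlt
  · exact ⟨θ, hθ, by rw [hθ.classInner_self]; exact one_ne_zero, hinv⟩
  have h1 := commutator_sup_lt_of_isSolvable hlt hs
  set M := ⁅G, G⁆ ⊔ N with hM
  have hNM : N ≤ M := le_sup_right
  have hSM : S ≤ Subgroup.normalizer (M : Set Γ) :=
    CopAct.le_normalizer_sup (CopAct.le_normalizer_commutator hSG hSG) hSN
  have := Subgroup.normal_subgroupOf_of_le_normalizer (h1.le.trans hGN)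
  have := Fintype.ofFinite M
  have := Fintype.ofFinite G
  have hmul := Subgroup.relIndex_mul_relIndex N M G hNM h1.le
  obtain ⟨φ, hφ, h2, h3⟩ := ih M h1 hNM (h1.le.trans hGN) hSM
    (hc.coprime_dvd_left (Dvd.intro _ hmul)) (isSolvable_quotient_rel_of_le h1.le hs)
  obtain ⟨χ, hχ, h4, h5⟩ := exists_inv_over_of_comm h1.le le_sup_left hSG hSM
    ((hc.coprime_dvd_left (Dvd.intro_left _ hmul)).coprime_dvd_right
      (Subgroup.relIndex_dvd_of_le_left S hNG)) hφ h3
  refine ⟨χ, hχ, ?_, h5⟩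
  exact classInner_comp_ne_zero_of_constituent (Subgroup.inclusion hNM)
    (isCharacter_res_of_le h1.le hχ.isCharacter) hφ h4 hθ.isCharacter h2

end Cfsg.Agent.Ch
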