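import Mathlib
import Cfsg.Agent.Ch.CoprimeChar
import Cfsg.Agent.Ch.TripleFin

/-!
# The Glauberman correspondence and normal subgroups (Isaacs 13.29 - 13.31, 13.26)
-/

set_option autoImplicit false

namespace Cfsg.Agent.Ch

open Cfsg Glb _root_.Cfsg.Agent.GT
open scoped ComplexConjugate

theorem exists_fixed_not_dvd {P X : Type*} [Group P] [MulAction P X] [Fintype X] {p : ℕ}
    [Fact p.Prime] (hP : IsPGroup p P) (f : X → ℕ) (hf : ∀ (s : P) x, f (s • x) = f x)
    (h : ¬ p ∣ ∑ x, f x) : ∃ x, (∀ s : P, s • x = x) ∧ ¬ p ∣ f x := by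
  classical
  have h1 := Finset.sum_comp (s := Finset.univ) (fun v : ℕ => v) f
  rw [h1] at h
  obtain ⟨v, -, hv⟩ : ∃ v ∈ Finset.univ.image f,
      ¬ p ∣ (Finset.univ.filter fun x => f x = v).card • v := by
    by_contra h2
    push Not at h2
    exact h (Finset.dvd_sum h2)
  let Y : SubMulAction P X := ⟨{x | f x = v}, fun s x hx => (hf s x).trans hx⟩
  have h3 : ¬ p ∣ Nat.card Y := by
    intro h3
    refine hv (Dvd.dvd.mul_right ?_ v)
    have h4 : Nat.card Y = Nat.card {x // f x = v} := rfl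
    rwa [h4, Nat.card_eq_fintype_card, Fintype.card_subtype] at h3
  obtain ⟨y, hy⟩ := hP.nonempty_fixed_point_of_prime_not_dvd_card Y h3
  refine ⟨y, fun s => congrArg Subtype.val (hy s), fun h4 => hv (Dvd.dvd.mul_left ?_ _)⟩
  rwa [← show f y = v from y.2]

variable {Γ : Type*} [Group Γ]

/-- The action on irreducible characters of a subgroup normalizing `N`. -/
@[reducible] def irrAction {P N : Subgroup Γ} (hP : P ≤ Subgroup.normalizer (N : Set Γ)) :
    MulAction P (IrrCharacter N) where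
  smul s φ := ⟨fun n => (φ : N → ℂ) (cj (hP s⁻¹.2) n), φ.2.comp_mulEquiv _⟩
  one_smul φ := Subtype.ext (funext fun n => congrArg (φ : N → ℂ) (Subtype.ext (by simp [coe_cj])))
  mul_smul a b φ := Subtype.ext (funext fun n => congrArg (φ : N → ℂ)
    (Subtype.ext (by simp [coe_cj, mul_assoc])))

theorem inv_of_irrAction_fixed {P N : Subgroup Γ} (hP : P ≤ Subgroup.normalizer (N : Set Γ))
    {φ : IrrCharacter N} (h : ∀ s : P, (irrAction hP).smul s φ = φ) : Inv P (φ : N → ℂ) := by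
  refine inv_of_cj hP fun s hs => ?_
  have := congrArg Subtype.val (h ⟨s, hs⟩⁻¹)
  convert this using 1
  exact funext fun n => congrArg (φ : N → ℂ) (Subtype.ext (by simp [coe_cj]))

/-- If `p` does not divide `⟨χ_D, β⟩` for a `P`-invariant `χ` and `D ≤ C_N(P)`, then some
`P`-invariant `φ ∈ Irr N` has `p ∤ ⟨χ_N, φ⟩ ⟨φ_D, β⟩`. -/
theorem exists_inv_between [Finite Γ] {p : ℕ} (hp : p.Prime) {P G N D : Subgroup Γ} [Fintype N]
    [Fintype D] (hP : IsPGroup p P) (hNG : N ≤ G) (hDN : D ≤ N)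
    (hPG : P ≤ Subgroup.normalizer (G : Set Γ)) (hPN : P ≤ Subgroup.normalizer (N : Set Γ))
    (hD : P ≤ Subgroup.centralizer (D : Set Γ)) {χ : G → ℂ} (hχ : IsCharacter G χ)
    (hinv : Inv P χ) {β : D → ℂ} (hβ : IsCharacter D β) {m : ℕ}
    (hm : classInner (fun d : D => χ ⟨d, hNG (hDN d.2)⟩) β = m) (hpm : ¬ p ∣ m) :
    ∃ (φ : N → ℂ) (a b : ℕ), IsIrrCharacter N φ ∧ Inv P φ ∧
      classInner (fun n : N => χ ⟨n, hNG n.2⟩) φ = a ∧
      classInner (fun d : D => φ ⟨d, hDN d.2⟩) β = b ∧ ¬ p ∣ a ∧ ¬ p ∣ b := by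
  have := Fact.mk hp
  obtain ⟨a, ha, hs⟩ := (isCharacter_res_of_le hNG hχ).exists_mult
  choose b hb using fun φ : IrrCharacter N =>
    (isCharacter_res_of_le hDN φ.isCharacter).exists_nat_classInner hβ
  have h1 : m = ∑ φ, a φ * b φ := by
    have h2 : (fun d : D => χ ⟨d, hNG (hDN d.2)⟩) =
        ∑ φ : IrrCharacter N, a φ • fun d : D => (φ : N → ℂ) ⟨d, hDN d.2⟩ := by
      ext d
      simpa using congrFun hs ⟨d, hDN d.2⟩
    rw [h2, classInner_sum_left] at hm
    simp only [classInner_nsmul_left, hb] at hm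
    exact_mod_cast hm.symm
  let := irrAction hPN
  obtain ⟨φ, h2, h3⟩ := exists_fixed_not_dvd hP (fun φ => a φ * b φ) (fun s φ => by
    have e1 : a (s • φ) = a φ := by
      apply Nat.cast_injective (R := ℂ)
      rw [← ha, ← ha, ← classInner_res_cj hNG (hPG s⁻¹.2) (hPN s⁻¹.2) χ φ]
      congr 1
      exact funext fun n => (hinv _ s⁻¹.2 _ _ rfl).symm
    have e2 : b (s • φ) = b φ := by
      apply Nat.cast_injective (R := ℂ)
      rw [← hb, ← hb]
      congr 1
      refine funext fun d => congrArg (φ : N → ℂ) (Subtype.ext ?_)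
      rw [coe_cj, ← hD s⁻¹.2 d d.2, mul_inv_cancel_right]
    rw [e1, e2]) (h1 ▸ hpm)
  exact ⟨φ, a φ, b φ, φ.2, inv_of_irrAction_fixed hPN h2, ha φ, hb φ,
    fun h => h3 (h.mul_right _), fun h => h3 (h.mul_left _)⟩

theorem Glb.Rel.eq_of_not_dvd {p : ℕ} {G C : Type*} [Group G] [Group C] [Fintype C] {f : C →* G}
    {χ : G → ℂ} {β γ : C → ℂ} (h : Rel p f χ β) (hβ : IsIrrCharacter C β)
    (hγ : IsIrrCharacter C γ) {m : ℕ} (hm : classInner (fun c => χ (f c)) γ = m)
    (hpm : ¬ p ∣ m) : β = γ := by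
  by_contra hne
  exact hpm (h.dvd_of_ne hβ hγ hne hm)

/-- The multiplicity of a constituent in the restriction to a relatively normal subgroup divides
the group order. -/
theorem mult_dvd_card [Finite Γ] {N G : Subgroup Γ} [Fintype N] (hNG : N ≤ G)
    (hn : G ≤ Subgroup.normalizer (N : Set Γ)) {χ : G → ℂ} (hχ : IsIrrCharacter G χ)
    {θ : N → ℂ} (hθ : IsIrrCharacter N θ) {m : ℕ}
    (hm : classInner (fun n : N => χ ⟨n, hNG n.2⟩) θ = m) (h0 : m ≠ 0) : m ∣ Nat.card G := by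
  have := Fintype.ofFinite G
  have := Fintype.ofFinite (N.subgroupOf G)
  have := Subgroup.normal_subgroupOf_of_le_normalizer hn
  rw [← classInner_res_subgroupOf hNG] at hm
  have hθ' := isIrrCharacter_subgroupOf hNG hθ
  have h1 := clifford_apply_one hχ hθ' (by rw [hm]; exact_mod_cast h0)
  rw [hm, ← hχ.coe_charDegree, ← hθ'.coe_charDegree, mul_assoc] at h1
  exact Dvd.dvd.trans ⟨_, by exact_mod_cast h1⟩ hχ.charDegree_dvd_card

/-- Isaacs 13.29, direction from the correspondents to the invariant characters. -/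
theorem over_of_rel_over [Finite Γ] {p : ℕ} (hp : p.Prime) {P G N C D : Subgroup Γ} [Fintype N]
    [Fintype D] (hP : IsPGroup p P) (hNG : N ≤ G) (hDN : D ≤ N) (hCG : C ≤ G) (hDC : D ≤ C)
    (hPG : P ≤ Subgroup.normalizer (G : Set Γ)) (hPN : P ≤ Subgroup.normalizer (N : Set Γ))
    (hD : P ≤ Subgroup.centralizer (D : Set Γ)) (hCD : C ≤ Subgroup.normalizer (D : Set Γ))
    (hpC : ¬ p ∣ Nat.card C) (H : Corr p P hDN)
    {χ : G → ℂ} (hχ : IsIrrCharacter G χ) (hχP : Inv P χ) {θ : N → ℂ} (hθ : IsIrrCharacter N θ)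
    (hθP : Inv P θ) {ξ : C → ℂ} (hξ : IsIrrCharacter C ξ) {β : D → ℂ} (hβ : IsIrrCharacter D β)
    (h1 : Rel p (Subgroup.inclusion hCG) χ ξ) (h2 : Rel p (Subgroup.inclusion hDN) θ β)
    (h : classInner (fun d : D => ξ ⟨d, hDC d.2⟩) β ≠ 0) :
    classInner (fun n : N => χ ⟨n, hNG n.2⟩) θ ≠ 0 := by
  obtain ⟨k, hk⟩ := (isCharacter_res_of_le hDC hξ.isCharacter).exists_nat_classInner hβ.isCharacter
  have hpk : ¬ p ∣ k := fun h3 => hpC (h3.trans (mult_dvd_card hDC hCD hξ hβ hk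
    fun h0 => h (by rw [hk, h0, Nat.cast_zero])))
  obtain ⟨m, hm⟩ := (isCharacter_res_of_le (hDN.trans hNG) hχ.isCharacter).exists_nat_classInner
    hβ.isCharacter
  have hpm : ¬ p ∣ m := by
    obtain ⟨ε, hε, Δ, hΔ, h3⟩ := h1
    obtain ⟨a, ha⟩ := (hΔ.comp (Subgroup.inclusion hDC)).exists_int_classInner
      hβ.isGeneralizedCharacter
    have h4 : (fun d : D => χ ⟨d, (hDN.trans hNG) d.2⟩) =
        (ε : ℂ) • (fun d : D => ξ ⟨d, hDC d.2⟩) +
          (p : ℂ) • fun d : D => Δ (Subgroup.inclusion hDC d) :=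
      funext fun d => h3 ⟨d, hDC d.2⟩
    rw [h4, classInner_add_left, classInner_smul_left, classInner_smul_left, hk, ha] at hm
    have h5 : ε * k + p * a = m := by exact_mod_cast hm
    intro h6
    have h7 : (p : ℤ) ∣ ε * k := by
      have : ε * k = m - p * a := by linarith
      rw [this]
      exact dvd_sub (by exact_mod_cast h6) (dvd_mul_right _ _)
    refine hpk (Int.natCast_dvd_natCast.1 ?_)
    rcases hε with rfl | rfl <;> simpa using h7
  obtain ⟨φ, a, b, hφ, hφP, ha, hb, hpa, hpb⟩ :=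
    exists_inv_between hp hP hNG hDN hPG hPN hD hχ.isCharacter hχP hβ.isCharacter hm hpm
  obtain ⟨γ, hγ, h3⟩ := H.ex φ hφ hφP
  obtain rfl := h3.eq_of_not_dvd hγ hβ hb hpb
  obtain rfl := H.inj φ θ γ hφ hθ hγ hφP hθP h3 h2
  rw [ha]
  exact Nat.cast_ne_zero.2 fun h0 => hpa (h0 ▸ dvd_zero p)

/-- A solvable group acting nontrivially has a normal subgroup acting like a `p`-group. -/
theorem exists_pGroup_section [Finite Γ] {S G : Subgroup Γ} (hS : Group.IsSolvable S)
    (h0 : ¬ S ≤ Subgroup.centralizer (G : Set Γ)) :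
    ∃ (p : ℕ) (O P : Subgroup Γ), p.Prime ∧ IsPGroup p P ∧ O ≤ Subgroup.centralizer (G : Set Γ) ∧
      O ⊔ P ≤ S ∧ S ≤ Subgroup.normalizer ((O ⊔ P : Subgroup Γ) : Set Γ) ∧
      ¬ P ≤ Subgroup.centralizer (G : Set Γ) := by
  obtain ⟨R, ⟨hRS, hSR, hR⟩, hmin⟩ := (wellFounded_lt (α := Subgroup Γ)).has_min
    {R | R ≤ S ∧ S ≤ Subgroup.normalizer (R : Set Γ) ∧ ¬ R ≤ Subgroup.centralizer (G : Set Γ)}
    ⟨S, le_rfl, Subgroup.le_normalizer, h0⟩
  obtain ⟨T, s, hTR, hRT, -, -, hp⟩ := exists_coatom (HT.isSolvable_of_le hRS hS)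
    (by rintro rfl; exact hR bot_le)
  set p := T.relIndex R
  have := Fact.mk hp
  have hOT : pResidualOf p R ≤ T := by
    have : (T.subgroupOf R).Normal := (Subgroup.normal_subgroupOf_iff_le_normalizer hTR.le).mpr hRT
    have h1 : pResidual p R ≤ T.subgroupOf R := pResidual_le_of_index (k := 1) (pow_one _).symm
    refine (Subgroup.map_mono h1).trans ?_
    rw [Subgroup.subgroupOf_map_subtype]; exact inf_le_left
  have hO : pResidualOf p R ≤ Subgroup.centralizer (G : Set Γ) := by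
    by_contra h
    exact hmin _ ⟨(pResidualOf_le R).trans hRS,
      hSR.trans (normalizer_le_normalizer_pResidualOf R), h⟩ (hOT.trans_lt hTR)
  obtain ⟨P⟩ : Nonempty (Sylow p R) := inferInstance
  have hsup : pResidualOf p R ⊔ (P : Subgroup R).map R.subtype = R := by
    have := congrArg (Subgroup.map R.subtype) (pResidual_sup_sylow P)
    rwa [Subgroup.map_sup, ← MonoidHom.range_eq_map, Subgroup.range_subtype] at this
  exact ⟨p, _, _, hp, P.isPGroup'.map R.subtype, hO, hsup.symm ▸ hRS, hsup.symm ▸ hSR,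
    fun h => hR (hsup.ge.trans (sup_le hO h))⟩

/-- An invariant character lies under an invariant character, solvable coprime operator group
(Isaacs 13.30). -/
theorem exists_inv_over_of_solvable_action [Finite Γ] {G S N : Subgroup Γ} [Fintype N]
    (hNG : N ≤ G) (hGN : G ≤ Subgroup.normalizer (N : Set Γ))
    (hSG : S ≤ Subgroup.normalizer (G : Set Γ)) (hSN : S ≤ Subgroup.normalizer (N : Set Γ))
    (hc : (Nat.card G).Coprime (Nat.card S)) (hs : Group.IsSolvable S) {θ : N → ℂ}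
    (hθ : IsIrrCharacter N θ) (hinv : Inv S θ) :
    ∃ χ : G → ℂ, IsIrrCharacter G χ ∧ classInner (fun n : N => χ ⟨n, hNG n.2⟩) θ ≠ 0 ∧
      Inv S χ := by
  induction G using subgroup_lt_induction generalizing N with
  | _ G ih =>
  by_cases h0 : S ≤ Subgroup.centralizer (G : Set Γ)
  · obtain ⟨χ, hχ, h⟩ := exists_irr_over_of_le hNG hθ
    exact ⟨χ, hχ, h, inv_of_le_centralizer χ h0⟩
  obtain ⟨p, O, P, hp, hP, hO, hRS, hSR, hPG⟩ := exists_pGroup_section hs h0
  have hPS : P ≤ S := le_sup_right.trans hRS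
  have hcP := hc.coprime_dvd_right (Subgroup.card_dvd_of_le hPS)
  set C := G ⊓ Subgroup.centralizer (P : Set Γ) with hC
  set D := N ⊓ Subgroup.centralizer (P : Set Γ) with hD
  have hDC : D ≤ C := inf_le_inf_right _ hNG
  have hON : O ≤ Subgroup.centralizer (N : Set Γ) := hO.trans (Subgroup.centralizer_le hNG)
  have HG := corr_pGroup hp hP (hPS.trans hSG) hcP hC inf_le_left
  have HN := corr_pGroup hp hP (hPS.trans hSN)
    (hcP.coprime_dvd_left (Subgroup.card_dvd_of_le hNG)) hD inf_le_left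
  have key : ∀ X : Subgroup Γ, O ≤ Subgroup.centralizer (X : Set Γ) →
      S ≤ Subgroup.normalizer (X : Set Γ) →
      S ≤ Subgroup.normalizer ((X ⊓ Subgroup.centralizer (P : Set Γ) : Subgroup Γ) : Set Γ) := by
    intro X h1 h2
    have : X ⊓ Subgroup.centralizer (P : Set Γ) =
        X ⊓ Subgroup.centralizer ((O ⊔ P : Subgroup Γ) : Set Γ) := by
      rw [centralizer_sup', ← inf_assoc, inf_eq_left.2 (Subgroup.le_centralizer_iff.1 h1)]
    rw [this]
    exact CopAct.le_normalizer_inf h2 (CopAct.le_normalizer_centralizer hSR)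
  have hSC := key G hO hSG
  have hSD := key N hON hSN
  have hlt : C < G := lt_of_le_of_ne inf_le_left fun h =>
    hPG (Subgroup.le_centralizer_iff.mp (inf_eq_left.mp h))
  have hCD : C ≤ Subgroup.normalizer (D : Set Γ) :=
    CopAct.le_normalizer_inf (hlt.le.trans hGN) (inf_le_right.trans Subgroup.le_normalizer)
  have := Fintype.ofFinite D
  obtain ⟨β, hβ, h1⟩ := HN.ex θ hθ (hinv.mono hPS)
  have hβS : Inv S β := ((HN.sup_centralizer (hPS.trans hSN) hON).inv_iff hp hSR hSN hSD hθ hβ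
    (hinv.mono hRS) h1).1 hinv
  obtain ⟨ξ, hξ, h2, hξS⟩ := ih C hlt hDC hCD hSC hSD
    (hc.coprime_dvd_left (Subgroup.card_dvd_of_le hlt.le)) hβ hβS
  obtain ⟨χ, hχ, hχR, h3⟩ := (HG.sup_centralizer (hPS.trans hSG) hO).surj ξ hξ
  refine ⟨χ, hχ, ?_, ((HG.sup_centralizer (hPS.trans hSG) hO).inv_iff hp hSR hSG hSC hχ hξ
    hχR h3).2 hξS⟩
  refine over_of_rel_over hp hP hNG inf_le_left inf_le_left hDC (hPS.trans hSG) (hPS.trans hSN)
    (Subgroup.le_centralizer_iff.1 inf_le_right) hCD (fun h => ?_) HN hχ (hχR.mono le_sup_right)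
    hθ (hinv.mono hPS) hξ hβ h3 h1 h2
  have := Fact.mk hp
  rcases hP.card_eq_or_dvd with h4 | h4
  · exact hPG (by rw [Subgroup.card_eq_one.1 h4]; exact bot_le)
  · exact hp.one_lt.ne' (Nat.eq_one_of_dvd_coprimes hcP
      (h.trans (Subgroup.card_dvd_of_le hlt.le)) h4)

end Cfsg.Agent.Ch
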