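import Mathlib
import Cfsg.Agent.Ch.CoprimeChar2
import Cfsg.Agent.Ch.CliffordRel

/-!
# The relative Glauberman correspondence: one operator

`K` is normalized by a `p`-element `s`, `N ⊴ K` is `s`-invariant of `p'`-index and
`D / N = C_{K / N}(s)`.  Extensions of `s`-invariant characters are compared on the coset `D s`.
-/

set_option autoImplicit false

namespace Cfsg.Agent.Ch.RG

open Cfsg Glb
open scoped ComplexConjugate

variable {Γ : Type*} [Group Γ]

/-- `a` restricts to a character of `H ⟨s⟩`. -/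
def CX (H : Subgroup Γ) (s : Γ) (a : Γ → ℂ) : Prop :=
  IsCharacter ↥(H ⊔ Subgroup.zpowers s) fun x => a x

/-- The inner product of `a` and `b` on the coset `H t`. -/
noncomputable def cp (H : Subgroup Γ) [Fintype H] (a b : Γ → ℂ) (t : Γ) : ℂ :=
  (Nat.card H : ℂ)⁻¹ * ∑ h : H, a (h * t) * conj (b (h * t))

theorem cp_one (H : Subgroup Γ) [Fintype H] (a b : Γ → ℂ) :
    cp H a b 1 = classInner (fun h : H => a h) fun h : H => b h := by
  simp [cp, classInner]

theorem conj_cp (H : Subgroup Γ) [Fintype H] (a b : Γ → ℂ) (t : Γ) :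
    conj (cp H a b t) = cp H b a t := by
  simp [cp, mul_comm]

theorem CX.mono {D K : Subgroup Γ} (h : D ≤ K) {s : Γ} {a : Γ → ℂ} (ha : CX K s a) : CX D s a :=
  isCharacter_res_of_le (sup_le_sup_right h _) ha

theorem CX.conj_eq {H : Subgroup Γ} {s : Γ} {a : Γ → ℂ} (ha : CX H s a) {x y : Γ}
    (hx : x ∈ H ⊔ Subgroup.zpowers s) (hy : y ∈ H ⊔ Subgroup.zpowers s) :
    a (x * y * x⁻¹) = a y := ha.isClassFunction ⟨y, hy⟩ ⟨x, hx⟩

theorem CX.inv {H : Subgroup Γ} {s : Γ} {a : Γ → ℂ} (ha : CX H s a) :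
    Inv (Subgroup.zpowers s) fun h : H => a h := fun t ht g g' hg => by
  simp only [hg]
  exact ha.conj_eq (Subgroup.mem_sup_right ht) (Subgroup.mem_sup_left g.2)

section One
variable {H : Subgroup Γ} {s : Γ}

theorem normal_sub (hs : s ∈ Subgroup.normalizer (H : Set Γ)) :
    (H.subgroupOf (H ⊔ Subgroup.zpowers s)).Normal :=
  (Subgroup.normal_subgroupOf_iff_le_normalizer le_sup_left).mpr
    (sup_le Subgroup.le_normalizer (by rwa [Subgroup.zpowers_le]))

theorem mem_sup_self (H : Subgroup Γ) (s : Γ) : s ∈ H ⊔ Subgroup.zpowers s :=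
  Subgroup.mem_sup_right (Subgroup.mem_zpowers s)

theorem sub_sup_top (H : Subgroup Γ) (s : Γ) : H.subgroupOf (H ⊔ Subgroup.zpowers s) ⊔
    Subgroup.zpowers (⟨s, mem_sup_self H s⟩ : ↥(H ⊔ Subgroup.zpowers s)) = ⊤ := by
  apply Subgroup.map_injective (H ⊔ Subgroup.zpowers s).subtype_injective
  rw [Subgroup.map_sup, Subgroup.subgroupOf_map_subtype, MonoidHom.map_zpowers,
    ← MonoidHom.range_eq_map, Subgroup.range_subtype, inf_of_le_left le_sup_left]
  rfl

theorem isCyclic_quot {L : Type*} [Group L] {N : Subgroup L} [N.Normal] {s : L}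
    (h : N ⊔ Subgroup.zpowers s = ⊤) : IsCyclic (L ⧸ N) := by
  refine ⟨⟨s, fun x => ?_⟩⟩
  have h1 := congrArg (Subgroup.map (QuotientGroup.mk' N)) h
  rw [Subgroup.map_sup, QuotientGroup.map_mk'_self, bot_sup_eq, MonoidHom.map_zpowers,
    Subgroup.map_top_of_surjective _ (QuotientGroup.mk'_surjective N)] at h1
  exact h1.ge (Subgroup.mem_top x)

theorem exists_eq_mul_zpowers (hs : s ∈ Subgroup.normalizer (H : Set Γ)) {x : Γ}
    (hx : x ∈ H ⊔ Subgroup.zpowers s) : ∃ h ∈ H, ∃ t ∈ Subgroup.zpowers s, x = h * t := by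
  have := normal_sub hs
  have h1 : (⟨x, hx⟩ : ↥(H ⊔ Subgroup.zpowers s)) ∈ H.subgroupOf (H ⊔ Subgroup.zpowers s) ⊔
      Subgroup.zpowers (⟨s, mem_sup_self H s⟩ : ↥(H ⊔ Subgroup.zpowers s)) := by
    rw [sub_sup_top]; trivial
  rw [← SetLike.mem_coe, Subgroup.normal_mul] at h1
  obtain ⟨h, hh, t, ⟨k, rfl⟩, h2⟩ := h1
  exact ⟨h, hh, s ^ k, ⟨k, rfl⟩, (congrArg Subtype.val h2).symm⟩

theorem cp_eq_cosetAvg [Fintype H] (a b : Γ → ℂ) (L : Subgroup Γ) (hL : H ≤ L)
    [Fintype (H.subgroupOf L)] (t : L) :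
    cp H a b t = cosetAvg (H.subgroupOf L) (fun x : L => a x * conj (b x)) t := by
  rw [cosetAvg_apply, cp, card_subgroupOf_eq hL]
  congr 1
  exact (Fintype.sum_equiv (Subgroup.subgroupOfEquivOfLe hL).toEquiv _ _ fun _ => rfl).symm

variable [Finite Γ]

theorem isCharacter_cp [Fintype H] (hs : s ∈ Subgroup.normalizer (H : Set Γ)) {a b : Γ → ℂ}
    (ha : CX H s a) (hb : CX H s b) :
    IsCharacter (Subgroup.zpowers s) fun t => cp H a b t := by
  have := normal_sub hs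
  have := Fintype.ofFinite (H.subgroupOf (H ⊔ Subgroup.zpowers s))
  have h := isCharacter_res_of_le (H := Subgroup.zpowers s) le_sup_right
    (isCharacter_cosetAvg (H.subgroupOf (H ⊔ Subgroup.zpowers s)) (ha.mul hb.complexConj))
  convert h using 2 with t
  exact cp_eq_cosetAvg a b _ le_sup_left ⟨t, Subgroup.mem_sup_right t.2⟩

theorem cp_eq_zero [Fintype H] (hs : s ∈ Subgroup.normalizer (H : Set Γ)) {a b : Γ → ℂ}
    (ha : CX H s a) (hb : CX H s b)
    (h : classInner (fun h : H => a h) (fun h : H => b h) = 0) : cp H a b s = 0 :=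
  congrFun ((isCharacter_cp hs ha hb).eq_zero_of_apply_one (by
    simp only [OneMemClass.coe_one, cp_one, h])) ⟨s, Subgroup.mem_zpowers s⟩

theorem cp_self [Fintype H] (hs : s ∈ Subgroup.normalizer (H : Set Γ)) {a : Γ → ℂ}
    (ha : CX H s a) (h : IsIrrCharacter H fun h : H => a h) {t : Γ}
    (ht : t ∈ Subgroup.zpowers s) : cp H a a t = 1 := by
  have := normal_sub hs
  have := Fintype.ofFinite (H.subgroupOf (H ⊔ Subgroup.zpowers s))
  have := Fintype.ofFinite ↥(H ⊔ Subgroup.zpowers s)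
  rw [cp_eq_cosetAvg a a _ le_sup_left ⟨t, Subgroup.mem_sup_right ht⟩,
    cosetAvg_mul_conj_self ha ((isIrrCharacter_res_subgroupOf_iff le_sup_left
      (ψ := fun x : ↥(H ⊔ Subgroup.zpowers s) => a x)).mpr h)]

theorem exists_cx (hs : s ∈ Subgroup.normalizer (H : Set Γ)) {θ : H → ℂ}
    (hθ : IsIrrCharacter H θ) (hinv : Inv (Subgroup.zpowers s) θ) :
    ∃ a, CX H s a ∧ (fun h : H => a h) = θ := by
  have := normal_sub hs
  have := isCyclic_quot (sub_sup_top H s)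
  have h1 : Inv (H ⊔ Subgroup.zpowers s) θ := Inv.sup Subgroup.le_normalizer
    (by rwa [Subgroup.zpowers_le]) (inv_self hθ.isClassFunction) hinv
  obtain ⟨χ, hχ, h⟩ := extends_of_isCyclic (N := H.subgroupOf (H ⊔ Subgroup.zpowers s))
    (isIrrCharacter_subgroupOf le_sup_left hθ) fun g n => h1 g g.2 _ _ rfl
  refine ⟨extendByZero _ χ, ?_, funext fun x => ?_⟩
  · unfold CX
    simp only [extendByZero_coe]
    exact hχ.isCharacter
  · exact (extendByZero_coe _ χ ⟨x, Subgroup.mem_sup_left x.2⟩).trans (h ⟨_, x.2⟩)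

theorem exists_cx_of_ne_zero (hs : s ∈ Subgroup.normalizer (H : Set Γ)) {D : Subgroup Γ}
    [Fintype D] (hD : D ≤ H) {F : Γ → ℂ}
    (hF : IsClassFunction ↥(H ⊔ Subgroup.zpowers s) fun x => F x) {b : Γ → ℂ}
    (h : cp D F b s ≠ 0) :
    ∃ a, CX H s a ∧ IsIrrCharacter H (fun h : H => a h) ∧ cp D a b s ≠ 0 := by
  have := normal_sub hs
  have := isCyclic_quot (sub_sup_top H s)
  have := Fintype.ofFinite ↥(H ⊔ Subgroup.zpowers s)
  have hm : ∀ d : D, (d : Γ) * s ∈ H ⊔ Subgroup.zpowers s := fun d =>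
    mul_mem (Subgroup.mem_sup_left (hD d.2)) (mem_sup_self H s)
  have h1 : cp D F b s = ∑ χ : IrrCharacter ↥(H ⊔ Subgroup.zpowers s),
      classInner (fun x : ↥(H ⊔ Subgroup.zpowers s) => F x) χ * cp D (extendByZero _ χ.1) b s := by
    simp only [cp, Finset.mul_sum]
    rw [Finset.sum_comm]
    refine Finset.sum_congr rfl fun d _ => ?_
    have h2 := congrFun hF.eq_sum_irr ⟨_, hm d⟩
    simp only [Finset.sum_apply, Pi.smul_apply, smul_eq_mul] at h2
    rw [h2, Finset.sum_mul, Finset.mul_sum]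
    refine Finset.sum_congr rfl fun χ _ => ?_
    rw [extendByZero_coe _ χ.1 ⟨_, hm d⟩]
    ring
  rw [h1] at h
  obtain ⟨χ, -, hχ⟩ := Finset.exists_ne_zero_of_sum_ne_zero h
  replace hχ := right_ne_zero_of_mul hχ
  refine ⟨_, ?_, ?_, hχ⟩
  · unfold CX
    simp only [extendByZero_coe]
    exact χ.2.isCharacter
  · obtain ⟨d, -, hd⟩ := Finset.exists_ne_zero_of_sum_ne_zero (right_ne_zero_of_mul hχ)
    replace hd := left_ne_zero_of_mul hd
    rw [extendByZero_coe _ χ.1 ⟨_, hm d⟩] at hd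
    have h2 := isIrr_res_of_closure_support (N := H.subgroupOf (H ⊔ Subgroup.zpowers s))
      (Subgroup.Normal.quotient_commutative_iff_commutator_le.mp inferInstance) χ.2 (by
        rw [eq_top_iff, ← sub_sup_top]
        refine sup_le le_sup_left ?_
        rw [Subgroup.zpowers_le, show (⟨s, mem_sup_self H s⟩ : ↥(H ⊔ Subgroup.zpowers s)) =
          (⟨d, Subgroup.mem_sup_left (hD d.2)⟩ : ↥(H ⊔ Subgroup.zpowers s))⁻¹ * ⟨_, hm d⟩ from
          Subtype.ext (by simp)]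
        exact mul_mem (Subgroup.mem_sup_left (inv_mem (hD d.2)))
          (Subgroup.mem_sup_right (Subgroup.subset_closure hd)))
    rw [isIrrCharacter_res_subgroupOf_iff le_sup_left] at h2
    convert h2 using 2 with x
    exact extendByZero_coe _ χ.1 ⟨x, Subgroup.mem_sup_left x.2⟩

omit [Finite Γ] in
theorem cp_sub [Fintype H] {a b : Γ → ℂ} {t : Γ} (ha : cp H a a t = 1) (hb : cp H b b t = 1) :
    ‖cp H a b t‖ ≤ 1 ∧ (‖cp H a b t‖ = 1 → ∀ h : H, a (h * t) = cp H a b t * b (h * t)) := by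
  set α := cp H a b t with hα
  have h1 : cp H (fun x => a x - α * b x) (fun x => a x - α * b x) t =
      cp H a a t - conj α * cp H a b t - α * cp H b a t + α * conj α * cp H b b t := by
    simp only [cp, map_sub, map_mul, Finset.mul_sum, ← Finset.sum_sub_distrib,
      ← Finset.sum_add_distrib]
    exact Finset.sum_congr rfl fun h _ => by ring
  rw [ha, hb, ← conj_cp H a b, ← hα] at h1
  have h2 : (Nat.card H : ℝ)⁻¹ * ∑ h : H, ‖a (h * t) - α * b (h * t)‖ ^ 2 = 1 - ‖α‖ ^ 2 := by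
    apply Complex.ofReal_injective
    simp only [cp, Complex.mul_conj'] at h1
    push_cast
    rw [h1, ← Complex.mul_conj']
    ring
  have hpos : (0 : ℝ) < (Nat.card H : ℝ)⁻¹ := inv_pos.mpr (by exact_mod_cast Nat.card_pos)
  constructor
  · have : 0 ≤ 1 - ‖α‖ ^ 2 := h2 ▸ by positivity
    nlinarith [norm_nonneg α]
  · intro h3 h
    rw [h3, one_pow, sub_self, mul_eq_zero, or_iff_right hpos.ne',
      Finset.sum_eq_zero_iff_of_nonneg fun _ _ => by positivity] at h2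
    have := h2 h (Finset.mem_univ h)
    rwa [pow_eq_zero_iff two_ne_zero, norm_eq_zero, sub_eq_zero] at this

end One

/-- A function invariant under `K` summed over the coset `K t`. -/
theorem sum_coset_eq {K D : Subgroup Γ} [Fintype K] [Fintype D] (hDK : D ≤ K) {t : Γ}
    (ht : t ∈ Subgroup.normalizer (K : Set Γ))
    (hD : ∀ k ∈ K, ∀ d ∈ D, ∀ d' ∈ D, k * (d * t) * k⁻¹ = d' * t → k ∈ D) (F : Γ → ℂ)
    (hF : ∀ x ∈ K, ∀ d ∈ D, F (x * (d * t) * x⁻¹) = F (d * t)) :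
    (Nat.card D : ℂ) * ∑ g : K, F (g * t) = Nat.card K * ∑ c : D, F (c * t) := by
  classical
  let Φ : K × D → K := fun z => ⟨z.1 * z.2 * (t * (z.1 : Γ)⁻¹ * t⁻¹),
    mul_mem (mul_mem z.1.2 (hDK z.2.2)) ((Subgroup.mem_normalizer_iff.mp ht _).mp (inv_mem z.1.2))⟩
  have hΦ : ∀ z : K × D, (Φ z : Γ) * t = z.1 * (z.2 * t) * (z.1 : Γ)⁻¹ := by
    intro z; simp only [Φ]; group
  have hle : ∀ g : K, (Finset.univ.filter fun z => Φ z = g).card ≤ Fintype.card D := by
    intro g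
    rcases (Finset.univ.filter fun z => Φ z = g).eq_empty_or_nonempty with h0 | ⟨z0, hz0⟩
    · simp [h0]
    have key : ∀ z ∈ Finset.univ.filter fun z => Φ z = g,
        (z0.1 : Γ)⁻¹ * z.1 * (z.2 * t) * ((z0.1 : Γ)⁻¹ * z.1)⁻¹ = z0.2 * t := by
      intro z hz
      have h1 : (z.1 : Γ) * (z.2 * t) * (z.1 : Γ)⁻¹ = z0.1 * (z0.2 * t) * (z0.1 : Γ)⁻¹ := by
        rw [← hΦ, ← hΦ, (Finset.mem_filter.mp hz).2, (Finset.mem_filter.mp hz0).2]
      calc _ = (z0.1 : Γ)⁻¹ * ((z.1 : Γ) * (z.2 * t) * (z.1 : Γ)⁻¹) * z0.1 := by group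
        _ = _ := by rw [h1]; group
    rw [← Finset.card_univ, ← Finset.card_attach]
    refine Finset.card_le_card_of_injOn (fun z => ⟨(z0.1 : Γ)⁻¹ * z.1.1,
      hD _ (mul_mem (inv_mem z0.1.2) z.1.1.2) _ z.1.2.2 _ z0.2.2 (key _ z.2)⟩)
      (fun _ _ => Finset.mem_univ _) fun z _ z' _ h => ?_
    have h1 : (z.1.1 : Γ) = z'.1.1 := mul_left_cancel (congrArg Subtype.val h)
    have h2 := (key _ z.2).trans (key _ z'.2).symm
    rw [h1] at h2
    exact Subtype.ext (Prod.ext (Subtype.ext h1) (Subtype.ext (by simpa using h2)))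
  have hfib : ∀ g : K, (Finset.univ.filter fun z => Φ z = g).card = Fintype.card D := by
    have h1 := Finset.card_eq_sum_card_fiberwise (f := Φ) (s := Finset.univ) (t := Finset.univ)
      fun _ _ => Finset.mem_univ _
    rw [Finset.card_univ, Fintype.card_prod] at h1
    have h2 := (Finset.sum_eq_sum_iff_of_le (s := Finset.univ) fun g _ => hle g).mp (by
      rw [← h1]; simp)
    exact fun g => h2 g (Finset.mem_univ g)
  have h1 : ∑ z : K × D, F (Φ z * t) = ∑ g : K, (Nat.card D : ℂ) * F (g * t) := by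
    rw [← Finset.sum_fiberwise Finset.univ Φ]
    refine Finset.sum_congr rfl fun g _ => ?_
    rw [Finset.sum_congr rfl (g := fun _ => F (g * t)) (by
      intro z hz
      rw [(Finset.mem_filter.mp hz).2]), Finset.sum_const, hfib, nsmul_eq_mul,
      Nat.card_eq_fintype_card]
  rw [Finset.mul_sum, ← h1, Fintype.sum_prod_type]
  simp only [hΦ, hF _ (Subtype.prop _) _ (Subtype.prop _), Finset.sum_const, Finset.card_univ,
    nsmul_eq_mul, Nat.card_eq_fintype_card]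

/-- The multiplicity of `η` in the restriction of `χ`. -/
noncomputable def mlt [Finite Γ] {C K : Subgroup Γ} (h : C ≤ K) (χ : IrrCharacter K)
    (η : IrrCharacter C) : ℕ :=
  letI := Fintype.ofFinite C
  ((isCharacter_res_of_le h χ.isCharacter).exists_nat_classInner η.isCharacter).choose

theorem mlt_spec [Finite Γ] {C K : Subgroup Γ} [Fintype C] (h : C ≤ K) (χ : IrrCharacter K)
    (η : IrrCharacter C) :
    classInner (fun c : C => (χ : K → ℂ) ⟨c, h c.2⟩) (η : C → ℂ) = mlt h χ η := by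
  obtain rfl : ‹Fintype C› = Fintype.ofFinite C := Subsingleton.elim _ _
  let := Fintype.ofFinite C
  exact ((isCharacter_res_of_le h χ.isCharacter).exists_nat_classInner η.isCharacter).choose_spec

/-- Modulo `p`, the multiplicities between `S`-invariant irreducible characters of `K` and of `C`
form a signed permutation matrix. -/
structure RCorr [Finite Γ] (p : ℕ) (S : Subgroup Γ) {C K : Subgroup Γ} (h : C ≤ K) : Prop where
  ex : ∀ χ : IrrCharacter K, Inv S (χ : K → ℂ) →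
    ∃ η : IrrCharacter C, Inv S (η : C → ℂ) ∧ ¬ p ∣ mlt h χ η
  uniq : ∀ (χ : IrrCharacter K) (η η' : IrrCharacter C), Inv S (χ : K → ℂ) → Inv S (η : C → ℂ) →
    Inv S (η' : C → ℂ) → ¬ p ∣ mlt h χ η → ¬ p ∣ mlt h χ η' → η = η'
  sq : ∀ (χ : IrrCharacter K) (η : IrrCharacter C), Inv S (χ : K → ℂ) → Inv S (η : C → ℂ) →
    ¬ p ∣ mlt h χ η → (mlt h χ η : ZMod p) ^ 2 = 1
  inj : ∀ (χ χ' : IrrCharacter K) (η : IrrCharacter C), Inv S (χ : K → ℂ) → Inv S (χ' : K → ℂ) →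
    Inv S (η : C → ℂ) → ¬ p ∣ mlt h χ η → ¬ p ∣ mlt h χ' η → χ = χ'
  surj : ∀ η : IrrCharacter C, Inv S (η : C → ℂ) →
    ∃ χ : IrrCharacter K, Inv S (χ : K → ℂ) ∧ ¬ p ∣ mlt h χ η

/-- `D ≤ K` are normalized by `s`, and the cosets `D t` of the generators `t` of `⟨s⟩` are
trivial-intersection sets for the action of `K`. -/
structure Fx (K D : Subgroup Γ) (s : Γ) : Prop where
  le : D ≤ K
  nK : s ∈ Subgroup.normalizer (K : Set Γ)
  nD : s ∈ Subgroup.normalizer (D : Set Γ)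
  mem : ∀ j : ℕ, j.Coprime (orderOf s) → ∀ k ∈ K, ∀ d ∈ D, ∀ d' ∈ D,
    k * (d * s ^ j) * k⁻¹ = d' * s ^ j → k ∈ D

section Cyclic
variable [Finite Γ] {K D : Subgroup Γ} [Fintype K] [Fintype D] {s : Γ} {a a' b b' : Γ → ℂ}

omit [Finite Γ] in
theorem Fx.cp_eq (h : Fx K D s) (ha : CX K s a) (ha' : CX K s a') {j : ℕ}
    (hj : j.Coprime (orderOf s)) : cp D a a' (s ^ j) = cp K a a' (s ^ j) := by
  have h1 := sum_coset_eq h.le (pow_mem h.nK j) (h.mem j hj) (fun x => a x * conj (a' x))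
    fun x hx d hd => by
      have h2 : d * s ^ j ∈ K ⊔ Subgroup.zpowers s :=
        mul_mem (Subgroup.mem_sup_left (h.le hd)) (pow_mem (mem_sup_self K s) j)
      simp only [ha.conj_eq (Subgroup.mem_sup_left hx) h2, ha'.conj_eq (Subgroup.mem_sup_left hx) h2]
  have hK : (Nat.card K : ℂ) ≠ 0 := by exact_mod_cast Nat.card_pos.ne'
  have hD : (Nat.card D : ℂ) ≠ 0 := by exact_mod_cast Nat.card_pos.ne'
  unfold cp
  field_simp
  linear_combination -h1

theorem Fx.norm_cp (h : Fx K D s) (ha : CX K s a) (haK : IsIrrCharacter K fun k : K => a k)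
    (hb : CX D s b) (hbD : IsIrrCharacter D fun d : D => b d) (h0 : cp D a b s ≠ 0) :
    ‖cp D a b s‖ = 1 ∧ ∀ d : D, a (d * s) = cp D a b s * b (d * s) := by
  have key : ∀ j : ℕ, j.Coprime (orderOf s) → cp D a a (s ^ j) = 1 ∧ cp D b b (s ^ j) = 1 :=
    fun j hj => ⟨(h.cp_eq ha ha hj).trans (cp_self h.nK ha haK (Subgroup.npow_mem_zpowers s j)),
      cp_self h.nD hb hbD (Subgroup.npow_mem_zpowers s j)⟩
  have hψ := isCharacter_cp h.nD (ha.mono h.le) hb
  have h1 : ‖cp D a b s‖ = 1 := by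
    refine (galois_eq_zero_or_norm_eq_one (hψ.isIntegral ⟨s, Subgroup.mem_zpowers s⟩)
      fun σ => ?_).resolve_left h0
    obtain ⟨k, hk, h2⟩ := galois_exists_pow_char (Subgroup.zpowers s) (σ : ℂ →+* ℂ)
    rw [Nat.card_zpowers] at hk
    have h3 := h2 _ hψ.isGeneralizedCharacter ⟨s, Subgroup.mem_zpowers s⟩
    simp only [RingHom.coe_coe, SubmonoidClass.mk_pow] at h3
    rw [h3]
    exact (cp_sub (key k hk).1 (key k hk).2).1
  have h2 := key 1 (Nat.coprime_one_left _)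
  rw [pow_one] at h2
  exact ⟨h1, (cp_sub h2.1 h2.2).2 h1⟩

theorem Fx.dvd_iff (h : Fx K D s) {p : ℕ} (hp : p.Prime) {n : ℕ} (hs : s ^ p ^ n = 1)
    {χ : IrrCharacter K} {η : IrrCharacter D} (ha : CX K s a) (haK : (fun k : K => a k) = χ)
    (hb : CX D s b) (hbD : (fun d : D => b d) = η) :
    (p ∣ mlt h.le χ η ↔ cp D a b s = 0) ∧ (¬ p ∣ mlt h.le χ η → (mlt h.le χ η : ZMod p) ^ 2 = 1) := by
  have hψ := isCharacter_cp h.nD (ha.mono h.le) hb
  have h1 : cp D a b 1 = mlt h.le χ η := by rw [cp_one, ← mlt_spec, ← haK, ← hbD]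
  have h2 : cp D a b s = 0 → p ∣ mlt h.le χ η := fun h0 => by
    have h3 := hψ.prime_dvd_sub_charDegree hp (a := n) (x := ⟨s, Subgroup.mem_zpowers s⟩)
      (Subtype.ext hs) (m := 0) (by simpa using h0)
    have h4 : charDegree (fun t : Subgroup.zpowers s => cp D a b t) = mlt h.le χ η := by
      apply Nat.cast_injective (R := ℂ)
      rw [hψ.coe_charDegree, ← h1]; rfl
    rw [h4, zero_sub, dvd_neg] at h3
    exact_mod_cast h3
  have h3 : cp D a b s ≠ 0 → (mlt h.le χ η : ZMod p) ^ 2 = 1 := fun h0 => by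
    have h4 := (h.norm_cp ha (haK ▸ χ.2) hb (hbD ▸ η.2) h0).1
    have hψ' := hψ.mul hψ.complexConj
    have h3 := hψ'.prime_dvd_sub_charDegree hp (a := n) (x := ⟨s, Subgroup.mem_zpowers s⟩)
      (Subtype.ext hs) (m := 1) (by simp [Complex.mul_conj', h4])
    have h5 : charDegree ((fun t : Subgroup.zpowers s => cp D a b t) *
        fun t : Subgroup.zpowers s => conj (cp D a b t)) = mlt h.le χ η ^ 2 := by
      apply Nat.cast_injective (R := ℂ)
      rw [hψ'.coe_charDegree]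
      simp [h1, sq]
    rw [h5] at h3
    have h6 := (ZMod.intCast_eq_intCast_iff_dvd_sub _ _ p).mpr h3
    exact_mod_cast h6
  refine ⟨⟨fun h4 => ?_, h2⟩, fun h4 => h3 fun h0 => h4 (h2 h0)⟩
  by_contra h0
  have := Fact.mk hp
  have h5 := h3 h0
  rw [(ZMod.natCast_eq_zero_iff _ _).mpr h4] at h5
  simp at h5

omit [Fintype K] in
theorem Fx.exists_over (h : Fx K D s) (hb : CX D s b) (hbD : IsIrrCharacter D fun d : D => b d) :
    ∃ a, CX K s a ∧ IsIrrCharacter K (fun k : K => a k) ∧ cp D a b s ≠ 0 := by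
  classical
  have := Fintype.ofFinite ↥(K ⊔ Subgroup.zpowers s)
  let f : Γ → ℂ := fun y => if y * s⁻¹ ∈ D then b y else 0
  let F : Γ → ℂ := fun y => ∑ g : ↥(K ⊔ Subgroup.zpowers s), f (g * y * (g : Γ)⁻¹)
  have hz : ∀ t ∈ Subgroup.zpowers s, ∀ d ∈ D, t * d * t⁻¹ ∈ D ∧ t * (d * s) * t⁻¹ = t * d * t⁻¹ * s :=
    fun t ht d hd => ⟨(Subgroup.mem_normalizer_iff.mp ((Subgroup.zpowers_le.mpr h.nD) ht) d).mp hd, by
      obtain ⟨k, rfl⟩ := ht
      group⟩
  have hF : ∀ d : D, F (d * s) = (Finset.univ.filter fun g : ↥(K ⊔ Subgroup.zpowers s) =>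
      (g : Γ) ∈ D ⊔ Subgroup.zpowers s).card * b (d * s) := by
    intro d
    rw [← nsmul_eq_mul, ← Finset.sum_const, Finset.sum_filter]
    refine Finset.sum_congr rfl fun g _ => ?_
    split_ifs with hg
    · obtain ⟨x, hx, t, ht, hxt⟩ := exists_eq_mul_zpowers h.nD hg
      have h1 : (g : Γ) * (d * s) * (g : Γ)⁻¹ * s⁻¹ = x * (t * d * t⁻¹) * (s * x⁻¹ * s⁻¹) := by
        rw [hxt, show x * t * (d * s) * (x * t)⁻¹ = x * (t * (d * s) * t⁻¹) * x⁻¹ by group,
          (hz t ht d d.2).2]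
        group
      simp only [f]
      rw [if_pos (h1 ▸ mul_mem (mul_mem hx (hz t ht d d.2).1)
        ((Subgroup.mem_normalizer_iff.mp h.nD _).mp (inv_mem hx)))]
      exact hb.conj_eq hg (mul_mem (Subgroup.mem_sup_left d.2) (mem_sup_self D s))
    · refine if_neg fun h1 => hg ?_
      obtain ⟨x, hx, t, ht, hxt⟩ := exists_eq_mul_zpowers h.nK g.2
      rw [hxt] at h1 ⊢
      refine mul_mem (Subgroup.mem_sup_left (h.mem 1 (Nat.coprime_one_left _) x hx _
        (hz t ht d d.2).1 _ h1 ?_)) (Subgroup.mem_sup_right ht)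
      rw [pow_one, ← (hz t ht d d.2).2]
      group
  refine exists_cx_of_ne_zero h.nK h.le (F := F) (fun y x => ?_) ?_
  · refine Fintype.sum_equiv (Equiv.mulRight x) _ _ fun g => ?_
    simp [mul_assoc]
  · have h1 := cp_self h.nD hb hbD (Subgroup.mem_zpowers s)
    unfold cp at h1 ⊢
    simp only [hF, mul_assoc, ← Finset.mul_sum]
    rw [mul_left_comm, h1, mul_one, Nat.cast_ne_zero]
    exact Finset.card_ne_zero_of_mem (a := 1) (by simp)

omit [Fintype K] [Fintype D] in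
theorem Fx.rcorr (h : Fx K D s) {p : ℕ} (hp : p.Prime) {n : ℕ} (hs : s ^ p ^ n = 1) :
    RCorr p (Subgroup.zpowers s) h.le := by
  have := Fintype.ofFinite K
  have := Fintype.ofFinite D
  refine ⟨fun χ hχ => ?_, fun χ η η' hχ hη hη' h1 h2 => ?_, fun χ η hχ hη => ?_,
    fun χ χ' η hχ hχ' hη h1 h2 => ?_, fun η hη => ?_⟩
  · obtain ⟨a, ha, haK⟩ := exists_cx h.nK χ.2 hχ
    have h1 := (h.cp_eq ha ha (Nat.coprime_one_left _)).trans
      (cp_self h.nK ha (haK ▸ χ.2) (Subgroup.npow_mem_zpowers s 1))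
    rw [pow_one] at h1
    obtain ⟨b, hb, hbD, h2⟩ := exists_cx_of_ne_zero h.nD le_rfl (ha.mono h.le).isClassFunction
      (b := a) (h1 ▸ one_ne_zero)
    refine ⟨⟨_, hbD⟩, hb.inv, fun h3 => h2 ?_⟩
    rw [← conj_cp, (h.dvd_iff hp hs ha haK hb rfl).1.mp h3, map_zero]
  · obtain ⟨a, ha, haK⟩ := exists_cx h.nK χ.2 hχ
    obtain ⟨b, hb, hbD⟩ := exists_cx h.nD η.2 hη
    obtain ⟨b', hb', hbD'⟩ := exists_cx h.nD η'.2 hη'
    rw [(h.dvd_iff hp hs ha haK hb hbD).1] at h1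
    rw [(h.dvd_iff hp hs ha haK hb' hbD').1] at h2
    by_contra hne
    have h3 := cp_eq_zero h.nD hb hb' (by
      rw [hbD, hbD']; exact η.2.classInner_eq_zero η'.2 fun h => hne (Subtype.ext h))
    have h4 := (h.norm_cp ha (haK ▸ χ.2) hb (hbD ▸ η.2) h1).2
    apply h2
    generalize cp D a b s = α at h4
    unfold cp at h3 ⊢
    simp only [h4, mul_assoc, ← Finset.mul_sum]
    rw [mul_left_comm, h3, mul_zero]
  · obtain ⟨a, ha, haK⟩ := exists_cx h.nK χ.2 hχ
    obtain ⟨b, hb, hbD⟩ := exists_cx h.nD η.2 hη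
    exact (h.dvd_iff hp hs ha haK hb hbD).2
  · obtain ⟨a, ha, haK⟩ := exists_cx h.nK χ.2 hχ
    obtain ⟨a', ha', haK'⟩ := exists_cx h.nK χ'.2 hχ'
    obtain ⟨b, hb, hbD⟩ := exists_cx h.nD η.2 hη
    rw [(h.dvd_iff hp hs ha haK hb hbD).1] at h1
    rw [(h.dvd_iff hp hs ha' haK' hb hbD).1] at h2
    by_contra hne
    have h3 := cp_eq_zero h.nK ha ha' (by
      rw [haK, haK']; exact χ.2.classInner_eq_zero χ'.2 fun h => hne (Subtype.ext h))
    have h4 := (h.norm_cp ha (haK ▸ χ.2) hb (hbD ▸ η.2) h1).2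
    have h5 := h.cp_eq ha ha' (Nat.coprime_one_left _)
    rw [pow_one, h3] at h5
    apply h2
    rw [← conj_cp, map_eq_zero]
    generalize cp D a b s = α at h4 h1
    unfold cp at h5 ⊢
    simp only [h4, mul_assoc, ← Finset.mul_sum] at h5
    rw [mul_left_comm] at h5
    exact (mul_eq_zero.mp h5).resolve_left h1
  · obtain ⟨b, hb, hbD⟩ := exists_cx h.nD η.2 hη
    obtain ⟨a, ha, haK, h1⟩ := h.exists_over hb (hbD ▸ η.2)
    exact ⟨⟨_, haK⟩, ha.inv, fun h3 => h1 ((h.dvd_iff hp hs ha rfl hb hbD).1.mp h3)⟩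

end Cyclic

end Cfsg.Agent.Ch.RG
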