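import Mathlib
import Cfsg.Agent.Ch.TripleFin
import Cfsg.Agent.Ch.Extension
import Cfsg.Agent.Ch.CoprimeChar

/-!
# Character triples: the correspondence for subgroups

For a `TripleCover T` of `(G, N, θ)` put `Q = T.Γ / s(N)`.  For `V ≤ Q` whose preimage maps onto
`U ≤ G`, irreducible characters of `V` over the inverse of `lam` correspond to irreducible
characters of `U` over `θ`; the correspondence preserves inner products, restriction and
conjugation invariance.
-/

set_option autoImplicit false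
set_option linter.style.haveILetI false
set_option linter.unusedSectionVars false

namespace Cfsg.Agent.Ch

open Function Cfsg Glb ComplexConjugate

universe u

variable {G : Type u} [Group G] [Finite G] {N : Subgroup G} [hN : N.Normal] {θ : N → ℂ}

theorem exists_tripleCover_of_tripPow {V : Type} [AddCommGroup V] [Module ℂ V]
    [FiniteDimensional ℂ V] (ρ : Representation ℂ N V) [ρ.IsIrreducible]
    (hinv : ∀ (g : G) (n : N), ρ.character ⟨g * n * g⁻¹, hN.conj_mem n n.2 g⟩ = ρ.character n)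
    {m : ℕ} (hm : m ≠ 0) (h : TripPow ρ m) :
    ∃ T : TripleCover N ρ.character, ∀ z : T.π.ker, z ^ m = 1 := by
  have := nontrivial_of_isIrreducible ρ
  have hs := tripProj_surjective ρ hinv
  obtain ⟨r, hr1, hr2⟩ := h
  let π : r.ker →* G := (tripProj ρ).comp r.ker.subtype
  have hk : ∀ z : π.ker, ∃ c : ℂˣ, tripScalar ρ c = (z : r.ker) := fun z => by
    have : ((z : r.ker) : Trip ρ) ∈ (tripScalar ρ).range := by
      rw [range_tripScalar]; exact z.2
    exact this
  choose c hc using hk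
  let lam : π.ker →* ℂˣ := MonoidHom.mk' c fun a b => tripScalar_injective ρ (by
    rw [map_mul, hc, hc, hc]; rfl)
  have hlam : Injective lam := fun a b h => Subtype.ext (Subtype.ext (by
    rw [← hc, ← hc]; exact congrArg _ h))
  have hpow : ∀ z, lam z ^ m = 1 := fun z => by
    have h1 := hr1 (c z)
    rw [hc, (z : r.ker).2, zpow_natCast] at h1
    exact h1.symm
  have hfin : Finite π.ker := by
    have : NeZero m := ⟨hm⟩
    exact Finite.of_injective (fun z => (⟨lam z, (mem_rootsOfUnity _ _).2 (hpow z)⟩ :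
      rootsOfUnity m ℂ)) fun a b h => hlam (congrArg Subtype.val h)
  have hΓ : Finite r.ker := finite_of_finite_ker π
  refine ⟨⟨r.ker, π, (tripSec ρ).codRestrict _ hr2,
    Representation.character ((tripRep ρ).comp r.ker.subtype), lam, fun g => ?_, fun z hz => ?_,
    fun _ => rfl, fun t n => Subtype.ext (trip_conj_sec ρ t n), isCharacter_character _,
    fun _ => rfl, hlam, fun z t => ?_⟩, fun z => hlam (by rw [map_pow, hpow, map_one])⟩
  · obtain ⟨t, rfl⟩ := hs g
    obtain ⟨a, ha⟩ := units_pow_surjective ℂ m hm (r t)⁻¹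
    refine ⟨⟨tripScalar ρ a * t, ?_⟩, ?_⟩
    · rw [MonoidHom.mem_ker, map_mul, hr1, zpow_natCast]
      simp only at ha
      rw [ha, inv_mul_cancel]
    · simp [π, tripProj_scalar]
  · rw [Subgroup.mem_center_iff]
    intro t
    exact Subtype.ext ((Subgroup.mem_center_iff.1 (ker_tripProj_le_center ρ hz)) t)
  · simp only [Representation.character, MonoidHom.comp_apply, map_mul, Subgroup.coe_subtype]
    rw [← hc, tripRep_scalar]
    simp [lam]

/-- A triple cover whose kernel has exponent dividing `θ(1) o(θ)`. -/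
theorem exists_tripleCover_pow (hθ : IsIrrCharacter N θ)
    (hinv : ∀ (g : G) (n : N), θ ⟨g * n * g⁻¹, hN.conj_mem n n.2 g⟩ = θ n) :
    ∃ T : TripleCover N θ, ∀ z : T.π.ker, z ^ (charDegree θ * detOrder θ) = 1 := by
  have hm : charDegree θ * detOrder θ ≠ 0 :=
    mul_ne_zero hθ.charDegree_pos.ne' hθ.isCharacter.detOrder_pos.ne'
  obtain ⟨d, ρ, hρ, rfl⟩ := hθ
  exact exists_tripleCover_of_tripPow ρ hinv hm (tripPow_detOrder ρ)

/-- Multiplying by an extension of an irreducible character of `N` is an isometry on functions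
that are constant on the cosets of `N`. -/
theorem classInner_mul_ext {W : Type*} [Group W] [Fintype W] {M : Subgroup W} [M.Normal]
    {e : W → ℂ} (he : IsCharacter W e) (hM : IsIrrCharacter M fun m => e m) {β γ : W → ℂ}
    (hβ : ∀ m ∈ M, ∀ t, β (m * t) = β t) (hγ : ∀ m ∈ M, ∀ t, γ (m * t) = γ t) :
    classInner (fun t => β t * e t) (fun t => γ t * e t) = classInner β γ := by
  have := Fintype.ofFinite M
  unfold classInner
  congr 1
  have hc : (Nat.card M : ℂ) ≠ 0 := Nat.cast_ne_zero.2 Nat.card_pos.ne'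
  apply mul_left_cancel₀ hc
  have h1 : ∀ m : M, ∑ t, β t * e t * conj (γ t * e t) =
      ∑ t, β t * conj (γ t) * ((‖e (m * t)‖ ^ 2 : ℝ) : ℂ) := fun m => by
    rw [← Equiv.sum_comp (Equiv.mulLeft (m : W))]
    refine Finset.sum_congr rfl fun t _ => ?_
    simp only [Equiv.coe_mulLeft, hβ m m.2, hγ m m.2, map_mul]
    push_cast
    rw [← Complex.mul_conj']
    ring
  have h2 : (Nat.card M : ℂ) * ∑ t, β t * e t * conj (γ t * e t) =
      ∑ m : M, ∑ t, β t * conj (γ t) * ((‖e (m * t)‖ ^ 2 : ℝ) : ℂ) := by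
    rw [← Finset.sum_congr rfl fun m _ => h1 m, Finset.sum_const, Finset.card_univ,
      Nat.card_eq_fintype_card, nsmul_eq_mul]
  rw [h2, Finset.sum_comm, Finset.mul_sum]
  refine Finset.sum_congr rfl fun t _ => ?_
  rw [← Finset.mul_sum, ← Complex.ofReal_sum, sum_coset_norm_sq he hM, mul_comm]
  rfl

/-- An irreducible character lying over a linear character of a central subgroup. -/
theorem over_central_iff {Γ : Type*} [Group Γ] [Finite Γ] {B V : Subgroup Γ} [Fintype B]
    (hBV : B ≤ V) (hc : B ≤ Subgroup.centralizer (V : Set Γ)) {β : V → ℂ}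
    (hβ : IsIrrCharacter V β) (ν : B →* ℂˣ) :
    classInner (fun b : B => β ⟨b, hBV b.2⟩) (fun b => ν b) ≠ 0 ↔
      ∀ b : B, β ⟨b, hBV b.2⟩ = ν b * β 1 := by
  classical
  obtain ⟨f, hf, -⟩ := hβ.exists_center_hom
  let j : B →* Subgroup.center V := (Subgroup.inclusion hBV).codRestrict _ fun b =>
    Subgroup.mem_center_iff.2 fun v => Subtype.ext (hc b.2 v v.2)
  have h1 : ∀ b : B, β ⟨b, hBV b.2⟩ = (f.comp j) b * β 1 := fun b => by
    have := hf (j b) 1
    rwa [mul_one] at this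
  have h2 : (fun b : B => β ⟨b, hBV b.2⟩) = β 1 • fun b => ((f.comp j) b : ℂ) :=
    funext fun b => by rw [h1, mul_comm]; rfl
  rw [h2, classInner_smul_left, classInner_monoidHom_units]
  constructor
  · intro h
    have : f.comp j = ν := by
      by_contra h'
      exact h (by rw [if_neg h', mul_zero])
    rw [← this]; exact h1
  · intro h
    have : f.comp j = ν := MonoidHom.ext fun b => Units.ext
      (mul_right_cancel₀ hβ.apply_one_ne_zero ((h1 b).symm.trans (h b)))
    rw [if_pos this, mul_one]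
    exact hβ.apply_one_ne_zero

namespace TripleCover

variable (T : TripleCover N θ)

/-- The quotient `Γ / s(N)`. -/
abbrev Q := T.Γ ⧸ T.s.range

/-- The projection `Γ → Γ / s(N)`. -/
abbrev q : T.Γ →* T.Q := QuotientGroup.mk' _

theorem q_surj : Surjective T.q := QuotientGroup.mk'_surjective _

theorem q_s (n : N) : T.q (T.s n) = 1 := (QuotientGroup.eq_one_iff _).2 ⟨n, rfl⟩

/-- The subgroup of `Q` corresponding to `U ≤ G`. -/
def up (U : Subgroup G) : Subgroup T.Q := (U.comap T.π).map T.q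

/-- The subgroup of `G` corresponding to `V ≤ Q`. -/
def down (V : Subgroup T.Q) : Subgroup G := (V.comap T.q).map T.π

theorem mem_up {U : Subgroup G} (hU : N ≤ U) {t : T.Γ} : T.q t ∈ T.up U ↔ T.π t ∈ U := by
  refine ⟨?_, fun h => ⟨t, h, rfl⟩⟩
  rintro ⟨t', h, h'⟩
  obtain ⟨n, hn⟩ := QuotientGroup.eq.1 h'
  have : t = t' * T.s n := by rw [hn]; group
  rw [this, map_mul, T.π_s]
  exact mul_mem h (hU n.2)

theorem mem_up_of {U : Subgroup G} {t : T.Γ} (h : T.π t ∈ U) : T.q t ∈ T.up U := ⟨t, h, rfl⟩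

theorem mem_down_of {V : Subgroup T.Q} {t : T.Γ} (h : T.q t ∈ V) : T.π t ∈ T.down V :=
  ⟨t, h, rfl⟩

theorem down_up {U : Subgroup G} (hU : N ≤ U) : T.down (T.up U) = U := by
  refine le_antisymm ?_ fun g hg => ?_
  · rintro _ ⟨t, h, rfl⟩
    exact (T.mem_up hU).1 h
  · obtain ⟨t, rfl⟩ := T.surj g
    exact T.mem_down_of (T.mem_up_of hg)

theorem le_down (V : Subgroup T.Q) : N ≤ T.down V := fun n hn =>
  ⟨T.s ⟨n, hn⟩, by
    rw [SetLike.mem_coe, Subgroup.mem_comap, T.q_s]; exact one_mem _, T.π_s _⟩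

theorem up_mono {U U' : Subgroup G} (h : U ≤ U') : T.up U ≤ T.up U' :=
  Subgroup.map_mono (Subgroup.comap_mono h)

theorem Z_le_up (U : Subgroup G) : T.Z ≤ T.up U :=
  Subgroup.map_mono fun z hz => by
    rw [Subgroup.mem_comap, MonoidHom.mem_ker.1 hz]; exact one_mem _

theorem up_self : T.up N = T.Z := by
  refine le_antisymm ?_ (T.Z_le_up N)
  rw [up, T.comap_eq, Subgroup.map_sup, sup_le_iff]
  refine ⟨?_, le_rfl⟩
  rintro _ ⟨_, ⟨n, rfl⟩, rfl⟩
  rw [T.q_s]; exact one_mem _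

theorem mem_Z {t : T.Γ} : T.q t ∈ T.Z ↔ T.π t ∈ N := by
  rw [← T.up_self, T.mem_up le_rfl]

theorem up_sup (U U' : Subgroup G) : T.up (U ⊔ U') = T.up U ⊔ T.up U' := by
  rw [up, ← Subgroup.comap_sup_eq T.π U U' T.surj, Subgroup.map_sup]; rfl

theorem up_top : T.up ⊤ = ⊤ := by
  rw [up, Subgroup.comap_top, Subgroup.map_top_of_surjective _ T.q_surj]

theorem up_inf {U U' : Subgroup G} (hU : N ≤ U) (hU' : N ≤ U') :
    T.up (U ⊓ U') = T.up U ⊓ T.up U' := by
  ext x
  obtain ⟨t, rfl⟩ := T.q_surj x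
  rw [Subgroup.mem_inf, T.mem_up hU, T.mem_up hU', T.mem_up (le_inf hU hU'), Subgroup.mem_inf]

theorem down_sup_Z (V : Subgroup T.Q) : T.down (V ⊔ T.Z) = T.down V := by
  rw [down, ← Subgroup.comap_sup_eq T.q V T.Z T.q_surj, Subgroup.map_sup, ← T.up_self, ← down,
    ← down, T.down_up le_rfl, sup_eq_left.2 (T.le_down V)]

theorem up_down (V : Subgroup T.Q) : T.up (T.down V) = V ⊔ T.Z := by
  rw [up, down, Subgroup.comap_map_eq, Subgroup.map_sup,
    Subgroup.map_comap_eq_self_of_surjective T.q_surj]; rfl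

instance up_normal (U : Subgroup G) [U.Normal] : (T.up U).Normal :=
  Subgroup.Normal.map inferInstance _ T.q_surj

theorem index_up {U : Subgroup G} (hU : N ≤ U) : (T.up U).index = U.index := by
  rw [← Subgroup.index_comap_of_surjective _ T.q_surj,
    ← Subgroup.index_comap_of_surjective _ T.surj]
  congr 1
  ext t
  exact T.mem_up hU

theorem relIndex_up {U U' : Subgroup G} (hU : N ≤ U) (h : U ≤ U') :
    (T.up U).relIndex (T.up U') = U.relIndex U' := by
  have h1 := Subgroup.relIndex_mul_index (T.up_mono h)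
  rw [T.index_up hU, T.index_up (hU.trans h), ← Subgroup.relIndex_mul_index h] at h1
  exact mul_right_cancel₀ Subgroup.index_ne_zero_of_finite h1

theorem relIndex_Z_up {U : Subgroup G} (hU : N ≤ U) : T.Z.relIndex (T.up U) = N.relIndex U := by
  rw [← T.up_self, T.relIndex_up le_rfl hU]

theorem q_injOn_ker {z : T.Γ} (hz : z ∈ T.π.ker) (h : T.q z = 1) : z = 1 := by
  have : z ∈ T.s.range ⊓ T.π.ker := ⟨(QuotientGroup.eq_one_iff _).1 h, hz⟩
  rwa [T.range_inf_ker, Subgroup.mem_bot] at this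

/-- `ker π ≃ Z`. -/
noncomputable def kerEquiv : T.π.ker ≃* T.Z :=
  MulEquiv.ofBijective ((T.q.comp T.π.ker.subtype).codRestrict T.Z fun z => ⟨z, z.2, rfl⟩)
    ⟨(injective_iff_map_eq_one _).2 fun z h =>
      Subtype.ext (T.q_injOn_ker z.2 (congrArg Subtype.val h)),
    by rintro ⟨_, z, hz, rfl⟩; exact ⟨⟨z, hz⟩, rfl⟩⟩

theorem coe_kerEquiv (z : T.π.ker) : (T.kerEquiv z : T.Q) = T.q z := rfl

/-- The faithful linear character of `Z` corresponding to `θ`. -/
noncomputable def mu : T.Z →* ℂˣ := T.lam⁻¹.comp T.kerEquiv.symm.toMonoidHom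

theorem mu_kerEquiv (z : T.π.ker) : T.mu (T.kerEquiv z) = (T.lam z)⁻¹ := by
  simp [mu]

theorem mu_injective : Injective T.mu := fun a b h => by
  obtain ⟨a, rfl⟩ := T.kerEquiv.surjective a
  obtain ⟨b, rfl⟩ := T.kerEquiv.surjective b
  rw [T.mu_kerEquiv, T.mu_kerEquiv, inv_inj] at h
  rw [T.lam_inj h]

theorem card_Z : Nat.card T.Z = Nat.card T.π.ker := (Nat.card_congr T.kerEquiv.toEquiv).symm

/-- `β` on `V ≤ Q` corresponds to `χ` on `U ≤ G`. -/
def Cor {V : Subgroup T.Q} {U : Subgroup G} (β : V → ℂ) (χ : U → ℂ) : Prop :=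
  ∀ (t : T.Γ) (hV : T.q t ∈ V) (hU : T.π t ∈ U), χ ⟨_, hU⟩ = β ⟨_, hV⟩ * T.ext t

/-- `β` lies over `mu`. -/
def Over {V : Subgroup T.Q} (β : V → ℂ) : Prop :=
  ∀ (z : T.Z) (hz : (z : T.Q) ∈ V), β ⟨z, hz⟩ = T.mu z * β 1

variable {T}

theorem Cor.res {V V' : Subgroup T.Q} {U U' : Subgroup G} {β : V → ℂ} {χ : U → ℂ}
    (h : T.Cor β χ) (hV : V' ≤ V) (hU : U' ≤ U) :
    T.Cor (fun v : V' => β ⟨v, hV v.2⟩) (fun u : U' => χ ⟨u, hU u.2⟩) :=
  fun t h1 h2 => h t (hV h1) (hU h2)

theorem over_iff {V : Subgroup T.Q} [Fintype (T.Z ⊓ V : Subgroup T.Q)] {β : V → ℂ}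
    (hβ : IsIrrCharacter V β) : T.Over β ↔
      classInner (fun b : (T.Z ⊓ V : Subgroup T.Q) => β ⟨b, b.2.2⟩)
        (fun b => T.mu.comp (Subgroup.inclusion inf_le_left) b) ≠ 0 := by
  rw [over_central_iff inf_le_right
    (inf_le_left.trans (T.Z_le_center.trans (Subgroup.center_le_centralizer _))) hβ]
  exact ⟨fun h b => h ⟨b, b.2.1⟩ b.2.2, fun h z hz => h ⟨z, z.2, hz⟩⟩

theorem over_iff_of_le {V : Subgroup T.Q} [Fintype T.Z] (hV : T.Z ≤ V) {β : V → ℂ}
    (hβ : IsIrrCharacter V β) : T.Over β ↔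
      classInner (fun b : T.Z => β ⟨b, hV b.2⟩) (fun b => T.mu b) ≠ 0 := by
  rw [over_central_iff hV (T.Z_le_center.trans (Subgroup.center_le_centralizer _)) hβ]
  exact ⟨fun h b => h b _, fun h z _ => h z⟩

/-- The restricted projections from the preimage of `V`. -/
def qV (V : Subgroup T.Q) : V.comap T.q →* V := T.q.subgroupComap V

theorem qV_surj (V : Subgroup T.Q) : Surjective (qV V) :=
  T.q.subgroupComap_surjective_of_surjective V T.q_surj

/-- The restricted projections from the preimage of `V`. -/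
def πV {V : Subgroup T.Q} {U : Subgroup G} (h : T.down V = U) : V.comap T.q →* U :=
  (T.π.comp (V.comap T.q).subtype).codRestrict U fun t => h ▸ T.mem_down_of t.2

theorem πV_surj {V : Subgroup T.Q} {U : Subgroup G} (h : T.down V = U) : Surjective (πV h) := by
  subst h
  rintro ⟨_, t, ht, rfl⟩
  exact ⟨⟨t, ht⟩, rfl⟩

theorem range_le_comap (V : Subgroup T.Q) : T.s.range ≤ V.comap T.q := by
  rintro _ ⟨n, rfl⟩
  rw [Subgroup.mem_comap, T.q_s]; exact one_mem _

theorem isIrr_res_sub (hθ : IsIrrCharacter N θ) (V : Subgroup T.Q) :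
    IsIrrCharacter (T.s.range.subgroupOf (V.comap T.q))
      fun m => (fun t : V.comap T.q => T.ext t) m :=
  (isIrrCharacter_res_subgroupOf_iff (range_le_comap V)
    (ψ := fun t : V.comap T.q => T.ext t)).2 (T.isIrr_res hθ)

theorem qV_mul_of_mem {V : Subgroup T.Q} {m : V.comap T.q}
    (hm : m ∈ T.s.range.subgroupOf (V.comap T.q)) (t : V.comap T.q) : qV V (m * t) = qV V t := by
  obtain ⟨n, hn⟩ := hm
  have : qV V m = 1 := Subtype.ext (by
    change T.q m = 1
    rw [← T.q_s n, hn]; rfl)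
  rw [map_mul, this, one_mul]

/-- The correspondence is an isometry. -/
theorem Cor.classInner_eq (hθ : IsIrrCharacter N θ) {V : Subgroup T.Q} {U : Subgroup G}
    [Fintype V] [Fintype U] (hVU : T.down V = U) {β γ : V → ℂ} {χ ψ : U → ℂ}
    (h1 : T.Cor β χ) (h2 : T.Cor γ ψ) : classInner χ ψ = classInner β γ := by
  have := Fintype.ofFinite (V.comap T.q)
  rw [← classInner_comp_surjective _ (πV_surj hVU), ← classInner_comp_surjective _ (qV_surj V),
    ← classInner_mul_ext (T.isChar.restrict (V.comap T.q)) (isIrr_res_sub hθ V)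
      (β := fun t => β (qV V t)) (γ := fun t => γ (qV V t))
      (fun m hm t => by rw [qV_mul_of_mem hm]) (fun m hm t => by rw [qV_mul_of_mem hm])]
  congr 1
  · exact funext fun t => h1 t t.2 _
  · exact funext fun t => h2 t t.2 _

theorem Cor.eq_right {V : Subgroup T.Q} {U : Subgroup G} (hVU : T.down V = U) {β : V → ℂ}
    {χ ψ : U → ℂ} (h1 : T.Cor β χ) (h2 : T.Cor β ψ) : χ = ψ := by
  funext u
  obtain ⟨t, rfl⟩ := πV_surj hVU u
  exact (h1 t t.2 _).trans (h2 t t.2 _).symm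

theorem Cor.eq_left (hθ : IsIrrCharacter N θ) {V : Subgroup T.Q} {U : Subgroup G}
    (hVU : T.down V = U) {β γ : V → ℂ} {χ : U → ℂ} (h1 : T.Cor β χ) (h2 : T.Cor γ χ) :
    β = γ := by
  have := Fintype.ofFinite V
  have := Fintype.ofFinite U
  have h3 : T.Cor (β - γ) (0 : U → ℂ) := fun t hV hU => by
    rw [Pi.sub_apply, sub_mul, ← h1 t hV hU, ← h2 t hV hU, sub_self]; rfl
  have h4 := Cor.classInner_eq hθ hVU h3 h3
  rw [classInner_self_eq_zero.2 rfl, eq_comm, classInner_self_eq_zero] at h4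
  exact sub_eq_zero.1 h4

/-- From `Q` to `G`. -/
theorem exists_cor_down [Fintype N] (hθ : IsIrrCharacter N θ) {V : Subgroup T.Q}
    {U : Subgroup G} (hVU : T.down V = U) (hU : N ≤ U) {β : V → ℂ} (hβ : IsIrrCharacter V β)
    (h : T.Over β) : ∃ χ : U → ℂ, IsIrrCharacter U χ ∧ T.Cor β χ ∧
      classInner (fun n : N => χ ⟨n, hU n.2⟩) θ ≠ 0 := by
  have hβ' := hβ.comp_surjective _ (qV_surj V)
  have h1 := gallagher_mul_irr (T.isChar.restrict (V.comap T.q)) (isIrr_res_sub hθ V) hβ'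
    (fun m hm => by
      rw [hβ'.isCharacter.mem_charKer, ← mul_one m, qV_mul_of_mem hm])
  have h2 : (πV hVU).ker ≤ charKer ((fun t => β (qV V t)) * fun t : V.comap T.q => T.ext t) :=
    fun z hz => by
    have hz' : (z : T.Γ) ∈ T.π.ker := congrArg Subtype.val hz
    rw [h1.isCharacter.mem_charKer]
    have h3 := T.ext_mul ⟨z, hz'⟩ 1
    rw [mul_one] at h3
    have h4 := h (T.kerEquiv ⟨z, hz'⟩) z.2
    rw [T.mu_kerEquiv] at h4
    simp only [Pi.mul_apply, map_one]
    rw [show qV V z = ⟨T.kerEquiv ⟨z, hz'⟩, z.2⟩ from rfl, h4, h3]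
    simp only [Units.val_inv_eq_inv_val, OneMemClass.coe_one]
    field_simp
  have h3 : T.Cor β (deflate (πV hVU)
      ((fun t => β (qV V t)) * fun t : V.comap T.q => T.ext t)) :=
    fun t hV _ => deflate_apply h2 ⟨t, hV⟩
  refine ⟨_, h1.deflate (πV_surj hVU) h2, h3, ?_⟩
  have h4 : (fun n : N => deflate (πV hVU)
      ((fun t => β (qV V t)) * fun t : V.comap T.q => T.ext t) ⟨n, hU n.2⟩) = β 1 • θ := by
    funext n
    have h5 := h3 (T.s n) (by rw [T.q_s]; exact one_mem _) (by rw [T.π_s]; exact hU n.2)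
    simp only [T.π_s, T.q_s, T.ext_s] at h5
    exact h5
  rw [h4, classInner_smul_left, hθ.classInner_self, mul_one]
  exact hβ.apply_one_ne_zero

/-- From `G` to `Q`. -/
theorem exists_cor_up [Fintype N] (hθ : IsIrrCharacter N θ) {V : Subgroup T.Q}
    {U : Subgroup G} (hVU : T.down V = U) (hU : N ≤ U) {χ : U → ℂ} (hχ : IsIrrCharacter U χ)
    (h : classInner (fun n : N => χ ⟨n, hU n.2⟩) θ ≠ 0) :
    ∃ β : V → ℂ, IsIrrCharacter V β ∧ T.Cor β χ ∧ T.Over β := by
  have := Fintype.ofFinite (T.s.range.subgroupOf (V.comap T.q))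
  have := Fintype.ofFinite T.s.range
  obtain ⟨β, h1, h2, h3⟩ := gallagher_surj (T.isChar.restrict (V.comap T.q))
    (isIrr_res_sub hθ V) (hχ.comp_surjective _ (πV_surj hVU)) (by
      rw [← classInner_comp_mulEquiv ((MonoidHom.ofInjective T.s_injective).trans
        (Subgroup.subgroupOfEquivOfLe (range_le_comap V)).symm)]
      convert h using 2 with n n
      · exact funext fun n => congrArg χ (Subtype.ext (T.π_s n))
      · exact funext T.ext_s)
  have h4 : (qV V).ker ≤ charKer β := fun m hm => h2 (by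
    have : T.q m = 1 := congrArg Subtype.val hm
    exact (QuotientGroup.eq_one_iff (m : T.Γ)).1 this)
  have h5 : T.Cor (deflate (qV V) β) χ := fun t hV _ =>
    (congrFun h3 ⟨t, hV⟩).trans (congrArg (· * T.ext t) (deflate_apply h4 ⟨t, hV⟩).symm)
  refine ⟨_, h1.deflate (qV_surj V) h4, h5, fun z hz => ?_⟩
  obtain ⟨z, rfl⟩ := T.kerEquiv.surjective z
  have h6 := h5 z hz (by rw [z.2]; exact one_mem _)
  have h7 := h5 1 (by rw [map_one]; exact one_mem _) (by rw [map_one]; exact one_mem _)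
  have h8 := T.ext_mul z 1
  simp only [MonoidHom.mem_ker.1 z.2, map_one, mul_one] at h6 h7 h8
  rw [h7, h8] at h6
  rw [T.mu_kerEquiv]
  apply mul_right_cancel₀ (mul_ne_zero (T.lam z).ne_zero (T.isIrr_ext hθ).apply_one_ne_zero)
  refine h6.symm.trans ?_
  simp only [Units.val_inv_eq_inv_val]
  field_simp
  exact mul_comm _ _

/-- Invariance passes from `Q` to `G`. -/
theorem Cor.inv_down {V : Subgroup T.Q} {U : Subgroup G} (hVU : T.down V = U) {β : V → ℂ}
    {χ : U → ℂ} (h : T.Cor β χ) {R : Subgroup T.Q} (hR : R ≤ Subgroup.normalizer (V : Set T.Q))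
    (hβ : Inv R β) : Inv (T.down R) χ := by
  rintro _ ⟨x, hx, rfl⟩ g g' hg
  obtain ⟨t, rfl⟩ := πV_surj hVU g
  have h1 : T.q (x * t * x⁻¹) ∈ V := by
    rw [map_mul, map_mul, map_inv]
    exact (Subgroup.mem_set_normalizer_iff.1 (hR hx) _).1 t.2
  have h2 : g' = ⟨T.π (x * t * x⁻¹), hVU ▸ T.mem_down_of h1⟩ :=
    Subtype.ext (hg.trans (by simp only [map_mul, map_inv]; rfl))
  rw [h2, h _ h1, T.isChar.isClassFunction, hβ _ hx ⟨_, t.2⟩ ⟨_, h1⟩ (by simp)]
  exact (h t t.2 _).symm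

/-- Invariance passes from `G` to `Q`. -/
theorem Cor.inv_up (hθ : IsIrrCharacter N θ) {V : Subgroup T.Q} {U : Subgroup G}
    (hVU : T.down V = U) {β : V → ℂ} {χ : U → ℂ} (h : T.Cor β χ) {R : Subgroup T.Q}
    (hR : R ≤ Subgroup.normalizer (V : Set T.Q)) (hχ : Inv (T.down R) χ) : Inv R β := by
  intro y hy
  obtain ⟨x, rfl⟩ := T.q_surj y
  have h1 : T.Cor (fun v => β (cj (hR hy) v)) χ := fun t hV hU => by
    have h2 : T.q (x * t * x⁻¹) ∈ V := by
      rw [map_mul, map_mul, map_inv]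
      exact (Subgroup.mem_set_normalizer_iff.1 (hR hy) _).1 hV
    rw [← hχ _ (T.mem_down_of hy) ⟨_, hU⟩ ⟨_, hVU ▸ T.mem_down_of h2⟩ (by simp), h _ h2,
      T.isChar.isClassFunction]
    congr 2
  intro g g' hg
  rw [← congrFun (Cor.eq_left hθ hVU h1 h) g]
  exact congrArg β (Subtype.ext hg)

end TripleCover

end Cfsg.Agent.Ch
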