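import Mathlib
import Cfsg.Agent.Ch.Table
import Cfsg.Agent.Ch.Galois
import Cfsg.Agent.Ch.Extension
import Cfsg.Agent.Ch.BrauerPerm
import Cfsg.Agent.Ch.Clifford
import Cfsg.Agent.GT.PPrimeCore

/-!
# Thompson's theorem on character degrees divisible by `p`
-/

set_option autoImplicit false

namespace Cfsg.Agent.Ch

open Cfsg
open scoped ComplexConjugate

variable {G : Type*} [Group G]

/-- Summing a conjugation invariant function over a conjugation invariant set of irreducible
characters of a normal subgroup: if `d` divides the length of every orbit times the value then it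
divides the sum. -/
theorem degT_dvd_sum_of_orbits [Finite G] {N : Subgroup G} [N.Normal] (S : Finset (IrrCharacter N))
    (hS : ∀ θ ∈ S, ∀ (g : G) (ψ : IrrCharacter N), (ψ : N → ℂ) = conjChar g θ → ψ ∈ S)
    (F : (N → ℂ) → ℕ) (hF : ∀ (θ : N → ℂ) (g : G), F (conjChar g θ) = F θ) {d : ℕ}
    (hd : ∀ θ ∈ S, d ∣ (inertia N (θ : N → ℂ)).index * F θ) :
    d ∣ ∑ θ ∈ S, F θ := by
  classical
  have := Fintype.ofFinite G
  rw [← Finset.sum_fiberwise_of_maps_to (g := fun θ : IrrCharacter N => conjugates (θ : N → ℂ))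
    (t := S.image fun θ : IrrCharacter N => conjugates (θ : N → ℂ))
    (fun θ hθ => Finset.mem_image_of_mem _ hθ)]
  refine Finset.dvd_sum fun O hO => ?_
  obtain ⟨θ, hθ, rfl⟩ := Finset.mem_image.1 hO
  have : ∑ ψ ∈ S.filter (fun ψ : IrrCharacter N => conjugates ψ.1 = conjugates θ.1), F ψ.1 =
      ∑ ψ ∈ conjugates (θ : N → ℂ), F θ := by
    refine Finset.sum_bij (fun ψ _ => (ψ : N → ℂ)) (fun ψ hψ => ?_) (fun _ _ _ _ h => Subtype.ext h)
      (fun ψ hψ => ?_) (fun ψ hψ => ?_)
    · rw [← (Finset.mem_filter.1 hψ).2]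
      exact self_mem_conjugates _
    · refine ⟨⟨ψ, isIrrCharacter_of_mem_conjugates θ.2 hψ⟩, Finset.mem_filter.2 ⟨?_, ?_⟩, rfl⟩
      · obtain ⟨g, hg⟩ := mem_conjugates.1 hψ
        exact hS θ hθ g _ hg
      · exact conjugates_eq_of_mem hψ
    · have : (ψ : N → ℂ) ∈ conjugates (θ : N → ℂ) := by
        rw [← (Finset.mem_filter.1 hψ).2]
        exact self_mem_conjugates _
      obtain ⟨g, hg⟩ := mem_conjugates.1 this
      rw [hg, hF]
  rw [this, Finset.sum_const, card_conjugates, smul_eq_mul]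
  exact hd θ hθ

/-- A group without nontrivial `p`-quotient has only linear characters of order prime to `p`. -/
theorem degT_not_dvd_orderOf_hom [Finite G] {p : ℕ} (hp : p.Prime) (h : pResidual p G = ⊤)
    (f : G →* ℂˣ) : ¬ p ∣ orderOf f := by
  rintro ⟨m, hm⟩
  have hm0 : orderOf f ≠ 0 := (isOfFinOrder_iff_pow_eq_one.2
    ⟨_, Nat.card_pos, hom_pow_card_eq_one f⟩).orderOf_pos.ne'
  have h1 : (f ^ m).ker = ⊤ := by
    refine GT.pResidual_eq_top_iff.1 h _ fun x => ⟨1, ?_⟩
    obtain ⟨x, rfl⟩ := QuotientGroup.mk_surjective x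
    rw [pow_one, ← QuotientGroup.mk_pow, QuotientGroup.eq_one_iff, MonoidHom.mem_ker, map_pow,
      ← MonoidHom.pow_apply, ← pow_mul, mul_comm, ← hm, pow_orderOf_eq_one, MonoidHom.one_apply]
  have h2 : f ^ m = 1 := MonoidHom.ext fun x => by
    have : x ∈ (f ^ m).ker := h1 ▸ Subgroup.mem_top x
    exact this
  have h4 : 0 < m := Nat.pos_of_ne_zero (by rintro rfl; simp [hm] at hm0)
  have h3 := Nat.le_of_dvd h4 (orderOf_dvd_of_pow_eq_one (x := f) h2)
  have := hp.two_le
  nlinarith

theorem degT_not_dvd_card_hom [Finite G] {p : ℕ} (hp : p.Prime) (h : pResidual p G = ⊤)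
    (L : Subgroup (G →* ℂˣ)) : ¬ p ∣ Nat.card L := fun hd => by
  have := Fact.mk hp
  obtain ⟨f, hf⟩ := exists_prime_orderOf_dvd_card' p hd
  exact degT_not_dvd_orderOf_hom hp h (f : G →* ℂˣ) (by rw [Subgroup.orderOf_coe, hf])

/-- The order of `O^p(G)` is congruent modulo `p` to the sum of the squares of the degrees of the
invariant irreducible characters of degree prime to `p`. -/
theorem degT_thompson [Finite G] {p : ℕ} (hp : p.Prime)
    (hdeg : ∀ χ : G → ℂ, IsIrrCharacter G χ → charDegree χ ≠ 1 → p ∣ charDegree χ) :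
    ¬ p ∣ Nat.card (pResidual p G) := by
  classical
  set N := pResidual p G with hN
  obtain ⟨k, hk⟩ : ∃ k, N.index = p ^ k := GT.exists_index_pResidual hp
  have hNN : pResidual p N = ⊤ := GT.pResidual_pResidual
  -- the invariant linear characters
  let L : Subgroup (N →* ℂˣ) :=
    { carrier := {f | ∀ g : G, conjChar g (fun n => (f n : ℂ)) = fun n => (f n : ℂ)}
      one_mem' := fun g => rfl
      mul_mem' := fun {a b} ha hb g => funext fun n => by
        have h1 := congrFun (ha g) n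
        have h2 := congrFun (hb g) n
        simp only [conjChar_apply, MonoidHom.mul_apply, Units.val_mul] at h1 h2 ⊢
        rw [h1, h2]
      inv_mem' := fun {a} ha g => funext fun n => by
        have h1 := congrFun (ha g) n
        simp only [conjChar_apply, MonoidHom.inv_apply, Units.val_inv_eq_inv_val] at h1 ⊢
        rw [h1] }
  let P : IrrCharacter N → Prop := fun θ =>
    (∀ g : G, conjChar g (θ : N → ℂ) = θ) ∧ ¬ p ∣ charDegree (θ : N → ℂ)
  have hlin : ∀ θ, P θ → (θ : N → ℂ) 1 = 1 := by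
    rintro θ ⟨h1, h2⟩
    obtain ⟨f, hf⟩ := θ.isCharacter.exists_detHom
    obtain ⟨χ, hχ, he⟩ := extends_of_coprime θ.2 (invariant_iff_conjChar.2 h1) (by
      rw [hk, θ.isCharacter.detOrder_eq hf]
      refine Nat.Coprime.pow_left _ ((Nat.Prime.coprime_iff_not_dvd hp).2 fun h => ?_)
      exact ((Nat.Prime.dvd_mul hp).1 h).elim (degT_not_dvd_orderOf_hom hp hNN f) h2)
    rw [← θ.isCharacter.charDegree_eq_one_iff, ← charDegree_of_extends he]
    by_contra h3
    exact h2 (charDegree_of_extends he ▸ hdeg χ hχ h3)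
  have h1 : ∑ θ : IrrCharacter N with P θ, charDegree (θ : N → ℂ) ^ 2 = Nat.card L := by
    rw [Finset.sum_congr rfl (g := fun _ => 1) (fun θ hθ => by
      rw [θ.isCharacter.charDegree_eq_one_iff.2 (hlin θ (Finset.mem_filter.1 hθ).2), one_pow]),
      Finset.sum_const, smul_eq_mul, mul_one, ← Nat.card_eq_finsetCard]
    symm
    refine Nat.card_eq_of_bijective (fun f => ⟨linIrr f.1, Finset.mem_filter.2
      ⟨Finset.mem_univ _, f.2, ?_⟩⟩) ⟨fun a b hab => Subtype.ext (linIrr_injective
        (congrArg Subtype.val hab)), fun ⟨θ, hθ⟩ => ?_⟩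
    · rw [(linIrr f.1).isCharacter.charDegree_eq_one_iff.2 (by simp)]
      exact hp.not_dvd_one
    · have h := (Finset.mem_filter.1 hθ).2
      obtain ⟨f, rfl⟩ := mem_range_linIrr_iff.2 (hlin θ h)
      exact ⟨⟨f, h.1⟩, rfl⟩
  have h2 : p ∣ ∑ θ : IrrCharacter N with ¬ P θ, charDegree (θ : N → ℂ) ^ 2 := by
    refine degT_dvd_sum_of_orbits _ (fun θ hθ g ψ hψ => ?_)
      (fun θ => charDegree θ ^ 2) (fun θ g => by
        rw [charDegree_congr (conjChar_apply_one g θ)]) fun θ hθ => ?_
    · rw [Finset.mem_filter] at hθ ⊢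
      refine ⟨Finset.mem_univ _, fun h => hθ.2 ?_⟩
      have : ψ = θ := Subtype.ext (by
        have := h.1 g⁻¹
        rw [hψ, conjChar_inv_conjChar] at this
        exact hψ.trans this.symm)
      exact this ▸ h
    · have h : ¬ P θ := (Finset.mem_filter.1 hθ).2
      by_cases hd : p ∣ charDegree (θ : N → ℂ)
      · exact (hd.trans (dvd_pow_self _ two_ne_zero)).mul_left _
      · have h3 : inertia N (θ : N → ℂ) ≠ ⊤ := fun h3 => h ⟨inertia_eq_top_iff.1 h3, hd⟩
        have h4 := Subgroup.index_dvd_of_le (le_inertia θ.isClassFunction)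
        rw [hk] at h4
        obtain ⟨j, -, hj⟩ := (Nat.dvd_prime_pow hp).1 h4
        rcases j with _ | j
        · exact absurd (Subgroup.index_eq_one.1 hj) h3
        · exact (hj ▸ dvd_pow_self p j.succ_ne_zero).mul_right _
  intro hd
  rw [← sum_sq_charDegree, ← Finset.sum_filter_add_sum_filter_not _ P, h1] at hd
  exact degT_not_dvd_card_hom hp hNN L ((Nat.dvd_add_left h2).1 hd)

/-- Thompson: if `p` divides every nonlinear irreducible character degree then there is a normal
`p`-complement. -/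
theorem degT_exists_normal_complement [Finite G] {p : ℕ} (hp : p.Prime)
    (hdeg : ∀ χ : G → ℂ, IsIrrCharacter G χ → charDegree χ ≠ 1 → p ∣ charDegree χ) :
    ∃ N : Subgroup G, N.Normal ∧ (Nat.card N).Coprime p ∧ ∃ k : ℕ, N.index = p ^ k :=
  ⟨pResidual p G, inferInstance,
    ((Nat.Prime.coprime_iff_not_dvd hp).2 (degT_thompson hp hdeg)).symm,
    GT.exists_index_pResidual hp⟩

/-- A normal subgroup whose order is prime to all irreducible character degrees is abelian. -/
theorem degT_comm_of_coprime [Finite G] (N : Subgroup G) [N.Normal]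
    (h : ∀ χ : G → ℂ, IsIrrCharacter G χ → (charDegree χ).Coprime (Nat.card N)) :
    ∀ a ∈ N, ∀ b ∈ N, a * b = b * a := by
  have := Fintype.ofFinite G
  have := Fintype.ofFinite N
  have H : ∀ a b : N, a * b = b * a := comm_iff_forall_irr_linear.2 fun θ => by
    obtain ⟨χ, hχ, hne⟩ := exists_irr_over N θ.2
    rw [← θ.isCharacter.charDegree_eq_one_iff]
    exact Nat.eq_one_of_dvd_coprimes (h χ hχ) (charDegree_dvd_of_under hχ θ.2 hne)
      θ.2.charDegree_dvd_card
  exact fun a ha b hb => congrArg Subtype.val (H ⟨a, ha⟩ ⟨b, hb⟩)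

end Cfsg.Agent.Ch
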