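import Mathlib
import Cfsg.Agent.Ch.TripleRel
import Cfsg.Agent.Ch.RelativeM
import Cfsg.Agent.GT.CoprimeFixed

/-!
# Berger's theorem: quasiprimitive characters of solvable groups are primitive
-/

set_option autoImplicit false
set_option linter.style.haveILetI false
set_option linter.unusedSectionVars false

namespace Cfsg.Agent.Ch

open Function Cfsg _root_.Cfsg.Agent.GT
open scoped commutatorElement

theorem isIrr_of_additive {G K : Type*} [Group G] [Finite G] [Group K] [Finite K]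
    (F : (G → ℂ) → K → ℂ) (h1 : ∀ φ ψ, F (φ + ψ) = F φ + F ψ)
    (h2 : ∀ φ, IsCharacter G φ → IsCharacter K (F φ))
    (h3 : ∀ φ, IsCharacter G φ → F φ = 0 → φ = 0) {χ : G → ℂ} (hχ : IsCharacter G χ)
    (h : IsIrrCharacter K (F χ)) : IsIrrCharacter G χ := by
  have := Fintype.ofFinite G
  have h0 : χ ≠ 0 := by
    rintro rfl
    have := h1 0 0
    rw [add_zero, left_eq_add] at this
    exact h.ne_zero this
  obtain ⟨φ, hφ, h4⟩ := hχ.exists_irr_constituent h0
  obtain ⟨ψ, hψ, rfl⟩ := hχ.exists_eq_irr_add hφ h4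
  rw [h1] at h
  rcases h.eq_zero_or_eq_zero_of_add (h2 _ hφ.isCharacter) (h2 _ hψ) with h5 | h5
  · exact absurd (h3 _ hφ.isCharacter h5) hφ.ne_zero
  · rwa [h3 _ hψ h5, add_zero]

theorem isIrr_of_comp_irr {G K : Type*} [Group G] [Finite G] [Group K] [Finite K] (f : K →* G)
    {χ : G → ℂ} (hχ : IsCharacter G χ) (h : IsIrrCharacter K fun k => χ (f k)) :
    IsIrrCharacter G χ :=
  isIrr_of_additive (fun φ k => φ (f k)) (fun _ _ => rfl) (fun _ h => h.comp f)
    (fun _ hφ h => hφ.eq_zero_of_apply_one (by simpa using congrFun h 1)) hχ h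

theorem isIrr_of_mul_irr {G : Type*} [Group G] [Finite G] {χ β : G → ℂ} (hχ : IsCharacter G χ)
    (hβ : IsCharacter G β) (h : IsIrrCharacter G fun g => χ g * β g) : IsIrrCharacter G χ :=
  isIrr_of_additive (fun φ g => φ g * β g) (fun _ _ => funext fun _ => add_mul _ _ _)
    (fun _ h => h.mul hβ) (fun _ hφ h' => hφ.eq_zero_of_apply_one
      ((mul_eq_zero.1 (congrFun h' 1)).resolve_right
        (right_ne_zero_of_mul h.apply_one_ne_zero))) hχ h

theorem isIrr_of_indFun_irr {G : Type*} [Group G] [Fintype G] {H : Subgroup G} {ψ : H → ℂ}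
    (hψ : IsCharacter H ψ) (h : IsIrrCharacter G (indFun H ψ)) : IsIrrCharacter H ψ :=
  isIrr_of_additive (indFun H) (indFun_add H) (fun _ h => isCharacter_indFun H h)
    (fun _ hφ h' => hφ.eq_zero_of_apply_one (by_contra fun h'' => indFun_ne_zero H h'' h')) hψ h

variable {G : Type*} [Group G]

theorem exists_pow_relIndex_of_chief [Finite G] {K L : Subgroup G} [L.Normal]
    (h : IsChiefFactor K L) (hs : Group.IsSolvable (G ⧸ L)) :
    ∃ p k : ℕ, p.Prime ∧ L.relIndex K = p ^ k := by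
  obtain ⟨p, hp, h1, -⟩ := h.isMinNormal_map.exists_isPGroup
  have := Fact.mk hp
  obtain ⟨k, hk⟩ := IsPGroup.iff_card.1 h1
  exact ⟨p, k, hp, by rw [← hk, card_map_mk'_eq_relIndex]⟩

/-- The structure of a solvable group modulo the core of a maximal subgroup. -/
theorem exists_chief_of_coatom [Finite G] {H : Subgroup G} (hH : IsCoatom H)
    (hs : Group.IsSolvable (G ⧸ H.normalCore)) :
    ∃ K : Subgroup G, K.Normal ∧ H.normalCore ≤ K ∧ K ⊓ H ≤ H.normalCore ∧ H ⊔ K = ⊤ ∧
      (K = ⊤ ∨ ∃ M : Subgroup G, M.Normal ∧ K < M ∧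
        (K.relIndex M).Coprime (H.normalCore.relIndex K)) := by
  have hL : H.normalCore ≤ H := H.normalCore_le
  obtain ⟨K, hK, -⟩ := exists_isChiefFactor_above (W := H.normalCore) (U := ⊤)
    (lt_of_le_of_lt hL hH.lt_top)
  have hKn := hK.2.1
  have h1 : H ⊔ K = ⊤ := hH.2 _ (left_lt_sup.2 fun h =>
    hK.1.not_ge (Subgroup.normal_le_normalCore.2 h))
  have h2 : ∀ M : Subgroup G, M.Normal → H.normalCore ≤ M → ⁅M, K⁆ ≤ H.normalCore →
      M ⊓ H ≤ H.normalCore := fun M hM h3 h4 => by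
    have : (M ⊓ H).Normal := normal_of_top_le_normalizer (h1.ge.trans (sup_le
      (CopAct.le_normalizer_inf Subgroup.le_normalizer_of_normal Subgroup.le_normalizer)
      (Subgroup.le_normalizer_iff.2 fun k hk x hx => ?_)))
    · exact Subgroup.normal_le_normalCore.2 inf_le_right
    · have := mul_mem (inv_mem (le_inf h3 hL
        (h4 (Subgroup.commutator_mem_commutator hx.1 hk)))) hx
      simpa [commutatorElement_def, mul_assoc] using this
  refine ⟨K, hKn, hK.1.le, h2 K hKn hK.1.le (commutator_le_of_chief hK hs), h1, ?_⟩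
  rcases eq_or_ne K ⊤ with h3 | h3
  · exact Or.inl h3
  obtain ⟨M, hM, -⟩ := exists_isChiefFactor_above (W := K) (U := ⊤) h3.lt_top
  have hMn := hM.2.1
  refine Or.inr ⟨M, hMn, hM.1, ?_⟩
  obtain ⟨p, a, hp, ha⟩ := exists_pow_relIndex_of_chief hK hs
  obtain ⟨q, b, hq, hb⟩ := exists_pow_relIndex_of_chief hM (isSolvable_quotient_of_le hK.1.le hs)
  rw [ha, hb]
  refine Nat.Coprime.pow _ _ ((Nat.coprime_primes hq hp).2 ?_)
  rintro rfl
  have := Fact.mk hq
  have h4 : IsPGroup q (M.map (QuotientGroup.mk' H.normalCore)) := IsPGroup.iff_card.2 ⟨a + b, by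
    rw [card_map_mk'_eq_relIndex, ← Subgroup.relIndex_mul_relIndex _ K M hK.1.le hM.1.le, ha, hb,
      pow_add]⟩
  have := h4.isNilpotent
  have h5 := hK.isMinNormal_map.le_centralizer_of_isNilpotent
    (M.map (QuotientGroup.mk' H.normalCore))
  rw [← Subgroup.commutator_eq_bot_iff_le_centralizer, ← Subgroup.map_commutator,
    Subgroup.map_eq_bot_iff, QuotientGroup.ker_mk'] at h5
  have h6 := h2 M hMn (hK.1.le.trans hM.1.le) h5
  refine hM.1.not_ge fun m hm => ?_
  obtain ⟨h, hh, k, hk, rfl⟩ := Subgroup.mem_sup_of_normal_right.1 (h1.ge (Subgroup.mem_top m))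
  refine mul_mem (hK.1.le (h6 ⟨?_, hh⟩)) hk
  simpa using mul_mem hm (inv_mem (hM.1.le hk))

theorem classInner_res_indFun_of_homogeneous [Fintype G] {H M : Subgroup G} [M.Normal]
    [Fintype (H.subgroupOf M)] (h : H ⊔ M = ⊤) {ϑ : H → ℂ} (hϑ : IsClassFunction H ϑ)
    {η : M → ℂ} (hη : IsIrrCharacter M η) {f : ℕ}
    (hf : (fun m : M => indFun H ϑ m) = (f : ℂ) • η) :
    classInner (fun x : H.subgroupOf M => indFun H ϑ (x : M)) (fun x => ϑ ⟨(x : M), x.2⟩) =
      (f ^ 2 : ℕ) := by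
  have := Fintype.ofFinite M
  have h1 := classInner_indFun_right (H.subgroupOf M) (fun x => ϑ ⟨(x : M), x.2⟩)
    ((indFun_isClassFunction H ϑ).restrict M)
  rw [← h1, ← mackey_of_sup_eq_top H M h hϑ, hf, classInner_smul_left, classInner_smul_right,
    hη.classInner_self]
  simp [sq]

/-- Isaacs, Lemma 11.32. -/
theorem exists_not_homogeneous [Fintype G] {L H : Subgroup G} [L.Normal] (hLH : L ≤ H)
    (hmax : IsCoatom H) (hsolv : Group.IsSolvable (G ⧸ L)) {ϑ : H → ℂ} (hϑ : IsCharacter H ϑ)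
    (hϑL : IsIrrCharacter L fun x : L => ϑ ⟨x, hLH x.2⟩) (hind : IsIrrCharacter G (indFun H ϑ)) :
    ∃ M : Subgroup G, M.Normal ∧ L ≤ M ∧ ¬∃ (φ : M → ℂ) (e : ℕ), IsIrrCharacter M φ ∧
      (fun m : M => indFun H ϑ m) = (e : ℂ) • φ := by
  by_contra hc
  push Not at hc
  have hL0 : L ≤ H.normalCore := Subgroup.normal_le_normalCore.2 hLH
  obtain ⟨K, hK, h1, h2, h3, h4⟩ := exists_chief_of_coatom hmax
    (isSolvable_quotient_of_le hL0 hsolv)
  have hirr : ∀ M : Subgroup G, L ≤ M →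
      IsIrrCharacter (H.subgroupOf M) fun x => ϑ ⟨(x : M), x.2⟩ := fun M hM =>
    isIrr_of_comp_irr ((Subgroup.inclusion hM).codRestrict (H.subgroupOf M) fun x => hLH x.2)
      (hϑ.comp ((M.subtype.comp (H.subgroupOf M).subtype).codRestrict H fun x => x.2)) hϑL
  have hirr0 : IsIrrCharacter H.normalCore fun x => ϑ ⟨x, H.normalCore_le x.2⟩ :=
    isIrr_of_comp_irr (Subgroup.inclusion hL0) (isCharacter_res_of_le H.normalCore_le hϑ) hϑL
  have hϑ1 : ϑ 1 ≠ 0 := hϑL.apply_one_ne_zero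
  have := Fintype.ofFinite H
  have := Fintype.ofFinite H.normalCore
  have h5 : ∀ x (hx : x ∈ H.normalCore), indFun H ϑ x = H.index * ϑ ⟨x, H.normalCore_le hx⟩ := by
    obtain ⟨φ, e, hφ, he⟩ := hc _ inferInstance hL0
    have h6 : classInner (fun x : H.normalCore => indFun H ϑ x)
        (fun x => ϑ ⟨x, H.normalCore_le x.2⟩) ≠ 0 := by
      refine classInner_comp_ne_zero_of_constituent (Subgroup.inclusion H.normalCore_le)
        (hind.isCharacter.restrict H) (isIrr_of_indFun_irr hϑ hind) ?_ hirr0.isCharacter ?_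
      · rw [← classInner_indFun_right H ϑ hind.isClassFunction, hind.classInner_self]
        exact one_ne_zero
      · exact hirr0.classInner_self.trans_ne one_ne_zero
    rw [he, classInner_smul_left] at h6
    obtain rfl := hφ.eq_of_classInner_ne_zero hirr0 (right_ne_zero_of_mul h6)
    have h7 := congrFun he 1
    simp only [OneMemClass.coe_one, indFun_one, Pi.smul_apply, smul_eq_mul] at h7
    intro x hx
    rw [mul_right_cancel₀ hϑ1 h7]
    exact congrFun he ⟨x, hx⟩
  obtain ⟨ξ, a, hξ, ha⟩ := hc K hK (hL0.trans h1)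
  have h6 : H.index = a ^ 2 := by
    have := Fintype.ofFinite (H.subgroupOf K)
    have h7 := classInner_res_indFun_of_homogeneous h3 hϑ.isClassFunction hξ ha
    rw [show (fun x : H.subgroupOf K => indFun H ϑ (x : K)) =
      (H.index : ℂ) • fun x : H.subgroupOf K => ϑ ⟨(x : K), x.2⟩ from
      funext fun x => h5 _ (h2 ⟨x.1.2, x.2⟩),
      classInner_smul_left, (hirr K (hL0.trans h1)).classInner_self, mul_one] at h7
    exact_mod_cast h7
  have h7 : ∀ M : Subgroup G, M.Normal → K ≤ M → H.relIndex M = H.index := fun M _ hM => by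
    have := Fintype.ofFinite M
    have h8 := congrFun (mackey_of_sup_eq_top H M (top_le_iff.1 (h3.ge.trans (sup_le_sup_left hM _)))
      hϑ.isClassFunction) 1
    simp only [OneMemClass.coe_one, indFun_one] at h8
    exact_mod_cast (mul_right_cancel₀ hϑ1 h8).symm
  rcases h4 with rfl | ⟨M, hM, h8, h9⟩
  · have := Fintype.ofFinite (⊤ : Subgroup G)
    have h8 : classInner (fun x : (⊤ : Subgroup G) => indFun H ϑ x) (fun x => indFun H ϑ x) = 1 :=
      (hind.comp_mulEquiv Subgroup.topEquiv).classInner_self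
    rw [ha, classInner_smul_left, classInner_smul_right, hξ.classInner_self, mul_one,
      Complex.conj_natCast, ← sq] at h8
    exact hmax.1 (Subgroup.index_eq_one.1 (h6.trans (by exact_mod_cast h8)))
  have hLM := hL0.trans (h1.trans h8.le)
  obtain ⟨η, f, hη, hf⟩ := hc M hM hLM
  have := Fintype.ofFinite M
  have := Fintype.ofFinite K
  have := Fintype.ofFinite (K.subgroupOf M)
  have := Fintype.ofFinite (H.subgroupOf M)
  have hf0 : (f : ℂ) ≠ 0 := fun h => hind.apply_one_ne_zero (by simpa [h] using congrFun hf 1)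
  have ha0 : (a : ℂ) ≠ 0 := fun h => hind.apply_one_ne_zero (by simpa [h] using congrFun ha 1)
  obtain ⟨b, h10, h11⟩ := exists_degree_eq_mul (isIrrCharacter_subgroupOf h8.le hξ) hη (by
    rw [classInner_res_subgroupOf h8.le]
    have h10 : (f : ℂ) • (fun k : K => η ⟨k, h8.le k.2⟩) = (a : ℂ) • ξ :=
      funext fun k => (congrFun hf ⟨k, h8.le k.2⟩).symm.trans (congrFun ha k)
    intro h11
    have h12 := congrArg (classInner · ξ) h10
    simp only [classInner_smul_left, h11, hξ.classInner_self, mul_zero, mul_one] at h12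
    exact ha0 h12.symm)
  have h12 : a = f * b := by
    have h12 : (a : ℂ) * ξ 1 = f * η 1 := (congrFun ha 1).symm.trans (congrFun hf 1)
    rw [h11, ← mul_assoc] at h12
    exact_mod_cast mul_right_cancel₀ hξ.apply_one_ne_zero h12
  have h13 : b = 1 := by
    refine (Nat.coprime_self b).1 ((h9.coprime_dvd_left h10).coprime_dvd_right ?_)
    rw [← le_antisymm h2 (le_inf h1 H.normalCore_le), Subgroup.inf_relIndex_left, h7 K hK le_rfl,
      h6, h12]
    exact (dvd_mul_left b f).trans (dvd_pow_self _ two_ne_zero)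
  rw [h13, mul_one] at h12
  subst h12
  have h14 := classInner_res_indFun_of_homogeneous
    (top_le_iff.1 (h3.ge.trans (sup_le_sup_left h8.le _))) hϑ.isClassFunction hη hf
  have h15 := ((hind.isCharacter.restrict M).restrict (H.subgroupOf M)).sub_nsmul_irr (hirr M hLM)
    (k := a ^ 2) (by rw [h14]; exact_mod_cast le_rfl)
  have h16 := h15.eq_of_sub_of_apply_one (by
    simp only [OneMemClass.coe_one, indFun_one, Pi.smul_apply, h6, nsmul_eq_mul]; rfl)
  have h17 : (fun x : H.subgroupOf M => η x) =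
      (a : ℂ) • fun x : H.subgroupOf M => ϑ ⟨(x : M), x.2⟩ := funext fun x => by
    have h17 := (congrFun hf x).symm.trans (congrFun h16 x)
    simp only [Pi.smul_apply, smul_eq_mul, nsmul_eq_mul, sq, Nat.cast_mul,
      mul_assoc] at h17
    exact mul_left_cancel₀ ha0 h17
  have h18 := (classInner_res_self_eq_index_iff (H.subgroupOf M) hη).1 (by
    rw [h17, classInner_smul_left, classInner_smul_right, (hirr M hLM).classInner_self, mul_one,
      Complex.conj_natCast, ← sq, ← Subgroup.relIndex, h7 M hM h8.le, h6, Nat.cast_pow])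
  refine h8.not_ge fun m hm => ?_
  obtain ⟨h, hh, k, hk, rfl⟩ := Subgroup.mem_sup_of_normal_right.1 (h3.ge (Subgroup.mem_top m))
  have hhM : h ∈ M := by simpa using mul_mem hm (inv_mem (h8.le hk))
  refine mul_mem ?_ hk
  obtain ⟨n, hn, h19⟩ := exists_coset_ne_zero (N := H.normalCore.subgroupOf H) hϑ
    ((isIrrCharacter_res_subgroupOf_iff H.normalCore_le).2 hirr0) ⟨h, hh⟩
  have h20 : (n : G) * h ∈ M := mul_mem (h8.le (h1 hn)) hhM
  have h21 : indFun H ϑ (n * h) ≠ 0 := by
    rw [show indFun H ϑ (n * h) = _ from congrFun h16 ⟨⟨_, h20⟩, mul_mem n.2 hh⟩,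
      Pi.smul_apply, nsmul_eq_mul]
    exact mul_ne_zero (by exact_mod_cast pow_ne_zero 2 ha0) h19
  have h22 : (n : G) * h ∈ H.normalCore := fun g => by
    by_contra h22
    have h23 := congrFun hf ⟨_, hM.conj_mem _ h20 g⟩
    rw [Pi.smul_apply, h18 _ h22, smul_zero, indFun_conj_apply] at h23
    exact h21 h23
  simpa using h1 (mul_mem (inv_mem (Subgroup.mem_subgroupOf.1 hn)) h22)

/-- If `χ = θ^G` is homogeneous on `L = K ∩ H`, `G = K H`, there is a central extension of `G` in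
which `χ` factors as `θ̂^G β` with `θ̂` irreducible on `L`. -/
theorem exists_larger_normal_of_induced [Fintype G] {L K H : Subgroup G} [hL : L.Normal]
    [hK : K.Normal] (hLH : L ≤ H) (hKH : K ⊓ H ≤ L) (htop : H ⊔ K = ⊤) (hmax : IsCoatom H)
    (hsolv : Group.IsSolvable (G ⧸ L)) {ϑ : H → ℂ} (hϑ : IsCharacter H ϑ)
    (hind : IsIrrCharacter G (indFun H ϑ)) {φ : L → ℂ} (hφ : IsIrrCharacter L φ) {c : ℕ}
    (hc : (fun n : L => indFun H ϑ n) = (c : ℂ) • φ) :
    ∃ M : Subgroup G, M.Normal ∧ L < M ∧ ∃ U : Subgroup G, U ≠ ⊤ ∧ M ≤ U ∧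
      ∃ ω : U → ℂ, IsCharacter U ω ∧ indFun U ω = indFun H ϑ := by
  have := Fintype.ofFinite H
  have := Fintype.ofFinite L
  have := Fintype.ofFinite (L.subgroupOf H)
  have hϑ' := isIrr_of_indFun_irr hϑ hind
  have hc0 : (c : ℂ) ≠ 0 := fun h => hind.apply_one_ne_zero (by simpa [h] using congrFun hc 1)
  have hinv := invariant_of_res_eq_smul hind.isClassFunction hc0 hc
  have h1 : classInner (fun n : L => ϑ ⟨n, hLH n.2⟩) φ ≠ 0 := by
    obtain ⟨φ', hφ', h1⟩ := exists_irr_under_of_le hLH hϑ'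
    have h2 : classInner (fun x : L => indFun H ϑ x) φ' ≠ 0 :=
      classInner_comp_ne_zero_of_constituent (Subgroup.inclusion hLH)
        (hind.isCharacter.restrict H) hϑ' (by
          rw [← classInner_indFun_right H ϑ hind.isClassFunction, hind.classInner_self]
          exact one_ne_zero) hφ'.isCharacter h1
    rw [hc, classInner_smul_left] at h2
    rwa [hφ.eq_of_classInner_ne_zero hφ' (right_ne_zero_of_mul h2)]
  have hφ' : IsIrrCharacter _ (subOf H φ) := isIrrCharacter_subgroupOf hLH hφ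
  obtain ⟨T⟩ := nonempty_tripleCover hφ' fun g n => congrFun (hinv g) ⟨(n : H), n.2⟩
  obtain ⟨β, hβ, h2, -⟩ := T.exists_eq_mul hφ' hϑ' (by rwa [classInner_res_subgroupOf hLH])
  let X : Subgroup (G × T.Q) :=
    { carrier := {p | ∃ t, T.q t = p.2 ∧ p.1 * (T.π t : G)⁻¹ ∈ K}
      one_mem' := ⟨1, map_one _, by simp⟩
      mul_mem' := by
        rintro ⟨g, _⟩ ⟨g', _⟩ ⟨t, rfl, h⟩ ⟨t', rfl, h'⟩
        refine ⟨t * t', map_mul _ _ _, ?_⟩
        simpa [mul_assoc] using mul_mem (hK.conj_mem _ h' g) h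
      inv_mem' := by
        rintro ⟨g, _⟩ ⟨t, rfl, h⟩
        refine ⟨t⁻¹, map_inv _ _, ?_⟩
        simpa [mul_assoc] using hK.conj_mem _ (inv_mem h) g⁻¹ }
  have := Fintype.ofFinite X
  let f : X →* G := (MonoidHom.fst _ _).comp X.subtype
  let r : X →* T.Q := (MonoidHom.snd _ _).comp X.subtype
  have hf : Surjective f := fun g => by
    obtain ⟨k, hk, h, hh, rfl⟩ := Subgroup.mem_sup_of_normal_left.1
      ((sup_comm H K ▸ htop).ge (Subgroup.mem_top g))
    obtain ⟨t, ht⟩ := T.surj ⟨h, hh⟩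
    exact ⟨⟨(k * h, T.q t), t, rfl, by simpa [ht] using hk⟩, rfl⟩
  have hr : Surjective r := fun x => by
    obtain ⟨t, rfl⟩ := T.q_surj x
    exact ⟨⟨(T.π t, T.q t), t, rfl, by simp⟩, rfl⟩
  have hX : ∀ t, ((H.subtype.comp T.π).prod T.q) t ∈ X := fun t => ⟨t, rfl, by simp⟩
  let j : T.Γ →* H.comap f :=
    ((((H.subtype.comp T.π).prod T.q).codRestrict X hX).codRestrict
      (H.comap f) fun t => (T.π t).2)
  have hj : Bijective j := ⟨(injective_iff_map_eq_one _).2 fun t h =>
      T.q_injOn_ker (Subtype.ext (congrArg (fun x : H.comap f => f x) h))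
        (congrArg (fun x : H.comap f => r x) h), by
    rintro ⟨⟨⟨g, x⟩, t, ht, h⟩, hg⟩
    have hg' : g ∈ H := hg
    refine ⟨T.s ⟨⟨g, hg'⟩ * (T.π t)⁻¹, hKH ⟨h, H.mul_mem hg' (H.inv_mem (T.π t).2)⟩⟩ * t,
      Subtype.ext (Subtype.ext (Prod.ext ?_ ?_))⟩
    · change (T.π _ : G) = g
      rw [map_mul, T.π_s]
      simp
    · change T.q _ = x
      rw [map_mul, T.q_s, one_mul, ht]⟩
  let e := MulEquiv.ofBijective j hj
  let ϑ₁ : H.comap f → ℂ := fun x => T.ext (e.symm x)
  have hϑ₁ : IsCharacter _ ϑ₁ := T.isChar.comp e.symm.toMonoidHom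
  have hϑj : ∀ t, ϑ₁ (j t) = T.ext t := fun t => congrArg T.ext (e.symm_apply_apply t)
  have hβ' := hβ.comp_surjective r hr
  have h3 : (fun g => indFun H ϑ (f g)) = fun g => indFun (H.comap f) ϑ₁ g * β (r g) := by
    rw [← indFun_mul_res _ _ hβ'.isClassFunction]
    refine funext (indFun_comp_of_surjective f hf H ϑ _ fun x => ?_)
    obtain ⟨t, rfl⟩ := hj.2 x
    rw [hϑj, mul_comm]
    exact (h2 t).symm
  have h4 := hind.comp_surjective f hf
  have h5 := isIrr_of_mul_irr (isCharacter_indFun _ hϑ₁) hβ'.isCharacter (h3 ▸ h4)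
  have hLH' : L.comap f ≤ H.comap f := Subgroup.comap_mono hLH
  have h6 : IsIrrCharacter (L.comap f) fun x => ϑ₁ ⟨x, hLH' x.2⟩ := by
    refine isIrr_of_comp_irr (((H.comap f).subtype.comp (j.comp T.s)).codRestrict (L.comap f)
      fun n => ?_) (isCharacter_res_of_le hLH' hϑ₁) ?_
    · change (T.π (T.s n) : G) ∈ L
      rw [T.π_s]; exact n.2
    · convert hφ' using 2 with n
      exact (hϑj _).trans (T.ext_s n)
  obtain ⟨M, hM, h7, h8⟩ := exists_not_homogeneous hLH'
    (Subgroup.isCoatom_comap_of_surjective hf hmax)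
    (Group.isSolvable_of_isSolvable_injective (f := QuotientGroup.map (L.comap f) L f le_rfl)
      ((injective_iff_map_eq_one _).2 fun x hx => by
        obtain ⟨x, rfl⟩ := QuotientGroup.mk_surjective x
        exact (QuotientGroup.eq_one_iff x).2 ((QuotientGroup.eq_one_iff (f x)).1 hx)))
    hϑ₁ h6 h5
  have := Fintype.ofFinite M
  have h9 : ∀ η, IsIrrCharacter M η → classInner (fun m : M => indFun (H.comap f) ϑ₁ m) η ≠ 0 →
      ¬∀ g, conjChar g η = η := fun η hη h h' => by
    obtain ⟨n, hn⟩ := (h5.isCharacter.restrict M).exists_nat_classInner hη.isCharacter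
    exact h8 ⟨η, n, hη, hn ▸ res_eq_smul_of_invariant h5 hη h' h⟩
  have h10 : ¬M ≤ L.comap f := fun h => by
    obtain rfl := le_antisymm h h7
    have := Fintype.ofFinite (H.comap f)
    refine h9 _ h6 (classInner_comp_ne_zero_of_constituent (Subgroup.inclusion hLH')
      (h5.isCharacter.restrict _) (isIrr_of_indFun_irr hϑ₁ h5) (by
        rw [← classInner_indFun_right _ ϑ₁ h5.isClassFunction, h5.classInner_self]
        exact one_ne_zero) h6.isCharacter (h6.classInner_self.trans_ne one_ne_zero))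
      fun g => funext fun x => ?_
    obtain ⟨t, ht⟩ := hj.2 ⟨x, hLH' x.2⟩
    have h11 : t ∈ (L.subgroupOf H).comap T.π := by
      change f (j t) ∈ L
      rw [ht]; exact x.2
    rw [T.comap_eq] at h11
    obtain ⟨_, ⟨n, rfl⟩, z, hz, rfl⟩ := Subgroup.mem_sup_of_normal_left.1 h11
    have h12 : ∀ n, T.ext (T.s n * z) = T.lam ⟨z, hz⟩ * subOf H φ n := fun n => by
      rw [Subgroup.mem_center_iff.1 (T.ker_le hz), ← T.ext_s]
      exact T.ext_mul ⟨z, hz⟩ _
    have h13 : f g * (n : H) * (f g)⁻¹ ∈ L := hL.conj_mem _ n.2 _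
    have h14 : (⟨g * x * g⁻¹, hLH' (Subgroup.Normal.conj_mem inferInstance _ x.2 g)⟩ : H.comap f) =
        j (T.s ⟨⟨_, hLH h13⟩, h13⟩ * z) := by
      have h14 : (x : X) = j (T.s n * z) := (congrArg Subtype.val ht).symm
      refine Subtype.ext (Subtype.ext (Prod.ext ?_ ?_))
      · change f (g * x * g⁻¹) = T.π _
        rw [map_mul, map_mul, map_inv, h14, map_mul T.π, T.π_s, MonoidHom.mem_ker.1 hz, mul_one]
        change f g * T.π _ * _ = _
        rw [map_mul T.π, T.π_s, MonoidHom.mem_ker.1 hz, mul_one]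
      · change r (g * x * g⁻¹) = T.q _
        rw [map_mul, map_mul, map_inv, h14, map_mul T.q, T.q_s, one_mul]
        change r g * T.q _ * _ = _
        rw [map_mul T.q, T.q_s, one_mul,
          Subgroup.mem_center_iff.1 (T.Z_le_center ⟨z, hz, rfl⟩) (r g), mul_inv_cancel_right]
    rw [conjChar_apply, h14, ← ht, hϑj, hϑj, h12, h12]
    exact congrArg _ (congrFun (hinv (f g)) ⟨(n : H), n.2⟩)
  obtain ⟨η, hη, h11⟩ := exists_irr_under M h5
  have := Fintype.ofFinite (inertia M η)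
  have hMU : M ≤ inertia M η := le_inertia hη.isClassFunction
  obtain ⟨ζ, hζ, -, h12, -⟩ := clifford_corr_surj hη rfl hMU h5 h11
  have h13 : indFun (inertia M η) (fun u => ζ u * β (r u)) = fun g => indFun H ϑ (f g) := by
    rw [indFun_mul_res _ _ hβ'.isClassFunction, h12, h3]
  have h14 : IsCharacter _ fun u : inertia M η => ζ u * β (r u) :=
    hζ.isCharacter.mul (hβ'.isCharacter.restrict _)
  have h15 : (f.subgroupMap (inertia M η)).ker ≤ charKer fun u : inertia M η => ζ u * β (r u) :=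
    fun u hu => (h4.isCharacter.restrict _).charKer_le_of_constituent
      (isIrr_of_indFun_irr h14 (h13 ▸ h4)) (by
        rw [← classInner_indFun_right _ _ h4.isClassFunction, h13, h4.classInner_self]
        exact one_ne_zero) (by
        rw [h4.isCharacter.charKer_restrict]
        exact ker_le_charKer_comp _ f (congrArg Subtype.val hu))
  have h16 : ((inertia M η).map f).comap f = inertia M η := by
    rw [Subgroup.comap_map_eq, sup_eq_left]
    exact (f.ker_le_comap L).trans (h7.trans hMU)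
  refine ⟨M.map f, hM.map f hf, lt_of_le_of_ne ?_ fun h => h10 ?_, (inertia M η).map f, fun h => ?_,
    Subgroup.map_mono hMU, _, h14.deflate (f.subgroupMap_surjective _) h15, ?_⟩
  · exact (Subgroup.map_comap_eq_self_of_surjective hf L).ge.trans (Subgroup.map_mono h7)
  · exact (Subgroup.le_comap_map _ _).trans (Subgroup.comap_mono h.ge)
  · rw [h, Subgroup.comap_top] at h16
    exact h9 η hη h11 fun g => h16.le (Subgroup.mem_top g)
  · refine comp_injective_of_surjective hf ?_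
    rw [← h13]
    refine (funext (indFun_comp_of_surjective f hf _ _ _ fun _ => rfl)).trans
      (indFun_congr h16 _ _ fun x _ hx => deflate_apply h15 ⟨x, hx⟩)

/-- Berger's theorem. -/
theorem berger [Fintype G] [Group.IsSolvable G] {χ : G → ℂ} (hχ : IsIrrCharacter G χ)
    (hqp : ∀ N : Subgroup G, N.Normal → ∃ (ϑ : N → ℂ) (e : ℕ), IsIrrCharacter N ϑ ∧
      (fun n : N => χ n) = (e : ℂ) • ϑ) {K : Subgroup G} (hK : K ≠ ⊤) {ψ : K → ℂ}
    (hψ : IsCharacter K ψ) : indFun K ψ ≠ χ := by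
  intro h
  obtain ⟨L, -, ⟨hL, U, h1, h2, ω, h3, rfl⟩, h4⟩ := exists_maximal_ge
    (P := fun L : Subgroup G => L.Normal ∧ ∃ U : Subgroup G, U ≠ ⊤ ∧ L ≤ U ∧
      ∃ ω : U → ℂ, IsCharacter U ω ∧ indFun U ω = χ) (H := ⊥)
    ⟨inferInstance, K, hK, bot_le, ψ, hψ, h⟩
  obtain ⟨H, hH, hUH⟩ := exists_isCoatom_ge h1
  have := Fintype.ofFinite H
  have h5 := indFun_trans U H hUH ω
  have h6 := isCharacter_indFun _ (isCharacter_subgroupOf hUH h3)
  obtain rfl : H.normalCore = L := h4 _ ⟨inferInstance, H, hH.1, H.normalCore_le, _, h6, h5⟩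
    (Subgroup.normal_le_normalCore.2 (h2.trans hUH))
  obtain ⟨K, hK, -, h7, h8, -⟩ := exists_chief_of_coatom hH inferInstance
  obtain ⟨φ, c, hφ, hc⟩ := hqp H.normalCore inferInstance
  obtain ⟨M, hM, h9, V, h10, h11, ω', h12, h13⟩ := exists_larger_normal_of_induced
    H.normalCore_le h7 h8 hH inferInstance h6 (h5 ▸ hχ) hφ (h5 ▸ hc)
  exact h9.ne' (h4 M ⟨hM, V, h10, h11, ω', h12, h13.trans h5⟩ h9.le)

end Cfsg.Agent.Ch
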