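import Mathlib
import Cfsg.Agent.Ch.MGroup
import Cfsg.Agent.Ch.Gallagher
import Cfsg.Agent.Ch.Mackey
import Cfsg.Agent.Ch.Linear
import Cfsg.Agent.GT.HallTools
import Cfsg.Agent.GT.PGroupBasic

/-! Dade's theorem: every finite soluble group is a subgroup of an M-group. -/

set_option autoImplicit false

namespace Cfsg.Agent.Ch.Dade

open Cfsg RegularWreathProduct

universe u

variable {G H : Type*} [Group G] [Group H]

theorem indFun_comap [Fintype G] [Fintype H] (e : G ≃* H) (K : Subgroup H) (θ : K → ℂ) (g : G) :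
    indFun (K.comap e.toMonoidHom) (fun x => θ ⟨e x, x.2⟩) g = indFun K θ (e g) := by
  classical
  rw [indFun_apply, indFun_apply, ← Equiv.sum_comp e.toEquiv,
    Nat.card_congr (e.toEquiv.subtypeEquiv (p := (· ∈ K.comap e.toMonoidHom)) (q := (· ∈ K))
      fun _ => Iff.rfl)]
  congr 1
  refine Finset.sum_congr rfl fun x _ => ?_
  simp only [extendByZero_eq_dite, Subgroup.mem_comap, map_mul, map_inv, MulEquiv.toEquiv_eq_coe,
    EquivLike.coe_coe, MulEquiv.coe_toMonoidHom]

theorem irr_pi [Finite H] (ι : Type u) [Fintype ι] : ∀ θ : (ι → H) → ℂ,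
    IsIrrCharacter (ι → H) θ →
    ∃ ψ : ι → H → ℂ, (∀ i, IsIrrCharacter H (ψ i)) ∧ ∀ x, θ x = ∏ i, ψ i (x i) := by
  refine Fintype.induction_empty_option (P := fun ι _ => ∀ θ : (ι → H) → ℂ,
    IsIrrCharacter (ι → H) θ →
    ∃ ψ : ι → H → ℂ, (∀ i, IsIrrCharacter H (ψ i)) ∧ ∀ x, θ x = ∏ i, ψ i (x i))
    (fun α β _ e ih θ hθ => ?_) (fun θ hθ => ?_) (fun α _ ih θ hθ => ?_) ι
  · let _ := Fintype.ofEquiv β e.symm
    obtain ⟨ψ, h1, h2⟩ := ih _ (hθ.comp_mulEquiv (MulEquiv.arrowCongr e (MulEquiv.refl H)))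
    refine ⟨fun i => ψ (e.symm i), fun i => h1 _, fun x => ?_⟩
    have := h2 (x ∘ e)
    rw [← Equiv.prod_comp e]
    simp only [Equiv.symm_apply_apply]
    refine Eq.trans ?_ this
    congr 1
    ext i
    simp
  · obtain ⟨lam, rfl⟩ := exists_hom_of_commutator_mem_charKer hθ fun a b => by
      rw [Subsingleton.elim (a * b * a⁻¹ * b⁻¹) 1]; exact one_mem _
    exact ⟨fun i => i.elim, fun i => i.elim, fun x => by simp [Subsingleton.elim x 1]⟩
  · let e : H × (α → H) ≃* (Option α → H) :=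
      { Equiv.piOptionEquivProd (β := fun _ => H) |>.symm with
        map_mul' := fun _ _ => by ext (_ | _) <;> rfl }
    obtain ⟨φ, χ, h1, h2, h3⟩ := (isIrrCharacter_prod_iff _).1 (hθ.comp_mulEquiv e)
    obtain ⟨ψ, h4, h5⟩ := ih χ h2
    refine ⟨fun i => i.elim φ ψ, fun i => by cases i; exacts [h1, h4 _], fun x => ?_⟩
    have := congrFun h3 (e.symm x)
    rw [e.apply_symm_apply, h5] at this
    rw [this, Fintype.prod_option]
    rfl

/-- The product of linear characters of subgroups of the factors. -/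
def piHom {ι : Type*} [Fintype ι] {K : ι → Subgroup H} (lam : ∀ i, K i →* ℂˣ) :
    Subgroup.pi Set.univ K →* ℂˣ where
  toFun x := ∏ i, lam i ⟨x.1 i, x.2 i trivial⟩
  map_one' := Finset.prod_eq_one fun i _ => map_one _
  map_mul' x y := by
    rw [← Finset.prod_mul_distrib]
    exact Finset.prod_congr rfl fun i _ => map_mul (lam i) ⟨_, _⟩ ⟨_, _⟩

theorem indFun_pi [Fintype H] {ι : Type*} [Fintype ι] [DecidableEq ι] {K : ι → Subgroup H}
    (lam : ∀ i, K i →* ℂˣ) (x : ι → H) :
    indFun (Subgroup.pi Set.univ K) (fun y => (piHom lam y : ℂ)) x =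
      ∏ i, indFun (K i) (fun y => (lam i y : ℂ)) (x i) := by
  classical
  simp only [indFun_apply]
  rw [Finset.prod_mul_distrib, Finset.prod_univ_sum, Fintype.piFinset_univ, Finset.prod_inv_distrib,
    ← Nat.cast_prod, ← Nat.card_pi, Nat.card_congr ((Equiv.subtypeEquivRight (q := fun f : ι → H =>
      ∀ i, f i ∈ K i) fun f => by simp [Subgroup.mem_pi]).trans Equiv.subtypePiEquivPi)]
  congr 1
  refine Finset.sum_congr rfl fun y _ => ?_
  by_cases h : y⁻¹ * x * y ∈ Subgroup.pi Set.univ K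
  · rw [extendByZero_of_mem _ _ h]
    simp only [piHom, MonoidHom.coe_mk, OneHom.coe_mk, Units.coe_prod]
    exact Finset.prod_congr rfl fun i _ =>
      (extendByZero_of_mem (K i) (fun y => (lam i y : ℂ)) (h i trivial)).symm
  · rw [extendByZero_of_not_mem _ _ h]
    obtain ⟨i, hi⟩ : ∃ i, (y i)⁻¹ * x i * y i ∉ K i := by simpa [Subgroup.mem_pi] using h
    exact (Finset.prod_eq_zero (Finset.mem_univ i)
      (extendByZero_of_not_mem (K i) (fun y => (lam i y : ℂ)) hi)).symm

theorem wreath [Fintype H] (hH : ∀ χ : H → ℂ, IsIrrCharacter H χ → IsMonomial χ) {Q : Type u}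
    [Group Q] [Finite Q] (hQ : (Nat.card Q).Prime) [Fintype (H ≀ᵣ Q)] (χ : H ≀ᵣ Q → ℂ)
    (hχ : IsIrrCharacter (H ≀ᵣ Q) χ) : IsMonomial χ := by
  classical
  have := Fintype.ofFinite Q
  have hs : Function.Surjective (rightHom : H ≀ᵣ Q →* Q) := fun q => ⟨inl q, rfl⟩
  let B : Subgroup (H ≀ᵣ Q) := rightHom.ker
  have hB : ∀ b : B, b.1.right = 1 := fun b => b.2
  let e : B ≃* (Q → H) :=
    { toFun := fun b => b.1.left
      invFun := fun f => ⟨⟨f, 1⟩, rfl⟩
      left_inv := fun b => Subtype.ext (RegularWreathProduct.ext rfl (hB b).symm)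
      right_inv := fun _ => rfl
      map_mul' := fun a b => by ext x; simp [hB] }
  have he : ∀ b : B, e b = b.1.left := fun _ => rfl
  have := Fintype.ofFinite B
  obtain ⟨θ, hθ, hχθ⟩ := exists_irr_under B hχ
  obtain ⟨ψ, h1, h2⟩ := irr_pi Q _ (hθ.comp_mulEquiv e.symm)
  replace h2 : ∀ b : B, θ b = ∏ i, ψ i (b.1.left i) := fun b => by
    simpa [← he] using h2 (e b)
  have hc : IsCoatom B := GT.PG.isCoatom_of_index_prime hQ (by
    rw [Subgroup.index_ker, MonoidHom.range_eq_top.2 hs, Subgroup.card_top])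
  rcases (le_inertia hθ.isClassFunction).eq_or_lt with hI | hI
  · rw [eq_indFun_of_inertia_le hθ hI.ge hχ hχθ]
    refine IsMonomial.indFun B ?_
    choose K lam hl using fun i => hH _ (h1 i)
    refine ⟨(Subgroup.pi Set.univ K).comap e.toMonoidHom, (piHom lam).comp
      (e.toMonoidHom.subgroupComap _), funext fun b => ?_⟩
    rw [h2, ← he]
    simp only [hl]
    rw [← indFun_pi, ← indFun_comap]
    rfl
  have hinv := inertia_eq_top_iff.1 (hc.2 _ hI)
  have key : ∀ (i : Q) (h : H), θ (e.symm (Pi.mulSingle i h)) =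
      ψ i h * ∏ j ∈ Finset.univ.erase i, ψ j 1 := fun i h => by
    rw [h2, ← he, e.apply_symm_apply, ← Finset.mul_prod_erase _ _ (Finset.mem_univ i),
      Pi.mulSingle_eq_same]
    congr 1
    exact Finset.prod_congr rfl fun j hj => by
      rw [Pi.mulSingle_eq_of_ne (Finset.ne_of_mem_erase hj)]
  have hψ : ∀ i, ψ i = ψ 1 := fun i => by
    have e1 : ∀ h, θ (e.symm (Pi.mulSingle i h)) = θ (e.symm (Pi.mulSingle 1 h)) := fun h => by
      conv_rhs => rw [← hinv (inl i)]
      rw [conjChar_apply_of_eq _ _ _ (e.symm (Pi.mulSingle i h))]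
      ext x
      · simp [e, Pi.mulSingle_apply, inv_mul_eq_one, eq_comm]
      · simp [e]
    simp only [key] at e1
    have n0 : ∀ i : Q, ∏ j ∈ Finset.univ.erase i, ψ j 1 ≠ 0 := fun i =>
      Finset.prod_ne_zero_iff.2 fun j _ => (h1 j).apply_one_ne_zero
    refine (h1 i).eq_of_classInner_ne_zero (h1 1) ?_
    have : ψ i = ((∏ j ∈ Finset.univ.erase 1, ψ j 1) / ∏ j ∈ Finset.univ.erase i, ψ j 1) • ψ 1 :=
      funext fun h => by
        rw [Pi.smul_apply, smul_eq_mul, div_mul_eq_mul_div, eq_div_iff (n0 i), e1, mul_comm]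
    rw [this, classInner_smul_left, (h1 1).classInner_self, mul_one]
    exact div_ne_zero (n0 1) (n0 i)
  obtain ⟨K, lam, hl⟩ := hH _ (h1 1)
  let L : Subgroup (H ≀ᵣ Q) :=
    { carrier := {w | ∀ x, w.left x ∈ K}
      one_mem' := fun _ => K.one_mem
      mul_mem' := fun ha hb x => K.mul_mem (ha x) (hb _)
      inv_mem' := fun ha x => K.inv_mem (ha _) }
  let μ : L →* ℂˣ :=
    { toFun := fun w => ∏ x, lam ⟨w.1.left x, w.2 x⟩
      map_one' := Finset.prod_eq_one fun i _ => map_one _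
      map_mul' := fun a b => by
        rw [← Equiv.prod_comp (Equiv.mulLeft a.1.right⁻¹) fun x => lam ⟨b.1.left x, b.2 x⟩,
          ← Finset.prod_mul_distrib]
        exact Finset.prod_congr rfl fun i _ => map_mul lam ⟨_, _⟩ ⟨_, _⟩ }
  have hμ := isIrrCharacter_monoidHom_units μ
  have hres : (fun b : B => indFun L (fun w => (μ w : ℂ)) b) = θ := by
    rw [mackey_of_sup_eq_top L B (hc.2 _ (lt_of_le_of_ne le_sup_right fun h => ?_))
      hμ.isClassFunction]
    · funext b
      rw [h2, ← he]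
      simp only [hψ, hl]
      rw [← indFun_pi (K := fun _ => K) fun _ => lam, ← indFun_comap]
      refine congrFun (indFun_congr ?_ _ _ ?_) b
      · ext; simp [L, Subgroup.mem_subgroupOf, Subgroup.mem_pi, he]
      · exact fun _ _ _ => rfl
    · have : Nontrivial Q := Finite.one_lt_card_iff_nontrivial.1 hQ.one_lt
      obtain ⟨q, hq⟩ := exists_ne (1 : Q)
      exact hq (h ▸ Subgroup.mem_sup_left (fun _ => K.one_mem) : inl q ∈ B)
  have : Fact (Nat.card Q).Prime := ⟨hQ⟩
  have := isCyclic_of_prime_card (α := Q) rfl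
  obtain ⟨β, -, hβ⟩ := gallagher_surj_of_commutator_le (N := B) (by
      let _ := IsCyclic.commGroup (α := Q)
      exact Abelianization.commutator_subset_ker _)
    (isCharacter_indFun L hμ.isCharacter) (hres ▸ hθ) hχ (hres ▸ hχθ)
  refine ⟨L, μ * β.comp L.subtype, ?_⟩
  rw [hβ]
  have := indFun_mul_res L (fun w => (μ w : ℂ)) (isIrrCharacter_monoidHom_units β).isClassFunction
  simp only [mul_comm (β _ : ℂ)]
  exact this.symm

/-- The Kaloujnine–Krasner embedding. -/
noncomputable def kk (N : Subgroup G) [hN : N.Normal] (f : N →* H) : G →* H ≀ᵣ (G ⧸ N) where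
  toFun g := ⟨fun x => f ⟨x.out⁻¹ * g * ((g : G ⧸ N)⁻¹ * x).out, by
    rw [← QuotientGroup.eq_one_iff]; simp⟩, g⟩
  map_one' := by
    ext x
    · simp only [QuotientGroup.mk_one, inv_one, one_mul, mul_one, inv_mul_cancel]
      exact map_one f
    · rfl
  map_mul' g h := by
    ext x
    · simp only [mul_left, Pi.mul_apply, ← map_mul]
      congr 1
      simp [mul_assoc]
    · rfl

theorem kk_injective (N : Subgroup G) [N.Normal] {f : N →* H} (hf : Function.Injective f) :
    Function.Injective (kk N f) := by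
  rw [injective_iff_map_eq_one]
  intro g hg
  have h1 : (g : G ⧸ N) = 1 := congrArg RegularWreathProduct.right hg
  have h2 := congrArg Subtype.val ((injective_iff_map_eq_one f).1 hf _
    (congrFun (congrArg RegularWreathProduct.left hg) 1))
  simpa [h1, mul_assoc, inv_mul_eq_one] using h2

theorem dade (n : ℕ) : ∀ (G : Type u) [Group G] [Finite G] [Group.IsSolvable G], Nat.card G = n →
    ∃ (M : Type u) (_ : Group M) (_ : Fintype M),
      (∀ χ : M → ℂ, IsIrrCharacter M χ → IsMonomial χ) ∧ ∃ f : G →* M, Function.Injective f := by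
  induction n using Nat.strong_induction_on with
  | _ n ih =>
  intro G _ _ _ hn
  rcases subsingleton_or_nontrivial G with h | h
  · have := Fintype.ofFinite G
    exact ⟨G, inferInstance, this, fun χ hχ => isMonomial_of_isNilpotent hχ,
      MonoidHom.id G, Function.injective_id⟩
  obtain ⟨N, hN, hp⟩ := GT.HT.exists_normal_index_prime G
  obtain ⟨M, _, _, h1, f, hf⟩ := ih _ (by
    rw [← hn, ← N.card_mul_index]
    exact lt_mul_of_one_lt_right Nat.card_pos hp.one_lt) N rfl
  exact ⟨M ≀ᵣ (G ⧸ N), inferInstance, Fintype.ofFinite _,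
    fun χ hχ => @wreath M _ _ h1 _ _ _ hp (Fintype.ofFinite _) χ hχ, kk N f, kk_injective N hf⟩

end Cfsg.Agent.Ch.Dade
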