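import Mathlib
import Cfsg.Agent.Ch.DegThompson
import Cfsg.Agent.Ch.CliffordRel
import Cfsg.Agent.Ch.MGroup
import Cfsg.Agent.Ch.Integrality
import Cfsg.Agent.Deg.Basic
import Cfsg.Agent.GT.TransferAbelian
import Cfsg.Agent.GT.Fitting

/-!
# Groups with two character degrees
-/

set_option autoImplicit false

namespace Cfsg.Agent.Ch

open Cfsg
open scoped ComplexConjugate

variable {G : Type*} [Group G]

theorem deg12_eq_of_le_of_index_le [Finite G] {H K : Subgroup G} (h : H ≤ K)
    (hi : H.index ≤ K.index) : H = K :=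
  h.eq_of_not_lt fun hlt => absurd (Subgroup.index_strictAnti hlt) (not_lt.2 hi)

/-- A subgroup whose index is at most the smallest nonlinear degree contains `G'`. -/
theorem deg12_commutator_le_of_index_le [Finite G] {m : ℕ}
    (hm : ∀ χ, IsIrrCharacter G χ → charDegree χ ≠ 1 → m ≤ charDegree χ) {T : Subgroup G}
    (hT : T.index ≤ m) : commutator G ≤ T := by
  have := Fintype.ofFinite G
  have := Fintype.ofFinite T
  have hπ := isCharacter_indFun T (IsCharacter.one (G := T))
  refine le_trans (fun g hg => hπ.mem_charKer_iff_forall_constituent.2 fun φ hφ hne => ?_)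
    (charKer_indFun_one_le T)
  refine hφ.apply_one_eq_one_iff_commutator_le.1 (hφ.isCharacter.charDegree_eq_one_iff.1 ?_) hg
  by_contra h1
  have h2 : classInner (indFun T fun _ => (1 : ℂ)) (fun _ => 1) ≠ 0 := by
    rw [classInner_indFun_left T _ (IsClassFunction.const 1), classInner_one_one]
    exact one_ne_zero
  have h3 := hπ.sub_irr IsIrrCharacter.one h2
  have h4 := h3.charDegree_irr_le hφ (by
    rwa [classInner_sub_left, IsIrrCharacter.one.classInner_eq_zero hφ (by
      rintro rfl; exact h1 charDegree_one), sub_zero])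
  have h5 := h3.charDegree_add IsCharacter.one
  rw [sub_add_cancel, Deg.charDegree_indFun T IsCharacter.one, charDegree_one,
    charDegree_one] at h5
  have := hm φ hφ h1
  omega

theorem deg12_commutator_le_of_forall_linear [Finite G] (N : Subgroup G) [N.Normal]
    (h : ∀ χ, IsIrrCharacter G χ → N ≤ charKer χ → charDegree χ = 1) : commutator G ≤ N := by
  intro g hg
  by_contra hgN
  obtain ⟨χ, h1, h2⟩ := exists_irr_le_charKer_not_mem N hgN
  exact h2 (χ.2.apply_one_eq_one_iff_commutator_le.1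
    (χ.isCharacter.charDegree_eq_one_iff.1 (h χ χ.2 h1)) hg)

section Normal

variable {N : Subgroup G} [hN : N.Normal]

/-- Gallagher's theorem combined with the Clifford correspondence. -/
theorem deg12_exists_of_extends [Finite G] [Fintype N] {θ : N → ℂ} (hθ : IsIrrCharacter N θ)
    {T : Subgroup G} (hT : T = inertia N θ) (hNT : N ≤ T) {η : T → ℂ} (hη : IsCharacter T η)
    (hext : ∀ n : N, η ⟨n, hNT n.2⟩ = θ n) {β : T → ℂ} (hβ : IsIrrCharacter T β)
    (hk : N.subgroupOf T ≤ charKer β) :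
    ∃ χ, IsIrrCharacter G χ ∧ classInner (fun n : N => χ n) θ ≠ 0 ∧
      charDegree χ = T.index * (charDegree β * charDegree θ) := by
  have := Fintype.ofFinite G
  have := Fintype.ofFinite T
  have := Fintype.ofFinite (N.subgroupOf T)
  have h1 : IsIrrCharacter (N.subgroupOf T) fun x => η x :=
    (isIrrCharacter_res_subgroupOf_iff hNT).2 (by rwa [funext hext])
  have h2 := gallagher_mul_irr hη h1 hβ hk
  have h3 := classInner_res_mul_ne_zero h1 hβ hk
  have h4 : classInner (fun n : N => (β * η) ⟨n, hNT n.2⟩) θ ≠ 0 := by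
    rw [← classInner_res_subgroupOf hNT]
    convert h3 using 3 with x
    exact (hext ⟨_, x.2⟩).symm
  refine ⟨_, clifford_corr_irr hθ hT hNT h2 h4, by rwa [clifford_corr_mult hθ hT hNT h2 h4], ?_⟩
  rw [Deg.charDegree_indFun T h2.isCharacter, hβ.isCharacter.charDegree_mul hη,
    charDegree_congr (hext 1)]

/-- An irreducible character of a normal Hall subgroup extends to every subgroup fixing it. -/
theorem deg12_extends_of_coprime [Finite G] (hcop : (Nat.card N).Coprime N.index) {θ : N → ℂ}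
    (hθ : IsIrrCharacter N θ) {T : Subgroup G} (hT : T ≤ inertia N θ) (hNT : N ≤ T) :
    ∃ η : T → ℂ, IsIrrCharacter T η ∧ ∀ n : N, η ⟨n, hNT n.2⟩ = θ n := by
  have := Fintype.ofFinite T
  obtain ⟨η, hη, he⟩ := extends_of_coprime_card (isIrrCharacter_subgroupOf hNT hθ)
    (subOf_invariant hT) (by
      rw [card_subgroupOf_eq hNT]
      exact hcop.coprime_dvd_right (Subgroup.relIndex_dvd_index_of_le hNT))
  exact ⟨η, hη, fun n => he ⟨⟨n, hNT n.2⟩, n.2⟩⟩

/-- Conjugation of linear characters of a normal subgroup. -/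
def linConj (g : G) : (N →* ℂˣ) →* (N →* ℂˣ) :=
  MonoidHom.compHom' (MulAut.conjNormal g : N ≃* N).toMonoidHom

theorem linConj_apply (g : G) (f : N →* ℂˣ) (n : N) :
    linConj g f n = f ⟨g * n * g⁻¹, hN.conj_mem n n.2 g⟩ := rfl

theorem coe_linConj (g : G) (f : N →* ℂˣ) :
    (fun n => (linConj g f n : ℂ)) = conjChar g fun n => (f n : ℂ) := rfl

theorem linConj_mul (g h : G) (f : N →* ℂˣ) : linConj (g * h) f = linConj h (linConj g f) :=
  monoidHom_units_coe_injective (conjChar_mul g h fun n => (f n : ℂ))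

theorem linConj_one (f : N →* ℂˣ) : linConj (1 : G) f = f :=
  monoidHom_units_coe_injective (conjChar_one fun n => (f n : ℂ))

theorem linConj_injective (g : G) : Function.Injective (linConj g : (N →* ℂˣ) → _) :=
  fun _ _ h => monoidHom_units_coe_injective (conjChar_injective g
    (congrArg (fun (f : N →* ℂˣ) n => (f n : ℂ)) h))

theorem mem_inertia_lin {g : G} {f : N →* ℂˣ} :
    g ∈ inertia N (fun n => (f n : ℂ)) ↔ linConj g f = f :=
  monoidHom_units_coe_injective.eq_iff (a := linConj g f)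

theorem linConj_of_mem {g : G} (hg : g ∈ N) (f : N →* ℂˣ) : linConj g f = f :=
  mem_inertia_lin.1 (le_inertia (isCharacter_monoidHom_units f).isClassFunction hg)

/-- An element fixing all linear characters of an abelian normal subgroup centralizes it. -/
theorem mem_centralizer_of_linConj [Finite G] (hab : ∀ a ∈ N, ∀ b ∈ N, a * b = b * a) {g : G}
    (h : ∀ f : N →* ℂˣ, linConj g f = f) : g ∈ Subgroup.centralizer (N : Set G) := by
  intro n hn
  by_contra hne
  obtain ⟨f, hf⟩ := exists_monoidHom_units_ne_one_of_comm (G := N)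
    (fun a b => Subtype.ext (hab a a.2 b b.2))
    (g := ⟨g * n * g⁻¹, hN.conj_mem n hn g⟩ * ⟨n, hn⟩⁻¹) fun h => hne (by
      have := congrArg Subtype.val h
      simp only [Subgroup.coe_mul, Subgroup.coe_inv, Subgroup.coe_one, mul_inv_eq_iff_eq_mul,
        one_mul] at this
      exact this.symm)
  exact hf (by rw [map_mul, map_inv, ← linConj_apply g f ⟨n, hn⟩, h, mul_inv_cancel])

omit hN in
theorem deg12_stab_le [Finite G] {Λ : Type*} [CommGroup Λ] (c : G → Λ →* Λ)
    (hc : ∀ g h f, c (g * h) f = c h (c g f)) (T : Λ → Subgroup G)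
    (hT : ∀ {g f}, g ∈ T f ↔ c g f = f) {k n m : ℕ} (hk : ∀ g f, c (g ^ k) f = f)
    (hn : ∀ f : Λ, f ^ n = 1) (hcop : n.Coprime k)
    (h1 : ∀ f, T f ≠ ⊤ → (T f).index = m ∧ (T f).Normal) {f₁ : Λ} (hf : T f₁ ≠ ⊤) (f₂ : Λ) :
    T f₁ ≤ T f₂ := by
  have heq : ∀ {a b}, T a ≤ T b → T b ≠ ⊤ → T a = T b := fun {a b} h hb =>
    deg12_eq_of_le_of_index_le h
      ((h1 a fun ha => hb (top_le_iff.1 (ha ▸ h))).1.trans (h1 b hb).1.symm).le
  have hfix : ∀ f, T f ≠ ⊤ → ∀ g, T f ≤ T (c g f * f⁻¹) := fun f hf g t ht => by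
    rw [hT, map_mul, map_inv, hT.1 ht, ← hc, show g * t = g * t * g⁻¹ * g by group, hc,
      hT.1 ((h1 f hf).2.conj_mem t ht g)]
  intro t ht
  by_contra ht2
  have hf2 : T f₂ ≠ ⊤ := fun h => ht2 (h ▸ Subgroup.mem_top t)
  have h2 : T (f₁ * f₂) ≤ T f₁ := fun g hg => by
    have h3 : c g f₂ * f₂⁻¹ = (c g f₁ * f₁⁻¹)⁻¹ := by
      rw [eq_inv_iff_mul_eq_one, mul_mul_mul_comm, ← map_mul, ← mul_inv, mul_comm f₂,
        hT.1 hg, mul_inv_cancel]
    have h4 : T (c g f₁ * f₁⁻¹) = ⊤ := by
      by_contra h4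
      have h5 : T f₂ ≤ T (c g f₁ * f₁⁻¹) := fun x hx => by
        have := hT.1 (hfix f₂ hf2 g hx)
        rwa [h3, map_inv, inv_inj, ← hT] at this
      exact ht2 ((heq h5 h4).symm ▸ hfix f₁ hf g ht)
    have h5 : ∀ j : ℕ, c (g ^ j) f₁ = (c g f₁ * f₁⁻¹) ^ j * f₁ := fun j => by
      induction j with
      | zero => simpa using hT.1 (T f₁).one_mem
      | succ j ih =>
        rw [pow_succ, hc, ih, map_mul, map_pow, hT.1 (h4 ▸ Subgroup.mem_top g), pow_succ,
          mul_assoc, inv_mul_cancel_right]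
    have h6 := h5 k
    rw [hk, eq_comm, mul_eq_right] at h6
    have h7 := pow_gcd_eq_one.2 ⟨hn _, h6⟩
    rwa [hcop, pow_one, mul_inv_eq_one, ← hT] at h7
  have h3 := hT.1 ((heq h2 hf).symm ▸ ht)
  rw [map_mul, hT.1 ht, mul_right_inj] at h3
  exact ht2 (hT.2 h3)

theorem deg12_inertia_le [Finite G] (hcop : (Nat.card N).Coprime N.index) {m : ℕ}
    (h1 : ∀ f : N →* ℂˣ, inertia N (fun n => (f n : ℂ)) ≠ ⊤ →
      (inertia N (fun n => (f n : ℂ))).index = m ∧ (inertia N (fun n => (f n : ℂ))).Normal)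
    {f₁ : N →* ℂˣ} (hf : inertia N (fun n => (f₁ n : ℂ)) ≠ ⊤) (f₂ : N →* ℂˣ) :
    inertia N (fun n => (f₁ n : ℂ)) ≤ inertia N (fun n => (f₂ n : ℂ)) :=
  deg12_stab_le linConj linConj_mul (fun f => inertia N (fun n => (f n : ℂ))) mem_inertia_lin
    (fun g f => linConj_of_mem (N.pow_index_mem g) f) hom_pow_card_eq_one hcop h1 hf f₂

end Normal

/-- A group with character degrees `1` and `m` has an abelian normal subgroup of index `m` or is
nilpotent. -/
theorem deg12_two_degrees [Finite G] {m : ℕ}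
    (hcd : ∀ χ, IsIrrCharacter G χ → charDegree χ ≠ 1 → charDegree χ = m) :
    (∃ A : Subgroup G, A.Normal ∧ (∀ a ∈ A, ∀ b ∈ A, a * b = b * a) ∧ A.index = m) ∨
      Group.IsNilpotent G := by
  set A := GT.piResidual {p | p ∣ m} G with hA
  have := Fintype.ofFinite A
  have hT : ∀ p, p.Prime → p ∣ m → ¬ p ∣ Nat.card (pResidual p G) := fun p hp hpm =>
    degT_thompson hp fun χ hχ h1 => hcd χ hχ h1 ▸ hpm
  have h1 : GT.IsPiNum {p | p ∣ m}ᶜ (Nat.card A) := GT.isPiNum_compl_iff.2 fun p hp hpm hd => by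
    obtain ⟨k, hk⟩ := GT.exists_index_pResidual (G := G) hp
    exact hT p hp hpm (hd.trans (Subgroup.card_dvd_of_le
      (GT.piResidual_le (hk ▸ GT.isPiNum_prime_pow hp hpm k))))
  have hcop : (Nat.card A).Coprime A.index := ((GT.isPiNum_index_piResidual _).coprime h1).symm
  have hab := degT_comm_of_coprime A fun χ hχ => by
    by_cases h : charDegree χ = 1
    · simp [h]
    · exact hcd χ hχ h ▸ (GT.isPiNum_compl_setOf_dvd_iff.1 h1).symm
  have key : ∀ f : A →* ℂˣ, inertia A (fun n => (f n : ℂ)) ≠ ⊤ →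
      ∀ β, IsIrrCharacter (inertia A (fun n => (f n : ℂ))) β → A.subgroupOf _ ≤ charKer β →
        (inertia A (fun n => (f n : ℂ))).index * charDegree β = m := fun f hf β hβ hk => by
    have hf' := isIrrCharacter_monoidHom_units f
    obtain ⟨η, hη, he⟩ := deg12_extends_of_coprime hcop hf' le_rfl (le_inertia hf'.isClassFunction)
    obtain ⟨χ, hχ, -, h2⟩ := deg12_exists_of_extends hf' rfl _ hη.isCharacter he hβ hk
    rw [Deg.charDegree_linear, mul_one] at h2
    exact h2 ▸ hcd χ hχ fun h => hf (Subgroup.index_eq_one.1 (Nat.eq_one_of_mul_eq_one_right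
      (h2 ▸ h)))
  have key' : ∀ f : A →* ℂˣ, inertia A (fun n => (f n : ℂ)) ≠ ⊤ →
      (inertia A (fun n => (f n : ℂ))).index = m := fun f hf => by
    simpa using key f hf _ IsIrrCharacter.one (by simp)
  by_cases hf : ∃ f : A →* ℂˣ, inertia A (fun n => (f n : ℂ)) ≠ ⊤
  · obtain ⟨f, hf⟩ := hf
    have hn : ∀ f : A →* ℂˣ, inertia A (fun n => (f n : ℂ)) ≠ ⊤ →
        (inertia A (fun n => (f n : ℂ))).Normal := fun f hf => .of_commutator_le _
      (deg12_commutator_le_of_index_le (fun χ hχ h => (hcd χ hχ h).ge) (key' f hf).le)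
    set T := inertia A (fun n => (f n : ℂ))
    have hAT : A ≤ T := le_inertia (isIrrCharacter_monoidHom_units f).isClassFunction
    have h2 : ⁅T, T⁆ ≤ A := by
      rw [← Subgroup.map_subtype_commutator, Subgroup.map_le_iff_le_comap]
      refine deg12_commutator_le_of_forall_linear (A.subgroupOf T) fun β hβ hk => ?_
      have h3 := key f hf β hβ hk
      exact (Nat.mul_eq_left Subgroup.index_ne_zero_of_finite).1 (h3.trans (key' f hf).symm)
    have h3 : A ≤ Subgroup.centralizer T := Subgroup.le_centralizer_iff.1 fun t ht =>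
      mem_centralizer_of_linConj hab fun f' => mem_inertia_lin.1
        (deg12_inertia_le hcop (fun f hf => ⟨key' f hf, hn f hf⟩) hf f' ht)
    have h4 := GT.Tr.inf_commutator_inf_centralizer_eq_bot (A := A) (L := T)
      ⟨⟨fun a b => Subtype.ext (hab a a.2 b b.2)⟩⟩
      (hcop.coprime_dvd_right (Subgroup.relIndex_dvd_index_of_le hAT))
    rw [inf_of_le_right h2, inf_of_le_left (h2.trans h3),
      Subgroup.commutator_eq_bot_iff_le_centralizer] at h4
    exact Or.inl ⟨T, hn f hf, fun a ha b hb => h4 hb a ha, key' f hf⟩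
  · push Not at hf
    refine Or.inr (GT.Tr.isNilpotent_of_forall_hasNormalPComplement fun q hq _ => ?_)
    have := Fact.mk hq
    by_cases hqm : q ∣ m
    · exact GT.Tr.hasNormalPComplement_iff_not_dvd_card_pResidual.2 (hT q hq hqm)
    · obtain ⟨Q⟩ : Nonempty (Sylow q G) := inferInstance
      refine GT.Tr.hasNormalPComplement_of_sylow_le_center Q (le_trans (GT.le_piResidual
        (GT.isPiNum_of_isPGroup hq Q.isPGroup' hqm)) fun a ha => Subgroup.mem_center_iff.2 fun g =>
          (mem_centralizer_of_linConj hab (fun f => mem_inertia_lin.1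
            (hf f ▸ Subgroup.mem_top g)) a ha).symm)

/-- The nilpotent case. -/
theorem deg12_of_isNilpotent [Finite G] [hG : Group.IsNilpotent G] {m : ℕ} (hm : m ≠ 1)
    (hcd : ∀ χ, IsIrrCharacter G χ → charDegree χ ≠ 1 → charDegree χ = m)
    (hex : ∃ χ, IsIrrCharacter G χ ∧ charDegree χ = m) :
    ∃ p e : ℕ, p.Prime ∧ m = p ^ e ∧ ∃ P A : Subgroup G, P.Normal ∧ A.Normal ∧ IsPGroup p P ∧
      A ≤ Subgroup.center G ∧ P ⊓ A = ⊥ ∧ P ⊔ A = ⊤ := by
  obtain ⟨p, hp, hpm⟩ := Nat.exists_prime_and_dvd hm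
  have := Fact.mk hp
  obtain ⟨P⟩ : Nonempty (Sylow p G) := inferInstance
  have hP : (P : Subgroup G).Normal := GT.isNilpotent_iff_sylow_normal.1 hG p this P
  have hc := (GT.Tr.hasNormalPComplement_of_isNilpotent (p := p) hG).isComplement'_pResidual P
  have hnd := (GT.Tr.hasNormalPComplement_of_isNilpotent (p := p) hG).not_dvd_card_pResidual
  obtain ⟨e, he⟩ : ∃ e, m = p ^ e := by
    by_contra H
    have h1 := deg12_commutator_le_of_forall_linear (pResidual p G) fun β hβ hk => by
      obtain ⟨β', hβ', rfl⟩ := hβ.exists_quotient _ fun n hn => apply_eq_of_mem_charKer (hk hn)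
      obtain ⟨k, hk⟩ := Deg.exists_charDegree_eq_pow GT.Tr.isPGroup_quotient_pResidual hβ'
      by_contra h
      exact H ⟨k, hcd _ hβ h ▸ hk⟩
    obtain ⟨χ, hχ, rfl⟩ := hex
    refine P.not_dvd_index (hpm.trans (hχ.charDegree_dvd_index_of_comm P fun a ha b hb => ?_))
    rw [← mul_inv_eq_iff_eq_mul, ← mul_inv_eq_one, ← Subgroup.mem_bot, ← hc.disjoint.eq_bot]
    exact ⟨h1 (Subgroup.commutator_mem_commutator trivial trivial),
      P.1.mul_mem (P.1.mul_mem (P.1.mul_mem ha hb) (P.1.inv_mem ha)) (P.1.inv_mem hb)⟩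
  have hab := degT_comm_of_coprime (pResidual p G) fun χ hχ => by
    by_cases h : charDegree χ = 1
    · simp [h]
    · rw [hcd χ hχ h, he]
      exact Nat.Coprime.pow_left _ ((Nat.Prime.coprime_iff_not_dvd hp).2 hnd)
  refine ⟨p, e, hp, he, P, pResidual p G, hP, inferInstance, P.isPGroup', ?_,
    hc.symm.disjoint.eq_bot, hc.symm.sup_eq_top⟩
  rw [← Subgroup.centralizer_univ, ← Subgroup.coe_top, Subgroup.le_centralizer_iff,
    ← hc.sup_eq_top]
  exact sup_le (fun a ha b hb => hab b hb a ha) fun a ha b hb =>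
    (Subgroup.commute_of_normal_of_disjoint _ _ inferInstance hP hc.disjoint b a hb ha).eq

/-- Taketa's inequality for two degrees. -/
theorem deg12_commutator_comm [Finite G] {m : ℕ}
    (hcd : ∀ χ, IsIrrCharacter G χ → charDegree χ ≠ 1 → charDegree χ = m) :
    ⁅commutator G, commutator G⁆ = ⊥ := by
  have := Fintype.ofFinite G
  have hlin : ∀ χ, IsIrrCharacter G χ → charDegree χ = 1 → commutator G ≤ charKer χ :=
    fun χ hχ h => hχ.apply_one_eq_one_iff_commutator_le.1 (hχ.isCharacter.charDegree_eq_one_iff.1 h)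
  rcases deg12_two_degrees hcd with ⟨A, -, hab, hi⟩ | hG
  · have h := deg12_commutator_le_of_index_le (fun χ hχ h => (hcd χ hχ h).ge) hi.le
    exact Subgroup.commutator_eq_bot_iff_le_centralizer.2 fun a ha b hb => hab b (h hb) a (h ha)
  · rw [← le_bot_iff, ← iInf_charKer_irr]
    refine le_iInf fun χ => commutator_le_charKer_of_isMonomial χ.2
      (isMonomial_of_isNilpotent χ.2) _ fun ψ hψ hlt => hlin ψ hψ ?_
    by_contra h
    have h1 := hcd ψ hψ h
    have h2 := hcd χ χ.2 (by have := hψ.charDegree_pos; omega)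
    omega

end Cfsg.Agent.Ch
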