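import Mathlib
import Cfsg.Agent.Ch.Deg12A
import Cfsg.Agent.Ch.AbelianQuot
import Cfsg.Agent.Ch.FrobeniusGroup
import Cfsg.Agent.Deg.PGrp

/-!
# Groups with character degrees `1` and `p`
-/

set_option autoImplicit false

namespace Cfsg.Agent.Ch

open Cfsg
open scoped ComplexConjugate

variable {G : Type*} [Group G] [Finite G]

theorem deg12_eq_top_of_lt {H K : Subgroup G} (hp : H.index.Prime) (h : H < K) : K = ⊤ :=
  Subgroup.index_eq_one.1 (((Nat.dvd_prime hp).1 (Subgroup.index_dvd_of_le h.le)).resolve_right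
    (Subgroup.index_strictAnti h).ne)

/-- The product of a character vanishing off its centre `Z` with a character which is irreducible
on `Z` is irreducible. -/
theorem deg12_mul_irr_of_vanish {θ χ : G → ℂ} (hθ : IsIrrCharacter G θ) {Z : Subgroup G}
    (hZ : Z ≤ charCenter θ) (h0 : ∀ g ∉ Z, θ g = 0) (hχ : IsCharacter G χ)
    (hχZ : IsIrrCharacter Z fun z => χ z) : IsIrrCharacter G (θ * χ) := by
  have := Fintype.ofFinite G
  have := Fintype.ofFinite Z
  refine (hθ.isCharacter.mul hχ).isIrr_of_classInner_self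
    (mul_left_cancel₀ (Nat.cast_ne_zero.2 (Subgroup.index_ne_zero_of_finite (H := Z))) ?_)
  rw [index_mul_classInner_of_vanish Z (fun g hg => by rw [Pi.mul_apply, h0 g hg, zero_mul]),
    ← hχZ.classInner_self, ← Deg.sq_charDegree_eq_index hθ Z hZ h0, classInner_def,
    classInner_def, mul_left_comm, Finset.mul_sum _ _ ((charDegree θ ^ 2 : ℕ) : ℂ)]
  refine congrArg _ (Finset.sum_congr rfl fun z _ => ?_)
  rw [Pi.mul_apply, map_mul, mul_mul_mul_comm, Complex.mul_conj, Complex.normSq_eq_norm_sq,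
    hθ.isCharacter.mem_charCenter.1 (hZ z.2)]
  push_cast
  rfl

theorem deg12_lt_of_vanish {θ : G → ℂ} (hθ : IsIrrCharacter G θ) (h1 : charDegree θ ≠ 1)
    {Z : Subgroup G} (hZ : Z ≤ charCenter θ) (h0 : ∀ g ∉ Z, θ g = 0) {b : ℕ}
    (hb : ∀ χ, IsIrrCharacter G χ → charDegree χ ≤ b) {φ : Z → ℂ} (hφ : IsIrrCharacter Z φ) :
    charDegree φ < b := by
  have := Fintype.ofFinite Z
  obtain ⟨χ, hχ, hne⟩ := exists_irr_over Z hφ
  have h2 : charDegree φ ≤ charDegree χ := (hχ.isCharacter.restrict Z).charDegree_irr_le hφ hne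
  refine h2.eq_or_lt.elim (fun h => ?_) fun h => h.trans_le (hb χ hχ)
  have h3 := (hχ.isCharacter.restrict Z).eq_irr_of_apply_one hφ hne (by
    rw [← hφ.coe_charDegree, h, hχ.coe_charDegree]; rfl)
  have h4 := hb _ (deg12_mul_irr_of_vanish hθ hZ h0 hχ.isCharacter (h3 ▸ hφ))
  rw [hθ.isCharacter.charDegree_mul hχ.isCharacter] at h4
  have := hθ.charDegree_pos
  have := hχ.charDegree_pos
  have : 2 ≤ charDegree θ := by omega
  nlinarith

/-- If `[G', G] < G'` then some nonlinear irreducible character vanishes off its centre. -/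
theorem deg12_exists_vanish (h : ¬ commutator G ≤ ⁅commutator G, ⊤⁆) :
    ∃ θ, IsIrrCharacter G θ ∧ charDegree θ ≠ 1 ∧ commutator G ≤ charCenter θ ∧
      ∀ g ∉ charCenter θ, θ g = 0 := by
  obtain ⟨g, hg, hg'⟩ := SetLike.not_le_iff_exists.1 h
  obtain ⟨θ, h1, h2⟩ := exists_irr_le_charKer_not_mem _ hg'
  have h3 : commutator G ≤ charCenter (θ : G → ℂ) := fun z hz =>
    θ.2.mem_charCenter_iff_commutator.2 fun y => h1 (Subgroup.commutator_mem_commutator hz trivial)
  refine ⟨θ, θ.2, fun h => h2 ((Deg.charDegree_eq_one_iff_commutator_le θ.2).1 h hg), h3,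
    fun x hx => ?_⟩
  obtain ⟨y, hy⟩ := not_forall.1 (mt θ.2.mem_charCenter_iff_commutator.2 hx)
  refine Deg.apply_eq_zero_of_commutator θ.isCharacter (y := y)
    (h3 (Subgroup.commutator_mem_commutator trivial trivial)) fun h => hy ?_
  simpa [mul_assoc] using (charKer _).inv_mem h

/-- Counting commuting pairs with one member in an abelian subgroup. -/
theorem deg12_card_mul_sum_le [Fintype G] (Z : Subgroup G)
    (hZ : ∀ a ∈ Z, ∀ b ∈ Z, a * b = b * a) :
    Nat.card Z * ∑ χ : IrrCharacter G, charDegree (χ : G → ℂ) ≤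
      ∑ x : G, Nat.card (Z ⊓ Subgroup.centralizer {x} : Subgroup G) := by
  classical
  have h1 : ∑ x : G, Nat.card (Z ⊓ Subgroup.centralizer {x} : Subgroup G) =
      ∑ z : Z, Nat.card (Subgroup.centralizer ({(z : G)} : Set G)) := by
    rw [Finset.sum_congr rfl (g := fun x => ∑ z : Z, if (z : G) * x = x * z then 1 else 0)
      fun x _ => ?_, Finset.sum_comm]
    · refine Finset.sum_congr rfl fun z _ => ?_
      rw [Finset.sum_boole, Nat.cast_id, ← Fintype.card_subtype, Nat.card_eq_fintype_card]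
      exact Fintype.card_congr (Equiv.subtypeEquivRight fun x => by
        rw [Subgroup.mem_centralizer_singleton_iff, eq_comm])
    · rw [Finset.sum_boole, Nat.cast_id, ← Fintype.card_subtype, inf_comm, ← GT.card_subgroupOf,
        Nat.card_eq_fintype_card]
      exact Fintype.card_congr (Equiv.subtypeEquivRight fun x => by
        rw [Subgroup.mem_subgroupOf, Subgroup.mem_centralizer_singleton_iff])
  rw [h1, ← Nat.cast_le (α := ℝ)]
  push_cast
  simp_rw [← sum_irr_norm_sq]
  rw [Finset.sum_comm, Finset.mul_sum]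
  refine Finset.sum_le_sum fun χ _ => ?_
  obtain ⟨m, -, h2, h3⟩ := (χ.isCharacter.restrict Z).exists_nat_classInner_self
  have h4 := re_classInner_self fun z : Z => (χ : G → ℂ) z
  rw [h2, Complex.natCast_re, eq_inv_mul_iff_mul_eq₀ (Nat.cast_ne_zero.2 Nat.card_pos.ne')] at h4
  rw [← h4, ← charDegree_restrict _ Z, h3]
  refine mul_le_mul_of_nonneg_left (Nat.cast_le.2 (Finset.sum_le_sum fun φ _ => ?_))
    (Nat.cast_nonneg _)
  rw [φ.isCharacter.charDegree_eq_one_iff.2 (φ.2.apply_one_eq_one_of_comm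
    fun a b => Subtype.ext (hZ a a.2 b b.2)), mul_one]
  exact Nat.le_self_pow two_ne_zero _

theorem deg12_card_lt_mul_sum {b : ℕ} (h1 : 1 < b)
    (hb : ∀ χ, IsIrrCharacter G χ → charDegree χ ≤ b) :
    Nat.card G < b * ∑ χ : IrrCharacter G, charDegree (χ : G → ℂ) := by
  rw [← sum_sq_charDegree, Finset.mul_sum]
  refine Finset.sum_lt_sum (fun χ _ => ?_) ⟨irrOne G, Finset.mem_univ _, by simpa using h1⟩
  rw [pow_two]
  exact Nat.mul_le_mul_right _ (hb χ χ.2)

/-- The main case of the classification of groups with degrees `1` and `p`. -/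
theorem deg12_index_center {p k : ℕ} (hp : p.Prime)
    (hcd : ∀ χ, IsIrrCharacter G χ → charDegree χ ∣ p) (hk : (Subgroup.center G).index ∣ p ^ k)
    {Z : Subgroup G} [Z.Normal] (hab : ∀ a ∈ Z, ∀ b ∈ Z, a * b = b * a) (hi : Z.index = p ^ 2)
    (hc : commutator G ≤ Z) (hC : Subgroup.centralizer (Z : Set G) ≤ Z) :
    (Subgroup.center G).index = p ^ 3 := by
  classical
  have := Fintype.ofFinite G
  have hp2 := hp.two_le
  have hS : ∀ f : Z →* ℂˣ, (inertia Z fun n => (f n : ℂ)).index ∣ p := fun f => by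
    obtain ⟨χ, hχ, hne⟩ := exists_irr_over Z (isIrrCharacter_monoidHom_units f)
    exact (Deg.index_inertia_dvd hχ (isIrrCharacter_monoidHom_units f) hne).trans (hcd χ hχ)
  have hSn : ∀ f : Z →* ℂˣ, (inertia Z fun n => (f n : ℂ)).Normal := fun f => .of_commutator_le _
    (hc.trans (le_inertia (isCharacter_monoidHom_units f).isClassFunction))
  have hpow : ∀ g : G, g ^ p ∈ Z := fun g => hC (mem_centralizer_of_linConj hab fun f => by
    obtain ⟨c, hc⟩ := hS f
    have := hSn f
    rw [← mem_inertia_lin, hc, pow_mul]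
    exact pow_mem (Subgroup.pow_index_mem _ g) _)
  have hZG : ∀ x : G, Subgroup.center G ≤ Z ⊓ Subgroup.centralizer {x} := fun x =>
    le_inf ((Subgroup.center_le_centralizer _).trans hC) (Subgroup.center_le_centralizer _)
  have hr : ∀ x ∉ Z, ∃ j, (Subgroup.centralizer {x}).relIndex Z = p ^ (j + 1) := fun x hx => by
    obtain ⟨j, -, hj⟩ := (Nat.dvd_prime_pow hp).1 (((Subgroup.relIndex_dvd_index_of_le
      inf_le_left).trans (Subgroup.index_dvd_of_le (hZG x))).trans hk)
    rw [Subgroup.inf_relIndex_left] at hj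
    rcases j with _ | j
    · exact absurd (hC fun z hz => Subgroup.mem_centralizer_singleton_iff.1
        (Subgroup.relIndex_eq_one.1 hj hz)) hx
    · exact ⟨j, hj⟩
  have hcard : ∀ x : G, Nat.card (Z ⊓ Subgroup.centralizer {x} : Subgroup G) *
      (Subgroup.centralizer {x}).relIndex Z = Nat.card Z := fun x => by
    rw [inf_comm, GT.card_inf_mul_relIndex]
  have hex : ∀ H : Subgroup G, Z ≤ H → Nat.card H ≤ p * Nat.card Z →
      ∃ y ∉ H, (Subgroup.centralizer {y}).relIndex Z = p := fun H hZH hH => by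
    by_contra hne
    push Not at hne
    have h1 : ∀ x : G, p ^ 2 * Nat.card (Z ⊓ Subgroup.centralizer {x} : Subgroup G) ≤
        Nat.card Z * (1 + (if x ∈ H then p - 1 else 0) + if x ∈ Z then p * (p - 1) else 0) := by
      intro x
      obtain ⟨q, rfl⟩ : ∃ q, p = q + 1 := ⟨p - 1, by omega⟩
      rw [← hcard x, mul_comm, mul_assoc, add_tsub_cancel_right]
      refine Nat.mul_le_mul_left _ ?_
      by_cases hx : x ∈ Z
      · rw [if_pos hx, if_pos (hZH hx)]
        refine le_trans (le_of_eq (by ring)) (Nat.le_mul_of_pos_left _ (Nat.pos_of_ne_zero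
          Subgroup.index_ne_zero_of_finite))
      obtain ⟨j, hj⟩ := hr x hx
      rw [if_neg hx, hj]
      by_cases hxH : x ∈ H
      · rw [if_pos hxH, add_zero, add_comm 1, ← pow_succ]
        exact Nat.pow_le_pow_right q.succ_pos (by omega)
      · rw [if_neg hxH, add_zero, add_zero, mul_one]
        refine Nat.pow_le_pow_right q.succ_pos (Nat.succ_le_succ (Nat.pos_of_ne_zero ?_))
        rintro rfl
        exact hne x hxH (by rw [hj, zero_add, pow_one])
    have h2 := Finset.sum_le_sum (s := Finset.univ) fun x _ => h1 x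
    rw [← Finset.mul_sum, ← Finset.mul_sum, Finset.sum_add_distrib, Finset.sum_add_distrib,
      ← Finset.sum_filter, ← Finset.sum_filter, Finset.sum_const, Finset.sum_const,
      Finset.sum_const, ← Fintype.card_subtype, ← Fintype.card_subtype, Finset.card_univ,
      ← Nat.card_eq_fintype_card, ← Nat.card_eq_fintype_card, ← Nat.card_eq_fintype_card] at h2
    have h3 := deg12_card_mul_sum_le Z hab
    have h4 := deg12_card_lt_mul_sum hp.one_lt fun χ hχ => Nat.le_of_dvd hp.pos (hcd χ hχ)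
    have h5 := Z.card_mul_index
    rw [hi] at h5
    rw [← h5] at h2 h4
    simp only [smul_eq_mul] at h2
    obtain ⟨q, rfl⟩ : ∃ q, p = q + 2 := ⟨p - 2, by omega⟩
    rw [show q + 2 - 1 = q + 1 from rfl] at h2
    have h6 : 0 < Nat.card Z := Nat.card_pos
    generalize Nat.card Z = a at *
    generalize ∑ χ : IrrCharacter G, charDegree (χ : G → ℂ) = s at *
    have h7 : a * (q + 2) < s := lt_of_mul_lt_mul_left (a := q + 2) (by nlinarith) (Nat.zero_le _)
    have h8 : (q + 2) ^ 2 * s ≤ a * (q + 2) ^ 2 * 1 + Nat.card H * (q + 1) +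
        a * ((q + 2) * (q + 1)) := Nat.le_of_mul_le_mul_left (by nlinarith) h6
    have h9 := Nat.mul_le_mul_right (q + 1) hH
    have h10 := Nat.mul_lt_mul_of_pos_left h7 (show 0 < (q + 2) ^ 2 by positivity)
    nlinarith [Nat.zero_le (a * q), Nat.zero_le (a * q * q), Nat.zero_le (a * q * q * q)]
  have key : ∀ x ∉ Z, ∀ y, (Subgroup.centralizer {y}).relIndex Z = p →
      Z ⊓ Subgroup.centralizer {x} ≤ Subgroup.centralizer {y} := fun x hx y hy u hu => by
    by_contra hu'
    obtain ⟨f, hfx, hfy⟩ : ∃ f : Z →* ℂˣ, linConj x f ≠ f ∧ linConj y f ≠ f := by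
      obtain ⟨a, ha⟩ := not_forall.1 fun h => hx (hC (mem_centralizer_of_linConj hab h))
      obtain ⟨b, hb⟩ := not_forall.1 fun h => hu' (Subgroup.mem_centralizer_singleton_iff.2
        (mem_centralizer_of_linConj hab h u hu.1))
      by_cases ha' : linConj y a = a
      · by_cases hb' : linConj x b = b
        · exact ⟨a * b, by rwa [map_mul, hb', Ne, mul_left_inj],
            by rwa [map_mul, ha', Ne, mul_right_inj]⟩
        · exact ⟨b, hb', hb⟩
      · exact ⟨a, ha, ha'⟩
    have := hSn f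
    have h1 := ((Nat.dvd_prime hp).1 (hS f)).resolve_left fun h =>
      hfx (mem_inertia_lin.1 (Subgroup.index_eq_one.1 h ▸ Subgroup.mem_top x))
    obtain ⟨s, hs, w, hw, rfl⟩ := exists_mul_eq_of_sup_eq_top (deg12_eq_top_of_lt (h1.symm ▸ hp)
      (left_lt_sup.2 fun h => hfx (mem_inertia_lin.1 (Subgroup.zpowers_le.1 h)))) y
    have h2 : (linConj (s * w) f).eqLocus f = ⊤ := by
      refine deg12_eq_top_of_lt (H := (Subgroup.centralizer {s * w}).subgroupOf Z)
        (show Nat.Prime (Subgroup.relIndex _ Z) from hy.symm ▸ hp)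
        (lt_of_le_of_ne (fun z hz => ?_) fun h => hu' ?_)
      · exact congrArg f (Subtype.ext (mul_inv_eq_iff_eq_mul.2
          (Subgroup.mem_centralizer_singleton_iff.1 hz).symm))
      · change (⟨u, hu.1⟩ : Z) ∈ (Subgroup.centralizer {s * w}).subgroupOf Z
        rw [h]
        have h3 : w * u = u * w := by
          obtain ⟨i, rfl⟩ := hw
          exact ((show Commute u x from
            Subgroup.mem_centralizer_singleton_iff.1 hu.2).zpow_right i).eq.symm
        refine Eq.trans ?_ (DFunLike.congr_fun (mem_inertia_lin.1 hs) ⟨u, hu.1⟩)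
        refine congrArg f (Subtype.ext ?_)
        change s * w * u * (s * w)⁻¹ = s * u * s⁻¹
        rw [mul_assoc s, h3]
        group
    exact hfy (MonoidHom.ext fun z => (h2 ▸ Subgroup.mem_top z : z ∈ MonoidHom.eqLocus _ _))
  obtain ⟨y, hy, hyp⟩ := hex Z le_rfl (Nat.le_mul_of_pos_left _ hp.pos)
  set H := (Subgroup.zpowers (y : G ⧸ Z)).comap (QuotientGroup.mk' Z) with hH
  have hZH : Z < H := lt_of_le_of_ne (QuotientGroup.le_comap_mk' _ _)
    fun h => hy (h ▸ Subgroup.mem_zpowers _ : y ∈ _)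
  obtain ⟨x, hx, hxp⟩ := hex H hZH.le (by
    rw [hH, GT.card_comap_mk', Nat.card_zpowers]
    exact Nat.mul_le_mul_right _ (orderOf_le_of_pow_eq_one hp.pos (by
      rw [← QuotientGroup.mk_pow, QuotientGroup.eq_one_iff]; exact hpow y)))
  have h1 : Z ⊓ Subgroup.centralizer {y} ≤ Subgroup.center G := by
    rw [← Subgroup.centralizer_univ, ← Subgroup.coe_top, Subgroup.le_centralizer_iff, top_le_iff]
    have h2 : H.index.Prime := by
      obtain ⟨j, hj, h3⟩ := (Nat.dvd_prime_pow hp).1 (hi ▸ Subgroup.index_dvd_of_le hZH.le)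
      have h4 := Subgroup.index_strictAnti hZH
      rw [hi, h3, Nat.pow_lt_pow_iff_right hp.one_lt] at h4
      obtain rfl : j = 1 := by
        have : j ≠ 0 := by
          rintro rfl
          exact hx (Subgroup.index_eq_one.1 h3 ▸ Subgroup.mem_top x)
        omega
      rwa [h3, pow_one]
    refine deg12_eq_top_of_lt h2 (lt_of_le_of_ne ?_ fun h => hx (h ▸ fun z hz =>
      Subgroup.mem_centralizer_singleton_iff.1 (key y hy x hxp hz)))
    rw [hH, ← QuotientGroup.mk'_apply, ← MonoidHom.map_zpowers, Subgroup.comap_map_eq,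
      QuotientGroup.ker_mk']
    exact sup_le (Subgroup.zpowers_le.2 fun z hz => Subgroup.mem_centralizer_singleton_iff.1 hz.2)
      fun a ha z hz => hab z hz.1 a ha
  rw [le_antisymm (hZG y) h1, ← Subgroup.relIndex_mul_index inf_le_left,
    Subgroup.inf_relIndex_left, hyp, hi, ← pow_succ']

/-- A group with character degrees `1` and `p` has an abelian normal subgroup of index `p` or its
centre has index `p ^ 3`. -/
theorem deg12_prime_degree {p : ℕ} (hp : p.Prime)
    (hcd : ∀ χ, IsIrrCharacter G χ → charDegree χ ≠ 1 → charDegree χ = p)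
    (hex : ∃ χ, IsIrrCharacter G χ ∧ charDegree χ = p) :
    (∃ A : Subgroup G, A.Normal ∧ (∀ a ∈ A, ∀ b ∈ A, a * b = b * a) ∧ A.index = p) ∨
      (Subgroup.center G).index = p ^ 3 := by
  refine or_iff_not_imp_left.2 fun hno => ?_
  have hG := (deg12_two_degrees hcd).resolve_left hno
  have hdvd : ∀ χ, IsIrrCharacter G χ → charDegree χ ∣ p := fun χ hχ => by
    by_cases h : charDegree χ = 1
    · simp [h]
    · rw [hcd χ hχ h]
  have hna : ¬ ∀ a b : G, a * b = b * a := fun h => by
    obtain ⟨χ, hχ, h1⟩ := hex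
    exact hp.ne_one (h1 ▸ hχ.isCharacter.charDegree_eq_one_iff.2 (hχ.apply_one_eq_one_of_comm h))
  obtain ⟨q, e, hq, he, P, A, _, -, hP, hA, h1, h2⟩ := deg12_of_isNilpotent hp.ne_one hcd hex
  obtain rfl : q = p := (Nat.prime_dvd_prime_iff_eq hq hp).1
    (he ▸ dvd_pow_self q (by rintro rfl; exact hp.ne_one he))
  have := Fact.mk hq
  obtain ⟨k, hk⟩ := hP.exists_card_eq
  obtain ⟨θ, hθ, h3, h4, h5⟩ := deg12_exists_vanish (G := G) fun h => hna fun a b => by
    have h6 := GT.Tr.eq_bot_of_le_commutator (P := ⊤) inferInstance le_top h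
    exact Subgroup.commutator_eq_bot_iff_le_centralizer.1 h6 trivial a trivial
  have := hθ.isCharacter.charCenter_normal
  have := Fintype.ofFinite G
  have := Fintype.ofFinite (charCenter θ)
  have hab : ∀ a b : charCenter θ, a * b = b * a := comm_iff_forall_irr_linear.2 fun φ => by
    have h6 := deg12_lt_of_vanish hθ h3 le_rfl h5
      (fun χ hχ => Nat.le_of_dvd hp.pos (hdvd χ hχ)) φ.2
    obtain ⟨χ, hχ, hne⟩ := exists_irr_over _ φ.2
    exact φ.isCharacter.charDegree_eq_one_iff.1 (((Nat.dvd_prime hp).1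
      ((charDegree_dvd_of_under hχ φ.2 hne).trans (hdvd χ hχ))).resolve_right h6.ne)
  have hab' : ∀ a ∈ charCenter θ, ∀ b ∈ charCenter θ, a * b = b * a := fun a ha b hb =>
    congrArg Subtype.val (hab ⟨a, ha⟩ ⟨b, hb⟩)
  have hi : (charCenter θ).index = q ^ 2 := by
    rw [← Deg.sq_charDegree_eq_index hθ _ le_rfl h5, hcd θ hθ h3]
  refine deg12_index_center hp hdvd (k := k) ((Subgroup.index_dvd_of_le hA).trans ?_) hab' hi h4
    fun x hx => by_contra fun hx' => ?_
  · rw [← hk, (Subgroup.isComplement'_of_disjoint_and_mul_eq_univ (disjoint_iff.2 h1)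
      (by rw [← Subgroup.normal_mul, h2, Subgroup.coe_top])).index_eq_card]
  · have h6 : ∀ a ∈ charCenter θ ⊔ Subgroup.zpowers x, ∀ b ∈ charCenter θ ⊔ Subgroup.zpowers x,
        a * b = b * a := by
      have h7 : charCenter θ ⊔ Subgroup.zpowers x ≤ Subgroup.centralizer (charCenter θ) :=
        sup_le (fun a ha b hb => hab' b hb a ha) (Subgroup.zpowers_le.2 hx)
      refine fun a ha b hb => (sup_le (Subgroup.le_centralizer_iff.1 h7) (Subgroup.zpowers_le.2 ?_) :
        _ ≤ Subgroup.centralizer (charCenter θ ⊔ Subgroup.zpowers x : Subgroup G)) hb a ha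
      refine Subgroup.zpowers_le.1 (Subgroup.le_centralizer_iff.1 (sup_le
        (Subgroup.le_centralizer_iff.1 (Subgroup.zpowers_le.2 hx)) (Subgroup.le_centralizer _)))
    have h7 : charCenter θ < charCenter θ ⊔ Subgroup.zpowers x :=
      left_lt_sup.2 fun h => hx' (Subgroup.zpowers_le.1 h)
    obtain ⟨j, hj, h8⟩ := (Nat.dvd_prime_pow hp).1 (hi ▸ Subgroup.index_dvd_of_le h7.le)
    have h9 := Subgroup.index_strictAnti h7
    rw [hi, h8, Nat.pow_lt_pow_iff_right hp.one_lt] at h9
    interval_cases j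
    · rw [Subgroup.index_eq_one.1 h8] at h6
      exact hna fun a b => h6 a trivial b trivial
    · exact hno ⟨_, .of_commutator_le _ (h4.trans le_sup_left), h6, by rw [h8, pow_one]⟩

end Cfsg.Agent.Ch
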