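import Mathlib
import Cfsg.Agent.Ch.Deg12B
import Cfsg.Agent.GT.MinNormal
import Cfsg.Agent.S0588

/-!
# Frobenius sections and character degrees
-/

set_option autoImplicit false

namespace Cfsg.Agent.Ch

open Cfsg
open scoped ComplexConjugate

variable {G : Type*} [Group G]

theorem deg12_smul_eq {Λ X : Type*} [CommGroup Λ] [Finite Λ] [MulAction Λ X] (N : Subgroup G)
    (c : G → Λ →* Λ) (d : G → X → X) (hc : ∀ g h a, c (g * h) a = c h (c g a))
    (hd : ∀ g h x, d (g * h) x = d h (d g x)) (hcd : ∀ g (a : Λ) x, d g (a • x) = c g a • d g x)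
    (hc1 : ∀ a, c 1 a = a) {ψ : X} (hdN : ∀ g ∈ N, ∀ a : Λ, d g (a • ψ) = a • ψ)
    (hfpf : ∀ g ∉ N, ∀ a, c g a = a → a = 1)
    (h : ∀ a : Λ, ∃ g ∉ N, d g (a • ψ) = a • ψ) (ν : Λ) : ν • ψ = ψ := by
  set U := MulAction.stabilizer Λ ψ
  have hU : ∀ a b : Λ, b • a • ψ = a • ψ ↔ b ∈ U := fun a b => by
    rw [smul_comm, smul_left_cancel_iff, MulAction.mem_stabilizer_iff]
  have h1 : ∀ g (a : Λ), d g (a • ψ) = a • ψ → ∀ u ∈ U, c g u ∈ U := fun g a hg u hu => by
    rw [← hU a, ← hg, ← hcd, (hU a u).2 hu]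
  have h2 : ∀ g (a : Λ), d g (a • ψ) = a • ψ → d g⁻¹ (a • ψ) = a • ψ := fun g a hg => by
    rw [← hg, ← hd, mul_inv_cancel, hdN 1 N.one_mem, hg]
  have h3 : ∀ g ∉ N, (∀ u ∈ U, c g u ∈ U) → ∀ a, c g a * a⁻¹ ∈ U → a ∈ U := fun g hg hgU a ha => by
    have hinj : ∀ a b, c g a * a⁻¹ = c g b * b⁻¹ → a = b := fun a b hab => by
      rw [← mul_inv_eq_one]
      refine hfpf g hg _ ?_
      rw [map_mul, map_inv, mul_inv_eq_iff_eq_mul.1 hab, mul_right_comm, mul_right_comm (c g b),
        mul_inv_cancel, one_mul, mul_comm]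
    obtain ⟨u, hu⟩ := (Finite.injective_iff_surjective (f := fun u : U =>
      (⟨c g u * u⁻¹, U.mul_mem (hgU u u.2) (U.inv_mem u.2)⟩ : U))).1
      (fun a b hab => Subtype.ext (hinj _ _ (congrArg Subtype.val hab))) ⟨_, ha⟩
    exact hinj _ _ (congrArg Subtype.val hu) ▸ u.2
  by_contra hν
  choose x hx hx' using fun ω : MulAction.orbit Λ ψ => show ∃ g ∉ N, ∃ a : Λ, a • ψ = ω ∧
    d g (a • ψ) = a • ψ from (h ω.2.choose).imp fun g hg => ⟨hg.1, _, ω.2.choose_spec, hg.2⟩
  have : Finite (MulAction.orbit Λ ψ) := Set.finite_range _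
  obtain ⟨ω, hω⟩ := (Finite.injective_iff_surjective (f := fun ω : MulAction.orbit Λ ψ =>
    (⟨c (x ω) ν • ψ, MulAction.mem_orbit _ _⟩ : MulAction.orbit Λ ψ))).1 (fun ω ω' he => by
      obtain ⟨a, ha, ha'⟩ := hx' ω
      obtain ⟨b, hb, hb'⟩ := hx' ω'
      have h4 : c (x ω' * (x ω)⁻¹) ν * ν⁻¹ ∈ U := by
        have h5 : c (x ω') ν * (c (x ω) ν)⁻¹ ∈ U := by
          rw [MulAction.mem_stabilizer_iff, mul_comm, mul_smul, inv_smul_eq_iff]
          exact (congrArg Subtype.val he).symm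
        have h6 := h1 _ _ (h2 _ _ ha') _ h5
        rwa [map_mul, map_inv, ← hc, ← hc, mul_inv_cancel, hc1] at h6
      have h5 : x ω' * (x ω)⁻¹ ∈ N := by_contra fun h5 => hν (h3 _ h5 (fun u hu => by
        rw [hc]; exact h1 _ _ (h2 _ _ ha') _ (h1 _ _ hb' u hu)) ν h4)
      rw [← inv_mul_cancel_right (x ω') (x ω), hd, hdN _ h5, ← inv_mul_cancel_right b a, mul_smul,
        hcd, ha', ← inv_smul_eq_iff, ← mul_smul, eq_comm, ← mul_smul, mul_comm] at hb'
      refine Subtype.ext ?_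
      rw [← ha, ← hb, ← inv_mul_cancel_right b a, mul_smul,
        (hU a _).2 (h3 _ (hx ω) (h1 _ _ ha') _ ?_)]
      rw [mul_smul, eq_comm, smul_left_cancel_iff, mul_comm] at hb'
      exact hb') ⟨ψ, MulAction.mem_orbit_self _⟩
  obtain ⟨a, -, ha⟩ := hx' ω
  have h4 := h1 _ _ (h2 _ _ ha) _ (congrArg Subtype.val hω)
  rw [← hc, mul_inv_cancel, hc1] at h4
  exact hν h4

variable [Finite G]

/-- An irreducible character vanishing off a normal subgroup `K` has `|G : K| ∣ χ(1) ^ 2`. -/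
theorem deg12_index_dvd_sq {K : Subgroup G} [K.Normal] {ψ : G → ℂ} (hψ : IsIrrCharacter G ψ)
    (h : ∀ g ∉ K, ψ g = 0) : K.index ∣ charDegree ψ ^ 2 := by
  have := Fintype.ofFinite G
  have := Fintype.ofFinite K
  obtain ⟨φ, hφ, hne⟩ := exists_irr_under K hψ
  obtain ⟨e, -, h1, h2⟩ := Deg.exists_charDegree_eq_mul hψ hφ hne
  have h3 := (classInner_res_self_eq_index_iff K hψ).2 h
  rw [classInner_res_self hψ hφ hne, h1] at h3
  refine ⟨(inertia K φ).index * charDegree φ ^ 2, ?_⟩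
  rw [h2, ← show e ^ 2 * (inertia K φ).index = K.index by exact_mod_cast h3]
  ring

/-- A Frobenius section `N / K` of `G` with abelian kernel and abelian complement. -/
structure FrobSec (N K : Subgroup G) : Prop where
  lt : K < N
  ne_top : N ≠ ⊤
  commutator_le : commutator G ≤ N
  comm : ⁅N, N⁆ ≤ K
  coprime : (K.relIndex N).Coprime N.index
  surj : ∀ g ∉ N, ∀ n ∈ N, ∃ u ∈ N, u * (g * u⁻¹ * g⁻¹) * n⁻¹ ∈ K

omit [Finite G] in
theorem FrobSec.eq_one {N K : Subgroup G} [N.Normal] (h : FrobSec N K) {g : G} (hg : g ∉ N)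
    {f : N →* ℂˣ} (hf : K.subgroupOf N ≤ f.ker) (hfix : linConj g f = f) : f = 1 := by
  ext1 n
  obtain ⟨u, hu, h1⟩ := h.surj g hg n n.2
  have h2 : f (⟨u, hu⟩ * MulAut.conjNormal g ⟨u, hu⟩⁻¹ * n⁻¹) = 1 := hf h1
  rw [map_mul, map_mul, show f (MulAut.conjNormal g ⟨u, hu⟩⁻¹) = f ⟨u, hu⟩⁻¹ from
    DFunLike.congr_fun hfix _, ← map_mul, mul_inv_cancel, map_one, one_mul, map_inv,
    inv_eq_one] at h2
  exact h2

omit [Finite G] in
theorem FrobSec.exists_hom {N K : Subgroup G} [Finite N] [K.Normal] (h : FrobSec N K) {n : N}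
    (hn : (n : G) ∉ K) : ∃ f : N →* ℂˣ, K.subgroupOf N ≤ f.ker ∧ f n ≠ 1 := by
  obtain ⟨f, hf⟩ := exists_monoidHom_units_ne_one_of_comm (G := N ⧸ K.subgroupOf N)
    (Subgroup.Normal.quotient_commutative_iff_commutator_le.2
      (commutator_le_subgroupOf h.comm)).is_comm.comm
    (g := (n : N ⧸ K.subgroupOf N)) (mt (QuotientGroup.eq_one_iff n).1 hn)
  exact ⟨f.comp (QuotientGroup.mk' _), fun x hx => by
    simp [MonoidHom.mem_ker, (QuotientGroup.eq_one_iff x).2 hx], hf⟩

/-- Isaacs, Theorem 12.4. -/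
theorem FrobSec.exists_or_dvd {N K : Subgroup G} [N.Normal] [hK : K.Normal] (h : FrobSec N K)
    {ψ : N → ℂ} (hψ : IsIrrCharacter N ψ) :
    (∃ χ, IsIrrCharacter G χ ∧ charDegree χ = N.index * charDegree ψ) ∨
      K.relIndex N ∣ charDegree ψ ^ 2 := by
  have := Fintype.ofFinite G
  let L : Subgroup (N →* ℂˣ) :=
    { carrier := {f | K.subgroupOf N ≤ f.ker}
      one_mem' := fun _ _ => rfl
      mul_mem' := fun {a b} ha hb x hx => by
        rw [MonoidHom.mem_ker, MonoidHom.mul_apply, ha hx, hb hx, one_mul]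
      inv_mem' := fun {a} ha x hx => by
        rw [MonoidHom.mem_ker, MonoidHom.inv_apply, ha hx, inv_one] }
  let _ : MulAction L (N → ℂ) :=
    { smul := fun a x n => a.1 n * x n
      one_smul := fun x => funext fun n => one_mul _
      mul_smul := fun a b x => funext fun n => mul_assoc _ _ _ }
  refine or_iff_not_imp_left.2 fun H => deg12_index_dvd_sq hψ fun n hn => ?_
  obtain ⟨f, hf, hfn⟩ := h.exists_hom hn
  have h1 := deg12_smul_eq (Λ := L) (ψ := ψ) N (fun g => ((linConj g).comp L.subtype).codRestrict L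
    fun a x hx => a.2 (hK.conj_mem _ hx g)) (fun g => conjChar g)
    (fun g h a => Subtype.ext (linConj_mul g h a.1)) conjChar_mul (fun g a x => rfl)
    (fun a => Subtype.ext (linConj_one a.1))
    (fun g hg a => conjChar_of_mem (hψ.monoidHom_mul a.1).isClassFunction hg)
    (fun g hg a ha => Subtype.ext (h.eq_one hg a.2 (congrArg Subtype.val ha))) (fun a => ?_) ⟨f, hf⟩
  · exact (mul_left_eq_self₀.1 (congrFun h1 n)).resolve_left fun h => hfn (Units.ext h)
  · have h2 := hψ.monoidHom_mul a.1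
    by_contra h3
    push Not at h3
    refine H ⟨_, isIrrCharacter_indFun_of_inertia_le h2 fun g hg => by_contra fun hg' =>
      h3 g hg' hg, ?_⟩
    rw [Deg.charDegree_indFun N h2.isCharacter]
    exact congrArg _ (charDegree_congr (by simp))

/-- Isaacs, Lemma 12.3, the Frobenius case. -/
theorem deg12_centralizer_le (hmin : ∀ L : Subgroup G, L.Normal → L ≠ ⊥ → commutator G ≤ L)
    (hab : ⁅commutator G, commutator G⁆ = ⊥) (hnc : ⁅commutator G, (⊤ : Subgroup G)⁆ ≠ ⊥) :
    ∀ m ∈ commutator G, m ≠ 1 → Subgroup.centralizer {m} ≤ commutator G := by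
  rw [Subgroup.commutator_eq_bot_iff_le_centralizer] at hab
  have h1 : ∀ m ∈ commutator G, m ≠ 1 →
      Subgroup.centralizer {m} ≤ Subgroup.centralizer (commutator G) := fun m hm hm1 => by
    have : (Subgroup.centralizer ({m} : Set G)).Normal := .of_commutator_le _ fun x hx =>
      Subgroup.mem_centralizer_singleton_iff.2 (hab hm x hx)
    refine Subgroup.le_centralizer_iff.1 (hmin _ inferInstance fun h => hm1 ?_)
    rw [← Subgroup.mem_bot, ← h]
    exact fun x hx => Subgroup.mem_centralizer_singleton_iff.1 hx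
  have hZ : ¬ commutator G ≤ Subgroup.center G := fun h => hnc
    (Subgroup.commutator_eq_bot_iff_le_centralizer.2 fun a ha b _ =>
      Subgroup.mem_center_iff.1 (h ha) b)
  obtain ⟨x, hx⟩ : ∃ x, x ∉ Subgroup.centralizer (commutator G : Set G) := by
    by_contra h
    push Not at h
    exact hZ fun a ha => Subgroup.mem_center_iff.2 fun g => (h g a ha).symm
  have h2 : ∀ k ∈ commutator G, x * k = k * x → k = 1 := fun k hk h => by_contra fun hk1 =>
    hx (h1 k hk hk1 (Subgroup.mem_centralizer_singleton_iff.2 h))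
  have h3 : ∀ g : G, ∃ u ∈ commutator G, u⁻¹ * g * x = x * (u⁻¹ * g) := fun g => by
    obtain ⟨u, hu, h⟩ := exists_conj_eq_mul_of_fpf h2 (k := g * x * g⁻¹ * x⁻¹)
      (Subgroup.commutator_mem_commutator trivial trivial)
    refine ⟨u, hu, ?_⟩
    rw [inv_mul_cancel_right, mul_inv_eq_iff_eq_mul] at h
    calc u⁻¹ * g * x = u⁻¹ * (g * x * g⁻¹ * u) * u⁻¹ * g := by group
      _ = x * (u⁻¹ * g) := by rw [← h]; group
  intro m hm hm1 c hc
  obtain ⟨u, hu, h4⟩ := h3 c
  have h5 : u⁻¹ * c ∈ Subgroup.center G := Subgroup.mem_center_iff.2 fun g => by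
    obtain ⟨v, hv, h6⟩ := h3 g
    have h7 := h2 _ (Subgroup.commutator_mem_commutator (g₁ := u⁻¹ * c) (g₂ := v⁻¹ * g)
      trivial trivial) (Commute.mul_right (Commute.mul_right (Commute.mul_right h4.symm h6.symm)
        (Commute.inv_right h4.symm)) (Commute.inv_right h6.symm))
    have h8 := mul_mem (inv_mem (hab hu)) (h1 m hm hm1 hc) v hv
    rw [← mul_inv_cancel_left v g, mul_assoc, ← commutatorElement_eq_one_iff_mul_comm.1 h7,
      ← mul_assoc, h8, mul_assoc]
  have h6 : Subgroup.center G = ⊥ := by_contra fun h => hZ (hmin _ inferInstance h)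
  rw [h6, Subgroup.mem_bot, inv_mul_eq_one] at h5
  exact h5 ▸ hu

theorem deg12_exists_maximal {K : Subgroup G} [K.Normal] (h : ¬ commutator G ≤ K) :
    ∃ L : Subgroup G, ∃ _ : L.Normal, K ≤ L ∧ ¬ commutator G ≤ L ∧
      ∀ M : Subgroup (G ⧸ L), M.Normal → M ≠ ⊥ → commutator (G ⧸ L) ≤ M := by
  obtain ⟨L, hKL, ⟨hL, h1⟩, hmax⟩ := GT.exists_maximal_ge
    (P := fun L : Subgroup G => L.Normal ∧ ¬ commutator G ≤ L) (H := K) ⟨inferInstance, h⟩
  refine ⟨L, hL, hKL, h1, fun M hM hM1 => ?_⟩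
  rw [commutator_def, ← Subgroup.map_top_of_surjective _ (QuotientGroup.mk'_surjective L),
    ← Subgroup.map_commutator, Subgroup.map_le_iff_le_comap]
  by_contra h2
  refine hM1 ?_
  rw [← Subgroup.map_comap_eq_self_of_surjective (QuotientGroup.mk'_surjective L) M,
    hmax _ ⟨hM.comap _, h2⟩ (QuotientGroup.le_comap_mk' _ _), QuotientGroup.map_mk'_self]

omit [Finite G] in
theorem deg12_commutator_quotient (K : Subgroup G) [K.Normal] :
    commutator (G ⧸ K) = (commutator G).map (QuotientGroup.mk' K) := by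
  rw [commutator_def, ← Subgroup.map_top_of_surjective _ (QuotientGroup.mk'_surjective K),
    ← Subgroup.map_commutator, commutator_def]

theorem deg12_exists_frobSec (h1 : commutator G ≤ ⁅commutator G, ⊤⁆)
    (h2 : ¬ commutator G ≤ ⁅commutator G, commutator G⁆) :
    ∃ N K : Subgroup G, N.Normal ∧ K.Normal ∧ ¬ commutator G ≤ K ∧ FrobSec N K := by
  obtain ⟨K, _, h3, h4, hmin⟩ := deg12_exists_maximal h2
  have hs := QuotientGroup.mk'_surjective K
  have hab : ⁅commutator (G ⧸ K), commutator (G ⧸ K)⁆ = ⊥ := by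
    rwa [deg12_commutator_quotient, ← Subgroup.map_commutator, Subgroup.map_eq_bot_iff,
      QuotientGroup.ker_mk']
  have hnc : ⁅commutator (G ⧸ K), (⊤ : Subgroup (G ⧸ K))⁆ ≠ ⊥ := by
    rw [deg12_commutator_quotient, ← Subgroup.map_top_of_surjective _ hs,
      ← Subgroup.map_commutator, Ne, Subgroup.map_eq_bot_iff, QuotientGroup.ker_mk']
    exact fun h => h4 (h1.trans h)
  have hC := deg12_centralizer_le hmin hab hnc
  have h5 : commutator G ≤ (commutator (G ⧸ K)).comap (QuotientGroup.mk' K) := by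
    rw [deg12_commutator_quotient]
    exact Subgroup.le_comap_map _ _
  refine ⟨(commutator (G ⧸ K)).comap (QuotientGroup.mk' K), K, inferInstance, inferInstance, h4,
    lt_of_le_of_ne (QuotientGroup.le_comap_mk' _ _) fun h => h4 (h5.trans h.ge), fun h => hnc ?_,
    h5, ?_, ?_, fun g hg n hn => ?_⟩
  · rwa [← Subgroup.map_top_of_surjective _ hs, ← h, Subgroup.map_comap_eq_self_of_surjective hs]
  · conv_rhs => rw [← QuotientGroup.ker_mk' K]
    rw [← Subgroup.map_eq_bot_iff, Subgroup.map_commutator,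
      Subgroup.map_comap_eq_self_of_surjective hs, hab]
  · rw [← GT.card_map_mk'_eq_relIndex, Subgroup.map_comap_eq_self_of_surjective hs,
      Subgroup.index_comap_of_surjective _ hs]
    exact S0588.result _ hC
  · obtain ⟨u, hu, h⟩ := exists_conj_eq_mul_of_fpf (N := commutator (G ⧸ K)) (h := (g : G ⧸ K))
      (fun k hk h => by_contra fun hk1 =>
        hg (hC k hk hk1 (Subgroup.mem_centralizer_singleton_iff.2 h))) (k := (n : G ⧸ K)) hn
    obtain ⟨u, rfl⟩ := QuotientGroup.mk_surjective u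
    refine ⟨u, hu, (QuotientGroup.eq_one_iff _).1 ?_⟩
    simp only [QuotientGroup.mk_mul, QuotientGroup.mk_inv, ← mul_assoc, h]
    group

/-- If `G / K` is not abelian then the degrees of `K` are at most half the largest degree. -/
theorem deg12_two_mul_le {K : Subgroup G} [K.Normal] (h : ¬ commutator G ≤ K) {b : ℕ}
    (hb : ∀ χ, IsIrrCharacter G χ → charDegree χ ≤ b) {φ : K → ℂ} (hφ : IsIrrCharacter K φ) :
    2 * charDegree φ ≤ b := by
  have := Fintype.ofFinite G
  have := Fintype.ofFinite K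
  obtain ⟨χ, hχ, hne⟩ := exists_irr_over K hφ
  obtain ⟨e, he⟩ := charDegree_dvd_of_under hχ hφ hne
  have h1 := hχ.charDegree_pos
  by_cases he1 : e = 1
  · rw [he1, mul_one] at he
    have h3 := (hχ.isCharacter.restrict K).eq_irr_of_apply_one hφ hne (by
      rw [← hφ.coe_charDegree, ← he, hχ.coe_charDegree]; rfl)
    obtain ⟨β, hβ, hk, h4⟩ : ∃ β, IsIrrCharacter G β ∧ K ≤ charKer β ∧ charDegree β ≠ 1 := by
      by_contra H
      push Not at H
      exact h (deg12_commutator_le_of_forall_linear K H)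
    have h5 := hb _ (gallagher_mul_irr hχ.isCharacter (h3 ▸ hφ) hβ hk)
    rw [hβ.isCharacter.charDegree_mul hχ.isCharacter, he] at h5
    have := hβ.charDegree_pos
    exact (Nat.mul_le_mul_right _ (by omega)).trans h5
  · have : e ≠ 0 := by rintro rfl; simp [he] at h1
    exact le_trans (by rw [he, mul_comm]; exact Nat.mul_le_mul_left _ (by omega)) (hb χ hχ)

/-- The index of the kernel of a Frobenius section is a character degree. -/
theorem FrobSec.exists_charDegree_eq {N K : Subgroup G} [N.Normal] [K.Normal] (h : FrobSec N K) :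
    ∃ χ, IsIrrCharacter G χ ∧ charDegree χ = N.index := by
  rcases h.exists_or_dvd IsIrrCharacter.one with h1 | h1
  · simpa using h1
  · rw [charDegree_one, one_pow, Nat.dvd_one, Subgroup.relIndex_eq_one] at h1
    exact absurd h1 h.lt.not_ge

end Cfsg.Agent.Ch
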