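import Mathlib
import Cfsg.Agent.Ch.Deg12C
import Cfsg.Agent.Ch.TripleFin
import Cfsg.Agent.Ch.SmallDegree

/-!
# Groups with three character degrees
-/

set_option autoImplicit false

namespace Cfsg.Agent.Ch

open Cfsg
open scoped ComplexConjugate

universe u

section Type'

variable {G : Type*} [Group G] [Fintype G] {m n : ℕ}

/-- The constituents of a product of characters of coprime degrees `m` and `n`. -/
theorem deg12_type (hc : m.Coprime n) (hm : m ≠ 1)
    (hcd : ∀ χ, IsIrrCharacter G χ → charDegree χ = 1 ∨ charDegree χ = m ∨ charDegree χ = n)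
    {α β : G → ℂ} (hα : IsIrrCharacter G α) (hβ : IsIrrCharacter G β) (h1 : charDegree α = m)
    (h2 : charDegree β = n) {ξ : G → ℂ} (hξ : IsIrrCharacter G ξ) (h3 : classInner (α * β) ξ ≠ 0)
    (h4 : charDegree ξ ≠ n) {φ : G → ℂ} (hφ : IsIrrCharacter G φ)
    (h5 : classInner (α * β) φ ≠ 0) : charDegree φ = m := by
  classical
  have hmn : m ≠ n := by rintro rfl; exact hm (by simpa using hc)
  have hab := hα.isCharacter.mul hβ.isCharacter
  obtain ⟨k, hk, -, hd⟩ := hab.exists_nat_classInner_self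
  have hne : ∀ ψ : IrrCharacter G, k ψ ≠ 0 → charDegree (ψ : G → ℂ) ≠ m →
      charDegree (ψ : G → ℂ) = n := fun ψ h0 h => ((hcd ψ ψ.2).resolve_left fun h6 => by
    have h7 := hβ.complexConj.linear_mul ψ.isCharacter (ψ.isCharacter.charDegree_eq_one_iff.1 h6)
    have h8 := hα.eq_of_classInner_ne_zero h7 (by
      rw [← classInner_mul_left, hk]; exact_mod_cast h0)
    rw [h8, ψ.isCharacter.charDegree_mul hβ.complexConj.isCharacter, h6, one_mul,
      charDegree_congr hβ.isCharacter.conj_apply_one, h2] at h1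
    exact hmn h1.symm).resolve_left h
  have e1 : ∑ ψ : IrrCharacter G with charDegree ψ.1 = m, k ψ * charDegree ψ.1 =
      (∑ ψ : IrrCharacter G with charDegree ψ.1 = m, k ψ) * m := by
    rw [Finset.sum_mul]
    exact Finset.sum_congr rfl fun ψ hψ => by rw [(Finset.mem_filter.1 hψ).2]
  have e2 : ∑ ψ : IrrCharacter G with ¬ charDegree ψ.1 = m, k ψ * charDegree ψ.1 =
      (∑ ψ : IrrCharacter G with ¬ charDegree ψ.1 = m, k ψ) * n := by
    rw [Finset.sum_mul]
    refine Finset.sum_congr rfl fun ψ hψ => ?_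
    by_cases h0 : k ψ = 0
    · simp [h0]
    · rw [hne ψ h0 (Finset.mem_filter.1 hψ).2]
  rw [hα.isCharacter.charDegree_mul hβ.isCharacter, h1, h2,
    ← Finset.sum_filter_add_sum_filter_not _ fun ψ : IrrCharacter G => charDegree ψ.1 = m,
    e1, e2] at hd
  have h6 : k ⟨ξ, hξ⟩ ≠ 0 := fun h => h3 ((hk ⟨ξ, hξ⟩).trans (by simp [h]))
  have h7 : 0 < ∑ ψ : IrrCharacter G with charDegree ψ.1 = m, k ψ :=
    (Nat.pos_of_ne_zero h6).trans_le (Finset.single_le_sum (f := k) (fun _ _ => Nat.zero_le _)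
      (Finset.mem_filter.2 ⟨Finset.mem_univ _, by_contra fun h => h4 (hne _ h6 h)⟩))
  by_contra h8
  have h9 : k ⟨φ, hφ⟩ ≠ 0 := fun h => h5 ((hk ⟨φ, hφ⟩).trans (by simp [h]))
  have h10 : 0 < ∑ ψ : IrrCharacter G with ¬ charDegree ψ.1 = m, k ψ :=
    (Nat.pos_of_ne_zero h9).trans_le (Finset.single_le_sum (f := k) (fun _ _ => Nat.zero_le _)
      (Finset.mem_filter.2 ⟨Finset.mem_univ _, h8⟩))
  have h11 := Nat.le_of_dvd h10 (hc.dvd_of_dvd_mul_right
    ((Nat.dvd_add_right (dvd_mul_left m _)).1 (hd ▸ dvd_mul_right m n)))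
  have := h1 ▸ hα.charDegree_pos
  nlinarith

theorem deg12_charCenter_ne_bot_aux (hc : m.Coprime n) (hm : m ≠ 1)
    (hcd : ∀ χ, IsIrrCharacter G χ → charDegree χ = 1 ∨ charDegree χ = m ∨ charDegree χ = n)
    {χ ψ : G → ℂ} (hχ : IsIrrCharacter G χ) (hψ : IsIrrCharacter G ψ) (h1 : charDegree χ = m)
    (h2 : charDegree ψ = n)
    (h3 : ∀ φ, IsIrrCharacter G φ → classInner (χ * ψ) φ ≠ 0 → charDegree φ = m) :
    charCenter ψ ≠ ⊥ := by
  intro hZ
  have hmn : m ≠ n := by rintro rfl; exact hm (by simpa using hc)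
  have hψ' := hψ.complexConj
  have h2' : charDegree (fun g => conj (ψ g)) = n :=
    (charDegree_congr hψ.isCharacter.conj_apply_one).trans h2
  have hη := hψ.isCharacter.mul hψ'.isCharacter
  have key : ∀ k : ℕ, ∀ φ, IsIrrCharacter G φ →
      classInner (χ * (ψ * fun g => conj (ψ g)) ^ k) φ ≠ 0 → charDegree φ = m ∧
        ∀ ξ, IsIrrCharacter G ξ → classInner (φ * ψ) ξ ≠ 0 → charDegree ξ = m := fun k => by
    induction k with
    | zero =>
      intro φ hφ h
      rw [pow_zero, mul_one] at h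
      exact hχ.eq_of_classInner_ne_zero hφ h ▸ ⟨h1, h3⟩
    | succ k ih =>
      intro φ' hφ' h
      rw [pow_succ, ← mul_assoc, ← mul_assoc, classInner_mul_left] at h
      simp only [Complex.conj_conj] at h
      obtain ⟨ξ, hξ, h4, h5⟩ :=
        ((hχ.isCharacter.mul (hη.pow k)).mul hψ.isCharacter).exists_common_constituent h
      rw [classInner_mul_left] at h4
      obtain ⟨φ, hφ, h6, h7⟩ := (hχ.isCharacter.mul (hη.pow k)).exists_common_constituent h4
      obtain ⟨h8, h9⟩ := ih φ hφ h6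
      have h10 := h9 ξ hξ (by
        rwa [classInner_mul_left, Ne, classInner_eq_zero_comm])
      have h11 := deg12_type hc hm hcd hξ hψ' h10 h2' hφ h7 (h8 ▸ hmn) hφ' (by
        rwa [Ne, classInner_eq_zero_comm, ← classInner_mul_left])
      exact ⟨h11, fun ζ hζ => deg12_type hc hm hcd hφ' hψ h11 h2 hξ h5 (h10 ▸ hmn) hζ⟩
  obtain ⟨i, -, hi⟩ := hη.exists_classInner_pow_ne_zero (ψ := fun g => conj (χ g))
    (eq_bot_iff.2 fun g hg => hZ ▸ hψ.isCharacter.mem_charCenter_iff_norm.2 (by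
      have h4 := congrArg norm (apply_eq_of_mem_charKer hg)
      simp only [Pi.mul_apply, norm_mul, RCLike.norm_conj] at h4
      exact (mul_self_inj (norm_nonneg _) (norm_nonneg _)).1 h4))
    (by simpa using hχ.apply_one_ne_zero)
  refine hm ((key i _ IsIrrCharacter.one ?_).1.symm.trans charDegree_one)
  rw [mul_comm, classInner_mul_left]
  convert hi using 2 <;> funext g <;> simp

/-- Characters of coprime degrees `m` and `n` cannot both have trivial centre. -/
theorem deg12_charCenter_ne_bot (hc : m.Coprime n) (hm : m ≠ 1) (hn : n ≠ 1)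
    (hcd : ∀ χ, IsIrrCharacter G χ → charDegree χ = 1 ∨ charDegree χ = m ∨ charDegree χ = n)
    {χ ψ : G → ℂ} (hχ : IsIrrCharacter G χ) (hψ : IsIrrCharacter G ψ) (h1 : charDegree χ = m)
    (h2 : charDegree ψ = n) : charCenter χ ≠ ⊥ ∨ charCenter ψ ≠ ⊥ := by
  have hmn : m ≠ n := by rintro rfl; exact hm (by simpa using hc)
  obtain ⟨ξ, hξ, h⟩ := (hχ.isCharacter.mul hψ.isCharacter).exists_irr_constituent fun h =>
    mul_ne_zero hχ.apply_one_ne_zero hψ.apply_one_ne_zero (congrFun h 1)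
  by_cases h3 : charDegree ξ = n
  · have hcd' : ∀ χ, IsIrrCharacter G χ → charDegree χ = 1 ∨ charDegree χ = n ∨ charDegree χ = m :=
      fun χ hχ => (hcd χ hχ).imp_right Or.symm
    exact Or.inl (deg12_charCenter_ne_bot_aux hc.symm hn hcd' hψ hχ h2 h1 fun φ hφ =>
      deg12_type hc.symm hn hcd' hψ hχ h2 h1 hξ (mul_comm χ ψ ▸ h) (h3 ▸ hmn.symm) hφ)
  · exact Or.inr (deg12_charCenter_ne_bot_aux hc hm hcd hχ hψ h1 h2 fun φ hφ =>
      deg12_type hc hm hcd hχ hψ h1 h2 hξ h h3 hφ)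

end Type'

variable {G : Type*} [Group G] [Finite G] {m n : ℕ}

omit [Finite G] in
theorem deg12_derived_three : derivedSeries G 3 =
    ⁅⁅commutator G, commutator G⁆, ⁅commutator G, commutator G⁆⁆ := rfl

theorem deg12_comm_comm (A : Subgroup G)
    (h : ∀ χ, IsIrrCharacter A χ → charDegree χ ≠ 1 → charDegree χ = m) :
    ⁅⁅A, A⁆, ⁅A, A⁆⁆ = ⊥ := by
  have := congrArg (Subgroup.map A.subtype) (deg12_commutator_comm h)
  rwa [Subgroup.map_commutator, Subgroup.map_subtype_commutator, Subgroup.map_bot] at this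

theorem deg12_le_of_quotient (K : Subgroup G) [K.Normal]
    (h : ∀ χ, IsIrrCharacter G χ → K ≤ charKer χ → charDegree χ ≠ 1 → charDegree χ = m) :
    ⁅commutator G, commutator G⁆ ≤ K := by
  have h1 := deg12_commutator_comm (G := G ⧸ K) fun χ hχ => h _ hχ.comp_mk (le_charKer_comp_mk _ _)
  rwa [deg12_commutator_quotient, ← Subgroup.map_commutator, Subgroup.map_eq_bot_iff,
    QuotientGroup.ker_mk'] at h1

theorem deg12_coprime_frob (hc : m.Coprime n)
    (hcd : ∀ χ, IsIrrCharacter G χ → charDegree χ = 1 ∨ charDegree χ = m ∨ charDegree χ = n)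
    {N K : Subgroup G} [N.Normal] [K.Normal] (h : FrobSec N K) (hi : N.index = m) :
    derivedSeries G 3 = ⊥ := by
  have := Fintype.ofFinite N
  have hm : m ≠ 1 := hi ▸ mt Subgroup.index_eq_one.1 h.ne_top
  have h1 := deg12_comm_comm N (m := n) fun ψ hψ h1 => by
    have h0 := hψ.charDegree_pos
    have h2 := (h.exists_or_dvd hψ).resolve_left fun ⟨χ, hχ, h2⟩ => by
      rw [hi] at h2
      rcases hcd χ hχ with h3 | h3 | h3
      · exact hm (Nat.eq_one_of_mul_eq_one_right (h2 ▸ h3))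
      · exact h1 ((Nat.mul_eq_left (h3 ▸ hχ.charDegree_pos.ne')).1 (h2 ▸ h3))
      · exact hm (Nat.eq_one_of_dvd_coprimes hc dvd_rfl ⟨_, h3 ▸ h2⟩)
    obtain ⟨χ, hχ, hne⟩ := exists_irr_over N hψ
    obtain ⟨e, he, h3⟩ := exists_degree_eq_mul hψ hχ hne
    rw [← hχ.coe_charDegree, ← hψ.coe_charDegree, ← Nat.cast_mul, Nat.cast_inj] at h3
    rcases hcd χ hχ with h4 | h4 | h4
    · exact absurd (Nat.eq_one_of_mul_eq_one_left (h3 ▸ h4)) h1
    · refine absurd (Subgroup.relIndex_eq_one.1 (Nat.eq_one_of_dvd_coprimes (h.coprime.pow_right 2)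
        dvd_rfl (h2.trans (pow_dvd_pow_of_dvd ?_ 2)))) h.lt.not_ge
      exact hi ▸ h4 ▸ Dvd.intro_left e h3.symm
    · have he1 : e = 1 := Nat.eq_one_of_dvd_coprimes hc (hi ▸ he) (h4 ▸ Dvd.intro _ h3.symm)
      rw [← h4, h3, he1, one_mul]
  have h2 := Subgroup.commutator_mono h.commutator_le h.commutator_le
  exact le_bot_iff.1 (h1 ▸ Subgroup.commutator_mono h2 h2)

theorem deg12_coprime_vanish (hc : m.Coprime n) (hn : n ≠ 1)
    (hcd : ∀ χ, IsIrrCharacter G χ → charDegree χ = 1 ∨ charDegree χ = m ∨ charDegree χ = n)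
    {θ ψ : G → ℂ} (hθ : IsIrrCharacter G θ) (hψ : IsIrrCharacter G ψ) (h1 : charDegree θ = m)
    (hm : m ≠ 1) (h2 : charDegree ψ = n) (h0 : ∀ g ∉ charCenter θ, θ g = 0) : False := by
  have := hθ.isCharacter.charCenter_normal
  have := Fintype.ofFinite (charCenter θ)
  obtain ⟨φ, hφ, hne⟩ := exists_irr_under (charCenter θ) hψ
  obtain ⟨e, he, h3⟩ := exists_degree_eq_mul hφ hψ hne
  rw [← Deg.sq_charDegree_eq_index hθ _ le_rfl h0, h1] at he
  obtain rfl : e = 1 := Nat.eq_one_of_dvd_coprimes (hc.pow_left 2) he ⟨charDegree φ, by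
    rw [← hψ.coe_charDegree, ← hφ.coe_charDegree] at h3
    exact_mod_cast h2 ▸ h3⟩
  have h4 := (hψ.isCharacter.restrict _).eq_irr_of_apply_one hφ hne (by simpa using h3)
  have h5 := hcd _ (deg12_mul_irr_of_vanish hθ le_rfl h0 hψ.isCharacter (h4 ▸ hφ))
  rw [hθ.isCharacter.charDegree_mul hψ.isCharacter, h1, h2] at h5
  rcases h5 with h5 | h5 | h5
  · exact hm (Nat.eq_one_of_mul_eq_one_right h5)
  · exact hn ((Nat.mul_eq_left (h1 ▸ hθ.charDegree_pos.ne')).1 h5)
  · exact hm ((Nat.mul_eq_right (h2 ▸ hψ.charDegree_pos.ne')).1 h5)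

theorem deg12_two_of_not_exists
    (hcd : ∀ χ, IsIrrCharacter G χ → charDegree χ = 1 ∨ charDegree χ = m ∨ charDegree χ = n)
    (h : ¬ ((m ≠ 1 ∧ ∃ χ, IsIrrCharacter G χ ∧ charDegree χ = m) ∧
      n ≠ 1 ∧ ∃ χ, IsIrrCharacter G χ ∧ charDegree χ = n)) :
    ⁅commutator G, commutator G⁆ = ⊥ := by
  rcases not_and_or.1 h with h | h
  · exact deg12_commutator_comm fun χ hχ h1 => ((hcd χ hχ).resolve_left h1).resolve_left
      fun h2 => h ⟨h2 ▸ h1, χ, hχ, h2⟩
  · exact deg12_commutator_comm fun χ hχ h1 => ((hcd χ hχ).resolve_left h1).resolve_right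
      fun h2 => h ⟨h2 ▸ h1, χ, hχ, h2⟩

/-- The case of coprime degrees. -/
theorem deg12_three_coprime (hc : m.Coprime n)
    (hcd : ∀ χ, IsIrrCharacter G χ → charDegree χ = 1 ∨ charDegree χ = m ∨ charDegree χ = n) :
    derivedSeries G 3 = ⊥ := by
  have hcd' : ∀ χ, IsIrrCharacter G χ → charDegree χ = 1 ∨ charDegree χ = n ∨ charDegree χ = m :=
    fun χ hχ => (hcd χ hχ).imp_right Or.symm
  by_contra H
  obtain ⟨⟨hm, χ, hχ, h1⟩, hn, ψ, hψ, h2⟩ := by_contra fun h => H (by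
    rw [deg12_derived_three, deg12_two_of_not_exists hcd h, Subgroup.commutator_bot_left])
  by_cases h3 : commutator G ≤ ⁅commutator G, ⊤⁆
  swap
  · obtain ⟨θ, hθ, h4, -, h5⟩ := deg12_exists_vanish h3
    rcases (hcd θ hθ).resolve_left h4 with h6 | h6
    · exact deg12_coprime_vanish hc hn hcd hθ hψ h6 hm h2 h5
    · exact deg12_coprime_vanish hc.symm hm hcd' hθ hχ h6 hn h1 h5
  by_cases h4 : commutator G ≤ ⁅commutator G, commutator G⁆
  swap
  · obtain ⟨N, K, _, _, -, h⟩ := deg12_exists_frobSec h3 h4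
    obtain ⟨θ, hθ, h5⟩ := h.exists_charDegree_eq
    rcases hcd θ hθ with h6 | h6 | h6
    · exact h.ne_top (Subgroup.index_eq_one.1 (h5 ▸ h6))
    · exact H (deg12_coprime_frob hc hcd h (h5 ▸ h6))
    · exact H (deg12_coprime_frob hc.symm hcd' h (h5 ▸ h6))
  obtain ⟨K, _, -, h5, hmin⟩ := deg12_exists_maximal (G := G) (K := ⊥) fun h => H (by
    rw [deg12_derived_three, le_bot_iff.1 h]; simp)
  have h6 : ⁅commutator (G ⧸ K), commutator (G ⧸ K)⁆ ≠ ⊥ := by
    rw [deg12_commutator_quotient, ← Subgroup.map_commutator, Ne, Subgroup.map_eq_bot_iff,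
      QuotientGroup.ker_mk']
    exact fun h => h5 (h4.trans h)
  have hq : ∀ χ, IsIrrCharacter (G ⧸ K) χ →
      charDegree χ = 1 ∨ charDegree χ = m ∨ charDegree χ = n := fun χ hχ => hcd _ hχ.comp_mk
  obtain ⟨⟨-, α, hα, h7⟩, -, β, hβ, h8⟩ := by_contra fun h => h6 (deg12_two_of_not_exists hq h)
  have h9 : ∀ χ, IsIrrCharacter (G ⧸ K) χ → charDegree χ ≠ 1 → charCenter χ = ⊥ := fun χ hχ h => by
    rw [hχ.charCenter_eq_center (by_contra fun h' => h ((Deg.charDegree_eq_one_iff_commutator_le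
      hχ).2 (hmin _ hχ.isCharacter.charKer_normal h')))]
    exact by_contra fun h' => h6 (Subgroup.commutator_eq_bot_iff_le_centralizer.2
      ((hmin _ inferInstance h').trans (Subgroup.center_le_centralizer _)))
  have := Fintype.ofFinite (G ⧸ K)
  exact (deg12_charCenter_ne_bot hc hm hn hq hα hβ h7 h8).elim (· (h9 α hα (h7 ▸ hm)))
    (· (h9 β hβ (h8 ▸ hn)))

/-- A group whose `p`-residual is abelian is an `M`-group. -/
theorem deg12_isMonomial {G : Type u} [Group G] [Fintype G] {p : ℕ} [Fact p.Prime]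
    (h : ∀ a ∈ pResidual p G, ∀ b ∈ pResidual p G, a * b = b * a) {χ : G → ℂ}
    (hχ : IsIrrCharacter G χ) : IsMonomial χ := by
  refine isMonomial_of_class (fun X _ => ∀ a ∈ pResidual p X, ∀ b ∈ pResidual p X, a * b = b * a)
    (fun X _ _ H h a ha b hb => Subtype.ext (h _ (GT.map_pResidual_le H.subtype ⟨a, ha, rfl⟩) _
      (GT.map_pResidual_le H.subtype ⟨b, hb, rfl⟩))) (fun X _ _ K _ h hZ => ?_) h hχ
  by_cases h1 : pResidual p (X ⧸ K) ≤ Subgroup.center _
  · have := (GT.isPGroup_quotient_pResidual (G := X ⧸ K) p).isNilpotent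
    have := Subgroup.isNilpotent_of_ker_le_center (QuotientGroup.mk' (pResidual p (X ⧸ K)))
      (by rwa [QuotientGroup.ker_mk'])
    exact exists_abelian_normal_not_le_center _ hZ
  · refine ⟨_, inferInstance, ?_, h1⟩
    rw [← GT.map_pResidual_of_surjective (QuotientGroup.mk'_surjective K)]
    rintro _ ⟨a, ha, rfl⟩ _ ⟨b, hb, rfl⟩
    rw [← map_mul, h a ha b hb, map_mul]

theorem deg12_three_of_isMonomial [Fintype G] (hM : ∀ χ, IsIrrCharacter G χ → IsMonomial χ)
    (hcd : ∀ χ, IsIrrCharacter G χ → charDegree χ = 1 ∨ charDegree χ = m ∨ charDegree χ = n) :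
    derivedSeries G 3 = ⊥ := by
  rw [← le_bot_iff, ← iInf_charKer_irr]
  refine le_iInf fun χ => commutator_le_charKer_of_isMonomial χ.2 (hM _ χ.2) _ fun ψ hψ h1 =>
    commutator_le_charKer_of_isMonomial hψ (hM _ hψ) _ fun φ hφ h2 =>
      (Deg.charDegree_eq_one_iff_commutator_le hφ).1 ?_
  have := hφ.charDegree_pos
  have := hcd _ χ.2
  have := hcd _ hψ
  have := hcd _ hφ
  omega

theorem deg12_charDegree_pResidual {p : ℕ} (hp : p.Prime) (h : ¬ p ∣ Nat.card (pResidual p G))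
    {θ : pResidual p G → ℂ} (hθ : IsIrrCharacter _ θ) :
    ∃ χ, IsIrrCharacter G χ ∧ charDegree θ = ordCompl[p] (charDegree χ) := by
  have := Fintype.ofFinite (pResidual p G)
  obtain ⟨χ, hχ, hne⟩ := exists_irr_over _ hθ
  obtain ⟨e, he, h1⟩ := exists_degree_eq_mul hθ hχ hne
  obtain ⟨k, hk⟩ := GT.exists_index_pResidual (G := G) hp
  obtain ⟨j, -, rfl⟩ := (Nat.dvd_prime_pow hp).1 (hk ▸ he)
  rw [← hχ.coe_charDegree, ← hθ.coe_charDegree, ← Nat.cast_mul, Nat.cast_inj] at h1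
  exact ⟨χ, hχ, by rw [h1, Nat.ordCompl_pow_mul_of_not_dvd j hp
    fun h2 => h (h2.trans hθ.charDegree_dvd_card)]⟩

theorem deg12_three_pow {G : Type u} [Group G] [Finite G] {p a : ℕ} (hp : p.Prime)
    (h : ¬ p ∣ Nat.card (pResidual p G))
    (hcd : ∀ χ, IsIrrCharacter G χ → charDegree χ = 1 ∨ charDegree χ = p ^ a ∨ charDegree χ = n) :
    derivedSeries G 3 = ⊥ := by
  have := Fact.mk hp
  have := Fintype.ofFinite G
  by_cases hn : ∃ b, n = p ^ b
  · obtain ⟨b, rfl⟩ := hn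
    refine deg12_three_of_isMonomial (fun χ hχ => deg12_isMonomial (p := p)
      (degT_comm_of_coprime _ fun χ hχ => ?_) hχ) hcd
    have h1 := (Nat.Prime.coprime_iff_not_dvd hp).2 h
    rcases hcd χ hχ with h2 | h2 | h2 <;> rw [h2]
    exacts [Nat.coprime_one_left _, h1.pow_left _, h1.pow_left _]
  have h1 := deg12_comm_comm (pResidual p G) (m := ordCompl[p] n) fun θ hθ h1 => by
    obtain ⟨χ, hχ, h2⟩ := deg12_charDegree_pResidual hp h hθ
    rcases hcd χ hχ with h3 | h3 | h3 <;> rw [h3] at h2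
    · exact absurd (by simpa using h2) h1
    · exact absurd (h2.trans (Nat.ordCompl_self_pow hp)) h1
    · exact h2
  have h2 := deg12_le_of_quotient ⁅pResidual p G, pResidual p G⁆ (m := p ^ a) fun χ hχ hk h2 =>
    ((hcd χ hχ).resolve_left h2).resolve_right fun h3 => by
      obtain ⟨k, hk'⟩ := GT.exists_index_pResidual (G := G) hp
      obtain ⟨j, -, hj⟩ := (Nat.dvd_prime_pow hp).1 (hk' ▸ hχ.charDegree_dvd_index_of_commutator _
        fun a ha b hb => apply_eq_of_mem_charKer (hk (Subgroup.commutator_mem_commutator ha hb)))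
      exact hn ⟨j, h3 ▸ hj⟩
  exact le_bot_iff.1 (h1 ▸ Subgroup.commutator_mono h2 h2)

/-- A group with at most three character degrees has derived length at most three. -/
theorem deg12_three (G : Type u) [Group G] [Finite G] : ∀ m n : ℕ,
    (∀ χ, IsIrrCharacter G χ → charDegree χ = 1 ∨ charDegree χ = m ∨ charDegree χ = n) →
      derivedSeries G 3 = ⊥ := by
  refine GT.card_induction (P := fun G _ _ => ∀ m n : ℕ,
    (∀ χ, IsIrrCharacter G χ → charDegree χ = 1 ∨ charDegree χ = m ∨ charDegree χ = n) →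
      derivedSeries G 3 = ⊥) (fun G _ _ ih => ?_) G
  intro m n hcd
  by_cases hc : m.Coprime n
  · exact deg12_three_coprime hc hcd
  obtain ⟨p, hp, hm, hn⟩ := Nat.Prime.not_coprime_iff_dvd.1 hc
  have hd : ∀ χ, IsIrrCharacter G χ → charDegree χ ≠ 1 → p ∣ charDegree χ := fun χ hχ h =>
    ((hcd χ hχ).resolve_left h).elim (· ▸ hm) (· ▸ hn)
  have h1 := degT_thompson hp hd
  set A := pResidual p G
  by_cases h2 : commutator G ≤ ⁅A, A⁆
  · by_cases hA : A = ⊤
    · rw [deg12_derived_three, le_bot_iff.1 (deg12_commutator_le_of_forall_linear ⊥ fun χ hχ _ =>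
        by_contra fun h => h1 (hA ▸ Subgroup.card_top (G := G) ▸
          (hd χ hχ h).trans hχ.charDegree_dvd_card))]
      simp
    have h3 := congrArg (Subgroup.map A.subtype) (ih A (GT.card_lt_of_ne_top hA)
      (ordCompl[p] m) (ordCompl[p] n) fun θ hθ => by
        obtain ⟨χ, hχ, h2⟩ := deg12_charDegree_pResidual hp h1 hθ
        rcases hcd χ hχ with h3 | h3 | h3 <;> simp [h2, h3])
    rw [deg12_derived_three, Subgroup.map_commutator, Subgroup.map_commutator,
      Subgroup.map_subtype_commutator, Subgroup.map_bot] at h3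
    have h4 := Subgroup.commutator_mono h2 h2
    exact le_bot_iff.1 (h3 ▸ Subgroup.commutator_mono h4 h4)
  obtain ⟨χ, hχ, hk, h3⟩ : ∃ χ, IsIrrCharacter G χ ∧ ⁅A, A⁆ ≤ charKer χ ∧ charDegree χ ≠ 1 := by
    by_contra H
    push Not at H
    exact h2 (deg12_commutator_le_of_forall_linear _ H)
  obtain ⟨k, hk'⟩ := GT.exists_index_pResidual (G := G) hp
  obtain ⟨j, -, hj⟩ := (Nat.dvd_prime_pow hp).1 (hk' ▸ hχ.charDegree_dvd_index_of_commutator _
    fun a ha b hb => apply_eq_of_mem_charKer (hk (Subgroup.commutator_mem_commutator ha hb)))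
  rcases (hcd χ hχ).resolve_left h3 with h4 | h4
  · exact deg12_three_pow hp h1 (a := j) (n := n) (by rwa [← hj, h4])
  · exact deg12_three_pow hp h1 (a := j) (n := m) fun ψ hψ => by
      rw [← hj, h4]; exact (hcd ψ hψ).imp_right Or.symm

end Cfsg.Agent.Ch
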