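import Mathlib
import Cfsg.Agent.Ch.Table
import Cfsg.Agent.Ch.AbelianQuot
import Cfsg.Agent.Ch.SmallDegree
import Cfsg.Agent.GT.Fitting
import Cfsg.Agent.GT.Conj
import Cfsg.Agent.GT.HallTools
import Cfsg.Agent.GT.Frattini
import Cfsg.Agent.Deg.Basic
import Cfsg.Agent.Ch.FrobeniusGroup

/-!
# Character degrees and kernels (Broline, Garrison)
-/

set_option autoImplicit false

namespace Cfsg.Agent.Ch

open Cfsg
open scoped ComplexConjugate

universe u

variable {G : Type*} [Group G] [Finite G]

/-- The Frattini argument for a `p`-subgroup of `p'`-index in a normal subgroup. -/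
theorem degK_frattini {p : ℕ} [Fact p.Prime] {Q M : Subgroup G} [M.Normal] (hQ : IsPGroup p Q)
    (hle : Q ≤ M) (hi : ¬ p ∣ Q.relIndex M) : Subgroup.normalizer (Q : Set G) ⊔ M = ⊤ := by
  have := Sylow.normalizer_sup_eq_top ((hQ.comap_subtype (K := M)).toSylow hi)
  rwa [show (((hQ.comap_subtype (K := M)).toSylow hi : Sylow p M) : Subgroup M).map M.subtype = Q
    from GT.map_subtype_subgroupOf_of_le hle] at this

/-- An irreducible character restricts irreducibly to a supplement of its kernel. -/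
theorem degK_isIrr_res_of_sup {χ : G → ℂ} (hχ : IsIrrCharacter G χ) {K H : Subgroup G} [K.Normal]
    (hK : K ≤ charKer χ) (h : K ⊔ H = ⊤) : IsIrrCharacter H (fun x : H => χ x) := by
  obtain ⟨ψ, hψ, rfl⟩ := hχ.exists_quotient K fun n hn => apply_eq_of_mem_charKer (hK hn)
  refine hψ.comp_surjective ((QuotientGroup.mk' K).comp H.subtype) fun x => ?_
  obtain ⟨g, rfl⟩ := QuotientGroup.mk_surjective x
  obtain ⟨k, hk, y, hy, rfl⟩ := exists_mul_eq_of_sup_eq_top h g
  exact ⟨⟨y, hy⟩, by simp [(QuotientGroup.eq_one_iff k).2 hk]⟩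

/-- If all irreducible characters over `θ ∈ Irr H` are extensions of `θ` then `θ` vanishes off the
normal core of `H`. -/
theorem degK_mem_normalCore {H : Subgroup G} [Fintype H] {θ : H → ℂ} (hθ : IsIrrCharacter H θ)
    (h : ∀ χ, IsIrrCharacter G χ → classInner (fun x : H => χ x) θ ≠ 0 → χ 1 = θ 1)
    {x : H} (hx : θ x ≠ 0) : (x : G) ∈ H.normalCore := by
  classical
  have := Fintype.ofFinite G
  obtain ⟨m, h1, h2, h3⟩ := exists_mult_indFun H hθ.isCharacter
  have h4 : ∀ χ : IrrCharacter G, m χ ≠ 0 → (fun x : H => (χ : G → ℂ) x) = θ := fun χ hχ => by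
    have hne : classInner (fun x : H => (χ : G → ℂ) x) θ ≠ 0 := by rw [h1]; exact_mod_cast hχ
    exact (χ.isCharacter.restrict H).eq_irr_of_apply_one hθ hne (h _ χ.2 hne)
  have h5 : ∀ χ, m χ ^ 2 = m χ := fun χ => by
    by_cases hχ : m χ = 0
    · simp [hχ]
    · have := h1 χ
      rw [h4 χ hχ, hθ.classInner_self] at this
      rw [show m χ = 1 by exact_mod_cast this.symm, one_pow]
  have h6 : (fun y : H => indFun H θ y) = ((∑ χ, m χ : ℕ) : ℂ) • θ := by
    ext y
    rw [h2, Finset.sum_apply, Nat.cast_sum, Finset.sum_smul, Finset.sum_apply]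
    refine Finset.sum_congr rfl fun χ _ => ?_
    by_cases hχ : m χ = 0
    · simp [hχ]
    · rw [← h4 χ hχ]
      simp
  have h7 : ∑ χ, m χ = H.index := by
    have := congrFun h6 1
    rw [OneMemClass.coe_one, indFun_one, Pi.smul_apply, smul_eq_mul] at this
    exact_mod_cast (mul_right_cancel₀ hθ.apply_one_ne_zero this).symm
  have h8 := card_mul_re_classInner_res_add H (indFun H θ)
  simp only [h5, h7] at h3
  rw [h3, h6, h7, classInner_smul_left, classInner_smul_right, hθ.classInner_self,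
    ← H.card_mul_index] at h8
  simp only [map_natCast, mul_one, Complex.mul_re, Complex.natCast_re, Complex.natCast_im,
    sub_zero, Nat.cast_mul, mul_zero, ← mul_assoc, add_eq_left] at h8
  rw [Finset.sum_eq_zero_iff_of_nonneg fun _ _ => by positivity] at h8
  intro g
  by_contra hg
  have h9 := h8 _ (Finset.mem_filter.2 ⟨Finset.mem_univ _, hg⟩)
  rw [indFun_conj_apply, sq_eq_zero_iff, norm_eq_zero, congrFun h6 x, h7] at h9
  exact mul_ne_zero (Nat.cast_ne_zero.2 Subgroup.index_ne_zero_of_finite) hx h9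

/-- The key step of the Broline–Garrison theorem. -/
theorem degK_exists_of_sylow {χ : G → ℂ} (hχ : IsIrrCharacter G χ) {p : ℕ} [Fact p.Prime]
    {Q L : Subgroup G} [L.Normal] (hQ : IsPGroup p Q) (hQL : Q ≤ L) (hi : ¬ p ∣ Q.relIndex L)
    (hV : Q ≤ Subgroup.closure {g | χ g ≠ 0})
    (hK : charKer χ ⊔ Subgroup.normalizer (Q : Set G) = ⊤)
    (hN : Subgroup.normalizer (Q : Set G) ≠ ⊤) :
    ∃ ψ, IsIrrCharacter G ψ ∧ charDegree χ < charDegree ψ ∧ charKer ψ < charKer χ := by
  have := hχ.isCharacter.charKer_normal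
  obtain ⟨H, hH, hle⟩ := GT.exists_isCoatom_ge hN
  have := Fintype.ofFinite H
  have hKH : charKer χ ⊔ H = ⊤ := top_le_iff.1 (hK ▸ sup_le_sup_left hle _)
  have hθ := degK_isIrr_res_of_sup hχ le_rfl hKH
  have hQH : Q ≤ H := Subgroup.le_normalizer.trans hle
  obtain ⟨ψ, hψ, hne, h1⟩ : ∃ ψ, IsIrrCharacter G ψ ∧
      classInner (fun x : H => ψ x) (fun x : H => χ x) ≠ 0 ∧ ψ 1 ≠ χ 1 := by
    by_contra H'
    push Not at H'
    have h1 : ∀ x ∈ H, χ x ≠ 0 → x ∈ H.normalCore := fun x hx h0 =>
      degK_mem_normalCore hθ H' (x := ⟨x, hx⟩) h0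
    have h2 : Subgroup.closure {g | χ g ≠ 0} ≤ charKer χ ⊔ H.normalCore := by
      refine (Subgroup.closure_le _).2 fun g hg => ?_
      obtain ⟨k, hk, y, hy, rfl⟩ := exists_mul_eq_of_sup_eq_top hKH g
      exact Subgroup.mul_mem_sup hk (h1 y hy (by rwa [← apply_mul_of_mem_charKer hk]))
    have h3 : Q ≤ H.normalCore ⊓ L := fun x hx => by
      obtain ⟨k, hk, c, hc, rfl⟩ := GT.HT.mem_sup_of_normal.1 (h2 (hV hx))
      refine ⟨Subgroup.mul_mem _ (h1 k ?_ ?_) hc, hQL hx⟩
      · exact (H.mul_mem_cancel_right (H.normalCore_le hc)).1 (hQH hx)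
      · rw [apply_eq_of_mem_charKer hk]
        exact hχ.apply_one_ne_zero
    have h4 := degK_frattini hQ h3 fun hd => hi (hd.trans (Dvd.intro _
      (Subgroup.relIndex_mul_relIndex _ _ _ h3 inf_le_right)))
    exact hH.1 (top_le_iff.1 (h4 ▸ sup_le hle (inf_le_left.trans H.normalCore_le)))
  have h2 := (hψ.isCharacter.restrict H).charDegree_irr_le hθ hne
  rw [charDegree_restrict, charDegree_restrict] at h2
  have := hψ.isCharacter.charKer_normal
  have h3 : charKer ψ ≤ H := by
    by_contra h3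
    have h4 := degK_isIrr_res_of_sup hψ le_rfl (H := H)
      (hH.2 _ (right_lt_sup.2 h3))
    exact h1 (congrFun (h4.eq_of_classInner_ne_zero hθ hne) 1)
  refine ⟨ψ, hψ, h2.lt_of_ne fun h => h1 ?_, lt_of_le_of_ne (fun x hx => ?_) fun h => ?_⟩
  · rw [← hψ.coe_charDegree, ← hχ.coe_charDegree, h]
  · have h4 := (hψ.isCharacter.restrict H).charKer_le_of_constituent hθ hne
      (show (⟨x, h3 hx⟩ : H) ∈ _ by rw [hψ.isCharacter.charKer_restrict]; exact hx)
    rwa [hχ.isCharacter.charKer_restrict] at h4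
  · exact hH.1 (top_le_iff.1 (hKH ▸ sup_le (h ▸ h3) le_rfl))

/-- Broline–Garrison, first part. -/
theorem degK_exists_of_not_le_fitting {χ : G → ℂ} (hχ : IsIrrCharacter G χ)
    (h : ¬ charKer χ ≤ fittingSubgroup G) :
    ∃ ψ, IsIrrCharacter G ψ ∧ charDegree χ < charDegree ψ ∧ charKer ψ < charKer χ := by
  have := hχ.isCharacter.charKer_normal
  rw [GT.le_fitting_iff] at h
  have h1 := mt GT.isNilpotent_of_forall_le_normalizer h
  push Not at h1
  obtain ⟨p, hp, -, h1⟩ := h1
  have := Fact.mk hp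
  obtain ⟨P⟩ : Nonempty (Sylow p (charKer χ)) := inferInstance
  refine degK_exists_of_sylow hχ (L := charKer χ) (P.isPGroup'.map _) (Subgroup.map_subtype_le _)
    (by rw [Subgroup.relIndex, GT.subgroupOf_map_subtype_self]; exact P.not_dvd_index)
    ((Subgroup.map_subtype_le _).trans fun x hx => Subgroup.subset_closure ?_)
    (by rw [sup_comm]; exact Sylow.normalizer_sup_eq_top P) fun h2 => h1 P (h2 ▸ le_top)
  change χ x ≠ 0
  rw [apply_eq_of_mem_charKer hx]
  exact hχ.apply_one_ne_zero

/-- Broline–Garrison, second part. -/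
theorem degK_exists_of_eq_fitting [Group.IsSolvable G] {χ : G → ℂ} (hχ : IsIrrCharacter G χ)
    (h : charKer χ = fittingSubgroup G) (h' : charKer χ ≠ ⊤) :
    ∃ ψ, IsIrrCharacter G ψ ∧ charDegree χ < charDegree ψ ∧ charKer ψ < charKer χ := by
  have := hχ.isCharacter.charKer_normal
  set K := charKer χ with hK
  set V := Subgroup.closure {g | χ g ≠ 0} with hV
  have : V.Normal := ⟨fun x hx g => by
    refine Subgroup.closure_induction (p := fun x _ => g * x * g⁻¹ ∈ V)
      (fun y hy => Subgroup.subset_closure ?_) (by simp) (fun y z _ _ hy hz => ?_)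
      (fun y _ hy => ?_) hx
    · change χ _ ≠ 0
      rwa [hχ.isClassFunction.conj_eq]
    · simpa using V.mul_mem hy hz
    · simpa [mul_assoc] using V.inv_mem hy⟩
  have hKV : K ≤ V := fun x hx => Subgroup.subset_closure (by
    change χ x ≠ 0
    rw [apply_eq_of_mem_charKer hx]
    exact hχ.apply_one_ne_zero)
  have hne : K ≠ V := fun hKV => by
    obtain ⟨ψ, hψ, hf, he⟩ := hχ.exists_faithful_quotient K rfl
    have h1 := Deg.eq_bot_of_vanish hψ ⊤ fun n _ hn => by
      obtain ⟨g, rfl⟩ := QuotientGroup.mk_surjective n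
      by_contra h0
      exact hn ((QuotientGroup.eq_one_iff g).2 (hKV ▸ Subgroup.subset_closure (by
        change χ g ≠ 0
        rwa [he])))
    refine h' (top_le_iff.1 fun g _ => (QuotientGroup.eq_one_iff g).1 ?_)
    rw [← Subgroup.mem_bot, ← h1]
    trivial
  obtain ⟨L, hL, hLV⟩ := GT.exists_isChiefFactor_above (lt_of_le_of_ne hKV hne)
  have := hL.isMinNormal_map.normal
  obtain ⟨p, hp, hP, -⟩ := hL.isMinNormal_map.exists_isPGroup
  have := Fact.mk hp
  obtain ⟨hKL, hLn, -⟩ := id hL
  obtain ⟨P⟩ : Nonempty (Sylow p L) := inferInstance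
  have h1 := GT.le_sylow_sup_of_isPGroup_map hP P
  have h2 := Sylow.normalizer_sup_eq_top P
  refine degK_exists_of_sylow hχ (L := L) (P.isPGroup'.map _) (Subgroup.map_subtype_le _)
    (by rw [Subgroup.relIndex, GT.subgroupOf_map_subtype_self]; exact P.not_dvd_index)
    ((Subgroup.map_subtype_le _).trans hLV) (top_le_iff.1 (h2 ▸ sup_le le_sup_right
      (h1.trans (sup_le (Subgroup.le_normalizer.trans le_sup_right) le_sup_left)))) fun h3 => ?_
  have : ((P : Subgroup L).map L.subtype).Normal := Subgroup.normalizer_eq_top_iff.1 h3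
  exact hKL.not_ge (h1.trans (sup_le (h ▸ (GT.le_pCore (P.isPGroup'.map _)).trans
    (GT.pCore_le_fitting hp)) le_rfl))

/-- The kernel of an irreducible character of maximal degree is nilpotent. -/
theorem degK_charKer_le_fitting {χ : G → ℂ} (hχ : IsIrrCharacter G χ)
    (h : ∀ ψ, IsIrrCharacter G ψ → charDegree ψ ≤ charDegree χ) :
    charKer χ ≤ fittingSubgroup G := by
  by_contra H
  obtain ⟨ψ, hψ, h1, -⟩ := degK_exists_of_not_le_fitting hχ H
  exact absurd (h ψ hψ) (not_le.2 h1)

omit [Finite G] in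
theorem degK_charDegrees_quotient_subset (N : Subgroup G) [N.Normal] :
    charDegrees (G ⧸ N) ⊆ charDegrees G := fun d hd => by
  obtain ⟨χ, hχ, rfl⟩ := Deg.mem_charDegrees.1 hd
  exact Deg.mem_charDegrees.2 ⟨_, hχ.comp_mk, rfl⟩

omit [Finite G] in
theorem degK_one_mem_charDegrees : 1 ∈ charDegrees G :=
  Deg.mem_charDegrees.2 ⟨_, IsIrrCharacter.one, charDegree_one⟩

/-- In a solvable group which is not nilpotent the largest degree is not a degree of `G / F(G)`. -/
theorem degK_charDegrees_fitting_ssubset [Group.IsSolvable G] (h : fittingSubgroup G ≠ ⊤) :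
    charDegrees (G ⧸ fittingSubgroup G) ⊂ charDegrees G := by
  refine ⟨degK_charDegrees_quotient_subset _, fun H => ?_⟩
  obtain ⟨b, hb, hmax⟩ := Set.exists_max_image (charDegrees G) id Deg.finite_charDegrees
    ⟨1, degK_one_mem_charDegrees⟩
  obtain ⟨χ, hχ, rfl⟩ := Deg.mem_charDegrees.1 (H hb)
  have h1 : ∀ ψ, IsIrrCharacter G ψ →
      charDegree ψ ≤ charDegree fun g : G => χ (g : G ⧸ fittingSubgroup G) :=
    fun ψ hψ => hmax _ (Deg.mem_charDegrees.2 ⟨ψ, hψ, rfl⟩)
  have h2 := le_antisymm (degK_charKer_le_fitting hχ.comp_mk h1) (le_charKer_comp_mk _ χ)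
  obtain ⟨ψ, hψ, h3, -⟩ := degK_exists_of_eq_fitting hχ.comp_mk h2 (by rwa [h2])
  exact absurd (h1 ψ hψ) (not_le.2 h3)

/-- Garrison: the nilpotent length of a solvable group is at most the number of degrees. -/
theorem degK_exists_series (n : ℕ) : ∀ (G : Type u) [Group G] [Finite G] [Group.IsSolvable G],
    (charDegrees G).ncard ≤ n → ∃ N : ℕ → Subgroup G, N 0 = ⊥ ∧ N n = ⊤ ∧ Monotone N ∧
      ∃ _ : ∀ i, (N i).Normal, ∀ i,
        Group.IsNilpotent ((N (i + 1)).map (QuotientGroup.mk' (N i))) := by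
  induction n with
  | zero =>
    intro G _ _ _ h
    exact absurd ((Set.ncard_pos Deg.finite_charDegrees).2 ⟨1, degK_one_mem_charDegrees⟩)
      (not_lt.2 h)
  | succ n ih =>
    intro G _ _ _ h
    by_cases hF : fittingSubgroup G = ⊤
    · have := GT.fitting_eq_top_iff.1 hF
      have hN : ∀ i : ℕ, (if i = 0 then ⊥ else ⊤ : Subgroup G).Normal := fun i => by
        split_ifs <;> infer_instance
      refine ⟨fun i => if i = 0 then ⊥ else ⊤, rfl, rfl, fun i j hij => ?_, hN,
        fun i => by dsimp only; exact GT.isNilpotent_map _ _⟩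
      by_cases hi : i = 0
      · simp [hi]
      · simp [hi, show j ≠ 0 by omega]
    obtain ⟨M, h0, hn, hm, hN, hnil⟩ := ih (G ⧸ fittingSubgroup G) (Nat.lt_succ_iff.1
      ((Set.ncard_lt_ncard (degK_charDegrees_fitting_ssubset hF) Deg.finite_charDegrees).trans_le h))
    refine ⟨fun i => Nat.casesOn i ⊥ fun i => (M i).comap (QuotientGroup.mk' _), rfl,
      by simp [hn], monotone_nat_of_le_succ fun i => ?_, fun i => ?_, fun i => ?_⟩
    · cases i with
      | zero => exact bot_le
      | succ i => exact Subgroup.comap_mono (hm i.le_succ)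
    · cases i with
      | zero => exact Subgroup.normal_bot
      | succ i => exact (hN i).comap _
    · cases i with
      | zero =>
        have : Group.IsNilpotent ((M 0).comap (QuotientGroup.mk' (fittingSubgroup G))) := by
          rw [h0, MonoidHom.comap_bot, QuotientGroup.ker_mk']
          infer_instance
        exact GT.isNilpotent_map ((M 0).comap (QuotientGroup.mk' (fittingSubgroup G)))
          (QuotientGroup.mk' ⊥)
      | succ i =>
        dsimp only
        have := hnil i
        let f := QuotientGroup.map ((M i).comap (QuotientGroup.mk' _)) (M i)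
          (QuotientGroup.mk' (fittingSubgroup G)) le_rfl
        have hf : Function.Injective f := by
          rw [← MonoidHom.ker_eq_bot_iff, QuotientGroup.ker_map, QuotientGroup.map_mk'_self]
        have : Group.IsNilpotent ((((M (i + 1)).comap (QuotientGroup.mk' _)).map
            (QuotientGroup.mk' ((M i).comap (QuotientGroup.mk' (fittingSubgroup G))))).map f) := by
          rw [Subgroup.map_map, show f.comp (QuotientGroup.mk' _) =
            (QuotientGroup.mk' (M i)).comp (QuotientGroup.mk' _) from rfl, ← Subgroup.map_map,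
            Subgroup.map_comap_eq_self_of_surjective (QuotientGroup.mk'_surjective _)]
          exact this
        exact GT.isNilpotent_of_map_of_injective hf

end Cfsg.Agent.Ch
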