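import Mathlib
import Cfsg.Agent.S0742
import Cfsg.Agent.Ch.TI
import Cfsg.Agent.Ch.BrauerPi

/-!
# Recognising `PSL₂(q)` from a self-centralising Sylow `p`-subgroup and the order
-/

set_option autoImplicit false

namespace Cfsg.Agent.Ch.DegZas

open Cfsg Subgroup MulAction Cfsg.Agent.Perm.Zass

variable {G : Type*} [Group G] [Finite G]

/-- Column orthogonality modulo `m`. -/
theorem eq_one_of_dvd {g : G} {m : ℕ} (hm : m ≠ 1) (h : ∀ χ : IrrCharacter G, χ ≠ irrOne G →
    (χ : G → ℂ) g = 0 ∨ m ∣ charDegree (χ : G → ℂ)) : g = 1 := by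
  classical
  by_contra hg
  have h1 := sum_degree_mul_apply_of_ne hg
  rw [← Finset.add_sum_erase _ _ (Finset.mem_univ (irrOne G)), coe_irrOne, mul_one] at h1
  obtain ⟨a, ha, e⟩ : ∃ a : ℂ, IsIntegral ℤ a ∧ ∑ χ ∈ Finset.univ.erase (irrOne G),
      (χ : G → ℂ) 1 * (χ : G → ℂ) g = m * a := by
    refine ⟨∑ χ ∈ Finset.univ.erase (irrOne G), (charDegree (χ : G → ℂ) / m : ℕ) * (χ : G → ℂ) g,
      IsIntegral.sum _ fun χ _ => (isIntegral_algebraMap (R := ℤ)
        (x := (charDegree (χ : G → ℂ) / m : ℕ))).mul (χ.2.isCharacter.isIntegral g), ?_⟩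
    rw [Finset.mul_sum]
    refine Finset.sum_congr rfl fun χ hχ => ?_
    rcases h χ (Finset.ne_of_mem_erase hχ) with h2 | h2
    · rw [h2, mul_zero, mul_zero, mul_zero]
    · rw [← mul_assoc, ← Nat.cast_mul, Nat.mul_div_cancel' h2, χ.2.coe_charDegree]
  rw [e] at h1
  have h0 : (m : ℂ) ≠ 0 := fun h0 => by simp [h0] at h1
  have h2 : a = algebraMap ℚ ℂ (-1 / m) := by
    simp only [eq_ratCast, Rat.cast_div, Rat.cast_neg, Rat.cast_one, Rat.cast_natCast]
    field_simp
    linear_combination h1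
  rw [h2, isIntegral_algebraMap_iff (algebraMap ℚ ℂ).injective] at ha
  obtain ⟨k, hk⟩ := IsIntegrallyClosed.isIntegral_iff.1 ha
  have h3 : (m : ℚ) ≠ 0 := by exact_mod_cast h0
  have h4 : (m : ℤ) * (-k) = 1 := by
    have : (m : ℚ) * (-k) = 1 := by
      rw [show (k : ℚ) = -1 / m from hk]; field_simp
    exact_mod_cast this
  exact hm (by exact_mod_cast Int.eq_one_of_mul_eq_one_right (by positivity) h4)

omit [Finite G] in
theorem dvd_card_sub_one {Ω : Type*} [Finite Ω] [MulAction G Ω] {K : Subgroup G} {a : Ω}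
    (ha : ∀ g ∈ K, g • a = a) (h : ∀ g ∈ K, ∀ b, b ≠ a → g • b = b → g = 1) :
    Nat.card K ∣ Nat.card Ω - 1 := by
  let S : SubMulAction K Ω := ⟨{b | b ≠ a}, fun g b hb e => hb
    (smul_left_cancel g (e.trans (ha g g.2).symm))⟩
  have e := MulAction.selfEquivOrbitsQuotientProd (G := K) (X := S) fun b => by
    rw [eq_bot_iff]
    exact fun g hg => Subtype.ext (h g g.2 b b.2 (congrArg Subtype.val hg))
  have h1 : Nat.card S = Nat.card Ω - 1 := by
    have := Fintype.ofFinite Ω
    classical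
    change Nat.card {b // b ≠ a} = _
    simp
  rw [← h1, Nat.card_congr e, Nat.card_prod]
  exact dvd_mul_left _ _

theorem arith {q n e : ℕ} (hq : 5 ≤ q) (ho : q % 2 = 1) (h1 : q ∣ n - 1) (h2 : e ∣ q - 1)
    (h : n * (e * q) * 2 = q * (q - 1) * (q + 1)) : n = q + 1 ∧ e * 2 = q - 1 := by
  obtain ⟨r, rfl⟩ : ∃ r, q = r + 1 := ⟨q - 1, by omega⟩
  simp only [Nat.add_sub_cancel] at *
  have h3 : n * (e * 2) = r * (r + 2) := by
    refine Nat.eq_of_mul_eq_mul_left (show 0 < r + 1 by omega) ?_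
    linear_combination h
  have h4 : e ≤ r := Nat.le_of_dvd (by omega) h2
  have h0 : n ≠ 0 := by
    rintro rfl
    simp at h3
    omega
  obtain ⟨k, hk⟩ := h1
  obtain rfl : n = (r + 1) * k + 1 := by omega
  have h5 : r + 1 ∣ e * 2 + 1 := (Nat.dvd_add_right (Dvd.intro (k * (e * 2)) rfl)).1
    ⟨r + 1, by linear_combination h3⟩
  obtain ⟨j, hj⟩ := h5
  have h6 : j < 2 := by nlinarith
  have h7 : e * 2 = r := by interval_cases j <;> omega
  rw [h7, mul_comm r] at h3
  exact ⟨Nat.eq_of_mul_eq_mul_right (by omega) h3, h7⟩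

theorem psl2_of_cc {p : ℕ} [hp : Fact p.Prime] {q : ℕ} (hq : 5 ≤ q) (h4 : q % 4 = 1)
    (hG : Nat.card G * 2 = q * (q - 1) * (q + 1)) (hP : ∀ P : Sylow p G, Nat.card (P : Subgroup G) = q)
    (hC : ∀ P : Sylow p G, ∀ x ∈ P, x ≠ 1 → centralizer {x} = P) :
    ∃ (K : Type) (_ : Field K) (_ : Fintype K), Fintype.card K = q ∧
      Nonempty (G ≃* Matrix.ProjectiveSpecialLinearGroup (Fin 2) K) := by
  classical
  have semi : ∀ P : Sylow p G, ∀ x ∈ P, ∀ Q, Q ≠ P → x • Q = Q → x = 1 := fun P x hx Q hne h => by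
    by_contra h1
    have h2 : x ∈ (P : Subgroup G) ⊓ Q := by
      rw [← P.isPGroup'.inf_normalizer_sylow]
      exact ⟨hx, Sylow.smul_eq_iff_mem_normalizer.1 h⟩
    exact hne (Sylow.ext ((hC Q x h2.2 h1).symm.trans (hC P x hx h1)))
  have fix : ∀ P : Sylow p G, ∀ x ∈ P, x • P = P := fun P x hx =>
    Sylow.smul_eq_iff_mem_normalizer.2 (le_normalizer hx)
  obtain ⟨a⟩ : Nonempty (Sylow p G) := inferInstance
  obtain ⟨hn, he⟩ : Nat.card (Sylow p G) = q + 1 ∧
      (a : Subgroup G).relIndex (normalizer ((a : Subgroup G) : Set G)) * 2 = q - 1 := by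
    refine arith hq (by omega) (hP a ▸ dvd_card_sub_one (fix a) (semi a)) ?_ ?_
    · have := TI.index_dvd_card_sub_one ((a : Subgroup G).subgroupOf (normalizer ((a : Subgroup G) : Set G)))
        fun k hk h1 g hg => by
          exact (hC a k hk fun e => h1 (Subtype.ext e)).le (mem_centralizer_singleton_iff.2
            (congrArg Subtype.val (mem_centralizer_singleton_iff.1 hg)))
      rwa [Nat.card_congr (subgroupOfEquivOfLe le_normalizer).toEquiv, hP] at this
    · rw [← hG, show _ = (normalizer ((a : Subgroup G) : Set G)).index from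
        Sylow.card_eq_index_normalizer a, ← (normalizer ((a : Subgroup G) : Set G)).index_mul_card,
        ← ((a : Subgroup G).subgroupOf (normalizer ((a : Subgroup G) : Set G))).index_mul_card,
        Nat.card_congr (subgroupOfEquivOfLe le_normalizer).toEquiv, hP]
      rfl
  have := Fintype.ofFinite (Sylow p G)
  have tr : ∀ P b c : Sylow p G, b ≠ P → c ≠ P → ∃ x ∈ P, x • b = c := fun P b c hb hc => by
    let f : ↥(P : Subgroup G) → {d // d ≠ P} := fun x => ⟨(x : G) • b, fun e => hb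
      (smul_left_cancel (x : G) (e.trans (fix P x x.2).symm))⟩
    have hf : Function.Injective f := fun x y e => by
      have e' : (x : G) • b = (y : G) • b := congrArg Subtype.val e
      exact Subtype.ext (inv_mul_eq_one.1 (semi P _ (mul_mem (inv_mem x.2) y.2) b hb (by
        rw [mul_smul, ← e', inv_smul_smul])))
    obtain ⟨x, hx⟩ := ((Nat.bijective_iff_injective_and_card f).2 ⟨hf, by
      rw [Nat.card_eq_fintype_card] at hn
      simpa [hn] using hP P⟩).2 ⟨c, hc⟩
    exact ⟨x, x.2, congrArg Subtype.val hx⟩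
  have h3 : ∀ g : G, ∀ a b c : Sylow p G, a ≠ b → b ≠ c → a ≠ c → g • a = a → g • b = b →
      g • c = c → g = 1 := fun g a b c hab hbc hac ha hb hc => by
    obtain ⟨x, hx, e⟩ := tr a c b hac.symm hab.symm
    have h5 := semi a _ (mul_mem (inv_mem hx) ((mem_normalizer_iff.1
      (Sylow.smul_eq_iff_mem_normalizer.1 ha) x).1 hx)) c hac.symm (by
        rw [mul_smul, mul_smul, mul_smul, inv_smul_eq_iff.2 hc.symm, e, hb, ← e, inv_smul_smul])
    refine semi a g ?_ b hab.symm hb
    have h6 : x ≠ 1 := fun e' => hbc (by rw [← e, e', one_smul])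
    change g ∈ (a : Subgroup G)
    rw [← hC a x hx h6, mem_centralizer_singleton_iff]
    exact mul_inv_eq_iff_eq_mul.1 (inv_mul_eq_one.1 h5).symm
  have hT : IsZT G (Sylow p G) := by
    refine ⟨fun {a b c d} hab hcd => ?_, fun {g a b c} => h3 g a b c, fun a b => ?_, ⟨a⟩⟩
    · obtain ⟨g, rfl⟩ := exists_smul_eq G a c
      obtain ⟨x, hx, e⟩ := tr (g • a) (g • b) d (fun e => hab (smul_left_cancel g e).symm) hcd.symm
      exact ⟨x * g, by rw [mul_smul, fix _ x hx], by rw [mul_smul, e]⟩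
    · by_contra h
      push Not at h
      have : (Finset.univ : Finset (Sylow p G)) ⊆ {a, b} := fun c _ => by
        by_cases hc : c = a
        · simp [hc]
        · simp [h c hc]
      have := (Finset.card_le_card this).trans Finset.card_le_two
      rw [Finset.card_univ, ← Nat.card_eq_fintype_card] at this
      omega
  obtain ⟨b, hb⟩ := hT.exists_ne a
  have hd : Nat.card ↥(stabilizer G a ⊓ stabilizer G b) * 2 = q - 1 := by
    have h5 := hT.card_eq hb.symm
    rw [hn, Nat.add_sub_cancel] at h5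
    refine Nat.eq_of_mul_eq_mul_left (show 0 < (q + 1) * q by positivity) ?_
    rw [h5] at hG
    linear_combination hG
  have hZ : IsZassenhausGroup G (Sylow p G) := by
    refine ⟨hT.faithful, hT.isMultiplyPretransitive, h3, ?_, fun N hN ht => ?_⟩
    · obtain ⟨g, hg⟩ := (Subgroup.ne_bot_iff_exists_ne_one).1 ((one_lt_card_iff_ne_bot
        (stabilizer G a ⊓ stabilizer G b)).1 (by omega))
      exact ⟨g, fun e => hg (Subtype.ext e), a, b, hb.symm, g.2.1, g.2.2⟩
    · by_contra h
      push Not at h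
      have h5 : Nat.card N = q + 1 := by
        rw [← hn, ← index_stabilizer_of_transitive N a, h a, index_bot]
      obtain ⟨t, ht⟩ := exists_prime_orderOf_dvd_card' (G := N) 2 (by omega)
      have h6 : IsPGroup 2 N := fun u => by
        by_cases hu : u = 1
        · exact ⟨0, by simp [hu]⟩
        have h7 : ∀ v : N, v ≠ 1 → (v : G) • a ≠ a := fun v hv e =>
          hv (mem_bot.1 (h a ▸ (e : v ∈ stabilizer N a)))
        obtain ⟨x, hx, e⟩ := tr a _ _ (h7 t (by rintro rfl; simp at ht)) (h7 u hu)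
        have h8 : (⟨_, hN.conj_mem _ t.2 x⟩ : N)⁻¹ * u ∈ stabilizer N a := by
          change ((x * t * x⁻¹)⁻¹ * u : G) • a = a
          rw [mul_smul, ← e, inv_smul_eq_iff, mul_smul, mul_smul, fix a _ (inv_mem hx)]
        rw [h a, mem_bot, inv_mul_eq_one] at h8
        refine ⟨1, Subtype.ext ?_⟩
        rw [← h8]
        change (x * t * x⁻¹ : G) ^ 2 ^ 1 = 1
        rw [conj_pow, pow_one, ← ht, ← Subgroup.coe_pow, pow_orderOf_eq_one]
        simp
      obtain ⟨k, hk⟩ := h6.exists_card_eq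
      rw [h5] at hk
      rcases k with _ | _ | k
      · omega
      · omega
      · rw [pow_succ, pow_succ] at hk
        omega
  obtain ⟨_, _, K, _, _, -, -, h5, h6, h7⟩ := S0742.result hZ hb.symm
    (Nat.even_iff.2 (by omega)) (by rw [← Nat.card_eq_fintype_card]; omega)
  rw [← Nat.card_eq_fintype_card] at h6
  exact ⟨K, _, _, by omega, h7⟩

end Cfsg.Agent.Ch.DegZas
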