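import Mathlib
import Cfsg.Agent.Ch.CoprimeChar2
import Cfsg.Agent.Ch.TripleRel
import Cfsg.Agent.Ch.FrobeniusGroup
import Cfsg.Agent.GT.CoprimeAbelian

/-!
# The odd multiplicity correspondence, I: bijective relations, involutory automorphisms
-/

set_option autoImplicit false
set_option linter.style.haveILetI false
set_option linter.unusedSectionVars false

namespace Cfsg.Agent.Ch

open Function Cfsg Glb ComplexConjugate _root_.Cfsg.Agent.GT
open scoped commutatorElement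

/-- The relation `R` is the graph of a bijection from `A` onto `B`. -/
structure BijRel {α β : Type*} (A : α → Prop) (B : β → Prop) (R : α → β → Prop) : Prop where
  ex : ∀ a, A a → ∃ b, B b ∧ R a b
  uniq : ∀ a b b', A a → B b → B b' → R a b → R a b' → b = b'
  inj : ∀ a a' b, A a → A a' → B b → R a b → R a' b → a = a'
  surj : ∀ b, B b → ∃ a, A a ∧ R a b

namespace BijRel

variable {α β α' β' : Type*} {A : α → Prop} {B : β → Prop} {R : α → β → Prop}
  {A' : α' → Prop} {B' : β' → Prop} {R' : α' → β' → Prop}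

theorem transfer {P : α' → α → Prop} {Q : β' → β → Prop} (hP : BijRel A' A P)
    (hQ : BijRel B' B Q) (h : ∀ a' a b' b, A' a' → A a → B' b' → B b → P a' a → Q b' b →
      (R a b ↔ R' a' b')) (h' : BijRel A' B' R') : BijRel A B R where
  ex a ha := by
    obtain ⟨a', ha', h1⟩ := hP.surj a ha
    obtain ⟨b', hb', h2⟩ := h'.ex a' ha'
    obtain ⟨b, hb, h3⟩ := hQ.ex b' hb'
    exact ⟨b, hb, (h _ _ _ _ ha' ha hb' hb h1 h3).2 h2⟩
  uniq a b c ha hb hc h1 h2 := by
    obtain ⟨a', ha', h3⟩ := hP.surj a ha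
    obtain ⟨b', hb', h4⟩ := hQ.surj b hb
    obtain ⟨c', hc', h5⟩ := hQ.surj c hc
    obtain rfl := h'.uniq _ _ _ ha' hb' hc' ((h _ _ _ _ ha' ha hb' hb h3 h4).1 h1)
      ((h _ _ _ _ ha' ha hc' hc h3 h5).1 h2)
    exact hQ.uniq _ _ _ hb' hb hc h4 h5
  inj a c b ha hc hb h1 h2 := by
    obtain ⟨a', ha', h3⟩ := hP.surj a ha
    obtain ⟨c', hc', h4⟩ := hP.surj c hc
    obtain ⟨b', hb', h5⟩ := hQ.surj b hb
    obtain rfl := h'.inj _ _ _ ha' hc' hb' ((h _ _ _ _ ha' ha hb' hb h3 h5).1 h1)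
      ((h _ _ _ _ hc' hc hb' hb h4 h5).1 h2)
    exact hP.uniq _ _ _ ha' ha hc h3 h4
  surj b hb := by
    obtain ⟨b', hb', h1⟩ := hQ.surj b hb
    obtain ⟨a', ha', h2⟩ := h'.surj b' hb'
    obtain ⟨a, ha, h3⟩ := hP.ex a' ha'
    exact ⟨a, ha, (h _ _ _ _ ha' ha hb' hb h3 h1).2 h2⟩

theorem restrict (h : BijRel A B R) {A₁ : α → Prop} {B₁ : β → Prop} (hA : ∀ a, A₁ a → A a)
    (hB : ∀ b, B₁ b → B b) (h' : ∀ a b, A a → B b → R a b → (A₁ a ↔ B₁ b)) :
    BijRel A₁ B₁ R where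
  ex a ha := by
    obtain ⟨b, hb, h1⟩ := h.ex a (hA a ha)
    exact ⟨b, (h' _ _ (hA a ha) hb h1).1 ha, h1⟩
  uniq a b c ha hb hc := h.uniq a b c (hA a ha) (hB b hb) (hB c hc)
  inj a c b ha hc hb := h.inj a c b (hA a ha) (hA c hc) (hB b hb)
  surj b hb := by
    obtain ⟨a, ha, h1⟩ := h.surj b (hB b hb)
    exact ⟨a, (h' _ _ ha (hB b hb) h1).2 hb, h1⟩

theorem of_equiv (e : α ≃ β) (h : ∀ a, A a ↔ B (e a)) : BijRel A B fun a b => e a = b where
  ex a ha := ⟨_, (h a).1 ha, rfl⟩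
  uniq _ _ _ _ _ _ h1 h2 := h1.symm.trans h2
  inj _ _ _ _ _ _ h1 h2 := e.injective (h1.trans h2.symm)
  surj b hb := ⟨e.symm b, (h _).2 (by rwa [e.apply_symm_apply]), e.apply_symm_apply b⟩

end BijRel

/-- `ψ` occurs with odd multiplicity in `χ ∘ f`. -/
def OddRel {G C : Type*} [Group G] [Group C] [Fintype C] (f : C →* G) (χ : G → ℂ) (ψ : C → ℂ) :
    Prop :=
  ∃ m : ℕ, classInner (fun c => χ (f c)) ψ = m ∧ Odd m

theorem OddRel.ne_zero {G C : Type*} [Group G] [Group C] [Fintype C] {f : C →* G} {χ : G → ℂ}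
    {ψ : C → ℂ} (h : OddRel f χ ψ) : classInner (fun c => χ (f c)) ψ ≠ 0 := by
  obtain ⟨m, h1, h2⟩ := h
  rw [h1, Nat.cast_ne_zero]
  exact h2.pos.ne'

theorem oddRel_congr {G C G' C' : Type*} [Group G] [Group C] [Fintype C] [Group G'] [Group C']
    [Fintype C'] {f : C →* G} {χ : G → ℂ} {ψ : C → ℂ} {f' : C' →* G'} {χ' : G' → ℂ} {ψ' : C' → ℂ}
    (h : classInner (fun c => χ (f c)) ψ = classInner (fun c => χ' (f' c)) ψ') :
    OddRel f χ ψ ↔ OddRel f' χ' ψ' := by
  rw [OddRel, OddRel, h]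

theorem Glb.Corr.bijRel {Γ : Type*} [Group Γ] [Finite Γ] {S G C : Subgroup Γ} [Fintype C]
    {hCG : C ≤ G} (h : Corr 2 S hCG) : BijRel (fun χ => IsIrrCharacter G χ ∧ Inv S χ)
      (IsIrrCharacter C) (OddRel (Subgroup.inclusion hCG)) := by
  have h1 : ∀ χ β, IsIrrCharacter G χ → IsIrrCharacter C β →
      Rel 2 (Subgroup.inclusion hCG) χ β → OddRel (Subgroup.inclusion hCG) χ β :=
    fun χ β hχ hβ hr => by
      obtain ⟨m, hm⟩ := (hχ.isCharacter.comp (Subgroup.inclusion hCG)).exists_nat_classInner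
        hβ.isCharacter
      exact ⟨m, hm, Nat.odd_iff.2 (Nat.two_dvd_ne_zero.1 (hr.not_dvd Nat.prime_two hβ hm))⟩
  have h2 : ∀ χ β, IsIrrCharacter G χ ∧ Inv S χ → IsIrrCharacter C β →
      OddRel (Subgroup.inclusion hCG) χ β → Rel 2 (Subgroup.inclusion hCG) χ β := by
    rintro χ β hχ hβ ⟨m, hm, ho⟩
    obtain ⟨γ, hγ, hr⟩ := h.ex χ hχ.1 hχ.2
    rwa [← hr.eq_of_not_dvd hγ hβ hm (Nat.two_dvd_ne_zero.2 (Nat.odd_iff.1 ho))]
  refine ⟨fun χ hχ => ?_, fun χ β γ hχ hβ hγ hr hr' => ?_, fun χ χ' β hχ hχ' hβ hr hr' => ?_,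
    fun β hβ => ?_⟩
  · obtain ⟨γ, hγ, hr⟩ := h.ex χ hχ.1 hχ.2
    exact ⟨γ, hγ, h1 _ _ hχ.1 hγ hr⟩
  · exact Rel.unique Nat.prime_two hχ.1.isCharacter hβ hγ (h2 _ _ hχ hβ hr) (h2 _ _ hχ hγ hr')
  · exact h.inj _ _ _ hχ.1 hχ'.1 hβ hχ.2 hχ'.2 (h2 _ _ hχ hβ hr) (h2 _ _ hχ' hβ hr')
  · obtain ⟨χ, hχ, hi, hr⟩ := h.surj β hβ
    exact ⟨χ, ⟨hχ, hi⟩, h1 _ _ hχ hβ hr⟩

/-- The Glauberman correspondence for an involutory automorphism of a group of odd order. -/
theorem bijRel_involution {G C : Type*} [Group G] [Finite G] [Group C] [Fintype C] (f : C →* G)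
    (hf : Injective f) (τ : MulAut G) (hτ : τ ^ 2 = 1) (hodd : Odd (Nat.card G))
    (hfix : ∀ g, τ g = g ↔ g ∈ f.range) :
    BijRel (fun χ => IsIrrCharacter G χ ∧ ∀ g, χ (τ g) = χ g) (IsIrrCharacter C) (OddRel f) := by
  let Γ := G ⋊[(Subgroup.zpowers τ).subtype] Subgroup.zpowers τ
  have : Finite Γ := Finite.of_equiv _ SemidirectProduct.equivProd.symm
  let i : G →* Γ := SemidirectProduct.inl
  have hi : Injective i := SemidirectProduct.inl_injective
  let s : Γ := SemidirectProduct.inr ⟨τ, Subgroup.mem_zpowers τ⟩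
  have hs : ∀ g, s * i g * s⁻¹ = i (τ g) := fun g => by
    rw [← map_inv]; exact (SemidirectProduct.inl_aut _ g).symm
  have hs2 : s ^ 2 ^ 1 = 1 := by
    rw [pow_one, ← map_pow, ← map_one SemidirectProduct.inr]
    exact congrArg _ (Subtype.ext hτ)
  have hn : i.range.Normal := by
    rw [SemidirectProduct.range_inl_eq_ker_rightHom]; infer_instance
  have hCG : (i.comp f).range ≤ i.range := by rintro _ ⟨c, rfl⟩; exact ⟨_, rfl⟩
  let eG := MonoidHom.ofInjective hi
  let eC := MonoidHom.ofInjective (f := i.comp f) (hi.comp hf)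
  have := Fintype.ofFinite (i.comp f).range
  have hc := (corr_cyclic (G := i.range) (C := (i.comp f).range) Nat.prime_two hs2
    (Subgroup.le_normalizer_of_normal (Subgroup.mem_top s)) (by
      rw [← Nat.card_congr eG.toEquiv]
      exact (Nat.coprime_two_right.2 hodd).coprime_dvd_right
        (orderOf_dvd_of_pow_eq_one hs2)) (fun c => by
      constructor
      · rintro ⟨c, rfl⟩
        refine ⟨⟨_, rfl⟩, ?_⟩
        have := hs (f c)
        rw [(hfix _).2 ⟨c, rfl⟩] at this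
        exact (mul_inv_eq_iff_eq_mul.1 this).symm
      · rintro ⟨⟨g, rfl⟩, h⟩
        have := hs g
        rw [← h, mul_inv_cancel_right] at this
        obtain ⟨c, rfl⟩ := (hfix g).1 (hi this).symm
        exact ⟨c, rfl⟩) hCG).bijRel
  refine BijRel.transfer (BijRel.of_equiv (eG.toEquiv.symm.arrowCongr (Equiv.refl ℂ)) fun χ => ?_)
    (BijRel.of_equiv (eC.toEquiv.symm.arrowCongr (Equiv.refl ℂ)) fun β => ?_) ?_ hc
  · refine and_congr (isIrrCharacter_comp_mulEquiv_iff eG).symm ⟨fun h g => ?_, fun h => ?_⟩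
    · exact h s (Subgroup.mem_zpowers s) (eG g) (eG (τ g)) (hs g).symm
    · refine inv_zpowers (Subgroup.le_normalizer_of_normal (Subgroup.mem_top s)) fun g g' hg => ?_
      obtain ⟨g, rfl⟩ := eG.surjective g
      rw [show g' = eG (τ g) from Subtype.ext (hg.trans (hs g))]
      exact h g
  · exact (isIrrCharacter_comp_mulEquiv_iff eC).symm
  · rintro χ _ β _ - - - - rfl rfl
    refine oddRel_congr ?_
    rw [← classInner_comp_mulEquiv eC]
    rfl

/-- An irreducible character of a group of odd order that is real on a normal subgroup has that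
subgroup in its kernel. -/
theorem le_charKer_of_inv_eq {G : Type*} [Group G] [Finite G] (hodd : Odd (Nat.card G))
    {Y : Subgroup G} [Y.Normal] {χ : G → ℂ} (hχ : IsIrrCharacter G χ)
    (h : ∀ y ∈ Y, χ y⁻¹ = χ y) : Y ≤ charKer χ := by
  have := Fintype.ofFinite G
  have := Fintype.ofFinite Y
  obtain ⟨θ, hθ, h1⟩ := exists_irr_under Y hχ
  by_cases h2 : θ = fun _ => 1
  · exact hχ.le_charKer_of_classInner_one Y (h2 ▸ h1)
  refine absurd (mem_conjugates_of_under hχ hθ hθ.complexConj h1 ?_)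
    (star_not_mem_conjugates_of_odd hodd hθ h2)
  have h3 : (fun n : Y => conj (θ n)) = fun n => θ n⁻¹ :=
    funext fun n => (hθ.isCharacter.apply_inv n).symm
  have h4 : (fun n : Y => χ n) = fun n : Y => χ ((n⁻¹ : Y) : G) :=
    funext fun n => (h n n.2).symm
  rwa [h3, h4, classInner_comp_inv (fun n : Y => χ n) θ]

/-- An automorphism acting trivially on `G / E` with order prime to `|G : E|` fixes `χ`, if it fixes
the restrictions to `E` of the relevant constituents. -/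
theorem comp_aut_eq_of_res {G : Type*} [Group G] [Finite G] {E : Subgroup G} [hE : E.Normal]
    {α : MulAut G} {n : ℕ} (hn : α ^ n = 1) (hcop : n.Coprime E.index)
    (hα : ∀ g, α g * g⁻¹ ∈ E) {χ : G → ℂ} (hχ : IsCharacter G χ)
    (h : ∀ (U : Subgroup G) [Fintype U] (η : U → ℂ), E ≤ U → IsIrrCharacter U η →
      classInner (fun u : U => χ u) η ≠ 0 → ∀ (x : G) (hx : x ∈ U) (hx' : α x ∈ U), x ∈ E →
        η ⟨α x, hx'⟩ = η ⟨x, hx⟩) (g : G) : χ (α g) = χ g := by
  let U := E ⊔ Subgroup.zpowers g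
  have hEU : E ≤ U := le_sup_left
  have hU : ∀ u ∈ U, α u ∈ U := fun u hu => by
    simpa using mul_mem (hEU (hα u)) hu
  let a : U →* U := (α.toMonoidHom.comp U.subtype).codRestrict U fun u => hU u u.2
  have ha : Surjective a := Finite.surjective_of_injective fun x y h =>
    Subtype.ext (α.injective (congrArg Subtype.val h))
  have := Fintype.ofFinite U
  have := Fintype.ofFinite (E.subgroupOf U)
  have hc : commutator U ≤ E.subgroupOf U := commutator_le_subgroupOf (by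
    rw [← QuotientGroup.ker_mk' E, ← Subgroup.map_eq_bot_iff, Subgroup.map_commutator,
      Subgroup.map_sup, (Subgroup.map_eq_bot_iff E).2 (QuotientGroup.ker_mk' E).ge, bot_sup_eq,
      MonoidHom.map_zpowers, Subgroup.commutator_eq_bot_iff_le_centralizer]
    exact Subgroup.le_centralizer _)
  have key : ∀ η, IsIrrCharacter U η → classInner (fun u : U => χ u) η ≠ 0 →
      ∀ u, η (a u) = η u := fun η hη h1 => by
    have h2 : (fun x : E.subgroupOf U => η (a x)) = fun x : E.subgroupOf U => η x :=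
      funext fun x => h U η hEU hη h1 _ (x : U).2 _ x.2
    obtain ⟨lam, h3, h4⟩ := exists_hom_mul_of_commutator_le hc hη (hη.comp_surjective a ha) (by
      rw [h2, Ne, classInner_self_eq_zero]
      exact fun h => hη.apply_one_ne_zero (congrFun h 1))
    have h5 : ∀ u, lam (a u) = lam u := fun u => by
      rw [← mul_inv_eq_one, ← map_inv, ← map_mul]
      exact h3 _ (hα u)
    have h6 : ∀ k u, η (a^[k] u) = ((lam u ^ k : ℂˣ) : ℂ) * η u := fun k => by
      induction k with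
      | zero => simp
      | succ k ih =>
        intro u
        rw [Function.iterate_succ_apply, ih, congrFun h4 u, pow_succ, h5, Units.val_mul, mul_assoc]
    have h7 : ∀ k (u : U), (a^[k] u : G) = (α ^ k) u := fun k => by
      induction k with
      | zero => simp
      | succ k ih => intro u; rw [Function.iterate_succ_apply, ih, pow_succ]; rfl
    intro u
    have h8 : lam u ^ E.index = 1 := by
      obtain ⟨c, hc⟩ := Subgroup.relIndex_dvd_index_of_normal E U
      rw [hc, pow_mul, Subgroup.relIndex, ← MonoidHom.pow_apply, hom_pow_index_eq_one _ _ h3,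
        MonoidHom.one_apply, one_pow]
    obtain ⟨k, hk⟩ := Nat.exists_mul_mod_eq_of_coprime 1 hcop Subgroup.index_ne_zero_of_finite
    have h9 : lam u ^ (n * k) = lam u := by
      rw [pow_eq_pow_mod _ h8, hk.2, ← pow_eq_pow_mod _ h8, pow_one]
    rw [congrFun h4 u, ← h9, ← h6]
    congr 1
    exact Subtype.ext (by rw [h7, pow_mul, hn, one_pow]; rfl)
  obtain ⟨m, h1, h2⟩ := (hχ.restrict U).exists_mult
  have hg : g ∈ U := (le_sup_right : _ ≤ U) (Subgroup.mem_zpowers g)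
  have h3 := congrFun h2 (a ⟨g, hg⟩)
  have h4 := congrFun h2 ⟨g, hg⟩
  simp only [Finset.sum_apply, Pi.smul_apply] at h3 h4
  refine h3.trans (Eq.trans (Finset.sum_congr rfl fun η _ => ?_) h4.symm)
  by_cases h5 : m η = 0
  · simp [h5]
  · rw [key η η.2 (by rw [h1]; exact_mod_cast h5)]

theorem central_of_constituent {U : Type*} [Group U] [Fintype U] {ξ η : U → ℂ}
    (hη : IsIrrCharacter U η) (h : classInner ξ η ≠ 0) {z : U} (hz : z ∈ Subgroup.center U)
    {ω : ℂ} (hξ : ∀ u, ξ (z * u) = ω * ξ u) (u : U) : η (z * u) = ω * η u := by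
  obtain ⟨f, hf, -⟩ := hη.exists_center_hom
  have h1 := classInner_comp_equiv (Equiv.mulLeft z) ξ η
  have h2 : (fun x => ξ (Equiv.mulLeft z x)) = ω • ξ := funext fun x => hξ x
  have h3 : (fun x => η (Equiv.mulLeft z x)) = (f ⟨z, hz⟩ : ℂ) • η :=
    funext fun x => hf ⟨z, hz⟩ x
  rw [h2, h3, classInner_smul_left, classInner_smul_right, ← mul_assoc,
    mul_eq_right₀ h, conj_monoidHom_units, mul_inv_eq_one₀ (f _).ne_zero] at h1
  rw [h1]
  exact hf ⟨z, hz⟩ u

/-- Characters over a faithful central character of `Z` with `Y` in the kernel are fixed by the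
coprime automorphisms stabilizing the situation. -/
theorem comp_aut_eq_of_le_charKer {G : Type*} [Group G] [Finite G] {E Z Y : Subgroup G}
    [hE : E.Normal] (hZ : Z ≤ Subgroup.center G) (hZE : Z ≤ E) (hYE : Y ≤ E) (hEE : ⁅E, E⁆ ≤ Z)
    (hY : E ⊓ Subgroup.centralizer (E : Set G) ≤ Z ⊔ Y) {χ : G → ℂ} (hχ : IsIrrCharacter G χ)
    (hfaith : ∀ z ∈ Z, χ z = χ 1 → z = 1) (hker : Y ≤ charKer χ)
    {α : MulAut G} {n : ℕ} (hn : α ^ n = 1) (hcop : n.Coprime E.index)
    (hα : ∀ g, α g * g⁻¹ ∈ E) (hαZ : ∀ z ∈ Z, α z = z) (hαY : ∀ y ∈ Y, α y ∈ Y) (g : G) :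
    χ (α g) = χ g := by
  obtain ⟨f, hf, -⟩ := hχ.exists_center_hom
  refine comp_aut_eq_of_res hn hcop hα hχ.isCharacter (fun U _ η hEU hη h x hx hx' hxE => ?_) g
  have h1 : ∀ z (hz : z ∈ Z) (u : U), η (⟨z, hEU (hZE hz)⟩ * u) = f ⟨z, hZ hz⟩ * η u :=
    fun z hz => central_of_constituent hη h
      (Subgroup.mem_center_iff.2 fun u => Subtype.ext (Subgroup.mem_center_iff.1 (hZ hz) u))
      fun u => hf ⟨z, hZ hz⟩ u
  have h2 : ∀ y (hy : y ∈ Y), η ⟨y, hEU (hYE hy)⟩ = η 1 := fun y hy =>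
    apply_eq_of_mem_charKer ((hχ.isCharacter.restrict U).charKer_le_of_constituent hη h (by
      rw [hχ.isCharacter.charKer_restrict]; exact hker hy))
  have h3 : ∀ x (hx : x ∈ E), x ∉ Subgroup.centralizer (E : Set G) → η ⟨x, hEU hx⟩ = 0 := by
    intro x hx hc
    rw [Subgroup.mem_centralizer_iff] at hc
    push Not at hc
    obtain ⟨e, he, hne⟩ := hc
    have h4 : ⁅e, x⁆ ∈ Z := hEE (Subgroup.commutator_mem_commutator he hx)
    have h5 := h1 _ h4 ⟨x, hEU hx⟩
    rw [show (⟨⁅e, x⁆, hEU (hZE h4)⟩ * ⟨x, hEU hx⟩ : U) = ⟨e, hEU he⟩ * ⟨x, hEU hx⟩ * ⟨e, hEU he⟩⁻¹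
      from Subtype.ext (by simp [commutatorElement_def]), hη.isClassFunction] at h5
    by_contra h6
    have h7 := hf ⟨_, hZ h4⟩ 1
    rw [← mul_eq_right₀ h6 |>.1 h5.symm |>.symm, one_mul, mul_one] at h7
    exact hne (commutatorElement_eq_one_iff_mul_comm.1 (hfaith _ h4 h7))
  have hαE : ∀ e ∈ E, α e ∈ E := fun e he => by simpa using mul_mem (hα e) he
  by_cases hc : x ∈ Subgroup.centralizer (E : Set G)
  · have : Z.Normal := ⟨fun z hz g => by
      rwa [Subgroup.mem_center_iff.1 (hZ hz) g, mul_inv_cancel_right]⟩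
    obtain ⟨z, hz, y, hy, rfl⟩ := Subgroup.mem_sup_of_normal_left.1 (hY ⟨hxE, hc⟩)
    rw [show (⟨α (z * y), hx'⟩ : U) = ⟨z, hEU (hZE hz)⟩ * ⟨α y, hEU (hYE (hαY y hy))⟩ from
      Subtype.ext ((map_mul α z y).trans (by rw [hαZ z hz]; rfl)), h1 z hz, h2 _ (hαY y hy), ← h2 y hy,
      ← h1 z hz]
    rfl
  · rw [h3 x hxE hc, h3 _ (hαE x hxE) fun h4 => hc fun e he => α.injective ?_]
    rw [map_mul, map_mul]
    exact h4 _ (hαE e he)

end Cfsg.Agent.Ch
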