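import Mathlib
import Cfsg.Agent.Ch.OddCorr1

/-!
# The odd multiplicity correspondence, II: the central case
-/

set_option autoImplicit false
set_option linter.style.haveILetI false
set_option linter.unusedSectionVars false

namespace Cfsg.Agent.Ch

open Function Cfsg Glb ComplexConjugate _root_.Cfsg.Agent.GT
open scoped commutatorElement

variable {Γ : Type*} [Group Γ]

theorem commutator_sup_inf_centralizer_le [Finite Γ] {K S Z : Subgroup Γ}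
    (hS : S ≤ Subgroup.normalizer (K : Set Γ)) (hcop : (Nat.card S).Coprime (Nat.card K))
    (hZ : Z ≤ Subgroup.center Γ) (hK : ⁅K, K⁆ ≤ Z) :
    (⁅K, S⁆ ⊔ Z) ⊓ Subgroup.centralizer (S : Set Γ) ≤ Z := by
  intro x hx
  obtain ⟨h1, h2⟩ := Subgroup.mem_inf.1 hx
  obtain ⟨m, hm, z, hz, rfl⟩ := (CopAct.mem_sup_iff_of_le_normalizer
    (hZ.trans (Subgroup.center_le_normalizer _))).1 h1
  refine mul_mem (hK (CopAct.commutator_inf_centralizer_le hS hcop ⟨hm, ?_⟩)) hz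
  simpa using mul_mem h2 (inv_mem (Subgroup.center_le_centralizer _ (hZ hz)))

theorem commutatorElement_inv_mul_central {a c z w : Γ} (h : ⁅a, c⁆ ∈ Subgroup.center Γ)
    (hz : z ∈ Subgroup.center Γ) (hw : w ∈ Subgroup.center Γ) : ⁅a⁻¹ * z, c⁻¹ * w⁆ = ⁅a, c⁆ := by
  have hz' := Subgroup.mem_center_iff.1 hz
  have hw' := Subgroup.mem_center_iff.1 hw
  calc ⁅a⁻¹ * z, c⁻¹ * w⁆ = a⁻¹ * (z * (c⁻¹ * w)) * z⁻¹ * a * w⁻¹ * c := by
        simp only [commutatorElement_def]; group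
    _ = a⁻¹ * c⁻¹ * (w * a) * w⁻¹ * c := by rw [← hz']; group
    _ = (c * a)⁻¹ * (⁅a, c⁆ * (c * a)) := by
        rw [← hw']; simp only [commutatorElement_def]; group
    _ = ⁅a, c⁆ := by rw [← Subgroup.mem_center_iff.1 h]; group

/-- The pairs `(x, y)` in `E × E` with `x y ∈ Z`. -/
def invPairs {E Z : Subgroup Γ} (hZ : Z ≤ Subgroup.center Γ) (hEE : ⁅E, E⁆ ≤ Z) :
    Subgroup (Γ × Γ) where
  carrier := {p | p.1 ∈ E ∧ p.2 ∈ E ∧ p.1 * p.2 ∈ Z}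
  one_mem' := ⟨one_mem _, one_mem _, by simp⟩
  mul_mem' := by
    rintro ⟨a, b⟩ ⟨c, d⟩ ⟨h1, h2, h3⟩ ⟨h4, h5, h6⟩
    refine ⟨mul_mem h1 h4, mul_mem h2 h5, ?_⟩
    have : a * c * (b * d) = a * b * ⁅b⁻¹, c⁆ * (c * d) := by
      simp only [commutatorElement_def]; group
    change a * c * (b * d) ∈ Z
    rw [this]
    exact mul_mem (mul_mem h3 (hEE (Subgroup.commutator_mem_commutator (inv_mem h2) h4))) h6
  inv_mem' := by
    rintro ⟨a, b⟩ ⟨h1, h2, h3⟩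
    refine ⟨inv_mem h1, inv_mem h2, ?_⟩
    have : a⁻¹ * b⁻¹ = (a * b)⁻¹ := by
      have := Subgroup.mem_center_iff.1 (hZ h3) b
      simp only [← mul_assoc, mul_left_inj] at this
      rw [← mul_inv_rev, this]
    change a⁻¹ * b⁻¹ ∈ Z
    rw [this]
    exact inv_mem h3

/-- An involutory automorphism of `G = E H` that centralizes `H` and inverts `E / Z`. -/
theorem exists_inverting_aut [Finite Γ] {G S Z E H : Subgroup Γ} (hZ : Z ≤ Subgroup.center Γ)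
    (hZE : Z ≤ E) (hEG : E ≤ G) (hGE : G ≤ Subgroup.normalizer (E : Set Γ))
    (hSE : S ≤ Subgroup.normalizer (E : Set Γ)) (hEE : ⁅E, E⁆ ≤ Z)
    (hH : H = G ⊓ Subgroup.centralizer (S : Set Γ)) (hEH : E ⊔ H = G) (hEH' : E ⊓ H ≤ Z)
    (hcop : (Nat.card S).Coprime (Nat.card G)) (hodd : Odd (Nat.card G))
    (hsolv : Group.IsSolvable G) :
    ∃ τ : MulAut G, τ ^ 2 = 1 ∧ (∀ g, τ g = g ↔ (g : Γ) ∈ H) ∧ (∀ g, (τ g * g⁻¹ : Γ) ∈ E) ∧
      ∀ y : G, (y : Γ) ∈ ⁅E ⊓ Subgroup.centralizer (E : Set Γ), S⁆ → τ y = y⁻¹ := by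
  let d : Γ →* Γ × Γ := (MonoidHom.id Γ).prod (MonoidHom.id Γ)
  let P := invPairs hZ hEE
  let W := ⁅P, S.map d⁆ ⊔ Z.map d
  have hHG : H ≤ G := hH ▸ inf_le_left
  have hHS : H ≤ Subgroup.centralizer (S : Set Γ) := hH ▸ inf_le_right
  have hZH : Z ≤ H := hH ▸ le_inf (hZE.trans hEG) (hZ.trans (Subgroup.center_le_centralizer _))
  have hZn : Z.Normal := ⟨fun z hz g => by
    rwa [Subgroup.mem_center_iff.1 (hZ hz) g, mul_inv_cancel_right]⟩
  have hP1 : ∀ R : Subgroup Γ, R ≤ Subgroup.normalizer (E : Set Γ) →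
      R.map d ≤ Subgroup.normalizer (P : Set (Γ × Γ)) := fun R hR =>
    Subgroup.le_normalizer_iff.2 (by
      rintro _ ⟨r, hr, rfl⟩ ⟨a, b⟩ ⟨h1, h2, h3⟩
      refine ⟨CopAct.conj_mem hR hr h1, CopAct.conj_mem hR hr h2, ?_⟩
      have := hZn.conj_mem _ h3 r
      change r * a * r⁻¹ * (r * b * r⁻¹) ∈ Z
      convert this using 1
      group)
  have hdZ : Z.map d ≤ Subgroup.center (Γ × Γ) := by
    rintro _ ⟨z, hz, rfl⟩
    exact Subgroup.mem_center_iff.2 fun p => Prod.ext (Subgroup.mem_center_iff.1 (hZ hz) _)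
      (Subgroup.mem_center_iff.1 (hZ hz) _)
  have hP2 : ⁅P, P⁆ ≤ Z.map d := Subgroup.commutator_le.2 (by
    rintro ⟨a, b⟩ ⟨h1, h2, h3⟩ ⟨c, e⟩ ⟨h4, h5, h6⟩
    have h7 : ⁅a, c⁆ ∈ Z := hEE (Subgroup.commutator_mem_commutator h1 h4)
    refine ⟨_, h7, Prod.ext rfl ?_⟩
    change ⁅a, c⁆ = ⁅b, e⁆
    obtain ⟨z, hz, rfl⟩ : ∃ z ∈ Z, b = a⁻¹ * z := ⟨_, h3, by simp⟩
    obtain ⟨w, hw, rfl⟩ : ∃ z ∈ Z, e = c⁻¹ * z := ⟨_, h6, by simp⟩
    exact (commutatorElement_inv_mul_central (hZ h7) (hZ hz) (hZ hw)).symm)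
  have hPG : P ≤ G.prod G := fun p hp => ⟨hEG hp.1, hEG hp.2.1⟩
  have hP3 : (Nat.card (S.map d)).Coprime (Nat.card P) := by
    refine Nat.Coprime.coprime_dvd_left (Subgroup.card_map_dvd _ _)
      (Nat.Coprime.coprime_dvd_right (Subgroup.card_dvd_of_le hPG) ?_)
    rw [Nat.card_congr (Subgroup.prodEquiv G G).toEquiv, Nat.card_prod]
    exact hcop.mul_right hcop
  have hP4 : Group.IsSolvable P := CopAct.isSolvable_of_le hPG
    (Group.isSolvable_of_isSolvable_injective (f := (Subgroup.prodEquiv G G).toMonoidHom)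
      (Subgroup.prodEquiv G G).injective)
  have hW1 : W ≤ P := sup_le (CopAct.commutator_le_of_le_normalizer (hP1 S hSE)) (by
    rintro _ ⟨z, hz, rfl⟩
    exact ⟨hZE hz, hZE hz, mul_mem hz hz⟩)
  have hC : ∀ a b, (a, b) ∈ Subgroup.centralizer (S.map d : Set (Γ × Γ)) ↔
      a ∈ Subgroup.centralizer (S : Set Γ) ∧ b ∈ Subgroup.centralizer (S : Set Γ) := fun a b =>
    ⟨fun h => ⟨fun s hs => congrArg Prod.fst (h _ ⟨s, hs, rfl⟩),
      fun s hs => congrArg Prod.snd (h _ ⟨s, hs, rfl⟩)⟩, fun h => by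
      rintro _ ⟨s, hs, rfl⟩
      exact Prod.ext (h.1 s hs) (h.2 s hs)⟩
  have hW2 : ∀ a b, (a, b) ∈ W → a ∈ H → a = b := fun a b h ha => by
    have h1 : a ∈ Z := hEH' ⟨(hW1 h).1, ha⟩
    have h2 : b ∈ Z := by simpa using mul_mem (inv_mem h1) (hW1 h).2.2
    obtain ⟨z, -, hz⟩ := commutator_sup_inf_centralizer_le (hP1 S hSE) hP3 hdZ hP2
      ⟨h, (hC a b).2 ⟨hHS ha, hHS (hZH h2)⟩⟩
    exact (congrArg Prod.fst hz).symm.trans (congrArg Prod.snd hz)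
  have hW3 : ∀ x ∈ E, ∃ y, (x, y) ∈ W := fun x hx => by
    obtain ⟨m, hm, ⟨c, c'⟩, ⟨hc, hc'⟩, h⟩ := CopAct.exists_eq_commutator_mul_centralizer
      (hP1 S hSE) hP3 (Or.inr hP4) (k := (x, x⁻¹)) ⟨hx, inv_mem hx, by simp⟩
    have h1 : c ∈ Z := hEH' ⟨hc.1, hH ▸ ⟨hEG hc.1, ((hC c c').1 hc').1⟩⟩
    refine ⟨m.2 * c, ?_⟩
    rw [← show m.1 * c = x from congrArg Prod.fst h]
    exact Subgroup.mul_mem_sup hm (Subgroup.mem_map_of_mem d h1)
  let sw : Γ × Γ →* Γ × Γ := (MulEquiv.prodComm : Γ × Γ ≃* Γ × Γ).toMonoidHom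
  have hsw : ∀ R : Subgroup Γ, (R.map d).map sw ≤ R.map d := fun R => by
    rintro _ ⟨_, ⟨r, hr, rfl⟩, rfl⟩
    exact ⟨r, hr, rfl⟩
  have hW4 : W.map sw ≤ W := by
    rw [Subgroup.map_sup, Subgroup.map_commutator]
    refine sup_le_sup (Subgroup.commutator_mono (K₁ := P) ?_ (hsw S)) (hsw Z)
    rintro _ ⟨⟨a, b⟩, ⟨h1, h2, h3⟩, rfl⟩
    refine ⟨h2, h1, ?_⟩
    have := hZn.conj_mem _ h3 b
    change b * a ∈ Z
    convert this using 1
    simp [mul_assoc]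
  have hHW : H.map d ≤ Subgroup.normalizer (W : Set (Γ × Γ)) :=
    CopAct.le_normalizer_sup (CopAct.le_normalizer_commutator (hP1 H (hHG.trans hGE))
      (CopAct.le_normalizer_of_le_centralizer (by
        rintro _ ⟨h, hh, rfl⟩
        exact (hC h h).2 ⟨hHS hh, hHS hh⟩)))
      (CopAct.le_normalizer_of_le_centralizer (Subgroup.le_centralizer_iff.1
        (hdZ.trans (Subgroup.center_le_centralizer _))))
  let V := W ⊔ H.map d
  have hV : ∀ a b, (a, b) ∈ V ↔ ∃ h ∈ H, (a * h⁻¹, b * h⁻¹) ∈ W := fun a b => by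
    rw [CopAct.mem_sup_iff_of_le_normalizer hHW]
    constructor
    · rintro ⟨w, hw, _, ⟨h, hh, rfl⟩, e⟩
      refine ⟨h, hh, ?_⟩
      rwa [eq_mul_inv_of_mul_eq e] at hw
    · rintro ⟨h, hh, hw⟩
      exact ⟨_, hw, _, ⟨h, hh, rfl⟩, Prod.ext (by simp [d]) (by simp [d])⟩
  have hV1 : ∀ a b, (a, b) ∈ V → (b, a) ∈ V := fun a b h => by
    obtain ⟨h, hh, hw⟩ := (hV a b).1 h
    exact (hV b a).2 ⟨h, hh, hW4 ⟨_, hw, rfl⟩⟩
  have hV2 : ∀ a b, (a, b) ∈ V → a ∈ H → a = b := fun a b h ha => by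
    obtain ⟨h, hh, hw⟩ := (hV a b).1 h
    exact mul_right_cancel (hW2 _ _ hw (mul_mem ha (inv_mem hh)))
  have hV3 : ∀ a ∈ G, ∃ b ∈ G, (a, b) ∈ V := fun a ha => by
    obtain ⟨x, hx, h, hh, rfl⟩ := (CopAct.mem_sup_iff_of_le_normalizer (hHG.trans hGE)).1
      (hEH.ge ha)
    obtain ⟨y, hy⟩ := hW3 x hx
    exact ⟨y * h, mul_mem (hEG (hW1 hy).2.1) (hHG hh), (hV _ _).2 ⟨h, hh, by simpa using hy⟩⟩
  let V' := V.comap (G.subtype.prodMap G.subtype)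
  have hinj : ∀ x y : V', x.1.1 = y.1.1 → x = y := fun x y h => by
    have h1 : (((x⁻¹ * y).1.1 : Γ), ((x⁻¹ * y).1.2 : Γ)) ∈ V := (x⁻¹ * y).2
    have h2 : (x⁻¹ * y).1.1 = 1 := by simp [h]
    have h3 := hV2 _ _ h1 (by rw [h2]; exact one_mem _)
    rw [← inv_mul_eq_one]
    exact Subtype.ext (Prod.ext h2 (Subtype.ext (h3.symm.trans (congrArg Subtype.val h2))))
  obtain ⟨τ, hτ⟩ := Subgroup.exists_mulEquiv_eq_graph (G := V') ⟨hinj, fun a => by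
      obtain ⟨b, hb, h⟩ := hV3 a a.2
      exact ⟨⟨(a, ⟨b, hb⟩), h⟩, rfl⟩⟩
    ⟨fun x y h => by
      have := hinj ⟨(x.1.2, x.1.1), hV1 _ _ x.2⟩ ⟨(y.1.2, y.1.1), hV1 _ _ y.2⟩ h
      exact Subtype.ext (Prod.ext (congrArg (fun p : V' => p.1.2) this) h), fun a => by
      obtain ⟨b, hb, h⟩ := hV3 a a.2
      exact ⟨⟨(⟨b, hb⟩, a), hV1 _ _ h⟩, rfl⟩⟩
  have hτ' : ∀ a b : G, τ a = b ↔ ((a : Γ), (b : Γ)) ∈ V := fun a b => by
    have : (a, b) ∈ V' ↔ _ := SetLike.ext_iff.1 hτ (a, b)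
    exact this.symm
  refine ⟨τ, MulEquiv.ext fun a => (hτ' _ _).2 (hV1 _ _ ((hτ' _ _).1 rfl)), fun g => ?_,
    fun g => ?_, fun y hy => (hτ' _ _).2 ((le_sup_left : W ≤ V) ?_)⟩
  · rw [hτ', hV]
    refine ⟨?_, fun h => ⟨g, h, by rw [mul_inv_cancel]; exact one_mem W⟩⟩
    rintro ⟨h, hh, hw⟩
    have h1 : ((g : Γ) * h⁻¹) ^ 2 ∈ Z := by rw [sq]; exact (hW1 hw).2.2
    obtain ⟨k, hk⟩ := hodd
    have h2 : ((g : Γ) * h⁻¹) ^ (2 * k + 1) = 1 := by
      rw [← hk]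
      exact congrArg Subtype.val (pow_card_eq_one' (x := g * (⟨h, hHG hh⟩ : G)⁻¹))
    rw [pow_succ, pow_mul, mul_eq_one_iff_inv_eq] at h2
    have h3 : (g : Γ) * h⁻¹ ∈ H := h2 ▸ hZH (inv_mem (pow_mem h1 k))
    simpa using mul_mem h3 hh
  · obtain ⟨h, hh, hw⟩ := (hV _ _).1 ((hτ' g _).1 rfl)
    simpa using mul_mem (hW1 hw).2.1 (inv_mem (hW1 hw).1)
  · let Y := E ⊓ Subgroup.centralizer (E : Set Γ)
    let Y' : Subgroup Γ :=
      { carrier := {y | y ∈ Y ∧ (y, y⁻¹) ∈ W}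
        one_mem' := ⟨one_mem _, by rw [inv_one]; exact one_mem W⟩
        mul_mem' := fun {a b} ha hb => ⟨mul_mem ha.1 hb.1, by
          have := mul_mem ha.2 hb.2
          rwa [Prod.mk_mul_mk, ← mul_inv_rev, ha.1.2 b hb.1.1] at this⟩
        inv_mem' := fun {a} ha => ⟨inv_mem ha.1, inv_mem ha.2⟩ }
    have hSY : S ≤ Subgroup.normalizer (Y : Set Γ) :=
      CopAct.le_normalizer_inf hSE (CopAct.le_normalizer_centralizer hSE)
    have : ⁅Y, S⁆ ≤ Y' := Subgroup.commutator_le.2 fun y hy s hs => by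
      refine ⟨CopAct.commutator_le_of_le_normalizer hSY (Subgroup.commutator_mem_commutator hy hs),
        (le_sup_left : _ ≤ W) ?_⟩
      have h1 := Subgroup.commutator_mem_commutator (H₁ := P) (H₂ := S.map d) (g₁ := (y, y⁻¹))
        ⟨hy.1, inv_mem hy.1, by simp⟩ ⟨s, hs, rfl⟩
      convert h1 using 1
      refine Prod.ext rfl ?_
      change ⁅y, s⁆⁻¹ = ⁅y⁻¹, s⁆
      have h2 := (inv_mem (Subgroup.mem_inf.1 hy).2) _ (CopAct.conj_mem hSE hs hy.1)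
      simp only [commutatorElement_def, inv_inv, mul_assoc] at h2 ⊢
      rw [← h2]
      group
    exact (this hy).2

/-- An `S`-invariant irreducible character has `[Y, S]` in its kernel for an abelian normal
`S`-invariant `Y`. -/
theorem commutator_le_charKer_of_inv [Finite Γ] {G S Y : Subgroup Γ} (hYG : Y ≤ G)
    (hGY : G ≤ Subgroup.normalizer (Y : Set Γ)) (hSG : S ≤ Subgroup.normalizer (G : Set Γ))
    (hSY : S ≤ Subgroup.normalizer (Y : Set Γ)) (hGY' : G ≤ Subgroup.normalizer ((⁅Y, S⁆ : Subgroup Γ) : Set Γ))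
    (hY : Y ≤ Subgroup.centralizer (Y : Set Γ)) (hcop : (Nat.card S).Coprime (Nat.card G))
    (hsolv : Group.IsSolvable G) {χ : G → ℂ} (hχ : IsIrrCharacter G χ) (hS : Inv S χ) :
    ⁅Y, S⁆.subgroupOf G ≤ charKer χ := by
  have := Fintype.ofFinite Y
  have := Fintype.ofFinite (⁅Y, S⁆.subgroupOf G)
  have hn := (Subgroup.normal_subgroupOf_iff_le_normalizer hYG).2 hGY
  have h0 : ⁅Y, S⁆ ≤ Y := CopAct.commutator_le_of_le_normalizer hSY
  have hn' := (Subgroup.normal_subgroupOf_iff_le_normalizer (h0.trans hYG)).2 hGY'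
  obtain ⟨θ, hθ, h1, h2⟩ := exists_inv_under hYG hGY hSG hSY
    ((hcop.symm.coprime_dvd_left (Subgroup.relIndex_dvd_card Y G)).coprime_dvd_right
      (Subgroup.relIndex_dvd_card Y S)) (Or.inr inferInstance) hχ hS
  obtain ⟨f, rfl⟩ := hθ.exists_monoidHom_of_comm fun a b => Subtype.ext (hY b.2 a a.2)
  have h3 : ⁅Y, S⁆ ≤ f.ker.map Y.subtype := Subgroup.commutator_le.2 fun y hy s hs => by
    refine ⟨⟨y, hy⟩ * ⟨s * y * s⁻¹, CopAct.conj_mem hSY hs hy⟩⁻¹, ?_, by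
      simp [commutatorElement_def, mul_assoc]⟩
    rw [SetLike.mem_coe, MonoidHom.mem_ker, map_mul, map_inv, mul_inv_eq_one]
    exact Units.ext (h2 s hs ⟨y, hy⟩ _ rfl).symm
  refine hχ.le_charKer_of_classInner_one _ ?_
  let j : ⁅Y, S⁆.subgroupOf G →* Y :=
    (G.subtype.comp (⁅Y, S⁆.subgroupOf G).subtype).codRestrict Y fun y => h0 y.2
  refine classInner_comp_ne_zero_of_constituent j (isCharacter_res_of_le hYG hχ.isCharacter) hθ
    h1 IsCharacter.one ?_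
  have : (fun k => (f (j k) : ℂ)) = fun _ => 1 := funext fun k => by
    obtain ⟨y, hy, e⟩ := h3 k.2
    rw [show j k = y from Subtype.ext e.symm, MonoidHom.mem_ker.1 hy, Units.val_one]
  rw [this, IsIrrCharacter.one.classInner_self]
  exact one_ne_zero

/-- The odd multiplicity correspondence over a faithful central character. -/
theorem bijRel_central [Finite Γ] {G S Z K H : Subgroup Γ} [Fintype H]
    (hZ : Z ≤ Subgroup.center Γ) (hZK : Z ≤ K) (hKG : K ≤ G)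
    (hGK : G ≤ Subgroup.normalizer (K : Set Γ)) (hSK : S ≤ Subgroup.normalizer (K : Set Γ))
    (hSG : S ≤ Subgroup.normalizer (G : Set Γ)) (hKK : ⁅K, K⁆ ≤ Z)
    (hH : H = G ⊓ Subgroup.centralizer (S : Set Γ)) (hKH : K ⊔ H = G) (hHG : H ≤ G) (hZH : Z ≤ H)
    (hcop : (Nat.card S).Coprime (Nat.card G)) (hodd : Odd (Nat.card G))
    (hsolv : Group.IsSolvable G) (lam : Z →* ℂˣ) (hlam : Injective lam) :
    BijRel (fun χ : G → ℂ => IsIrrCharacter G χ ∧ Inv S χ ∧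
        ∀ z : Z, χ ⟨z, hHG (hZH z.2)⟩ = lam z * χ 1)
      (fun ψ : H → ℂ => IsIrrCharacter H ψ ∧ ∀ z : Z, ψ ⟨z, hZH z.2⟩ = lam z * ψ 1)
      (OddRel (Subgroup.inclusion hHG)) := by
  have := Fintype.ofFinite G
  have hHS : H ≤ Subgroup.centralizer (S : Set Γ) := hH ▸ inf_le_right
  have hcK := hcop.coprime_dvd_right (Subgroup.card_dvd_of_le hKG)
  have hZn : ∀ R : Subgroup Γ, R ≤ Subgroup.normalizer (Z : Set Γ) := fun R =>
    CopAct.le_normalizer_of_le_centralizer (Subgroup.le_centralizer_iff.1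
      (hZ.trans (Subgroup.center_le_centralizer _)))
  have hHn : H ≤ Subgroup.normalizer (S : Set Γ) := CopAct.le_normalizer_of_le_centralizer hHS
  let E := ⁅K, S⁆ ⊔ Z
  have hEK : E ≤ K := sup_le (CopAct.commutator_le_of_le_normalizer hSK) hZK
  have hEG := hEK.trans hKG
  have hZE : Z ≤ E := le_sup_right
  have hEE : ⁅E, E⁆ ≤ Z := (Subgroup.commutator_mono hEK hEK).trans hKK
  have hEH : E ⊔ H = G := by
    refine le_antisymm (sup_le hEG hHG) (hKH.ge.trans (sup_le ?_ le_sup_right))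
    rw [← CopAct.commutator_sup_centralizer hSK hcK (Or.inr (CopAct.isSolvable_of_le hKG hsolv))]
    exact sup_le_sup le_sup_left (hH ▸ inf_le_inf_right _ hKG)
  have hEH' : E ⊓ H ≤ Z :=
    (inf_le_inf_left _ hHS).trans (commutator_sup_inf_centralizer_le hSK hcK hZ hKK)
  have hSE : S ≤ Subgroup.normalizer (E : Set Γ) := CopAct.le_normalizer_sup
    (CopAct.le_normalizer_commutator hSK Subgroup.le_normalizer) (hZn S)
  have hGE : G ≤ Subgroup.normalizer (E : Set Γ) := hEH.ge.trans (sup_le Subgroup.le_normalizer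
    (CopAct.le_normalizer_sup (CopAct.le_normalizer_commutator (hHG.trans hGK) hHn) (hZn H)))
  obtain ⟨τ, hτ1, hτ2, hτ3, hτ4⟩ :=
    exists_inverting_aut hZ hZE hEG hGE hSE hEE hH hEH hEH' hcop hodd hsolv
  let Y := E ⊓ Subgroup.centralizer (E : Set Γ)
  have hYn : ∀ R : Subgroup Γ, R ≤ Subgroup.normalizer (E : Set Γ) →
      R ≤ Subgroup.normalizer (Y : Set Γ) := fun R hR =>
    CopAct.le_normalizer_inf hR (CopAct.le_normalizer_centralizer hR)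
  have hY0 : ⁅Y, S⁆ ≤ Y := CopAct.commutator_le_of_le_normalizer (hYn S hSE)
  have hYE : Y ≤ E := inf_le_left
  have hGY : G ≤ Subgroup.normalizer ((⁅Y, S⁆ : Subgroup Γ) : Set Γ) := hEH.ge.trans (sup_le
    (CopAct.le_normalizer_of_le_centralizer (Subgroup.le_centralizer_iff.1
      (hY0.trans inf_le_right)))
    (CopAct.le_normalizer_commutator (hYn H (hHG.trans hGE)) hHn))
  have hn := (Subgroup.normal_subgroupOf_iff_le_normalizer hEG).2 hGE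
  have hn' := (Subgroup.normal_subgroupOf_iff_le_normalizer (hY0.trans (hYE.trans hEG))).2 hGY
  have hZG : Z.subgroupOf G ≤ Subgroup.center G := fun z hz =>
    Subgroup.mem_center_iff.2 fun g => Subtype.ext (Subgroup.mem_center_iff.1 (hZ hz) g)
  have key : ∀ χ : G → ℂ, IsIrrCharacter G χ → (∀ z : Z, χ ⟨z, hHG (hZH z.2)⟩ = lam z * χ 1) →
      ⁅Y, S⁆.subgroupOf G ≤ charKer χ → ∀ (α : MulAut G) (n : ℕ), α ^ n = 1 →
      n.Coprime (Nat.card G) → (∀ g, (α g * g⁻¹ : Γ) ∈ E) → (∀ z : G, (z : Γ) ∈ Z → α z = z) →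
      (∀ y : G, (y : Γ) ∈ ⁅Y, S⁆ → (α y : Γ) ∈ ⁅Y, S⁆) → ∀ g, χ (α g) = χ g := by
    intro χ hχ h1 h2 α n h3 h4 h5 h6 h7
    refine comp_aut_eq_of_le_charKer (E := E.subgroupOf G) hZG (Subgroup.comap_mono hZE)
      (Subgroup.comap_mono (hY0.trans hYE)) ?_ ?_ hχ (fun z hz h => ?_) h2 h3
      (h4.coprime_dvd_right (Subgroup.index_dvd_card _)) h5 h6 h7
    · exact Subgroup.commutator_le.2 fun a ha b hb =>
        hEE (Subgroup.commutator_mem_commutator (H₁ := E) (H₂ := E) ha hb)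
    · rintro y ⟨hy, hy'⟩
      have h8 : (y : Γ) ∈ Y := ⟨hy, fun e he => congrArg Subtype.val (hy' ⟨e, hEG he⟩ he)⟩
      obtain ⟨c, hc, x, hx, e⟩ := CopAct.exists_eq_centralizer_mul_commutator (hYn S hSE)
        (hcop.coprime_dvd_right (Subgroup.card_dvd_of_le (hYE.trans hEG)))
        (Or.inr (CopAct.isSolvable_of_le (hYE.trans hEG) hsolv)) h8
      rw [show y = ⟨c, hEG hc.1.1⟩ * ⟨x, hEG (hY0 hx).1⟩ from Subtype.ext e.symm]
      exact Subgroup.mul_mem_sup (hEH' ⟨hc.1.1, hH ▸ ⟨hEG hc.1.1, hc.2⟩⟩) hx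
    · have h8 := (h1 ⟨z, hz⟩).symm.trans h
      rw [mul_eq_right₀ hχ.apply_one_ne_zero, Units.val_eq_one, ← map_one lam] at h8
      exact Subtype.ext (congrArg Subtype.val (hlam h8) : ((⟨z, hz⟩ : Z) : Γ) = (1 : Z))
  refine (bijRel_involution (Subgroup.inclusion hHG) (Subgroup.inclusion_injective hHG) τ hτ1 hodd
    fun g => (hτ2 g).trans ⟨fun h => ⟨⟨g, h⟩, rfl⟩, by rintro ⟨h, rfl⟩; exact h.2⟩).restrict
    (fun χ ⟨hχ, h1, h2⟩ => ⟨hχ, key χ hχ h2 ?_ τ 2 hτ1 (Nat.coprime_two_left.2 hodd) hτ3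
      (fun z hz => (hτ2 z).2 (hZH hz)) fun y hy => by rw [hτ4 y hy]; exact inv_mem hy⟩)
    (fun _ h => h.1) fun χ ψ ⟨hχ, h1⟩ hψ hr => ?_
  · exact commutator_le_charKer_of_inv (hYE.trans hEG) (hYn G hGE) hSG (hYn S hSE) hGY
      (inf_le_right.trans (Subgroup.centralizer_le hYE)) hcop hsolv hχ h1
  obtain ⟨f, hf, -⟩ := hχ.exists_center_hom
  have h2 : ∀ z : Z, ψ ⟨z, hZH z.2⟩ = f ⟨⟨z, hHG (hZH z.2)⟩, hZG z.2⟩ * ψ 1 := fun z => by
    have := central_of_constituent hψ hr.ne_zero (z := ⟨z, hZH z.2⟩)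
      (Subgroup.mem_center_iff.2 fun g => Subtype.ext (Subgroup.mem_center_iff.1 (hZ z.2) g))
      (fun u => hf ⟨⟨z, hHG (hZH z.2)⟩, hZG z.2⟩ (Subgroup.inclusion hHG u)) 1
    rwa [mul_one] at this
  have h3 : ∀ z : Z, χ ⟨z, hHG (hZH z.2)⟩ = f ⟨⟨z, hHG (hZH z.2)⟩, hZG z.2⟩ * χ 1 := fun z => by
    have := hf ⟨⟨z, hHG (hZH z.2)⟩, hZG z.2⟩ 1
    rwa [mul_one] at this
  constructor
  · rintro ⟨-, -, h4⟩
    refine ⟨hψ, fun z => ?_⟩
    rw [h2, mul_right_cancel₀ hχ.apply_one_ne_zero ((h3 z).symm.trans (h4 z))]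
  · rintro ⟨-, h4⟩
    have h5 : ∀ z : Z, χ ⟨z, hHG (hZH z.2)⟩ = lam z * χ 1 := fun z => by
      rw [h3, mul_right_cancel₀ hψ.apply_one_ne_zero ((h2 z).symm.trans (h4 z))]
    refine ⟨hχ, inv_of_cj hSG fun s hs => funext (key χ hχ h5
      (le_charKer_of_inv_eq hodd hχ fun y hy => by rw [← hτ4 y hy, h1]) _ (Nat.card S) ?_ hcop
      (fun g => ?_) (fun z hz => Subtype.ext ?_) fun y hy => ?_), h5⟩
    · have : (⟨s, hSG hs⟩ : Subgroup.normalizer (G : Set Γ)) ^ Nat.card S = 1 :=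
        Subtype.ext (congrArg Subtype.val (pow_card_eq_one' (x := (⟨s, hs⟩ : S))) :
          (((⟨s, hs⟩ : S) ^ Nat.card S : S) : Γ) = (1 : S))
      rw [cj, ← map_pow, this, map_one]
    · obtain ⟨x, hx, h, hh, e⟩ := (CopAct.mem_sup_iff_of_le_normalizer (hHG.trans hGE)).1
        (hEH.ge g.2)
      rw [coe_cj, Subgroup.coe_inv, ← e, show s * (x * h) * s⁻¹ * (x * h)⁻¹ = s * x * s⁻¹ * (s * h * s⁻¹ * h⁻¹) * x⁻¹
        by group, hHS hh s hs]
      simpa using mul_mem (CopAct.conj_mem hSE hs hx) (inv_mem hx)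
    · rw [coe_cj, Subgroup.mem_center_iff.1 (hZ hz) s, mul_inv_cancel_right]
    · exact CopAct.conj_mem (CopAct.le_normalizer_commutator (hYn S hSE) Subgroup.le_normalizer)
        hs hy

end Cfsg.Agent.Ch
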