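import Mathlib
import Cfsg.Agent.Ch.OddCorr2

/-!
# The odd multiplicity correspondence, III: reduction to the central case
-/

set_option autoImplicit false
set_option linter.style.haveILetI false
set_option linter.unusedSectionVars false

namespace Cfsg.Agent.Ch

open Function Cfsg Glb ComplexConjugate _root_.Cfsg.Agent.GT
open scoped commutatorElement

namespace TripleCover

variable {G : Type*} [Group G] [Finite G] {N : Subgroup G} [hN : N.Normal] {θ : N → ℂ}
  (T : TripleCover N θ)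

theorem bijRel_cor [Fintype N] (hθ : IsIrrCharacter N θ) {V R : Subgroup T.Q} {U : Subgroup G}
    (hVU : T.down V = U) (hU : N ≤ U) (hR : R ≤ Subgroup.normalizer (V : Set T.Q)) :
    BijRel (fun β : V → ℂ => IsIrrCharacter V β ∧ Inv R β ∧ T.Over β)
      (fun χ : U → ℂ => IsIrrCharacter U χ ∧ Inv (T.down R) χ ∧
        classInner (fun n : N => χ ⟨n, hU n.2⟩) θ ≠ 0) T.Cor where
  ex β hβ := by
    obtain ⟨χ, h1, h2, h3⟩ := exists_cor_down hθ hVU hU hβ.1 hβ.2.2
    exact ⟨χ, ⟨h1, h2.inv_down hVU hR hβ.2.1, h3⟩, h2⟩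
  uniq _ _ _ _ _ _ h1 h2 := h1.eq_right hVU h2
  inj _ _ _ _ _ _ h1 h2 := h1.eq_left hθ hVU h2
  surj χ hχ := by
    obtain ⟨β, h1, h2, h3⟩ := exists_cor_up hθ hVU hU hχ.1 hχ.2.2
    exact ⟨β, ⟨h1, h2.inv_up hθ hVU hR hχ.2.1, h3⟩, h2⟩

theorem up_le_normalizer {R U : Subgroup G} (h : R ≤ Subgroup.normalizer (U : Set G)) :
    T.up R ≤ Subgroup.normalizer (T.up U : Set T.Q) :=
  Subgroup.le_normalizer_iff.2 (by
    rintro _ ⟨r, hr, rfl⟩ _ ⟨u, hu, rfl⟩
    rw [← map_inv, ← map_mul, ← map_mul]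
    refine T.mem_up_of ?_
    rw [map_mul, map_mul, map_inv]
    exact CopAct.conj_mem h hr hu)

theorem commutator_up_le {U U' : Subgroup G} (h : ⁅U, U'⁆ ≤ N) : ⁅T.up U, T.up U'⁆ ≤ T.Z :=
  Subgroup.commutator_le.2 (by
    rintro _ ⟨r, hr, rfl⟩ _ ⟨u, hu, rfl⟩
    rw [← map_commutatorElement, T.mem_Z, map_commutatorElement]
    exact h (Subgroup.commutator_mem_commutator hr hu))

theorem card_up {U : Subgroup G} (hU : N ≤ U) :
    Nat.card (T.up U) = Nat.card T.Z * N.relIndex U := by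
  rw [← card_mul_relIndex_eq (T.Z_le_up U), T.relIndex_Z_up hU]

theorem isSolvable_up {U : Subgroup G} (hU : Group.IsSolvable U) : Group.IsSolvable (T.up U) := by
  have : Group.IsSolvable (Subgroup.center (U.comap T.π)) :=
    Group.isSolvable_of_comm fun a b => Subtype.ext (Subgroup.mem_center_iff.1 b.2 a)
  have : Group.IsSolvable (U.comap T.π) :=
    Group.isSolvable_of_ker_le_range (Subgroup.center _).subtype (T.π.subgroupComap U)
      fun x hx => ⟨⟨x, Subgroup.mem_center_iff.2 fun y => Subtype.ext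
        (Subgroup.mem_center_iff.1 (T.ker_le (congrArg Subtype.val hx)) y)⟩, rfl⟩
  exact Group.isSolvable_of_surjective (T.q.subgroupMap_surjective _)

theorem card_Z_dvd {m : ℕ} (h : ∀ z : T.π.ker, z ^ m = 1) : Nat.card T.Z ∣ m := by
  have := T.isCyclic_ker
  rw [T.card_Z, ← IsCyclic.exponent_eq_card]
  exact Monoid.exponent_dvd_of_forall_pow_eq_one h

end TripleCover

variable {Γ : Type*} [Group Γ]

theorem inv_sup_iff_of_le {S L G : Subgroup Γ} (hLG : L ≤ G)
    (hS : S ≤ Subgroup.normalizer (G : Set Γ)) {χ : G → ℂ} (hχ : IsClassFunction G χ) :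
    Inv (L ⊔ S) χ ↔ Inv S χ :=
  ⟨fun h => h.mono le_sup_right,
    fun h => Inv.sup (hLG.trans Subgroup.le_normalizer) hS ((inv_self hχ).mono hLG) h⟩

/-- The odd multiplicity correspondence over an invariant character. -/
theorem bijRel_invariant_top [Finite Γ] {G S L K H : Subgroup Γ} [hL : L.Normal] [Fintype L]
    [Fintype H] (hLK : L ≤ K) (hKG : K ≤ G) (hGK : G ≤ Subgroup.normalizer (K : Set Γ))
    (hSK : S ≤ Subgroup.normalizer (K : Set Γ)) (hSG : S ≤ Subgroup.normalizer (G : Set Γ))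
    (hKK : ⁅K, K⁆ ≤ L) (hH : H = L ⊔ G ⊓ Subgroup.centralizer (S : Set Γ)) (hKH : K ⊔ H = G)
    (hHG : H ≤ G) (hLH : L ≤ H) (hcop : (Nat.card S).Coprime (Nat.card G))
    (hodd : Odd (Nat.card G)) (hsolv : Group.IsSolvable G) {φ : L → ℂ} (hφ : IsIrrCharacter L φ)
    (hinv : ∀ (g : Γ) (n : L), φ ⟨g * n * g⁻¹, hL.conj_mem n n.2 g⟩ = φ n) :
    BijRel (fun χ : G → ℂ => IsIrrCharacter G χ ∧ Inv S χ ∧
        classInner (fun n : L => χ ⟨n, hHG (hLH n.2)⟩) φ ≠ 0)
      (fun ψ : H → ℂ => IsIrrCharacter H ψ ∧ Inv S ψ ∧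
        classInner (fun n : L => ψ ⟨n, hLH n.2⟩) φ ≠ 0)
      (OddRel (Subgroup.inclusion hHG)) := by
  obtain ⟨T, hT⟩ := exists_tripleCover_pow hφ hinv
  have hLG := hLK.trans hKG
  have h1 : Nat.card T.Z ∣ Nat.card L * Nat.card L := (T.card_Z_dvd hT).trans
    (mul_dvd_mul hφ.charDegree_dvd_card hφ.isCharacter.detOrder_dvd_card)
  have h2 : Nat.card (T.up G) ∣ Nat.card G * Nat.card G := by
    rw [T.card_up hLG]
    refine (mul_dvd_mul_right h1 _).trans ?_
    rw [mul_assoc, card_mul_relIndex_eq hLG]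
    exact mul_dvd_mul_right (Subgroup.card_dvd_of_le hLG) _
  have h3 : (Nat.card S).Coprime (Nat.card (T.up G)) :=
    (hcop.mul_right hcop).coprime_dvd_right h2
  have h4 : T.Z.relIndex (T.up (L ⊔ S)) ∣ Nat.card S := by
    rw [T.relIndex_Z_up le_sup_left, Subgroup.relIndex_sup_left]
    exact Subgroup.relIndex_dvd_card L S
  have hZn : ∀ R : Subgroup T.Q, R ≤ Subgroup.centralizer (T.Z : Set T.Q) := fun R =>
    Subgroup.le_centralizer_iff.1 (T.Z_le_center.trans (Subgroup.center_le_centralizer _))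
  obtain ⟨S₀, h5, h6, -, h7⟩ := exists_complement_of_coprime_relIndex (T.Z_le_up (L ⊔ S))
    (CopAct.le_normalizer_of_le_centralizer (hZn _))
    ((h3.coprime_dvd_right (Subgroup.card_dvd_of_le (T.Z_le_up G))).symm.coprime_dvd_right h4)
  have h8 : (Nat.card S₀).Coprime (Nat.card (T.up G)) := h7 ▸ h3.coprime_dvd_left h4
  have h9 : T.down S₀ = L ⊔ S := by rw [← T.down_sup_Z, sup_comm, h6, T.down_up le_sup_left]
  have hn : ∀ U : Subgroup Γ, L ≤ U → S ≤ Subgroup.normalizer (U : Set Γ) →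
      S₀ ≤ Subgroup.normalizer (T.up U : Set T.Q) := fun U hU hS =>
    h5.trans (T.up_le_normalizer (sup_le (hU.trans Subgroup.le_normalizer) hS))
  have h10 : T.up H = T.up G ⊓ Subgroup.centralizer (S₀ : Set T.Q) := by
    refine le_antisymm (le_inf (T.up_mono hHG) ?_) ?_
    · rw [hH, T.up_sup, T.up_self]
      refine sup_le (Subgroup.le_centralizer_iff.1 (hZn _)) (Subgroup.le_centralizer_iff.1
        (CopAct.le_centralizer_of_commutator_le
          (h8.coprime_dvd_right (Subgroup.card_dvd_of_le (T.Z_le_up G)))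
          ((Subgroup.commutator_mono le_rfl h5).trans (T.commutator_up_le ?_)) (hZn _)))
      refine Subgroup.commutator_le.2 fun c hc x hx => ?_
      obtain ⟨l, hl, s, hs, rfl⟩ := Subgroup.mem_sup_of_normal_left.1 hx
      rw [show ⁅c, l * s⁆ = c * l * c⁻¹ * (c * s * c⁻¹ * s⁻¹) * l⁻¹ by
        simp only [commutatorElement_def]; group, ← hc.2 s hs]
      simpa using mul_mem (hL.conj_mem l hl c) (inv_mem hl)
    · rintro _ ⟨⟨t, ht, rfl⟩, h⟩
      obtain ⟨x, hx, c, hc, e⟩ := CopAct.exists_eq_mul_centralizer (A := S) (N := L)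
        Subgroup.le_normalizer_of_normal (hcop.coprime_dvd_right (Subgroup.card_dvd_of_le hLG))
        (Or.inr (CopAct.isSolvable_of_le hLG hsolv)) (k := T.π t) fun s hs => by
          obtain ⟨s, rfl⟩ := T.surj s
          rw [← map_commutatorElement, ← T.mem_Z, map_commutatorElement]
          have h11 : T.Z ⊔ S₀ ≤ Subgroup.centralizer (Subgroup.zpowers (T.q t) : Set T.Q) :=
            sup_le (T.Z_le_center.trans (Subgroup.center_le_centralizer _))
              (Subgroup.le_centralizer_iff.1 (Subgroup.zpowers_le_of_mem h))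
          rw [commutatorElement_eq_one_iff_mul_comm.2 (h11 (h6.ge (T.mem_up_of
            ((le_sup_right : S ≤ L ⊔ S) hs))) _ (Subgroup.mem_zpowers _))]
          exact one_mem _
      refine T.mem_up_of ?_
      rw [hH, ← e]
      refine Subgroup.mul_mem_sup hx (Subgroup.mem_inf.2 ⟨?_, hc⟩)
      rw [eq_inv_mul_of_mul_eq e]
      exact mul_mem (inv_mem (hLG hx)) ht
  have := Fintype.ofFinite (T.up H)
  have hSH : S ≤ Subgroup.normalizer (H : Set Γ) := hH ▸ CopAct.le_normalizer_sup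
    Subgroup.le_normalizer_of_normal (CopAct.le_normalizer_inf hSG
      (CopAct.le_normalizer_centralizer Subgroup.le_normalizer))
  have hc := bijRel_central T.Z_le_center (T.Z_le_up K) (T.up_mono hKG) (T.up_le_normalizer hGK)
    (hn K hLK hSK) (hn G hLG hSG) (T.commutator_up_le hKK) h10 (by rw [← T.up_sup, hKH])
    (T.up_mono hHG) (T.Z_le_up H) h8 ((hodd.mul hodd).of_dvd_nat h2) (T.isSolvable_up hsolv)
    T.mu T.mu_injective
  have hG := T.bijRel_cor hφ (T.down_up hLG) hLG (hn G hLG hSG)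
  have hH' := T.bijRel_cor hφ (T.down_up hLH) hLH (hn H hLH hSH)
  rw [h9] at hG hH'
  refine BijRel.transfer (P := T.Cor) (Q := T.Cor) ?_ ?_ (fun β χ γ ψ _ _ _ _ h11 h12 => ?_) hc
  · convert hG using 2 with β χ
    · exact and_congr_right fun _ => and_congr_right fun _ => ⟨fun h z _ => h z, fun h z => h z _⟩
    · exact and_congr_right fun hχ => and_congr_left fun _ =>
        (inv_sup_iff_of_le hLG hSG hχ.isClassFunction).symm
  · convert hH' using 2 with β χ
    · exact and_congr_right fun _ => ⟨fun h => ⟨inv_of_le_centralizer _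
        (Subgroup.le_centralizer_iff.1 (h10.le.trans inf_le_right)), fun z _ => h z⟩,
        fun h z => h.2 z _⟩
    · exact and_congr_right fun hχ => and_congr_left fun _ =>
        (inv_sup_iff_of_le hLH hSH hχ.isClassFunction).symm
  · exact oddRel_congr ((h11.res (T.up_mono hHG) hHG).classInner_eq hφ (T.down_up hLH) h12)

theorem subgroupOf_le_normalizer {R U : Subgroup Γ} (M : Subgroup Γ)
    (h : R ≤ Subgroup.normalizer (U : Set Γ)) :
    R.subgroupOf M ≤ Subgroup.normalizer (U.subgroupOf M : Set M) :=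
  Subgroup.le_normalizer_iff.2 fun _ hr _ hu => CopAct.conj_mem h hr hu

theorem inv_subOf_iff {S U M : Subgroup Γ} (hS : S ≤ M) (hU : U ≤ M) {χ : U → ℂ} :
    Inv (S.subgroupOf M) (subOf M χ) ↔ Inv S χ :=
  ⟨fun h s hs g g' e => h ⟨s, hS hs⟩ hs ⟨⟨g, hU g.2⟩, g.2⟩ ⟨⟨g', hU g'.2⟩, g'.2⟩ (Subtype.ext e),
    fun h s hs _ _ e => h s hs _ _ (congrArg Subtype.val e)⟩

theorem centralizer_subgroupOf_of_le {S M : Subgroup Γ} (hS : S ≤ M) :
    (Subgroup.centralizer (S : Set Γ)).subgroupOf M =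
      Subgroup.centralizer (S.subgroupOf M : Set M) :=
  Subgroup.ext fun _ => ⟨fun h s hs => Subtype.ext (h s hs),
    fun h s hs => congrArg Subtype.val (h ⟨s, hS hs⟩ hs)⟩

theorem bijRel_subOf {S L U M : Subgroup Γ} [Fintype L] [Fintype (L.subgroupOf M)] (hS : S ≤ M)
    (hU : U ≤ M) (hLU : L ≤ U) (φ : L → ℂ) :
    BijRel (fun χ : U.subgroupOf M → ℂ => IsIrrCharacter _ χ ∧ Inv (S.subgroupOf M) χ ∧
        classInner (fun n : L.subgroupOf M => χ ⟨n, hLU n.2⟩) (subOf M φ) ≠ 0)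
      (fun χ : U → ℂ => IsIrrCharacter U χ ∧ Inv S χ ∧
        classInner (fun n : L => χ ⟨n, hLU n.2⟩) φ ≠ 0) fun χ' χ => χ' = subOf M χ := by
  have key : ∀ χ : U → ℂ, (IsIrrCharacter _ (subOf M χ) ∧ Inv (S.subgroupOf M) (subOf M χ) ∧
      classInner (fun n : L.subgroupOf M => subOf M χ ⟨n, hLU n.2⟩) (subOf M φ) ≠ 0) ↔
      IsIrrCharacter U χ ∧ Inv S χ ∧ classInner (fun n : L => χ ⟨n, hLU n.2⟩) φ ≠ 0 := fun χ => by
    refine and_congr (isIrrCharacter_subgroupOf_iff hU) (and_congr (inv_subOf_iff hS hU) ?_)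
    rw [← classInner_comp_mulEquiv (Subgroup.subgroupOfEquivOfLe (hLU.trans hU))]
    rfl
  refine ⟨fun χ' h => ?_, fun _ _ _ _ _ _ h1 h2 => subOf_injective hU (h1.symm.trans h2),
    fun _ _ _ _ _ _ h1 h2 => h1.trans h2.symm, fun χ h => ⟨_, (key χ).2 h, rfl⟩⟩
  obtain ⟨χ, rfl⟩ := subOf_surjective hU χ'
  exact ⟨χ, (key χ).1 h, rfl⟩

/-- The odd multiplicity correspondence over an invariant character. -/
theorem bijRel_invariant [Finite Γ] {G S L K H : Subgroup Γ} [Fintype L]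
    [Fintype H] (hLK : L ≤ K) (hKG : K ≤ G) (hGK : G ≤ Subgroup.normalizer (K : Set Γ))
    (hSK : S ≤ Subgroup.normalizer (K : Set Γ)) (hGL : G ≤ Subgroup.normalizer (L : Set Γ))
    (hSL : S ≤ Subgroup.normalizer (L : Set Γ)) (hSG : S ≤ Subgroup.normalizer (G : Set Γ))
    (hKK : ⁅K, K⁆ ≤ L) (hH : H = L ⊔ G ⊓ Subgroup.centralizer (S : Set Γ)) (hKH : K ⊔ H = G)
    (hHG : H ≤ G) (hLH : L ≤ H) (hcop : (Nat.card S).Coprime (Nat.card G))
    (hodd : Odd (Nat.card G)) (hsolv : Group.IsSolvable G) {φ : L → ℂ} (hφ : IsIrrCharacter L φ)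
    (hinv : Inv G φ) (hinv' : Inv S φ) :
    BijRel (fun χ : G → ℂ => IsIrrCharacter G χ ∧ Inv S χ ∧
        classInner (fun n : L => χ ⟨n, hHG (hLH n.2)⟩) φ ≠ 0)
      (fun ψ : H → ℂ => IsIrrCharacter H ψ ∧ Inv S ψ ∧
        classInner (fun n : L => ψ ⟨n, hLH n.2⟩) φ ≠ 0)
      (OddRel (Subgroup.inclusion hHG)) := by
  let M := G ⊔ S
  have hGM : G ≤ M := le_sup_left
  have hSM : S ≤ M := le_sup_right
  have hLM : L ≤ M := hLK.trans (hKG.trans hGM)
  have hn := (Subgroup.normal_subgroupOf_iff_le_normalizer hLM).2 (sup_le hGL hSL)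
  have := Fintype.ofFinite (L.subgroupOf M)
  have := Fintype.ofFinite (H.subgroupOf M)
  have hc := bijRel_invariant_top (G := G.subgroupOf M) (S := S.subgroupOf M)
    (L := L.subgroupOf M) (K := K.subgroupOf M) (H := H.subgroupOf M) (Subgroup.comap_mono hLK)
    (Subgroup.comap_mono hKG) (subgroupOf_le_normalizer M hGK) (subgroupOf_le_normalizer M hSK)
    (subgroupOf_le_normalizer M hSG)
    (Subgroup.commutator_le.2 fun a ha b hb =>
      hKK (Subgroup.commutator_mem_commutator (H₁ := K) (H₂ := K) ha hb))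
    (by rw [hH, Subgroup.subgroupOf_sup hLM (inf_le_left.trans hGM),
      ← centralizer_subgroupOf_of_le hSM]; rfl)
    (by rw [← hKH, Subgroup.subgroupOf_sup (hKG.trans hGM) (hHG.trans hGM)])
    (Subgroup.comap_mono hHG) (Subgroup.comap_mono hLH)
    (by rwa [card_subgroupOf_eq hSM, card_subgroupOf_eq hGM]) (by rwa [card_subgroupOf_eq hGM])
    (Group.isSolvable_of_isSolvable_injective
      (f := (Subgroup.subgroupOfEquivOfLe hGM).toMonoidHom) (MulEquiv.injective _))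
    (φ := subOf M φ) (isIrrCharacter_subgroupOf hLM hφ)
    fun g n => Inv.sup hGL hSL hinv hinv' g g.2 _ _ rfl
  refine BijRel.transfer (bijRel_subOf hSM hGM (hLH.trans hHG) φ)
    (bijRel_subOf hSM (hHG.trans hGM) hLH φ) ?_ hc
  rintro _ χ _ ψ - - - - rfl rfl
  refine oddRel_congr ?_
  rw [← classInner_comp_mulEquiv (Subgroup.subgroupOfEquivOfLe (hHG.trans hGM))]
  rfl

end Cfsg.Agent.Ch
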