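import Mathlib
import Cfsg.Agent.Ch.OddCorr3

/-!
# The odd multiplicity correspondence, IV: Clifford reduction and the main theorem
-/

set_option autoImplicit false
set_option linter.style.haveILetI false
set_option linter.unusedSectionVars false

namespace Cfsg.Agent.Ch

open Function Cfsg Glb ComplexConjugate _root_.Cfsg.Agent.GT
open scoped commutatorElement

variable {Γ : Type*} [Group Γ]

theorem inertia_subOf_eq {L G : Subgroup Γ} (hLG : L ≤ G)
    (hGL : G ≤ Subgroup.normalizer (L : Set Γ)) [(L.subgroupOf G).Normal] (φ : L → ℂ) :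
    (G ⊓ invSub φ).subgroupOf G = inertia (L.subgroupOf G) (subOf G φ) := by
  ext g
  rw [Subgroup.mem_subgroupOf, Subgroup.mem_inf, and_iff_right g.2, mem_invSub_iff (hGL g.2),
    ← (subOf_injective hLG).eq_iff]
  rfl

section Amb

variable [Finite Γ] {L G T : Subgroup Γ} [Fintype L] [Fintype T] {φ : L → ℂ}

/-- Clifford correspondence for subgroups of an ambient group: the induced character. -/
theorem clifford_amb_key [Fintype G] (hGL : G ≤ Subgroup.normalizer (L : Set Γ))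
    (hT : T = G ⊓ invSub φ) (hLT : L ≤ T) (hTG : T ≤ G) (hφ : IsIrrCharacter L φ) {η : T → ℂ}
    (hη : IsIrrCharacter T η) (h : classInner (fun n : L => η ⟨n, hLT n.2⟩) φ ≠ 0) {χ : G → ℂ}
    (hχ : IsIrrCharacter G χ) (h' : classInner (fun t : T => χ ⟨t, hTG t.2⟩) η ≠ 0) :
    indFun (T.subgroupOf G) (subOf G η) = χ := by
  have := Fintype.ofFinite (L.subgroupOf G)
  have := Fintype.ofFinite (T.subgroupOf G)
  have := Subgroup.normal_subgroupOf_of_le_normalizer hGL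
  refine (clifford_corr_key (isIrrCharacter_subgroupOf (hLT.trans hTG) hφ)
    (hT ▸ inertia_subOf_eq (hLT.trans hTG) hGL φ) (Subgroup.comap_mono hLT)
    (isIrrCharacter_subgroupOf hTG hη) ?_ hχ (by rwa [classInner_res_subgroupOf hTG])).1
  rwa [← classInner_subgroupOf (hLT.trans hTG)] at h

theorem clifford_amb_inner [Fintype G] (hGL : G ≤ Subgroup.normalizer (L : Set Γ))
    (hT : T = G ⊓ invSub φ) (hLT : L ≤ T) (hTG : T ≤ G) (hφ : IsIrrCharacter L φ) {η : T → ℂ}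
    (hη : IsIrrCharacter T η) (h : classInner (fun n : L => η ⟨n, hLT n.2⟩) φ ≠ 0) {χ : G → ℂ}
    (hχ : IsIrrCharacter G χ) (h' : classInner (fun t : T => χ ⟨t, hTG t.2⟩) η ≠ 0) {ξ : G → ℂ}
    (hξ : IsClassFunction G ξ) :
    classInner ξ χ = classInner (fun t : T => ξ ⟨t, hTG t.2⟩) η := by
  have := Fintype.ofFinite (T.subgroupOf G)
  rw [← clifford_amb_key hGL hT hLT hTG hφ hη h hχ h', classInner_indFun_right _ _ hξ,
    classInner_res_subgroupOf hTG]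

theorem clifford_amb_unique (hGL : G ≤ Subgroup.normalizer (L : Set Γ))
    (hT : T = G ⊓ invSub φ) (hLT : L ≤ T) (hTG : T ≤ G) (hφ : IsIrrCharacter L φ) {η η' : T → ℂ}
    (hη : IsIrrCharacter T η) (h : classInner (fun n : L => η ⟨n, hLT n.2⟩) φ ≠ 0)
    (hη' : IsIrrCharacter T η') (h1 : classInner (fun n : L => η' ⟨n, hLT n.2⟩) φ ≠ 0) {χ : G → ℂ}
    (hχ : IsIrrCharacter G χ) (h' : classInner (fun t : T => χ ⟨t, hTG t.2⟩) η ≠ 0)
    (h1' : classInner (fun t : T => χ ⟨t, hTG t.2⟩) η' ≠ 0) : η = η' := by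
  have := Fintype.ofFinite G
  have := Fintype.ofFinite (L.subgroupOf G)
  have := Fintype.ofFinite (T.subgroupOf G)
  have := Subgroup.normal_subgroupOf_of_le_normalizer hGL
  rw [← classInner_subgroupOf (hLT.trans hTG)] at h h1
  rw [← classInner_res_subgroupOf hTG] at h' h1'
  exact subOf_injective hTG (clifford_corr_unique (T := T.subgroupOf G) (isIrrCharacter_subgroupOf (hLT.trans hTG) hφ)
    (hT ▸ inertia_subOf_eq (hLT.trans hTG) hGL φ) (Subgroup.comap_mono hLT) hχ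
    (isIrrCharacter_subgroupOf hTG hη) (isIrrCharacter_subgroupOf hTG hη') h h1 h' h1')

theorem le_normalizer_invSub {S : Subgroup Γ} (hSL : S ≤ Subgroup.normalizer (L : Set Γ))
    (hinv : Inv S φ) : S ≤ Subgroup.normalizer (invSub φ : Set Γ) :=
  ((inv_iff_le hSL).1 hinv).trans Subgroup.le_normalizer

/-- The Clifford correspondence for invariant characters. -/
theorem bijRel_clifford {S : Subgroup Γ} (hGL : G ≤ Subgroup.normalizer (L : Set Γ))
    (hSL : S ≤ Subgroup.normalizer (L : Set Γ)) (hSG : S ≤ Subgroup.normalizer (G : Set Γ))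
    (hT : T = G ⊓ invSub φ) (hLT : L ≤ T) (hTG : T ≤ G) (hφ : IsIrrCharacter L φ)
    (hinv : Inv S φ) :
    BijRel (fun η : T → ℂ => IsIrrCharacter T η ∧ Inv S η ∧
        classInner (fun n : L => η ⟨n, hLT n.2⟩) φ ≠ 0)
      (fun χ : G → ℂ => IsIrrCharacter G χ ∧ Inv S χ ∧
        classInner (fun n : L => χ ⟨n, hTG (hLT n.2)⟩) φ ≠ 0)
      fun η χ => classInner (fun t : T => χ ⟨t, hTG t.2⟩) η ≠ 0 := by
  have := Fintype.ofFinite G
  have hST : S ≤ Subgroup.normalizer (T : Set Γ) :=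
    hT ▸ CopAct.le_normalizer_inf hSG (le_normalizer_invSub hSL hinv)
  refine ⟨fun η ⟨h1, h2, h3⟩ => ?_, fun η χ χ' ⟨h1, _, h3⟩ hχ hχ' h4 h5 => ?_,
    fun η η' χ ⟨h1, _, h3⟩ ⟨h1', _, h3'⟩ hχ h4 h5 => ?_, fun χ ⟨h1, h2, h3⟩ => ?_⟩
  · obtain ⟨χ, hχ, h4⟩ := exists_irr_over_of_le hTG h1
    refine ⟨χ, ⟨hχ, inv_of_cj hSG fun s hs => ?_, classInner_comp_ne_zero_of_constituent
      (Subgroup.inclusion hLT) (isCharacter_res_of_le hTG hχ.isCharacter) h1 h4 hφ.isCharacter h3⟩,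
      h4⟩
    refine (clifford_amb_key hGL hT hLT hTG hφ h1 h3 (hχ.comp_mulEquiv (cj (hSG hs))) ?_).symm.trans
      (clifford_amb_key hGL hT hLT hTG hφ h1 h3 hχ h4)
    rwa [← classInner_res_cj hTG (hSG hs) (hST hs), h2.cj_eq hs] at h4
  · exact (clifford_amb_key hGL hT hLT hTG hφ h1 h3 hχ.1 h4).symm.trans
      (clifford_amb_key hGL hT hLT hTG hφ h1 h3 hχ'.1 h5)
  · exact clifford_amb_unique hGL hT hLT hTG hφ h1 h3 h1' h3' hχ.1 h4 h5
  · obtain ⟨η, hη, h4, h5⟩ := exists_constituent_comp_ne_zero (Subgroup.inclusion hLT)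
      (isClassFunction_res_of_le hTG h1.isClassFunction) h3
    refine ⟨η, ⟨hη, inv_of_cj hST fun s hs => ?_, h5⟩, h4⟩
    refine clifford_amb_unique hGL hT hLT hTG hφ (hη.comp_mulEquiv (cj (hST hs))) ?_ hη h5 h1 ?_ h4
    · have h6 : classInner (fun n : L => η ⟨n, hLT n.2⟩) φ ≠ 0 := h5
      rwa [← classInner_res_cj hLT (hST hs) (hSL hs), hinv.cj_eq hs] at h6
    · rw [← classInner_res_cj hTG (hSG hs) (hST hs)] at h4
      convert h4 using 3 with t
      exact (congrFun (h2.cj_eq hs (hSG hs)) _).symm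

/-- Multiplicities are preserved by the Clifford correspondence. -/
theorem clifford_amb_res {H U : Subgroup Γ} [Fintype H] [Fintype U]
    (hGL : G ≤ Subgroup.normalizer (L : Set Γ)) (hT : T = G ⊓ invSub φ) (hU : U = H ⊓ invSub φ)
    (hLU : L ≤ U) (hUT : U ≤ T) (hUH : U ≤ H) (hHG : H ≤ G) (hTG : T ≤ G)
    (hφ : IsIrrCharacter L φ) {η : T → ℂ}
    (hη : IsIrrCharacter T η) (h1 : classInner (fun n : L => η ⟨n, hUT (hLU n.2)⟩) φ ≠ 0)
    {χ : G → ℂ} (hχ : IsIrrCharacter G χ) (h2 : classInner (fun t : T => χ ⟨t, hTG t.2⟩) η ≠ 0)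
    {ζ : U → ℂ} (hζ : IsIrrCharacter U ζ) (h3 : classInner (fun n : L => ζ ⟨n, hLU n.2⟩) φ ≠ 0)
    {ψ : H → ℂ} (hψ : IsIrrCharacter H ψ) (h4 : classInner (fun u : U => ψ ⟨u, hUH u.2⟩) ζ ≠ 0) :
    classInner (fun h : H => χ ⟨h, hHG h.2⟩) ψ = classInner (fun u : U => η ⟨u, hUT u.2⟩) ζ := by
  have := Fintype.ofFinite G
  rw [clifford_amb_inner (hHG.trans hGL) hU hLU hUH hφ hζ h3 hψ h4
    (isClassFunction_res_of_le hHG hχ.isClassFunction)]
  have hχT := isCharacter_res_of_le hTG hχ.isCharacter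
  obtain ⟨Δ, hΔ, e⟩ := hχT.exists_eq_irr_add hη h2
  have h5 : classInner Δ η = 0 := by
    have h6 := clifford_amb_inner hGL hT (hLU.trans hUT) hTG hφ hη h1 hχ h2 hχ.isClassFunction
    rw [hχ.classInner_self, e, classInner_add_left, hη.classInner_self] at h6
    exact left_eq_add.1 h6
  have h6 : classInner (fun u : U => Δ ⟨u, hUT u.2⟩) ζ = 0 := by
    by_contra h6
    obtain ⟨η', hη', h7, h8⟩ := exists_constituent_comp_ne_zero (Subgroup.inclusion hUT)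
      hΔ.isClassFunction h6
    refine h7 (clifford_amb_unique hGL hT (hLU.trans hUT) hTG hφ hη h1 hη'
      (classInner_comp_ne_zero_of_constituent (Subgroup.inclusion hLU)
        (isCharacter_res_of_le hUT hη'.isCharacter) hζ h8 hφ.isCharacter h3) hχ h2 ?_ ▸ h5)
    rw [e]
    exact (hη.isCharacter.classInner_add_ne_zero_iff hΔ hη'.isCharacter).2 (Or.inr h7)
  have h7 : (fun u : U => χ ⟨u, hHG (hUH u.2)⟩) =
      (fun u : U => η ⟨u, hUT u.2⟩) + fun u : U => Δ ⟨u, hUT u.2⟩ :=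
    funext fun u => congrFun e ⟨u, hUT u.2⟩
  rw [h7, classInner_add_left, h6, add_zero]

end Amb

/-- Invariant constituents of an invariant character are conjugate under the fixed points. -/
theorem exists_cj_centralizer_of_under [Finite Γ] {G S L : Subgroup Γ} [Fintype L] (hLG : L ≤ G)
    (hGL : G ≤ Subgroup.normalizer (L : Set Γ)) (hSL : S ≤ Subgroup.normalizer (L : Set Γ))
    (hSG : S ≤ Subgroup.normalizer (G : Set Γ)) (hcop : (Nat.card S).Coprime (Nat.card G))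
    (hsolv : Group.IsSolvable S ∨ Group.IsSolvable G) {χ : G → ℂ} (hχ : IsIrrCharacter G χ)
    {θ φ : L → ℂ} (hθ : IsIrrCharacter L θ) (hφ : IsIrrCharacter L φ) (hθ' : Inv S θ)
    (hφ' : Inv S φ) (h : classInner (fun n : L => χ ⟨n, hLG n.2⟩) θ ≠ 0)
    (h' : classInner (fun n : L => χ ⟨n, hLG n.2⟩) φ ≠ 0) :
    ∃ (c : Γ) (hc : c ∈ G), c ∈ Subgroup.centralizer (S : Set Γ) ∧
      φ = fun n => θ (cj (hGL hc) n) := by
  obtain ⟨g, hg, rfl⟩ := exists_cj_of_under hLG hGL hχ hθ hφ h h'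
  obtain ⟨x, hx, c, hc, e⟩ := CopAct.exists_eq_mul_centralizer (A := S) (N := G ⊓ invSub θ)
    (CopAct.le_normalizer_inf hSG (le_normalizer_invSub hSL hθ'))
    (hcop.coprime_dvd_right (Subgroup.card_dvd_of_le inf_le_left))
    (hsolv.imp_right (CopAct.isSolvable_of_le inf_le_left)) (k := g) fun s hs => by
      have h0 := mul_mem hg (CopAct.conj_mem hSG hs (inv_mem hg))
      refine Subgroup.mem_inf.2 ⟨by simpa [commutatorElement_def, mul_assoc] using h0, ?_⟩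
      refine mul_mem ?_ (inv_mem ((inv_iff_le hSL).1 hθ' hs))
      refine ⟨mul_mem (mul_mem (hGL hg) (hSL hs)) (inv_mem (hGL hg)), fun a b hab => ?_⟩
      have := hφ' s hs (cj (inv_mem (hGL hg)) a) (cj (inv_mem (hGL hg)) b)
        (by simp [coe_cj, hab, mul_assoc])
      convert this using 2 <;> exact Subtype.ext (by simp [coe_cj, mul_assoc])
  have hcG : c ∈ G := by
    rw [eq_inv_mul_of_mul_eq e]
    exact mul_mem (inv_mem (Subgroup.mem_inf.1 hx).1) hg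
  refine ⟨c, hcG, hc, funext fun n => hx.2.2 _ _ ?_⟩
  simp [coe_cj, ← e, mul_assoc]

/-- Isaacs' odd multiplicity correspondence over a fixed invariant character. -/
theorem bijRel_over [Finite Γ] {G S L K H : Subgroup Γ} [Fintype L]
    [Fintype H] (hLK : L ≤ K) (hKG : K ≤ G) (hGK : G ≤ Subgroup.normalizer (K : Set Γ))
    (hSK : S ≤ Subgroup.normalizer (K : Set Γ)) (hGL : G ≤ Subgroup.normalizer (L : Set Γ))
    (hSL : S ≤ Subgroup.normalizer (L : Set Γ)) (hSG : S ≤ Subgroup.normalizer (G : Set Γ))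
    (hKK : ⁅K, K⁆ ≤ L) (hH : H = L ⊔ G ⊓ Subgroup.centralizer (S : Set Γ)) (hKH : K ⊔ H = G)
    (hHG : H ≤ G) (hLH : L ≤ H) (hcop : (Nat.card S).Coprime (Nat.card G))
    (hodd : Odd (Nat.card G)) (hsolv : Group.IsSolvable G) {φ : L → ℂ} (hφ : IsIrrCharacter L φ)
    (hinv : Inv S φ) :
    BijRel (fun χ : G → ℂ => IsIrrCharacter G χ ∧ Inv S χ ∧
        classInner (fun n : L => χ ⟨n, hHG (hLH n.2)⟩) φ ≠ 0)
      (fun ψ : H → ℂ => IsIrrCharacter H ψ ∧ Inv S ψ ∧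
        classInner (fun n : L => ψ ⟨n, hLH n.2⟩) φ ≠ 0)
      (OddRel (Subgroup.inclusion hHG)) := by
  let T := G ⊓ invSub φ
  let U := H ⊓ invSub φ
  have := Fintype.ofFinite T
  have := Fintype.ofFinite U
  have hLI : L ≤ invSub φ := le_invSub_self hφ.isClassFunction
  have hLU : L ≤ U := le_inf hLH hLI
  have hUT : U ≤ T := inf_le_inf_right _ hHG
  have hTG : T ≤ G := inf_le_left
  have hST : S ≤ Subgroup.normalizer (T : Set Γ) :=
    CopAct.le_normalizer_inf hSG (le_normalizer_invSub hSL hinv)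
  have hSH : S ≤ Subgroup.normalizer (H : Set Γ) := hH ▸ CopAct.le_normalizer_sup hSL
    (CopAct.le_normalizer_inf hSG (CopAct.le_normalizer_centralizer Subgroup.le_normalizer))
  have hU : U = L ⊔ T ⊓ Subgroup.centralizer (S : Set Γ) := by
    refine le_antisymm (fun u hu => ?_) (sup_le hLU (le_inf
      (hH.ge.trans' ((inf_le_inf_right _ hTG).trans le_sup_right)) (inf_le_left.trans inf_le_right)))
    obtain ⟨l, hl, c, hc, rfl⟩ := (CopAct.mem_sup_iff_of_le_normalizer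
      (inf_le_left.trans hGL)).1 (hH.le hu.1)
    refine Subgroup.mul_mem_sup hl ⟨⟨hc.1, ?_⟩, hc.2⟩
    simpa using mul_mem (inv_mem (hLI hl)) (Subgroup.mem_inf.1 hu).2
  have hGS : ⁅G, S⁆ ≤ K := Subgroup.commutator_le.2 fun g hg s hs => by
    have h1 : G = K ⊔ G ⊓ Subgroup.centralizer (S : Set Γ) := by
      rw [← sup_eq_left.2 hLK, sup_assoc, ← hH, hKH]
    obtain ⟨k, hk, c, hc, rfl⟩ := (CopAct.mem_sup_iff_of_le_normalizer
      (inf_le_left.trans hGK)).1 (h1.le hg)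
    rw [show ⁅k * c, s⁆ = k * (c * s * c⁻¹) * k⁻¹ * s⁻¹ by
      simp only [commutatorElement_def]; group, ← hc.2 s hs]
    simpa [mul_assoc] using mul_mem hk (CopAct.conj_mem hSK hs (inv_mem hk))
  have hc := bijRel_invariant (G := T) (K := K ⊓ T) (H := U) (le_inf hLK (hLU.trans hUT))
    inf_le_right (CopAct.le_normalizer_inf (hTG.trans hGK) Subgroup.le_normalizer)
    (CopAct.le_normalizer_inf hSK hST) (hTG.trans hGL) hSL hST
    ((Subgroup.commutator_mono inf_le_left inf_le_left).trans hKK) hU (by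
      rw [hU, ← sup_assoc, sup_eq_left.2 (le_inf hLK (hLU.trans hUT))]
      exact CopAct.sup_inf_centralizer_eq_of_commutator_le inf_le_right
        (hcop.coprime_dvd_right (Subgroup.card_dvd_of_le (inf_le_left.trans hKG)))
        (Or.inr (CopAct.isSolvable_of_le (inf_le_left.trans hKG) hsolv))
        (le_inf ((Subgroup.commutator_mono hTG le_rfl).trans hGS)
          (CopAct.commutator_le_of_le_normalizer hST)))
    hUT hLU (hcop.coprime_dvd_right (Subgroup.card_dvd_of_le hTG))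
    (hodd.of_dvd_nat (Subgroup.card_dvd_of_le hTG)) (CopAct.isSolvable_of_le hTG hsolv) hφ
    (fun s hs => hs.2.2) hinv
  refine BijRel.transfer (bijRel_clifford hGL hSL hSG rfl (hLU.trans hUT) hTG hφ hinv)
    (bijRel_clifford (hHG.trans hGL) hSL hSH rfl hLU inf_le_left hφ hinv)
    (fun η χ ζ ψ hη hχ hζ hψ h1 h2 => oddRel_congr ?_) hc
  exact clifford_amb_res hGL rfl rfl hLU hUT inf_le_left hHG hTG hφ hη.1 hη.2.2 hχ.1 h1 hζ.1
    hζ.2.2 hψ.1 h2

/-- Isaacs' odd multiplicity correspondence. -/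
theorem bijRel_odd [Finite Γ] {G S L K H : Subgroup Γ} [Fintype H] (hLK : L ≤ K) (hKG : K ≤ G)
    (hGK : G ≤ Subgroup.normalizer (K : Set Γ))
    (hSK : S ≤ Subgroup.normalizer (K : Set Γ)) (hGL : G ≤ Subgroup.normalizer (L : Set Γ))
    (hSL : S ≤ Subgroup.normalizer (L : Set Γ)) (hSG : S ≤ Subgroup.normalizer (G : Set Γ))
    (hKK : ⁅K, K⁆ ≤ L) (hH : H = L ⊔ G ⊓ Subgroup.centralizer (S : Set Γ)) (hKH : K ⊔ H = G)
    (hHG : H ≤ G) (hcop : (Nat.card S).Coprime (Nat.card G))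
    (hodd : Odd (Nat.card G)) (hsolv : Group.IsSolvable G) :
    BijRel (fun χ : G → ℂ => IsIrrCharacter G χ ∧ Inv S χ)
      (fun ψ : H → ℂ => IsIrrCharacter H ψ ∧ Inv S ψ) (OddRel (Subgroup.inclusion hHG)) := by
  have := Fintype.ofFinite L
  have hLH : L ≤ H := hH ▸ le_sup_left
  have hSH : S ≤ Subgroup.normalizer (H : Set Γ) := hH ▸ CopAct.le_normalizer_sup hSL
    (CopAct.le_normalizer_inf hSG (CopAct.le_normalizer_centralizer Subgroup.le_normalizer))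
  have h1 : ∀ U : Subgroup Γ, U ≤ G → S ≤ Subgroup.normalizer (U : Set Γ) → ∀ (hLU : L ≤ U)
      (χ : U → ℂ), IsIrrCharacter U χ ∧ Inv S χ → ∃ φ, IsIrrCharacter L φ ∧
        classInner (fun n : L => χ ⟨n, hLU n.2⟩) φ ≠ 0 ∧ Inv S φ := fun U hU hSU hLU χ hχ => by
    have := Subgroup.normal_subgroupOf_of_le_normalizer (hU.trans hGL)
    have := CopAct.isSolvable_of_le hU hsolv
    exact exists_inv_under hLU (hU.trans hGL) hSU hSL ((hcop.symm.coprime_dvd_left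
      ((Subgroup.relIndex_dvd_card L U).trans (Subgroup.card_dvd_of_le hU))).coprime_dvd_right
      (Subgroup.relIndex_dvd_card L S)) (Or.inr inferInstance) hχ.1 hχ.2
  have h2 := fun φ => bijRel_over (φ := φ) hLK hKG hGK hSK hGL hSL hSG hKK hH hKH hHG hLH hcop
    hodd hsolv
  have h3 : ∀ (χ : G → ℂ) (ψ : H → ℂ) (φ : L → ℂ), IsIrrCharacter G χ → IsIrrCharacter H ψ →
      IsIrrCharacter L φ → OddRel (Subgroup.inclusion hHG) χ ψ →
      classInner (fun n : L => ψ ⟨n, hLH n.2⟩) φ ≠ 0 →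
      classInner (fun n : L => χ ⟨n, hHG (hLH n.2)⟩) φ ≠ 0 := fun χ ψ φ hχ hψ hφ hr h =>
    classInner_comp_ne_zero_of_constituent (Subgroup.inclusion hLH)
      (isCharacter_res_of_le hHG hχ.isCharacter) hψ hr.ne_zero hφ.isCharacter h
  refine ⟨fun χ hχ => ?_, fun χ ψ ψ' hχ hψ hψ' hr hr' => ?_, fun χ χ' ψ hχ hχ' hψ hr hr' => ?_,
    fun ψ hψ => ?_⟩
  · obtain ⟨φ, hφ, h4, h5⟩ := h1 G le_rfl hSG (hLH.trans hHG) χ hχ
    obtain ⟨ψ, hψ, hr⟩ := (h2 φ hφ h5).ex χ ⟨hχ.1, hχ.2, h4⟩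
    exact ⟨ψ, ⟨hψ.1, hψ.2.1⟩, hr⟩
  · obtain ⟨φ, hφ, h4, h5⟩ := h1 H hHG hSH hLH ψ hψ
    obtain ⟨φ', hφ', h4', h5'⟩ := h1 H hHG hSH hLH ψ' hψ'
    obtain ⟨c, hc, hc', rfl⟩ := exists_cj_centralizer_of_under (hLH.trans hHG) hGL hSL hSG hcop
      (Or.inr hsolv) hχ.1 hφ hφ' h5 h5' (h3 _ _ _ hχ.1 hψ.1 hφ hr h4)
      (h3 _ _ _ hχ.1 hψ'.1 hφ' hr' h4')
    have hcH : c ∈ H := hH.ge (Subgroup.mem_sup_right ⟨hc, hc'⟩)
    refine (h2 φ hφ h5).uniq χ ψ ψ' ⟨hχ.1, hχ.2, h3 _ _ _ hχ.1 hψ.1 hφ hr h4⟩ ⟨hψ.1, hψ.2, h4⟩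
      ⟨hψ'.1, hψ'.2, ?_⟩ hr hr'
    rw [← classInner_res_cj hLH (Subgroup.le_normalizer hcH) (hGL hc)]
    convert h4' using 3 with n
    exact inv_self hψ'.1.isClassFunction c hcH _ _ rfl
  · obtain ⟨φ, hφ, h4, h5⟩ := h1 H hHG hSH hLH ψ hψ
    exact (h2 φ hφ h5).inj χ χ' ψ ⟨hχ.1, hχ.2, h3 _ _ _ hχ.1 hψ.1 hφ hr h4⟩
      ⟨hχ'.1, hχ'.2, h3 _ _ _ hχ'.1 hψ.1 hφ hr' h4⟩ ⟨hψ.1, hψ.2, h4⟩ hr hr'
  · obtain ⟨φ, hφ, h4, h5⟩ := h1 H hHG hSH hLH ψ hψ
    obtain ⟨χ, hχ, hr⟩ := (h2 φ hφ h5).surj ψ ⟨hψ.1, hψ.2, h4⟩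
    exact ⟨χ, ⟨hχ.1, hχ.2.1⟩, hr⟩

end Cfsg.Agent.Ch
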