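import Mathlib
import Cfsg.Agent.Ch.NearRegular
import Cfsg.Agent.Ch.CoprimeChar2
import Cfsg.Agent.Ch.OddCorr4
import Cfsg.Agent.Ch.Berger

/-!
Fully ramified characters: restriction to Hall subgroups and Gagola's complement lemma.
-/

set_option autoImplicit false
set_option linter.style.haveILetI false
set_option linter.unusedSectionVars false

open Function Cfsg ComplexConjugate

namespace Cfsg.Agent.Ch

open Glb

theorem card_dvd_card_stabilizer_mul_sum {P X : Type*} [Group P] [Finite P] [MulAction P X]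
    [Fintype X] (x0 : X) (f : X → ℕ) (hf : ∀ x, f x ≠ 0 → x ∈ MulAction.orbit P x0)
    (J : Subgroup P) (hJ : ∀ g : P, ∀ j ∈ J, f ((g * j) • x0) = f (g • x0)) :
    Nat.card J ∣ Nat.card (MulAction.stabilizer P x0) * ∑ x, f x := by
  classical
  haveI := Fintype.ofFinite P
  have h1 := sum_eq_card_mul_sum_quotient J (fun g => (f (g • x0) : ℂ))
    fun g j hj => by simp only [hJ g j hj]
  have h2 := sum_eq_card_mul_sum_quotient (MulAction.stabilizer P x0)
    (fun g => (f (g • x0) : ℂ)) fun g j hj => by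
      simp only [mul_smul, MulAction.mem_stabilizer_iff.1 hj]
  have h3 : ∑ q : P ⧸ MulAction.stabilizer P x0, f (Quotient.out q • x0) = ∑ x, f x := by
    refine Finset.sum_of_injOn (fun q : P ⧸ MulAction.stabilizer P x0 => Quotient.out q • x0) ?_
      (fun _ _ => Finset.mem_univ _) ?_ fun _ _ => rfl
    · intro a _ b _ hab
      rw [← Quotient.out_eq a, ← Quotient.out_eq b]
      refine QuotientGroup.eq.2 ?_
      simp only at hab
      rw [MulAction.mem_stabilizer_iff, mul_smul, ← hab, inv_smul_smul]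
    · intro x _ hx
      by_contra h0
      obtain ⟨g, rfl⟩ := hf x h0
      refine hx ⟨(g : P ⧸ MulAction.stabilizer P x0), by simp, ?_⟩
      obtain ⟨s, hs⟩ := QuotientGroup.mk_out_eq_mul (MulAction.stabilizer P x0) g
      simp only
      rw [hs, mul_smul, MulAction.mem_stabilizer_iff.1 s.2]
  refine ⟨∑ q : P ⧸ J, f (Quotient.out q • x0), ?_⟩
  rw [← h3]
  exact_mod_cast h2.symm.trans h1

section
variable {G : Type*} [Group G] [Finite G] {N : Subgroup G} [hN : N.Normal] [Fintype N]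

/-- If only one irreducible character lies over `η`, the relative index of the inertia group is the
square of the multiplicity. -/
theorem relIndex_inertia_eq_sq_of_unique [Fintype G] {η : N → ℂ} (hη : IsIrrCharacter N η)
    {ψ : G → ℂ} (hψ : IsIrrCharacter G ψ)
    (huniq : ∀ ξ, IsIrrCharacter G ξ → classInner (fun n : N => ξ n) η ≠ 0 → ξ = ψ) :
    ∃ m : ℕ, classInner (fun n : N => ψ n) η = m ∧ indFun N η = m • ψ ∧
      m ^ 2 = N.relIndex (inertia N η) := by
  classical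
  obtain ⟨m, hm, hs, hsq⟩ := exists_mult_over hη
  have h0 : ∀ ξ : IrrCharacter G, ξ ≠ ⟨ψ, hψ⟩ → m ξ = 0 := by
    intro ξ hξ
    by_contra h
    refine hξ (Subtype.ext (huniq ξ ξ.2 ?_))
    rw [hm]
    exact_mod_cast h
  refine ⟨m ⟨ψ, hψ⟩, hm ⟨ψ, hψ⟩, ?_, ?_⟩
  · rw [hs, Finset.sum_eq_single ⟨ψ, hψ⟩ (fun ξ _ h => by simp [h0 ξ h]) (by simp)]
  · rw [← hsq, Finset.sum_eq_single ⟨ψ, hψ⟩ (fun ξ _ h => by simp [h0 ξ h]) (by simp)]

theorem isCyclic_quotient_subgroupOf [IsCyclic (G ⧸ N)] (T : Subgroup G) :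
    IsCyclic (T ⧸ N.subgroupOf T) := by
  refine isCyclic_of_injective (G' := G ⧸ N) (QuotientGroup.lift (N.subgroupOf T)
    ((QuotientGroup.mk' N).comp T.subtype) fun x hx => (QuotientGroup.eq_one_iff (x : G)).2 hx) ?_
  rw [injective_iff_map_eq_one]
  intro q hq
  obtain ⟨x, rfl⟩ := QuotientGroup.mk_surjective q
  exact (QuotientGroup.eq_one_iff x).2 ((QuotientGroup.eq_one_iff (x : G)).1 hq)

/-- With cyclic quotient and a unique character above, the inertia group is as small as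
possible. -/
theorem inertia_le_of_unique_of_isCyclic [IsCyclic (G ⧸ N)] {η : N → ℂ}
    (hη : IsIrrCharacter N η) {ψ : G → ℂ} (hψ : IsIrrCharacter G ψ)
    (huniq : ∀ ξ, IsIrrCharacter G ξ → classInner (fun n : N => ξ n) η ≠ 0 → ξ = ψ) :
    inertia N η ≤ N := by
  haveI := Fintype.ofFinite G
  obtain ⟨m, hm, -, hsq⟩ := relIndex_inertia_eq_sq_of_unique hη hψ huniq
  have hNT : N ≤ inertia N η := le_inertia hη.isClassFunction
  haveI := Fintype.ofFinite (inertia N η)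
  haveI := isCyclic_quotient_subgroupOf (N := N) (inertia N η)
  obtain ⟨ηh, hηh, he⟩ := extends_of_isCyclic (N := N.subgroupOf (inertia N η))
    (isIrrCharacter_subgroupOf hNT hη)
    fun g => congrFun (subOf_invariant (K := inertia N η) (θ := η) le_rfl g)
  have h1 : (fun n : N => ηh ⟨n, hNT n.2⟩) = η := funext fun n => he ⟨⟨n, hNT n.2⟩, n.2⟩
  have h2 : classInner (fun n : N => ηh ⟨n, hNT n.2⟩) η = 1 := by rw [h1, hη.classInner_self]
  have h3 := clifford_corr_mult hη rfl hNT hηh (h2 ▸ one_ne_zero)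
  have h4 := huniq _ (clifford_corr_irr hη rfl hNT hηh (h2 ▸ one_ne_zero))
    (by rw [h3, h2]; exact one_ne_zero)
  rw [h4, hm, h2] at h3
  have h5 : m = 1 := by exact_mod_cast h3
  rw [h5] at hsq
  exact Subgroup.relIndex_eq_one.1 hsq.symm

end

section
variable {H : Type*} [Group H] [Finite H] {Z : Subgroup H} [hZ : Z.Normal] [Fintype Z]
  {θ : Z → ℂ}

theorem over_trans {U V : Subgroup H} [Fintype U] (hZU : Z ≤ U) (hUV : U ≤ V) {φ : V → ℂ}
    (hφ : IsCharacter V φ) {η : U → ℂ} (hη : IsIrrCharacter U η) (hθ : IsCharacter Z θ)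
    (h1 : classInner (fun u : U => φ ⟨u, hUV u.2⟩) η ≠ 0)
    (h2 : classInner (fun z : Z => η ⟨z, hZU z.2⟩) θ ≠ 0) :
    classInner (fun z : Z => φ ⟨z, hUV (hZU z.2)⟩) θ ≠ 0 :=
  classInner_comp_ne_zero_of_constituent (Subgroup.inclusion hZU)
    (isCharacter_res_of_le hUV hφ) hη h1 hθ h2

theorem over_of_constituent {U V : Subgroup H} [Fintype U] (hZU : Z ≤ U) (hUV : U ≤ V)
    (hθ : IsIrrCharacter Z θ) (hinv : ∀ g : H, conjChar g θ = θ) {φ : V → ℂ}
    (hφ : IsIrrCharacter V φ) {η : U → ℂ} (hη : IsIrrCharacter U η)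
    (h1 : classInner (fun u : U => φ ⟨u, hUV u.2⟩) η ≠ 0)
    (h2 : classInner (fun z : Z => φ ⟨z, hUV (hZU z.2)⟩) θ ≠ 0) :
    classInner (fun z : Z => η ⟨z, hZU z.2⟩) θ ≠ 0 := by
  obtain ⟨ζ, hζ, h3⟩ := exists_irr_under_of_le hZU hη
  have h4 := over_trans hZU hUV hφ.isCharacter hη hζ.isCharacter h1 h3
  rw [res_eq_smul_of_le_inertia (hZU.trans hUV) hθ (inertia_eq_top_iff.2 hinv ▸ le_top) hφ h2,
    classInner_smul_left] at h4
  rwa [hθ.eq_of_classInner_ne_zero hζ (right_ne_zero_of_mul h4)]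

/-- degrees along induction. -/
theorem dvd_relIndex_mul_charDegree {U V : Subgroup H} [Fintype U] (hUV : U ≤ V) {η : U → ℂ}
    (hη : IsIrrCharacter U η) {d : ℕ}
    (hd : ∀ φ, IsIrrCharacter V φ → classInner (fun u : U => φ ⟨u, hUV u.2⟩) η ≠ 0 →
      d ∣ charDegree φ) : d ∣ U.relIndex V * charDegree η := by
  haveI := Fintype.ofFinite V
  have hc := isCharacter_indFun _ (isCharacter_subgroupOf hUV hη.isCharacter)
  obtain ⟨m, hm, -, hdeg⟩ := hc.exists_nat_classInner_self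
  have h1 : charDegree (indFun (U.subgroupOf V) fun x => η ⟨x, x.2⟩) =
      U.relIndex V * charDegree η := by
    refine charDegree_of_apply_one ?_
    rw [indFun_one, Nat.cast_mul, hη.coe_charDegree]
    rfl
  rw [← h1, hdeg]
  refine Finset.dvd_sum fun φ _ => ?_
  by_cases h : m φ = 0
  · simp [h]
  · refine (hd φ φ.2 ?_).mul_left _
    rw [← classInner_indFun_subgroupOf_eq_res hUV hη.isCharacter φ.isCharacter, hm]
    exact_mod_cast h

variable {χ : H → ℂ} {e : ℕ}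

/-- DeMeyer-Janusz: full ramification passes to Hall subgroups of the quotient. -/
theorem fr_hall (hχ : IsIrrCharacter H χ) (hθ : IsIrrCharacter Z θ) (he : e ^ 2 = Z.index)
    (hr : ∀ n : Z, χ n = e * θ n) {P : Subgroup H} (hZP : Z ≤ P)
    (hcop : (Z.relIndex P).Coprime P.index) :
    ∃ (ψ : P → ℂ) (f : ℕ), IsIrrCharacter P ψ ∧ f ^ 2 = Z.relIndex P ∧
      ∀ n : Z, ψ ⟨n, hZP n.2⟩ = f * θ n := by
  classical
  haveI := Fintype.ofFinite H
  haveI := Fintype.ofFinite P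
  have hinv := fr_invariant hχ.isClassFunction he hr
  have hT : P ≤ inertia Z θ := inertia_eq_top_iff.2 hinv ▸ le_top
  obtain ⟨ψ, hψ, hne⟩ := exists_irr_over_of_le hZP hθ
  obtain ⟨f, hf⟩ := (isCharacter_res_of_le hZP hψ.isCharacter).exists_nat_classInner
    hθ.isCharacter
  have hres := res_eq_smul_of_le_inertia hZP hθ hT hψ hne
  rw [hf] at hres
  refine ⟨ψ, f, hψ, le_antisymm ?_ ?_, fun n => congrFun hres n⟩
  · have h1 := sq_le_relIndex_inertia (isIrrCharacter_subgroupOf hZP hθ) hψ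
      ((classInner_res_subgroupOf hZP ψ θ).trans hf)
    rwa [relIndex_inertia_of_invariant (θ := subOf P θ) (subOf_invariant hT)] at h1
  · have hf0 : f ≠ 0 := by
      rintro rfl
      exact hne (by simpa using hf)
    refine Nat.le_of_dvd (by positivity) (hcop.dvd_of_dvd_mul_left ?_)
    obtain ⟨m, hm, hs, -⟩ := exists_mult_indFun P hψ.isCharacter
    have h1 : indFun P ψ = m ⟨χ, hχ⟩ • χ := by
      rw [hs, Finset.sum_eq_single ⟨χ, hχ⟩ ?_ (by simp)]
      intro ξ _ hξ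
      by_cases h : m ξ = 0
      · simp [h]
      · refine (hξ (Subtype.ext (fr_unique hχ hθ he hr ξ.2 ?_))).elim
        exact classInner_res_ne_zero_trans hZP ξ.isCharacter hψ hθ.isCharacter
          (by rw [hm]; exact_mod_cast h) hne
    have h2 := congrFun h1 1
    have h3 : ψ 1 = f * θ 1 := congrFun hres 1
    have h4 : χ 1 = e * θ 1 := hr 1
    rw [indFun_one, h3, Pi.smul_apply, h4, nsmul_eq_mul, ← mul_assoc, ← mul_assoc] at h2
    have h5 : P.index * f = m ⟨χ, hχ⟩ * e := by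
      exact_mod_cast mul_right_cancel₀ hθ.apply_one_ne_zero h2
    have h6 : (P.index * f) ^ 2 = m ⟨χ, hχ⟩ ^ 2 * (Z.relIndex P * P.index) := by
      rw [h5, mul_pow, he, Subgroup.relIndex_mul_index hZP]
    refine ⟨m ⟨χ, hχ⟩ ^ 2, Nat.eq_of_mul_eq_mul_left
      (Nat.pos_of_ne_zero P.index_ne_zero_of_finite) ?_⟩
    linear_combination h6

theorem fr_unique_rel {P : Subgroup H} (hZP : Z ≤ P) {ψ : P → ℂ} {f : ℕ}
    (hψ : IsIrrCharacter P ψ) (hθ : IsIrrCharacter Z θ) (hf : f ^ 2 = Z.relIndex P)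
    (hr : ∀ n : Z, ψ ⟨n, hZP n.2⟩ = f * θ n) {ξ : P → ℂ} (hξ : IsIrrCharacter P ξ)
    (hne : classInner (fun n : Z => ξ ⟨n, hZP n.2⟩) θ ≠ 0) : ξ = ψ := by
  haveI := Fintype.ofFinite (Z.subgroupOf P)
  exact fr_unique (N := Z.subgroupOf P) hψ (isIrrCharacter_subgroupOf hZP hθ) hf
    (fun n => hr ⟨n, n.2⟩) hξ (by rwa [classInner_res_subgroupOf hZP ξ θ])

theorem indFun_subOf_cj {Q K : Subgroup H} [K.Normal] [Fintype K] {n : H}
    (hn : n ∈ Subgroup.normalizer (Q : Set H)) (η : Q → ℂ) :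
    indFun (Q.subgroupOf K) (subOf K fun x => η (cj hn x)) =
      conjChar n (indFun (Q.subgroupOf K) (subOf K η)) := by
  funext g
  exact (indFun_mulEquiv (MulAut.conjNormal (H := K) n) (Q.subgroupOf K) (Q.subgroupOf K)
    (fun x => Subgroup.mem_normalizer_iff.1 hn x) _ (subOf K η) (fun x => rfl) g).symm

/-- The degree ratio between the characters of `K` and of `Q` over `θ`. -/
theorem fr_exists_ratio (hχ : IsIrrCharacter H χ) (hθ : IsIrrCharacter Z θ)
    (he : e ^ 2 = Z.index) (hr : ∀ n : Z, χ n = e * θ n) {K Q : Subgroup H} [K.Normal]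
    [Fintype Q] (hZQ : Z ≤ Q) (hQK : Q ≤ K) {η : Q → ℂ} (hη : IsIrrCharacter Q η)
    (hηθ : classInner (fun z : Z => η ⟨z, hZQ z.2⟩) θ ≠ 0)
    (hdeg : ∀ ζ, IsIrrCharacter Q ζ → classInner (fun z : Z => ζ ⟨z, hZQ z.2⟩) θ ≠ 0 →
      charDegree ζ = charDegree η) {φ : K → ℂ} (hφ : IsIrrCharacter K φ)
    (hφθ : classInner (fun z : Z => φ ⟨z, hQK (hZQ z.2)⟩) θ ≠ 0) :
    ∃ m : IrrCharacter Q → ℕ, (∀ ζ : IrrCharacter Q,
      classInner (fun x : Q => φ ⟨x, hQK x.2⟩) ζ = m ζ) ∧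
      charDegree φ = (∑ ζ, m ζ) * charDegree η ∧ (∑ ζ, m ζ) ∣ Q.relIndex K := by
  haveI := Fintype.ofFinite H
  haveI := Fintype.ofFinite K
  have hinv := fr_invariant hχ.isClassFunction he hr
  obtain ⟨m, hm, -, hd⟩ := (isCharacter_res_of_le hQK hφ.isCharacter).exists_nat_classInner_self
  have h1 : charDegree φ = (∑ ζ, m ζ) * charDegree η := by
    rw [Finset.sum_mul]
    refine (charDegree_congr rfl).trans (hd.trans (Finset.sum_congr rfl fun ζ _ => ?_))
    by_cases h : m ζ = 0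
    · simp [h]
    · rw [hdeg ζ ζ.2 (over_of_constituent hZQ hQK hθ hinv hφ ζ.2
        (by rw [hm]; exact_mod_cast h) hφθ)]
  refine ⟨m, hm, h1, Nat.dvd_of_mul_dvd_mul_right hη.charDegree_pos ?_⟩
  rw [← h1]
  have hunder : ∀ ξ, IsIrrCharacter K ξ →
      classInner (fun z : Z => ξ ⟨z, hQK (hZQ z.2)⟩) θ ≠ 0 →
      classInner (fun k : K => χ k) ξ ≠ 0 := by
    intro ξ hξ hne
    obtain ⟨χ', hχ', h2⟩ := exists_irr_over K hξ
    rwa [fr_unique hχ hθ he hr hχ' (classInner_res_ne_zero_trans (hZQ.trans hQK)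
      hχ'.isCharacter hξ hθ.isCharacter h2 hne)] at h2
  refine dvd_relIndex_mul_charDegree hQK hη fun φ' hφ' hne => dvd_of_eq ?_
  obtain ⟨g, rfl⟩ := mem_conjugates.1 (mem_conjugates_of_under hχ hφ hφ' (hunder φ hφ hφθ)
    (hunder φ' hφ' (over_trans hZQ hQK hφ'.isCharacter hη hθ.isCharacter hne hηθ)))
  exact charDegree_congr (conjChar_apply_one g φ).symm

theorem over_cj {Q : Subgroup H} (hZQ : Z ≤ Q) (hinv : ∀ g : H, conjChar g θ = θ) {n : H}
    (hn : n ∈ Subgroup.normalizer (Q : Set H)) (η : Q → ℂ) :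
    classInner (fun z : Z => η (cj hn ⟨z, hZQ z.2⟩)) θ =
      classInner (fun z : Z => η ⟨z, hZQ z.2⟩) θ := by
  have hnZ : n ∈ Subgroup.normalizer (Z : Set H) := by
    rw [Subgroup.normalizer_eq_top]
    trivial
  rw [← classInner_res_cj hZQ hn hnZ η θ]
  congr 1
  exact (hinv n).symm

theorem fr_exists_cj (hθ : IsIrrCharacter Z θ) {P Q : Subgroup H} (hZQ : Z ≤ Q) (hQP : Q ≤ P)
    (hPQ : P ≤ Subgroup.normalizer (Q : Set H)) {ψ : P → ℂ} {f : ℕ}
    (hψ : IsIrrCharacter P ψ) (hf : f ^ 2 = Z.relIndex P)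
    (hψr : ∀ n : Z, ψ ⟨n, hQP (hZQ n.2)⟩ = f * θ n) {η ζ : Q → ℂ} (hη : IsIrrCharacter Q η)
    (hηθ : classInner (fun z : Z => η ⟨z, hZQ z.2⟩) θ ≠ 0) (hζ : IsIrrCharacter Q ζ)
    (hζθ : classInner (fun z : Z => ζ ⟨z, hZQ z.2⟩) θ ≠ 0) :
    ∃ g, ∃ hg : g ∈ P, ζ = fun n => η (cj (hPQ hg) n) := by
  haveI := Fintype.ofFinite Q
  have hunder : ∀ ζ, IsIrrCharacter Q ζ → classInner (fun z : Z => ζ ⟨z, hZQ z.2⟩) θ ≠ 0 →
      classInner (fun x : Q => ψ ⟨x, hQP x.2⟩) ζ ≠ 0 := by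
    intro ζ hζ hne
    obtain ⟨ψ', hψ', h2⟩ := exists_irr_over_of_le hQP hζ
    rwa [fr_unique_rel (hZQ.trans hQP) hψ hθ hf hψr hψ'
      (over_trans hZQ hQP hψ'.isCharacter hζ hθ.isCharacter h2 hne)] at h2
  exact exists_cj_of_under hQP hPQ hψ hη hζ (hunder η hη hηθ) (hunder ζ hζ hζθ)

/-- Gagola's lemma. -/
theorem gagola_exists (hχ : IsIrrCharacter H χ) (hθ : IsIrrCharacter Z θ)
    (he : e ^ 2 = Z.index) (hr : ∀ n : Z, χ n = e * θ n) {K P Q : Subgroup H} [K.Normal]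
    (hZQ : Z ≤ Q) (hQK : Q ≤ K) (hQP : Q ≤ P) (hPQ : P ≤ Subgroup.normalizer (Q : Set H))
    (hcop : (Z.relIndex P).Coprime P.index) (hcop' : (Z.relIndex P).Coprime (Q.relIndex K))
    (hfr : ∀ h : H, ∃ k ∈ K, ∃ n ∈ Subgroup.normalizer (Q : Set H), h = k * n)
    {η : Q → ℂ} (hη : IsIrrCharacter Q η)
    (hηθ : classInner (fun z : Z => η ⟨z, hZQ z.2⟩) θ ≠ 0) :
    ∃ M : Subgroup H, K ≤ M ∧ (∀ h : H, ∃ m ∈ M, ∃ g ∈ P, h = m * g) ∧ M ⊓ P ≤ invSub η := by
  classical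
  haveI := Fintype.ofFinite H
  haveI := Fintype.ofFinite K
  haveI := Fintype.ofFinite Q
  have hinv := fr_invariant hχ.isClassFunction he hr
  obtain ⟨ψ, f, hψ, hf, hψr⟩ := fr_hall hχ hθ he hr (hZQ.trans hQP) hcop
  have htrans : ∀ ζ, IsIrrCharacter Q ζ → classInner (fun z : Z => ζ ⟨z, hZQ z.2⟩) θ ≠ 0 →
      ∃ g, ∃ hg : g ∈ P, ζ = fun n => η (cj (hPQ hg) n) := fun ζ hζ hne =>
    fr_exists_cj hθ hZQ hQP hPQ hψ hf hψr hη hηθ hζ hne
  set ω := indFun (Q.subgroupOf K) (subOf K η) with hω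
  have hKM : K ≤ inertia K ω := le_inertia (indFun_isClassFunction _ _)
  refine ⟨inertia K ω, hKM, fun h => ?_, ?_⟩
  · obtain ⟨k, hk, n, hn, rfl⟩ := hfr h
    obtain ⟨g, hg, hh⟩ := htrans (fun x => η (cj hn x)) (hη.comp_mulEquiv _)
      (by rw [← over_cj hZQ hinv hn η] at hηθ; exact hηθ)
    have h1 : conjChar n ω = conjChar g ω := by
      rw [hω, ← indFun_subOf_cj hn, ← indFun_subOf_cj (hPQ hg), hh]
    exact ⟨k * (n * g⁻¹), mul_mem (hKM hk) (conjChar_eq_conjChar_iff.1 h1), g, hg, by group⟩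
  obtain ⟨φ, hφ, hφη⟩ := exists_irr_over_of_le hQK hη
  have hφθ := over_trans hZQ hQK hφ.isCharacter hη hθ.isCharacter hφη hηθ
  obtain ⟨m, hm, -, hdvd⟩ := fr_exists_ratio hχ hθ he hr hZQ hQK hη hηθ (fun ζ hζ hne => by
    obtain ⟨g, hg, rfl⟩ := htrans ζ hζ hne
    exact charDegree_congr (by simp)) hφ hφθ
  letI := irrAction hPQ
  have hsm : ∀ (g : P) (ζ : IrrCharacter Q),
      ((g • ζ : IrrCharacter Q) : Q → ℂ) = fun x => (ζ : Q → ℂ) (cj (hPQ g⁻¹.2) x) :=
    fun _ _ => rfl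
  set J := (inertia K ω).subgroupOf P with hJ
  set T := MulAction.stabilizer P (⟨η, hη⟩ : IrrCharacter Q) with hT
  have hval : ∀ g : P, (m (g • ⟨η, hη⟩) : ℂ) = classInner (conjChar (g : H)⁻¹ ω) φ := by
    intro g
    rw [← hm, ← classInner_indFun_subgroupOf_eq_res hQK (IrrCharacter.isCharacter _)
      hφ.isCharacter, hω]
    congr 1
    exact indFun_subOf_cj (hPQ g⁻¹.2) η
  have h1 := card_dvd_card_stabilizer_mul_sum (P := P) (⟨η, hη⟩ : IrrCharacter Q) m
    (fun ζ h => by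
      obtain ⟨g, hg, hh⟩ := htrans ζ ζ.2 (over_of_constituent hZQ hQK hθ hinv hφ ζ.2
        (by rw [hm]; exact_mod_cast h) hφθ)
      refine ⟨(⟨g, hg⟩ : P)⁻¹, Subtype.ext ?_⟩
      simp only
      rw [hsm, hh]
      exact funext fun x => congrArg η (Subtype.ext (by simp [coe_cj]))) J
    (fun g j hj => by
      apply Nat.cast_injective (R := ℂ)
      rw [hval, hval, Subgroup.coe_mul, mul_inv_rev, conjChar_mul,
        mem_inertia'.1 ((inertia K ω).inv_mem (Subgroup.mem_subgroupOf.1 hj))])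
  have hTiff : ∀ g : P, g ∈ T ↔ (g : H) ∈ invSub η := by
    intro g
    rw [← T.inv_mem_iff, hT, MulAction.mem_stabilizer_iff, mem_invSub_iff (hPQ g.2),
      Subtype.ext_iff, hsm]
    simp only [inv_inv]
  have hTJ : T ≤ J := by
    intro g hg
    rw [hJ, Subgroup.mem_subgroupOf, mem_inertia', hω, ← indFun_subOf_cj (hPQ g.2),
      (mem_invSub_iff (hPQ g.2)).1 ((hTiff g).1 hg)]
  have hZT : Z.subgroupOf P ≤ T := fun z hz =>
    (hTiff z).2 (le_invSub_self hη.isClassFunction (hZQ hz))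
  rw [← card_mul_relIndex_eq hTJ] at h1
  have h2 := (Nat.dvd_of_mul_dvd_mul_left Nat.card_pos h1).trans hdvd
  have h3 : T.relIndex J ∣ Z.relIndex P := by
    refine (Subgroup.relIndex_dvd_of_le_left J hZT).trans ?_
    exact (Subgroup.relIndex_dvd_index_of_normal _ _)
  have h4 := Subgroup.relIndex_eq_one.1 (Nat.eq_one_of_dvd_coprimes hcop' h3 h2)
  intro x hx
  exact (hTiff ⟨x, hx.2⟩).1 (h4 hx.1)

theorem exists_sylow_setup (Z K : Subgroup H) [Z.Normal] [K.Normal] (hZK : Z ≤ K) (p : ℕ)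
    [hp : Fact p.Prime] : ∃ S : Sylow p H,
      (Z.relIndex (S ⊔ Z)).Coprime ((S : Subgroup H) ⊔ Z).index ∧
      (Z.relIndex (S ⊔ Z)).Coprime ((((S : Subgroup H) ⊔ Z) ⊓ K).relIndex K) ∧
      ∀ h : H, ∃ k ∈ K, ∃ n ∈ Subgroup.normalizer ((((S : Subgroup H) ⊔ Z) ⊓ K : Subgroup H) :
        Set H), h = k * n := by
  obtain ⟨R⟩ : Nonempty (Sylow p K) := inferInstance
  obtain ⟨S, hS⟩ := (R.2.map K.subtype).exists_le_sylow
  have h1 : (S : Subgroup H) ⊓ K = R.map K.subtype := by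
    have h2 : (S : Subgroup H).subgroupOf K = R :=
      R.3 (S.2.comap_subtype) (Subgroup.map_le_iff_le_comap.1 hS)
    rw [← h2, Subgroup.subgroupOf_map_subtype]
  have h2 : ((S : Subgroup H) ⊔ Z) ⊓ K = R.map K.subtype ⊔ Z := by
    rw [← h1]
    refine le_antisymm (fun x hx => ?_) (sup_le (inf_le_inf_right _ le_sup_left)
      (le_inf le_sup_right hZK))
    obtain ⟨hx1, hx2⟩ := Subgroup.mem_inf.1 hx
    rw [← SetLike.mem_coe, Subgroup.mul_normal] at hx1
    obtain ⟨s, hs, z, hz, rfl⟩ := hx1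
    refine Subgroup.mul_mem_sup (Subgroup.mem_inf.2 ⟨hs, ?_⟩) hz
    simpa using K.mul_mem hx2 (K.inv_mem (hZK hz))
  obtain ⟨k, hk⟩ := IsPGroup.iff_card.1 S.2
  have h3 : Z.relIndex (S ⊔ Z) ∣ p ^ k := by
    rw [Subgroup.relIndex_sup_right, ← hk]
    exact Subgroup.relIndex_dvd_card _ _
  refine ⟨S, Nat.Coprime.coprime_dvd_left h3 (Nat.Coprime.pow_left _ ?_),
    Nat.Coprime.coprime_dvd_left h3 (Nat.Coprime.pow_left _ ?_), fun h => ?_⟩
  · exact hp.1.coprime_iff_not_dvd.2 fun h =>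
      S.not_dvd_index (h.trans (Subgroup.index_dvd_of_le le_sup_left))
  · refine hp.1.coprime_iff_not_dvd.2 fun h => R.not_dvd_index (h.trans ?_)
    refine Subgroup.index_dvd_of_le fun x hx => ?_
    rw [h2, Subgroup.mem_subgroupOf]
    exact Subgroup.mem_sup_left ⟨x, hx, rfl⟩
  · have h4 : h ∈ K ⊔ Subgroup.normalizer ((R.map K.subtype : Subgroup H) : Set H) := by
      rw [sup_comm, R.normalizer_sup_eq_top]
      trivial
    rw [← SetLike.mem_coe, Subgroup.normal_mul] at h4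
    obtain ⟨k, hk, n, hn, rfl⟩ := h4
    refine ⟨k, hk, n, ?_, rfl⟩
    rw [h2]
    exact GT.CopAct.le_normalizer_sup le_rfl (by rw [Z.normalizer_eq_top]; exact le_top) hn

/-- Gagola: a Sylow subgroup of `H ⧸ K` has a complement if it is cyclic or if the fully ramified
character is induced from `K`. -/
theorem gagola_complement [Fintype H] (hχ : IsIrrCharacter H χ) (hθ : IsIrrCharacter Z θ)
    (he : e ^ 2 = Z.index) (hr : ∀ n : Z, χ n = e * θ n) {K : Subgroup H} [K.Normal]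
    (hZK : Z ≤ K) (p : ℕ) [hp : Fact p.Prime]
    (h : (∀ S : Sylow p (H ⧸ K), IsCyclic S) ∨ ∃ φ, IsCharacter K φ ∧ indFun K φ = χ) :
    ∃ M : Subgroup (H ⧸ K), M.index = p ^ (Nat.card (H ⧸ K)).factorization p := by
  classical
  obtain ⟨S, hcop, hcop', hfr⟩ := exists_sylow_setup Z K hZK p
  set P := (S : Subgroup H) ⊔ Z with hP
  set Q := P ⊓ K with hQ
  haveI := Fintype.ofFinite P
  haveI := Fintype.ofFinite Q
  haveI := Fintype.ofFinite K
  have hZP : Z ≤ P := le_sup_right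
  have hZQ : Z ≤ Q := le_inf hZP hZK
  have hQP : Q ≤ P := inf_le_left
  have hQK : Q ≤ K := inf_le_right
  have hQe : Q.subgroupOf P = K.subgroupOf P := Subgroup.inf_subgroupOf_left K P
  haveI hQn : (Q.subgroupOf P).Normal := hQe ▸ inferInstance
  have hPQ : P ≤ Subgroup.normalizer (Q : Set H) :=
    (Subgroup.normal_subgroupOf_iff_le_normalizer hQP).1 hQn
  set Sb := S.mapSurjective (QuotientGroup.mk'_surjective K) with hSb
  have hPS : ∀ x ∈ P, (x : H ⧸ K) ∈ (Sb : Subgroup (H ⧸ K)) := by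
    refine (sup_le ?_ ?_ : P ≤ (Sb : Subgroup (H ⧸ K)).comap (QuotientGroup.mk' K))
    · exact fun x hx => ⟨x, hx, rfl⟩
    · intro z hz
      rw [Subgroup.mem_comap, QuotientGroup.mk'_apply, (QuotientGroup.eq_one_iff z).2 (hZK hz)]
      exact one_mem _
  obtain ⟨η, hη, hηθ⟩ := exists_irr_over_of_le hZQ hθ
  obtain ⟨ψ, f, hψ, hf, hψr⟩ := fr_hall hχ hθ he hr hZP hcop
  have hη' := isIrrCharacter_subgroupOf hQP hη
  have huniq : ∀ ξ, IsIrrCharacter P ξ →
      classInner (fun n : Q.subgroupOf P => ξ n) (subOf P η) ≠ 0 → ξ = ψ := fun ξ hξ hne =>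
    fr_unique_rel hZP hψ hθ hf hψr hξ (over_trans hZQ hQP hξ.isCharacter hη hθ.isCharacter
      (by rw [← classInner_res_subgroupOf hQP ξ η]; exact hne) hηθ)
  have hT : inertia (Q.subgroupOf P) (subOf P η) ≤ Q.subgroupOf P := by
    rcases h with h | ⟨φ, hφ, hind⟩
    · haveI := h Sb
      haveI : IsCyclic (P ⧸ Q.subgroupOf P) := by
        refine isCyclic_of_injective (G' := Sb) (QuotientGroup.lift (Q.subgroupOf P)
          (((QuotientGroup.mk' K).comp P.subtype).codRestrict (Sb : Subgroup (H ⧸ K))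
            fun x => hPS x x.2)
          fun x hx => Subtype.ext ((QuotientGroup.eq_one_iff (x : H)).2 (hQK hx))) ?_
        rw [injective_iff_map_eq_one]
        intro q hq
        obtain ⟨x, rfl⟩ := QuotientGroup.mk_surjective q
        exact (QuotientGroup.eq_one_iff x).2 (Subgroup.mem_inf.2
          ⟨x.2, (QuotientGroup.eq_one_iff (x : H)).1 (congrArg Subtype.val hq)⟩)
      exact inertia_le_of_unique_of_isCyclic hη' hψ huniq
    · have hφi : IsIrrCharacter K φ := isIrr_of_indFun_irr hφ (hind ▸ hχ)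
      have hφθ : classInner (fun z : Z => φ ⟨z, hZK z.2⟩) θ ≠ 0 := by
        obtain ⟨ζ, hζ, h3⟩ := exists_irr_under_of_le hZK hφi
        have h4 := classInner_res_ne_zero_trans hZK hχ.isCharacter hφi hζ.isCharacter (by
          rw [← classInner_indFun_eq_res K hφ hχ.isCharacter, hind, hχ.classInner_self]
          exact one_ne_zero) h3
        have h5 : (fun n : Z => χ n) = (e : ℂ) • θ := funext fun n => by simp [hr]
        rw [h5, classInner_smul_left] at h4
        rwa [hθ.eq_of_classInner_ne_zero hζ (right_ne_zero_of_mul h4)]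
      obtain ⟨m', -, hdeg, -⟩ := fr_exists_ratio hχ hθ he hr hZQ hQK hη hηθ (fun ζ hζ hne => by
        obtain ⟨g, hg, rfl⟩ := fr_exists_cj hθ hZQ hQP hPQ hψ hf hψr hη hηθ hζ hne
        exact charDegree_congr (by simp)) hφi hφθ
      set r := ∑ ζ, m' ζ
      obtain ⟨m, -, hm, hsq⟩ := relIndex_inertia_eq_sq_of_unique hη' hψ huniq
      have h1 : (Q.relIndex P : ℂ) * η 1 = m * (f * θ 1) := by
        have h2 := congrFun hm 1
        rw [indFun_one, Pi.smul_apply, nsmul_eq_mul] at h2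
        rw [← hψr 1]
        exact h2
      have h2 : (K.index : ℂ) * (r * η 1) = e * θ 1 := by
        rw [← hr 1, ← hind, OneMemClass.coe_one, indFun_one, ← hφ.coe_charDegree, hdeg,
          ← hη.coe_charDegree, Nat.cast_mul]
      have h3 : K.index = Q.relIndex P * (P ⊔ K).index := by
        rw [← Subgroup.relIndex_mul_index (le_sup_right : K ≤ P ⊔ K),
          Subgroup.relIndex_sup_right, hQ, Subgroup.inf_relIndex_left]
      have h4 : e = (P ⊔ K).index * r * m * f := by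
        have : (e : ℂ) * θ 1 = ((P ⊔ K).index * r * m * f) * θ 1 := by
          rw [← h2, h3, Nat.cast_mul]
          linear_combination ((P ⊔ K).index * r : ℂ) * h1
        exact_mod_cast mul_right_cancel₀ hθ.apply_one_ne_zero this
      have h5 : m ^ 2 ∣ P.index := by
        refine ⟨((P ⊔ K).index * r) ^ 2, Nat.eq_of_mul_eq_mul_left
          (Nat.pos_of_ne_zero (Z.subgroupOf P).index_ne_zero_of_finite) ?_⟩
        change Z.relIndex P * _ = Z.relIndex P * _
        rw [Subgroup.relIndex_mul_index hZP, ← he, ← hf, h4]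
        ring
      have h6 : m ^ 2 ∣ Z.relIndex P := by
        rw [hsq]
        exact (Subgroup.relIndex_dvd_index_of_normal _ _).trans
          (Subgroup.relIndex_dvd_of_le_left P hZQ)
      rw [Nat.eq_one_of_dvd_coprimes hcop h6 h5] at hsq
      exact Subgroup.relIndex_eq_one.1 hsq.symm
  obtain ⟨M, hKM, hMP, hMI⟩ := gagola_exists hχ hθ he hr hZQ hQK hQP hPQ hcop hcop' hfr hη hηθ
  rw [← inertia_subOf_eq hQP hPQ] at hT
  have hc : (M.map (QuotientGroup.mk' K)).IsComplement' (Sb : Subgroup (H ⧸ K)) := by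
    refine Subgroup.isComplement'_of_disjoint_and_mul_eq_univ ?_ ?_
    · rw [Subgroup.disjoint_def]
      rintro _ ⟨x, hx, rfl⟩ ⟨s, hs, hsx⟩
      have hsP : s ∈ P := Subgroup.mem_sup_left hs
      have h1 : s ∈ M := by
        simpa using M.mul_mem hx (M.inv_mem (hKM (QuotientGroup.eq.1 hsx)))
      rw [← hsx]
      exact (QuotientGroup.eq_one_iff s).2 (hQK (hT (x := ⟨s, hsP⟩)
        (Subgroup.mem_inf.2 ⟨hsP, hMI (Subgroup.mem_inf.2 ⟨h1, hsP⟩)⟩)))
    · refine Set.eq_univ_of_forall fun q => ?_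
      obtain ⟨y, rfl⟩ := QuotientGroup.mk_surjective q
      obtain ⟨m, hm, g, hg, rfl⟩ := hMP y
      exact ⟨_, ⟨m, hm, rfl⟩, _, hPS g hg, rfl⟩
  exact ⟨_, hc.symm.index_eq_card.trans Sb.card_eq_multiplicity⟩

end

end Cfsg.Agent.Ch
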