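import Mathlib
import Cfsg.Agent.Ch.GaloisC

/-!
# Subfields of `ℂ` and the automorphisms fixing them
-/

set_option autoImplicit false

namespace Cfsg.Agent.Ch

open Polynomial

theorem galois_exists_fix_of_aeval_minpoly (K : IntermediateField ℚ ℂ) {x y : ℂ}
    (hx : IsIntegral K x) (h : aeval y (minpoly K x) = 0) :
    ∃ σ : ℂ ≃+* ℂ, (∀ k ∈ K, σ k = k) ∧ σ x = y := by
  let A := algebraicClosure K ℂ
  have hA : IsAlgClosure K A := algebraicClosure.isAlgClosure K ℂ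
  have hA1 : Algebra.IsAlgebraic K A := hA.isAlgebraic
  have hA2 : Normal K A := IsAlgClosure.normal K A
  have hy : IsIntegral K y := ⟨_, minpoly.monic hx, h⟩
  let x' : A := ⟨x, mem_algebraicClosure_iff'.2 hx⟩
  let y' : A := ⟨y, mem_algebraicClosure_iff'.2 hy⟩
  have hm : minpoly K x' = minpoly K x := (minpoly.algebraMap_eq (A := K) (B := A) (B' := ℂ)
    (algebraMap A ℂ).injective x').symm
  obtain ⟨τ, hτ⟩ := minpoly.exists_algEquiv_of_root' (K := K) (x := y') (y := x')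
    (Algebra.IsAlgebraic.isAlgebraic _) (by
      apply (algebraMap A ℂ).injective
      rw [hm, map_zero, ← aeval_algebraMap_apply]
      exact h)
  obtain ⟨σ, hσ⟩ := galois_extend (K := A) τ.toRingEquiv
  refine ⟨σ, fun k hk => ?_, (hσ x').trans (congrArg (algebraMap A ℂ) hτ)⟩
  exact (hσ (algebraMap K A ⟨k, hk⟩)).trans (congrArg (algebraMap A ℂ) (τ.commutes ⟨k, hk⟩))

/-- An algebraic number fixed by all automorphisms of `ℂ` fixing `K` lies in `K`. -/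
theorem galois_mem_of_fixed (K : IntermediateField ℚ ℂ) {x : ℂ} (hx : IsIntegral ℚ x)
    (h : ∀ σ : ℂ ≃+* ℂ, (∀ k ∈ K, σ k = k) → σ x = x) : x ∈ K := by
  replace hx : IsIntegral K x := hx.tower_top
  have hsep : (minpoly K x).Separable := (minpoly.irreducible hx).separable
  have hcard : (minpoly K x).natDegree = 1 := by
    rw [← card_rootSet_eq_natDegree hsep (IsAlgClosed.splits _) (K := ℂ), Fintype.card_eq_one_iff]
    refine ⟨⟨x, mem_rootSet.2 ⟨minpoly.ne_zero hx, minpoly.aeval _ _⟩⟩, fun y => Subtype.ext ?_⟩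
    obtain ⟨σ, h1, hσ⟩ := galois_exists_fix_of_aeval_minpoly K hx (mem_rootSet.1 y.2).2
    exact hσ.symm.trans (h σ h1)
  obtain ⟨k, rfl⟩ := minpoly.natDegree_eq_one_iff.1 hcard
  exact k.2

theorem galois_fix_adjoin_iff (σ : ℂ ≃+* ℂ) (S : Set ℂ) :
    (∀ k ∈ IntermediateField.adjoin ℚ S, σ k = k) ↔ ∀ s ∈ S, σ s = s := by
  refine ⟨fun h s hs => h s (IntermediateField.subset_adjoin ℚ S hs), fun h k hk => ?_⟩
  induction hk using IntermediateField.adjoin_induction with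
  | mem x hx => exact h x hx
  | algebraMap x => simp
  | add x y _ _ hx hy => rw [map_add, hx, hy]
  | inv x _ hx => rw [map_inv₀, hx]
  | mul x y _ _ hx hy => rw [map_mul, hx, hy]

theorem galois_adjoin_le_iff {S T : Set ℂ} (hS : ∀ s ∈ S, IsIntegral ℚ s) :
    IntermediateField.adjoin ℚ S ≤ IntermediateField.adjoin ℚ T ↔
      ∀ σ : ℂ ≃+* ℂ, (∀ t ∈ T, σ t = t) → ∀ s ∈ S, σ s = s := by
  rw [IntermediateField.adjoin_le_iff]
  refine ⟨fun h σ hσ s hs => (galois_fix_adjoin_iff σ T).mpr hσ s (h hs), fun h s hs => ?_⟩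
  exact galois_mem_of_fixed _ (hS s hs) fun σ hσ => h σ ((galois_fix_adjoin_iff σ T).mp hσ) s hs

theorem galois_adjoin_eq_iff {S T : Set ℂ} (hS : ∀ s ∈ S, IsIntegral ℚ s)
    (hT : ∀ t ∈ T, IsIntegral ℚ t) :
    IntermediateField.adjoin ℚ S = IntermediateField.adjoin ℚ T ↔
      ∀ σ : ℂ ≃+* ℂ, (∀ s ∈ S, σ s = s) ↔ ∀ t ∈ T, σ t = t := by
  rw [le_antisymm_iff, galois_adjoin_le_iff hS, galois_adjoin_le_iff hT]
  exact ⟨fun h σ => ⟨h.2 σ, h.1 σ⟩, fun h => ⟨fun σ => (h σ).2, fun σ => (h σ).1⟩⟩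

theorem galois_fix_roots_of_fix_exp (σ : ℂ ≃+* ℂ) {n : ℕ} (hn : n ≠ 0)
    (h : σ (Complex.exp (2 * Real.pi * Complex.I / n)) = Complex.exp (2 * Real.pi * Complex.I / n))
    {ζ : ℂ} (hζ : ζ ^ n = 1) : σ ζ = ζ := by
  have : NeZero n := ⟨hn⟩
  obtain ⟨i, -, rfl⟩ := (Complex.isPrimitiveRoot_exp n hn).eq_pow_of_pow_eq_one hζ
  rw [map_pow, h]

/-- An algebraic number fixed by the automorphisms fixing the `n`-th roots of unity lies in the
`n`-th cyclotomic field. -/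
theorem galois_mem_cyclotomic {n : ℕ} (hn : n ≠ 0) {x : ℂ} (hx : IsIntegral ℚ x)
    (h : ∀ σ : ℂ ≃+* ℂ, (∀ ζ : ℂ, ζ ^ n = 1 → σ ζ = ζ) → σ x = x) :
    x ∈ IntermediateField.adjoin ℚ ({Complex.exp (2 * Real.pi * Complex.I / n)} : Set ℂ) :=
  galois_mem_of_fixed _ hx fun σ hσ => h σ fun _ =>
    galois_fix_roots_of_fix_exp σ hn (hσ _ (IntermediateField.mem_adjoin_simple_self ℚ _))

theorem galois_fix_of_mem_cyclotomic {n : ℕ} (hn : n ≠ 0) {x : ℂ}
    (hx : x ∈ IntermediateField.adjoin ℚ ({Complex.exp (2 * Real.pi * Complex.I / n)} : Set ℂ))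
    (σ : ℂ ≃+* ℂ) (hσ : ∀ ζ : ℂ, ζ ^ n = 1 → σ ζ = ζ) : σ x = x :=
  (galois_fix_adjoin_iff σ _).mpr (fun _ hs => by
    rw [Set.mem_singleton_iff.mp hs]
    exact hσ _ (Complex.isPrimitiveRoot_exp n hn).pow_eq_one) x hx

end Cfsg.Agent.Ch
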