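import Mathlib
import Cfsg.Agent.Ch.LinIto
import Cfsg.Agent.Cl.LinearBasic
import Cfsg.Agent.S4503
import Cfsg.Agent.S4504

/-!
# Normal Sylow subgroups of complex linear groups of small degree
-/

set_option autoImplicit false

namespace Cfsg.Agent.Ch.KT

open Cfsg Subgroup
open scoped Pointwise

universe u

theorem exists_pow_order {G : Type*} [Group G] [Finite G] {r : ℕ} [hr : Fact r.Prime]
    {A : Subgroup G} (hA : IsPGroup r A) {x : G} (hx : x ∈ A) (h1 : x ≠ 1) :
    ∃ k, orderOf (x ^ k) = r := by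
  obtain ⟨k, hk⟩ := IsPGroup.iff_orderOf.1 hA ⟨x, hx⟩
  rw [← orderOf_coe] at hk
  change orderOf x = _ at hk
  rcases k with _ | k
  · exact absurd (orderOf_eq_one_iff.1 hk) h1
  · exact ⟨_, orderOf_pow_orderOf_div (orderOf_pos x).ne' (hk ▸ dvd_pow_self r k.succ_ne_zero)⟩

theorem exists_central_order {G : Type*} [Group G] [Finite G] {r : ℕ} [hr : Fact r.Prime]
    {A : Subgroup G} (hA : IsPGroup r A) (h1 : A ≠ ⊥) :
    ∃ x ∈ A, orderOf x = r ∧ ∀ a ∈ A, a * x = x * a := by
  haveI := (nontrivial_iff_ne_bot A).2 h1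
  haveI := hA.center_nontrivial
  obtain ⟨z, hz⟩ := exists_ne (1 : center A)
  obtain ⟨k, hk⟩ := exists_pow_order hA (z : A).2 (fun e => hz (Subtype.ext (Subtype.ext e)))
  refine ⟨_, pow_mem (z : A).2 k, hk, fun a ha => ?_⟩
  have : Commute a ((z : A) : G) := congrArg Subtype.val (mem_center_iff.1 z.2 ⟨a, ha⟩)
  exact this.pow_right k

/-- Feit–Thompson: if elements of order `r` have abelian centralisers and `r ^ 2` divides the order,
the Sylow `r`-subgroup is normal in degree less than `r`. -/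
theorem normal_of_sq {r : ℕ} [hr : Fact r.Prime] (m : ℕ) : ∀ (G : Type u) [Group G] [Finite G],
    Nat.card G = m → ∀ χ : G → ℂ, IsCharacter G χ → charKer χ = ⊥ → charDegree χ < r →
    (∀ x : G, orderOf x = r → ∀ a b : G, a * x = x * a → b * x = x * b → a * b = b * a) →
    r ^ 2 ∣ Nat.card G → ∀ P : Sylow r G, (P : Subgroup G).Normal := by
  induction m using Nat.strong_induction_on with
  | _ m ih =>
  intro G _ _ hm χ hχ hf hd hc h2 P
  have := Fintype.ofFinite G
  have ih' : ∀ H : Subgroup G, H ≠ ⊤ → r ^ 2 ∣ Nat.card H → ∀ S : Sylow r H,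
      (S : Subgroup H).Normal := fun H hH h =>
    ih _ (hm ▸ (card_le_card_group H).lt_of_ne fun e => hH (eq_top_of_card_eq H e)) H rfl _
      (hχ.restrict H) (by rw [hχ.charKer_restrict, hf, bot_subgroupOf])
      (by rwa [charDegree_restrict])
      (fun x hx a b ha hb => Subtype.ext (hc x (by rwa [orderOf_coe]) a b (congrArg Subtype.val ha)
        (congrArg Subtype.val hb))) h
  by_cases hG : ∀ a b : G, a * b = b * a
  · exact ⟨fun x hx g => by rwa [hG g x, mul_inv_cancel_right]⟩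
  by_contra hP
  have hsq : ∀ S : Sylow r G, r ^ 2 ∣ Nat.card S := fun S => S.pow_dvd_card_of_pow_dvd_card h2
  have hab : ∀ S : Sylow r G, ∀ a ∈ (S : Subgroup G), ∀ b ∈ (S : Subgroup G), a * b = b * a := by
    intro S a ha b hb
    obtain ⟨x, -, hx, hx'⟩ := exists_central_order S.isPGroup' fun e => by
      have := hsq S
      rw [e, card_bot, Nat.dvd_one] at this
      exact (Nat.one_lt_pow two_ne_zero hr.out.one_lt).ne' this
    exact hc x hx a b (hx' a ha) (hx' b hb)
  have hcen : ∀ S : Sylow r G, ∀ h ∈ (S : Subgroup G), h ≠ 1 → ∀ g : G, h * g = g * h →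
      (S : Subgroup G) ≤ centralizer {g} := by
    intro S h hh h1 g hg a ha
    obtain ⟨k, hk⟩ := exists_pow_order S.isPGroup' hh h1
    exact mem_centralizer_singleton_iff.2 (hc _ hk a g (hab S a ha _ (pow_mem hh k))
      ((show Commute g h from hg.symm).pow_right k))
  have hM : ∀ M : Subgroup G, M.Normal → (P : Subgroup G) ≤ M → M = ⊤ := fun M _ h =>
    by_contra fun h' => hP (linI_normal_of_subtype h (ih' M h' ((hsq P).trans (card_dvd_of_le h)) _))
  have hZ : (P : Subgroup G) ⊓ center G = ⊥ := by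
    rw [eq_bot_iff]
    rintro x ⟨hx, hx'⟩
    by_contra h1
    obtain ⟨k, hk⟩ := exists_pow_order P.isPGroup' hx h1
    exact hG fun a b => hc _ hk a b (mem_center_iff.1 (pow_mem hx' k) a)
      (mem_center_iff.1 (pow_mem hx' k) b)
  obtain ⟨θ, hθ, hne, h5⟩ : ∃ θ, IsIrrCharacter G θ ∧ classInner χ θ ≠ 0 ∧ charDegree θ ≠ 1 := by
    by_contra h
    push Not at h
    refine hG fun a b => commutatorElement_eq_one_iff_mul_comm.1 (mem_bot.1 (hf ▸ ?_))
    exact hχ.mem_charKer_iff_forall_constituent.2 fun θ hθ hne =>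
      (Deg.charDegree_eq_one_iff_commutator_le hθ).1 (h θ hθ hne)
        (commutator_mem_commutator (mem_top a) (mem_top b))
  have h6 := linFT_card_lt P (hab P) hZ (fun g hg a h hh k hk h6 h7 h8 h9 => ?_) hM hθ h5
  · have h7 := hχ.charDegree_irr_le hθ hne
    have h8 := Nat.le_of_dvd Nat.card_pos (hsq P)
    have h9 := Nat.pow_le_pow_left (show 1 + charDegree θ ≤ r by omega) 2
    omega
  have h10 := hcen P h hh h6 g h8
  have h11 := hcen (a • P) (a * k * a⁻¹) ⟨k, hk, rfl⟩ (by simpa using h7) g h9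
  have h12 := ih' (centralizer {g}) (fun h => hg (mem_center_iff.2 fun x =>
    (h.ge (mem_top x) g rfl).symm)) ((hsq P).trans (card_dvd_of_le h10))
  have h13 := linI_le_pCoreOf h12 (a • P).isPGroup' h11
  rw [P.is_maximal' (GT.isPGroup_pCoreOf r _) (linI_le_pCoreOf h12 P.isPGroup' h10)] at h13
  exact Sylow.smul_eq_iff_mem_normalizer.1 (Sylow.ext ((a • P).is_maximal' P.isPGroup' h13).symm)

variable {G : Type*} [Group G] [Finite G]

theorem card_of_psl {r : ℕ} [hr : Fact r.Prime] (h2 : r ≠ 2)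
    (e : (G ⧸ center G) ≃* Matrix.ProjectiveSpecialLinearGroup (Fin 2) (ZMod r)) :
    2 * Nat.card G = Nat.card (center G) * (r * (r ^ 2 - 1)) := by
  have h := Cl.card_psl_two_mul (F := ZMod r)
  rw [Nat.card_zmod, Nat.gcd_eq_left (hr.out.even_sub_one h2).two_dvd, ← Nat.card_congr e.toEquiv]
    at h
  rw [← h, ← (center G).card_mul_index, index_eq_card]
  ring

/-- Brauer's bound and its extreme case. -/
theorem normal_or_psl {χ : G → ℂ} (hχ : IsCharacter G χ) (hf : charKer χ = ⊥) {r : ℕ}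
    [hr : Fact r.Prime] (hd : 2 * charDegree χ + 1 ≤ r) (h1 : r ∣ Nat.card G)
    (h2 : ¬ r ^ 2 ∣ Nat.card G) : (∃ H : Subgroup G, H.Normal ∧ Nat.card H = r) ∨
      (2 * charDegree χ + 1 = r ∧
        2 * Nat.card G = Nat.card (center G) * (r * (r ^ 2 - 1))) := by
  by_cases h : ∃ H : Subgroup G, H.Normal ∧ Nat.card H = r
  · exact Or.inl h
  push Not at h
  have hf' : ∀ g : G, χ g = χ 1 → g = 1 := fun g hg => mem_bot.1 (hf ▸ hχ.mem_charKer.2 hg)
  have h3 := le_antisymm hd (S4503.result r hr.out h1 h2 h χ hχ hf')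
  obtain ⟨e⟩ := S4504.result r hr.out h1 h2 h χ hχ hf' h3
  exact Or.inr ⟨h3, card_of_psl (by omega) e⟩

/-- A normal Sylow subgroup for primes `r ≥ 2 n + 1`. -/
theorem normal_of_large {χ : G → ℂ} (hχ : IsCharacter G χ) (hf : charKer χ = ⊥) {r : ℕ}
    [hr : Fact r.Prime] (h0 : 1 < charDegree χ) (hd : 2 * charDegree χ + 1 < r ∨
      2 * charDegree χ + 1 = r ∧ ¬ 3 ∣ Nat.card G) (P : Sylow r G) : (P : Subgroup G).Normal := by
  refine linI_normal hχ hf (by omega) (fun K S hS => ?_) P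
  by_cases h1 : r ∣ Nat.card K
  swap
  · obtain ⟨k, hk⟩ := S.isPGroup'.exists_card_eq
    rcases k with _ | k
    · rw [pow_zero, card_eq_one] at hk
      rw [hk]; infer_instance
    · exact absurd ((hk ▸ dvd_pow_self r k.succ_ne_zero).trans (card_subgroup_dvd_card _)) h1
  have h2 : ¬ r ^ 2 ∣ Nat.card K := fun h => by
    have h3 := Nat.le_of_dvd Nat.card_pos (S.pow_dvd_card_of_pow_dvd_card h)
    have h4 := Nat.pow_le_pow_left (show charDegree χ + 1 ≤ r by omega) 2
    omega
  rcases normal_or_psl (hχ.restrict K) (by rw [hχ.charKer_restrict, hf, bot_subgroupOf])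
    (by rw [charDegree_restrict]; omega) h1 h2 with ⟨H, hH, hc⟩ | ⟨h3, h4⟩
  · have hp : IsPGroup r H := IsPGroup.of_card (hc.trans (pow_one r).symm)
    have h5 : H ≤ S := hp.le_sylow_of_normal S
    obtain ⟨k, hk⟩ := S.isPGroup'.exists_card_eq
    have h6 : k ≤ 1 := by
      by_contra h
      exact h2 ((pow_dvd_pow r (by omega)).trans (hk ▸ card_subgroup_dvd_card _))
    rwa [← eq_of_le_of_card_ge h5 (by
      rw [hk, hc]; simpa using Nat.pow_le_pow_right hr.out.pos h6)]
  · rw [charDegree_restrict] at h3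
    refine absurd (Dvd.dvd.trans ?_ (card_subgroup_dvd_card K)) (hd.resolve_left (by omega)).2
    refine (by norm_num : Nat.Coprime 3 2).dvd_of_dvd_mul_left (h4 ▸ Dvd.dvd.mul_left ?_ _)
    have h5 : r * (r ^ 2 - 1) = (r - 1) * ((r - 1 + 1) * (r - 1 + 2)) := by
      obtain ⟨t, rfl⟩ : ∃ t, r = t + 1 := ⟨r - 1, by omega⟩
      rw [show (t + 1) ^ 2 - 1 = t * (t + 2) by rw [Nat.sub_eq_iff_eq_add (by nlinarith)]; ring]
      simp only [Nat.add_sub_cancel]
      ring
    rw [h5]
    generalize r - 1 = t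
    have : t % 3 = 0 ∨ t % 3 = 1 ∨ t % 3 = 2 := by omega
    rcases this with h | h | h
    · exact Dvd.dvd.mul_right (Nat.dvd_of_mod_eq_zero h) _
    · exact Dvd.dvd.mul_left (Dvd.dvd.mul_left (by omega) _) _
    · exact Dvd.dvd.mul_left (Dvd.dvd.mul_right (by omega) _) _

end Cfsg.Agent.Ch.KT
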