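import Mathlib
import Cfsg.Agent.Ch.KTNorm
import Cfsg.Agent.Ch.KTTwo
import Cfsg.Agent.Ch.KTOne
import Cfsg.Agent.FT.LiftRep
import Cfsg.Agent.NT.Zsigmondy

/-!
# Transitive linear groups of order prime to the characteristic: primitive prime divisors
-/

set_option autoImplicit false

namespace Cfsg.Agent.Ch.KT

open Cfsg Subgroup GT.Frob Perm Module

variable {p : ℕ} [hp : Fact p.Prime] {V : Type*} [AddCommGroup V] [Module (ZMod p) V] [Finite V]
  {G : Type*} [Group G] [Finite G] {ρ : G →* (V ≃ₗ[ZMod p] V)}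

theorem card_eq_pow : Nat.card V = p ^ finrank (ZMod p) V := by
  rw [Module.natCard_eq_pow_finrank (K := ZMod p), Nat.card_zmod]

theorem exists_char (hρ : Function.Injective ρ) (hG : ¬ p ∣ Nat.card G) :
    ∃ χ : G → ℂ, IsCharacter G χ ∧ charKer χ = ⊥ ∧ charDegree χ = finrank (ZMod p) V := by
  obtain ⟨σ, hσ⟩ := FT.exists_complex_lift hG (V := V) (linRep ρ)
  have hd : finrank ℂ (Fin (finrank (ZMod p) V) → ℂ) = finrank (ZMod p) V := by simp
  refine ⟨σ.character, isCharacter_character σ, ?_, by rw [charDegree_character, hd]⟩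
  rw [charKer_character, eq_bot_iff, ← (MonoidHom.ker_eq_bot_iff _).2 (linRep_injective hρ)]
  by_contra h
  have h1 := (FT.fixDim_lt_iff (ρ := linRep ρ)).2 h
  rw [← hσ] at h1
  exact FT.fixDim_lt_iff.1 (h1.trans_eq hd.symm) le_rfl

/-- `r` is a primitive prime divisor of `p ^ n - 1`. -/
def Ppd (p n r : ℕ) : Prop :=
  r.Prime ∧ r ∣ p ^ n - 1 ∧ ∀ i, 1 ≤ i → i < n → ¬ r ∣ p ^ i - 1

omit [Finite G] in
theorem Ppd.fpf {r : ℕ} (hr : Ppd p (finrank (ZMod p) V) r) (hρ : Function.Injective ρ) {x : G}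
    (hx : orderOf x = r) {v : V} (hv : v ≠ 0) : ρ x v ≠ v := by
  intro e
  have : Fact r.Prime := ⟨hr.1⟩
  let _ := DistribMulAction.compHom V ρ
  have h1 := (IsPGroup.of_card (p := r) (G := zpowers x) (n := 1)
    (by rw [Nat.card_zpowers, hx, pow_one])).card_modEq_card_fixedPoints V
  let F := FT.fixSub (linRep ρ) (zpowers x)
  have h2 : Nat.card (MulAction.fixedPoints (zpowers x) V) = Nat.card F :=
    Nat.card_congr (Equiv.subtypeEquivRight fun w =>
      ⟨fun h => FT.mem_fixSub.2 fun a ha => h ⟨a, ha⟩, fun h a => FT.mem_fixSub.1 h a a.2⟩)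
  rw [h2, card_eq_pow (p := p), card_eq_pow (p := p)] at h1
  have h3 : F ≠ ⊥ := fun h => hv (h.le (FT.mem_fixSub.2 fun a ha =>
    (zpowers_le (H := MulAction.stabilizer G v) (g := x)).2 e ha))
  have h4 : F ≠ ⊤ := fun h => hr.1.one_lt.ne' (hx ▸ orderOf_eq_one_iff.2
    (linRep_injective hρ ((FT.fixSub_eq_top_iff.1 h (mem_zpowers x)).trans (map_one _).symm)))
  refine hr.2.2 _ (Submodule.one_le_finrank_iff.2 h3) (Submodule.finrank_lt h4) ?_
  exact (Nat.modEq_iff_dvd' (Nat.one_le_pow _ _ hp.out.pos)).1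
    (((Nat.modEq_iff_dvd' (Nat.one_le_pow _ _ hp.out.pos)).2 hr.2.1).trans h1)

omit [Finite G] in
theorem Ppd.irr {r : ℕ} (hr : Ppd p (finrank (ZMod p) V) r) (hρ : Function.Injective ρ) {x : G}
    (hx : orderOf x = r) : IrrOn ρ (zpowers x) := by
  intro W hW
  by_contra h
  push Not at h
  have h1 := card_dvd_of_semiregular (fun a ha v hv e => by_contra fun h1 => hr.fpf hρ
    (((Nat.dvd_prime hr.1).1 (hx ▸ orderOf_dvd_of_mem_zpowers ha)).resolve_left
      (mt orderOf_eq_one_iff.1 h1)) hv e) hW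
  rw [Nat.card_zpowers, hx] at h1
  exact hr.2.2 _ (Submodule.one_le_finrank_iff.2 h.1) (Submodule.finrank_lt h.2) h1

/-- There is an irreducible abelian normal subgroup. -/
def Ab (ρ : G →* (V ≃ₗ[ZMod p] V)) : Prop :=
  ∃ A : Subgroup G, A.Normal ∧ IsMulCommutative A ∧ IrrOn ρ A

variable [Nontrivial V]

omit [Finite G] in
theorem Ppd.comm {r : ℕ} (hr : Ppd p (finrank (ZMod p) V) r) (hρ : Function.Injective ρ) {x : G}
    (hx : orderOf x = r) {a b : G} (ha : a * x = x * a) (hb : b * x = x * b) : a * b = b * a := by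
  have := (hr.irr hρ hx).isCyclic_centralizer hρ
  rw [zpowers_eq_closure, centralizer_closure] at this
  exact congrArg Subtype.val (mul_comm' (⟨a, mem_centralizer_singleton_iff.2 ha⟩ :
    centralizer ({x} : Set G)) ⟨b, mem_centralizer_singleton_iff.2 hb⟩)

theorem Ppd.ab {r : ℕ} (hr : Ppd p (finrank (ZMod p) V) r) (hρ : Function.Injective ρ)
    {N : Subgroup G} (hN : N.Normal) (h1 : IsPGroup r N) (h2 : N ≠ ⊥) : Ab ρ := by
  have : Fact r.Prime := ⟨hr.1⟩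
  obtain ⟨x, hx, ho, hc⟩ := exists_central_order h1 h2
  exact ⟨N, hN, ⟨⟨fun a b => Subtype.ext (hr.comm hρ ho (hc a a.2) (hc b b.2))⟩⟩,
    (hr.irr hρ ho).mono (zpowers_le.2 hx)⟩

theorem arith_check : ∀ n < 11, ∀ k < n, ∀ q < 68, n < 3 ∨ q < 5 ∨ n % k ≠ 0 ∨
    ((q ^ k - 1) * (2 * n * (n + 1) * (2 * n + 1))) % (q ^ n - 1) ≠ 0 := by
  decide +kernel

theorem five_pow_aux {n : ℕ} (hn : 11 ≤ n) : (2 * n * (n + 1) * (2 * n + 1)) ^ 2 < 5 ^ n := by
  induction n, hn using Nat.le_induction with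
  | base => norm_num
  | succ n hn ih =>
    have h1 : 2 * (n + 1) * (n + 1 + 1) * (2 * (n + 1) + 1) ≤ 2 * (2 * n * (n + 1) * (2 * n + 1)) := by
      obtain ⟨t, rfl⟩ := Nat.exists_eq_add_of_le hn
      ring_nf
      nlinarith
    have h2 := Nat.pow_le_pow_left h1 2
    rw [mul_pow 2 (2 * n * (n + 1) * (2 * n + 1))] at h2
    rw [pow_succ 5]
    omega

theorem arith_psl {q k d n z g : ℕ} (hq : q.Prime) (hn : 3 ≤ n) (hk : 0 < k) (hd : 2 ≤ d)
    (hkd : k * d = n) (hz : z ∣ q ^ k - 1) (hg : q ^ n - 1 ∣ g) (hqg : ¬ q ∣ g)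
    (h : 2 * g = z * ((2 * n + 1) * ((2 * n + 1) ^ 2 - 1))) : False := by
  have h1 : g = z * (2 * n * (n + 1) * (2 * n + 1)) := by
    rw [show (2 * n + 1) ^ 2 - 1 = 4 * n * (n + 1) by
      rw [Nat.sub_eq_iff_eq_add (by nlinarith)]; ring] at h
    nlinarith
  set T := 2 * n * (n + 1) * (2 * n + 1) with hT
  have h2 : ¬ q ∣ T := fun e => hqg (h1 ▸ e.mul_left z)
  have h3 : 5 ≤ q := by
    by_contra hc
    have := hq.two_le
    have h4 : q ≠ 4 := by rintro rfl; exact absurd hq (by norm_num)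
    obtain rfl | rfl : q = 2 ∨ q = 3 := by omega
    · exact h2 ⟨n * (n + 1) * (2 * n + 1), by rw [hT]; ring⟩
    · rcases (show n % 3 = 0 ∨ n % 3 = 2 ∨ n % 3 = 1 by omega) with e | e | e
      · exact h2 ((((show 3 ∣ n by omega).mul_left 2).mul_right _).mul_right _)
      · exact h2 (((show 3 ∣ n + 1 by omega).mul_left _).mul_right _)
      · exact h2 ((show 3 ∣ 2 * n + 1 by omega).mul_left _)
  have h4 : q ^ n - 1 ∣ (q ^ k - 1) * T := hg.trans (h1 ▸ Nat.mul_dvd_mul_right hz T)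
  have h5 : 1 < q ^ k := Nat.one_lt_pow hk.ne' hq.one_lt
  have h6 := Nat.le_of_dvd (Nat.mul_pos (by omega) (by positivity)) h4
  obtain ⟨e, rfl⟩ : ∃ e, d = e + 1 := ⟨d - 1, by omega⟩
  have h7 : q ^ (k * e) < T := by
    by_contra hc
    have h8 : q ^ n = q ^ k * q ^ (k * e) := by rw [← hkd, ← pow_add]; congr 1; ring
    obtain ⟨u, hu⟩ : ∃ u, q ^ k = u + 1 := ⟨q ^ k - 1, by omega⟩
    have h9 : 1 < T := (show 1 < 2 * 3 * (3 + 1) * (2 * 3 + 1) by norm_num).trans_le (by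
      rw [hT]; gcongr)
    rw [h8, hu, Nat.add_sub_cancel] at h6
    have h10 := Nat.mul_le_mul_left u (not_lt.1 hc)
    rw [add_mul] at h6
    omega
  have h8 : n ≤ 2 * (k * e) := by nlinarith
  have h9 : n < 11 := by
    by_contra hc
    have h10 := five_pow_aux (not_lt.1 hc)
    have h11 : 5 ^ n ≤ (q ^ (k * e)) ^ 2 := by
      rw [← pow_mul, mul_comm _ 2]
      exact (Nat.pow_le_pow_left h3 n).trans (Nat.pow_le_pow_right hq.pos h8)
    exact (h10.trans_le h11).not_ge (Nat.pow_le_pow_left h7.le 2)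
  have h10 : q < 68 := by
    by_contra hc
    have h11 : 68 ^ 2 ≤ q ^ (k * e) :=
      (Nat.pow_le_pow_left (not_lt.1 hc) 2).trans (Nat.pow_le_pow_right hq.pos (by omega))
    have h12 : T ≤ 2 * 10 * (10 + 1) * (2 * 10 + 1) := by
      rw [hT]
      have : n ≤ 10 := by omega
      gcongr
    omega
  rcases arith_check n h9 k (by nlinarith) q h10 with h | h | h | h
  · omega
  · omega
  · exact h (Nat.mod_eq_zero_of_dvd ⟨_, hkd.symm⟩)
  · exact h (Nat.mod_eq_zero_of_dvd h4)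

omit [Finite G] in
theorem exists_field_of_not_ab (hρ : Function.Injective ρ)
    (htr : ∀ v w : V, v ≠ 0 → w ≠ 0 → ∃ g : G, ρ g v = w) (h : ¬ Ab ρ) (A : Subgroup G)
    [hA : A.Normal] [hc : IsMulCommutative A] : ∃ k d, 0 < k ∧ 2 ≤ d ∧
      k * d = finrank (ZMod p) V ∧ Nat.card A ∣ p ^ k - 1 := by
  obtain ⟨-, k, d, h1, h2, h3, h4, -, h5⟩ := (fieldOn_of_comm htr A).exists_card hρ
  rw [card_eq_pow (p := p), ← pow_mul] at h3
  have : d ≠ 1 := fun e => h ⟨A, hA, hc, h5 e⟩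
  exact ⟨k, d, h1, by omega, (Nat.pow_right_injective hp.out.two_le h3).symm, h4⟩

omit [Finite V] [Nontrivial V] in
theorem sylow_ne_bot {r : ℕ} [Fact r.Prime] (h : r ∣ Nat.card G) (P : Sylow r G) :
    (P : Subgroup G) ≠ ⊥ := P.ne_bot_of_dvd_card h

theorem ab_of_large (hρ : Function.Injective ρ) (hG : ¬ p ∣ Nat.card G)
    (htr : ∀ v w : V, v ≠ 0 → w ≠ 0 → ∃ g : G, ρ g v = w) (hn : 3 ≤ finrank (ZMod p) V) {r : ℕ}
    (hr : Ppd p (finrank (ZMod p) V) r)
    (hl : finrank (ZMod p) V + 1 < r ∨ r ^ 2 ∣ p ^ finrank (ZMod p) V - 1) : Ab ρ := by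
  have : Fact r.Prime := ⟨hr.1⟩
  obtain ⟨χ, hχ, hf, hd⟩ := exists_char hρ hG
  have h1 := GT.Frob.card_sub_one_dvd_of_trans htr
  rw [card_eq_pow (p := p)] at h1
  have h2 := (NT.primitive_iff_orderOf_eq hp.out.pos (by omega)).1 ⟨hr.2.1, hr.2.2⟩
  have h3 := NT.lt_of_orderOf_eq hr.1 (by omega) h2
  have h4 := NT.dvd_sub_one_of_orderOf_eq hr.1 (by omega) h2
  by_cases h5 : r ^ 2 ∣ Nat.card G
  · obtain ⟨P⟩ : Nonempty (Sylow r G) := inferInstance
    exact hr.ab hρ (normal_of_sq _ G rfl χ hχ hf (hd ▸ h3)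
      (fun x hx a b ha hb => hr.comm hρ hx ha hb) h5 P) P.isPGroup'
      (sylow_ne_bot (hr.2.1.trans h1) P)
  have h6 := hl.resolve_right fun e => h5 (e.trans h1)
  have h7 : 2 * finrank (ZMod p) V + 1 ≤ r := by
    obtain ⟨c, hc⟩ := h4
    have : 2 ≤ c := by
      by_contra h
      have : c = 0 ∨ c = 1 := by omega
      rcases this with rfl | rfl <;> omega
    have := Nat.mul_le_mul_left (finrank (ZMod p) V) this
    omega
  rcases normal_or_psl hχ hf (hd ▸ h7) (hr.2.1.trans h1) h5 with ⟨H, hH, hc⟩ | ⟨h8, h9⟩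
  · exact hr.ab hρ hH (IsPGroup.of_card (hc.trans (pow_one r).symm)) fun e =>
      hr.1.one_lt.ne (by rw [← hc, e, card_bot])
  by_contra h
  obtain ⟨k, d, a1, a2, a3, a4⟩ := exists_field_of_not_ab hρ htr h (center G)
  rw [← h8, hd] at h9
  exact arith_psl hp.out hn a1 a2 a3 a4 h1 hG h9

end Cfsg.Agent.Ch.KT
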