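import Mathlib
import Cfsg.Agent.Ch.KTLin
import Cfsg.Agent.Ch.KT81
import Cfsg.Agent.Ch.Burnside
import Cfsg.Agent.Perm.Huppert
import Cfsg.Agent.S0205

/-!
# The class number of a transitive linear group of order prime to the characteristic
-/

set_option autoImplicit false

namespace Cfsg.Agent.Ch.KT

open Cfsg Subgroup GT.Frob Perm Module

theorem exists_normal_comm {G : Type*} [Group G] [Finite G] {χ : G → ℂ} (hχ : IsCharacter G χ)
    (hf : charKer χ = ⊥) {r : ℕ} [hr : Fact r.Prime] (h0 : 1 < charDegree χ)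
    (hd : 2 * charDegree χ + 1 < r ∨ 2 * charDegree χ + 1 = r ∧ ¬ 3 ∣ Nat.card G)
    (h : r ∣ Nat.card G) : ∃ A : Subgroup G, A.Normal ∧ IsMulCommutative A ∧ r ∣ Nat.card A := by
  obtain ⟨P⟩ : Nonempty (Sylow r G) := inferInstance
  have := normal_of_large hχ hf h0 hd P
  obtain ⟨x, hx, ho, hc⟩ := exists_central_order P.isPGroup' (sylow_ne_bot h P)
  exact ⟨(P : Subgroup G) ⊓ centralizer ((P : Subgroup G) : Set G), inferInstance,
    ⟨⟨fun a b => Subtype.ext (b.2.2 a a.2.1)⟩⟩,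
    ho.symm.dvd.trans (orderOf_dvd_natCard _ (mem_inf.2 ⟨hx, hc⟩))⟩

variable {p : ℕ} [hp : Fact p.Prime] {V : Type*} [AddCommGroup V] [Module (ZMod p) V] [Finite V]
  [Nontrivial V] {G : Type*} [Group G] [Finite G] {ρ : G →* (V ≃ₗ[ZMod p] V)}

theorem ab_of_six (hρ : Function.Injective ρ) (hG : ¬ p ∣ Nat.card G)
    (htr : ∀ v w : V, v ≠ 0 → w ≠ 0 → ∃ g : G, ρ g v = w) (hn : finrank (ZMod p) V = 6)
    (h35 : p = 3 ∨ p = 5) : Ab ρ := by
  by_contra hab
  obtain ⟨χ, hχ, hf, hd⟩ := exists_char hρ hG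
  have h1 := GT.Frob.card_sub_one_dvd_of_trans htr
  have hV := card_eq_pow (p := p) (V := V)
  rw [hn] at hV hd
  rw [hV] at h1
  have h7 : Ppd p (finrank (ZMod p) V) 7 := by
    rw [hn]
    refine ⟨by norm_num, ?_, fun i h1 h2 => ?_⟩
    · rcases h35 with rfl | rfl <;> norm_num
    · rcases h35 with rfl | rfl <;> interval_cases i <;> norm_num
  obtain ⟨A, hA, hA', hA''⟩ : ∃ A : Subgroup G, A.Normal ∧ IsMulCommutative A ∧
      ¬ Nat.card A ∣ p ^ 2 - 1 := by
    rcases h35 with rfl | rfl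
    · have : Fact (Nat.Prime 13) := ⟨by norm_num⟩
      obtain ⟨A, a1, a2, a3⟩ := exists_normal_comm (r := 13) hχ hf (by omega)
        (Or.inr ⟨by omega, hG⟩) (Dvd.dvd.trans (by norm_num) h1)
      exact ⟨A, a1, a2, fun e => by have := a3.trans e; omega⟩
    · have : Fact (Nat.Prime 31) := ⟨by norm_num⟩
      obtain ⟨A, a1, a2, a3⟩ := exists_normal_comm (r := 31) hχ hf (by omega)
        (Or.inl (by omega)) (Dvd.dvd.trans (by norm_num) h1)
      exact ⟨A, a1, a2, fun e => by have := a3.trans e; omega⟩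
  let _ := DistribMulAction.compHom V ρ
  have : FaithfulSMul G V := ⟨fun h => hρ (LinearEquiv.ext h)⟩
  obtain ⟨K, _, _, _, ⟨D⟩⟩ := exists_fieldData (V := V) htr A
  obtain ⟨W, h0, h2, hW⟩ := not_irrOn_iff.1 fun e => hab ⟨A, hA, hA', e⟩
  have hd := D.one_lt_finrank W.toAddSubgroup hW
    (fun e => h0 (Submodule.toAddSubgroup_injective e))
    fun e => h2 (Submodule.toAddSubgroup_injective e)
  have := charP_of_module (p := p) (V := V) K
  obtain ⟨⟨k, hk⟩, -, hK⟩ := FiniteField.card K p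
  rw [← Nat.card_eq_fintype_card, PNat.mk_coe] at hK
  rw [Module.natCard_eq_pow_finrank (K := K), hK, ← pow_mul] at hV
  have h3 := Nat.pow_right_injective hp.out.two_le hV
  have h4 := D.card_dvd
  have h5 := D.index_centralizer_dvd
  rw [show Nat.card (K ≃+* K) = k from Cl.Aut.card_ringAut hK] at h5
  rw [hK] at h4
  obtain rfl : k = 3 := by
    have : k ≤ 3 := by nlinarith
    interval_cases k
    · exact absurd (h4.trans (Nat.sub_dvd_pow_sub_pow _ 1 2 |>.trans (by simp))) hA''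
    · exact absurd h4 hA''
    · rfl
  have h6 : 7 ∣ Nat.card (centralizer (A : Set G)) := by
    have := (hn ▸ h7.2.1).trans h1
    rw [← (centralizer (A : Set G)).card_mul_index] at this
    refine ((Nat.Prime.dvd_mul (by norm_num)).1 this).resolve_right fun e => ?_
    have := e.trans h5
    omega
  have : Fact (Nat.Prime 7) := ⟨by norm_num⟩
  obtain ⟨y, hy⟩ := exists_prime_orderOf_dvd_card' 7 h6
  rw [← orderOf_coe] at hy
  have hI := h7.irr hρ hy
  rcases two_dim (K := K) (W := V) (C := centralizer (A : Set G)) p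
    (fun e => hG (e.trans (card_subgroup_dvd_card _))) (fun g => D.linear_of_mem g.2) (by omega)
    with ⟨L, l1, l2, l3⟩ | ⟨B, b1, b2⟩ | ⟨z, t, z1, z2, z3⟩
  · rcases hI (AddSubgroup.toZModSubmodule p L.toAddSubgroup)
      (fun a ha => l3 ⟨a, zpowers_le.2 y.2 ha⟩) with e | e
    · exact l1 (eq_bot_iff.2 e.le)
    · exact l2 (eq_top_iff.2 e.ge)
  · have b3 : normalClosure {(y : G)} ≤ B.map (centralizer (A : Set G)).subtype := by
      refine (closure_le _).2 fun g hg => ?_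
      obtain ⟨_, rfl, hg⟩ := Group.mem_conjugatesOfSet_iff.1 hg
      obtain ⟨c, rfl⟩ := isConj_iff.1 hg
      let u : centralizer (A : Set G) := ⟨c * y * c⁻¹, Normal.conj_mem inferInstance _ y.2 c⟩
      refine ⟨u, ?_, rfl⟩
      have b4 : u ^ 2 ∈ B := by
        rcases (show B.index = 1 ∨ B.index = 2 by have := B.index_ne_zero_of_finite; omega)
          with e | e
        · exact (index_eq_one.1 e).ge trivial
        · exact sq_mem_of_index_two e u
      have b5 : u ^ 7 = 1 := Subtype.ext (by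
        change (c * y * c⁻¹) ^ 7 = 1
        rw [conj_pow, ← hy, pow_orderOf_eq_one, mul_one, mul_inv_cancel])
      have := pow_mem b4 4
      rwa [← pow_mul, show 2 * 4 = 7 + 1 from rfl, pow_succ, b5, one_mul] at this
    refine hab ⟨normalClosure {(y : G)}, inferInstance, ⟨⟨fun a b => Subtype.ext ?_⟩⟩,
      hI.mono (zpowers_le.2 (subset_normalClosure rfl))⟩
    obtain ⟨a', ha, ha'⟩ := b3 a.2
    obtain ⟨b', hb, hb'⟩ := b3 b.2
    rw [coe_mul, coe_mul, ← ha', ← hb', ← map_mul, ← map_mul]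
    exact congrArg (fun u : B => (centralizer (A : Set G)).subtype u)
      (mul_comm' (⟨a', ha⟩ : B) ⟨b', hb⟩)
  · rw [z2] at h6
    rcases (Nat.Prime.dvd_mul (by norm_num)).1 h6 with e | e
    · exact h7.2.2 3 (by norm_num) (by omega) (hK ▸ e.trans z1)
    · omega

theorem arith_dim_two {q z t h k : ℕ} (hq : q.Prime) (hz : z ∣ q - 1) (h1 : (q ^ 2 - 1) * h = z * t)
    (h2 : ¬ q ∣ z * t) (h3 : (t = 12 ∨ t = 24) ∧ k ≤ z * 5 ∨ t = 60 ∧ k ≤ z * 7) :
    k + h < q ^ 2 := by
  have h4 : ¬ q ∣ t := fun e => h2 (e.mul_left z)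
  have h5 := hq.two_le
  have h6 : q ≠ 4 := by rintro rfl; exact absurd hq (by norm_num)
  have h7 : q ≠ 6 := by rintro rfl; exact absurd hq (by norm_num)
  have h8 := Nat.le_of_dvd (by omega) hz
  obtain ⟨u, rfl⟩ : ∃ u, q = u + 1 := ⟨q - 1, by omega⟩
  rw [show (u + 1) ^ 2 - 1 = u * (u + 2) by rw [Nat.sub_eq_iff_eq_add (by nlinarith)]; ring] at h1
  rw [Nat.add_sub_cancel] at hz h8
  have h9 : (u + 2) * h ≤ t := Nat.le_of_mul_le_mul_left (by nlinarith) (show 0 < u by omega)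
  have h10 : u ≠ 1 := by rintro rfl; omega
  have h11 : u ≠ 2 := by rintro rfl; omega
  rcases h3 with ⟨ht, hk⟩ | ⟨rfl, hk⟩
  · have : 4 ≤ u := by omega
    have : h ≤ 4 := by nlinarith [show t ≤ 24 by omega]
    nlinarith
  · have h12 : u ≠ 4 := by rintro rfl; omega
    rcases (show u = 6 ∨ 7 ≤ u by omega) with rfl | hu
    · interval_cases z <;> omega
    · have : h ≤ 7 := by nlinarith
      nlinarith

theorem lt_of_two (hρ : Function.Injective ρ) (hG : ¬ p ∣ Nat.card G)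
    (htr : ∀ v w : V, v ≠ 0 → w ≠ 0 → ∃ g : G, ρ g v = w) (hn : finrank (ZMod p) V = 2)
    (hab : ¬ Ab ρ) {h : ℕ} (hh : Nat.card G = (Nat.card V - 1) * h) :
    Nat.card (ConjClasses G) + h < Nat.card V := by
  let _ := DistribMulAction.compHom V ρ
  have : FaithfulSMul G V := ⟨fun h => hρ (LinearEquiv.ext h)⟩
  rw [card_eq_pow (p := p) (V := V), hn] at hh ⊢
  rcases two_dim (K := ZMod p) (W := V) (C := G) p hG (fun g c v => map_smul (ρ g) c v) hn
    with ⟨L, l1, l2, l3⟩ | ⟨B, b1, b2⟩ | ⟨z, t, z1, z2, z3⟩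
  · obtain ⟨v, hv, h0⟩ := L.ne_bot_iff.1 l1
    refine absurd (eq_top_iff.2 fun w _ => by_contra fun hw => ?_) l2
    obtain ⟨g, rfl⟩ := htr v w h0 fun e => hw (e ▸ L.zero_mem)
    exact hw (l3 g v hv)
  · have : B.Normal := by
      rcases (show B.index = 1 ∨ B.index = 2 by have := B.index_ne_zero_of_finite; omega)
        with e | e
      · rw [index_eq_one.1 e]; infer_instance
      · exact normal_of_index_eq_two e
    obtain ⟨k, d, a1, a2, a3, a4⟩ := exists_field_of_not_ab hρ htr hab B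
    obtain rfl : k = 1 := by nlinarith
    have h1 := hp.out.two_le
    have h2 := Nat.le_of_dvd (by rw [pow_one]; omega) a4
    have h3 := B.card_mul_index
    have h4 : 0 < h := Nat.pos_of_ne_zero fun e => Nat.card_pos.ne' (by rw [hh, e, mul_zero])
    obtain ⟨u, rfl⟩ : ∃ u, p = u + 1 := ⟨p - 1, by omega⟩
    rw [show (u + 1) ^ 2 - 1 = u * (u + 2) by rw [Nat.sub_eq_iff_eq_add (by nlinarith)]; ring] at hh
    rw [pow_one, Nat.add_sub_cancel] at h2
    have h5 := Nat.mul_le_mul h2 b2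
    have h6 := Nat.le_mul_of_pos_right (u * (u + 2)) h4
    nlinarith
  · rw [Nat.card_zmod] at z1
    exact arith_dim_two hp.out z1 (hh.symm.trans z2) (z2 ▸ hG) z3

omit [Nontrivial V] [Finite G] in
theorem card_dvd_gl (hρ : Function.Injective ρ) {n : ℕ} (hn : finrank (ZMod p) V = n) :
    Nat.card G ∣ ∏ i : Fin n, (p ^ n - p ^ (i : ℕ)) := by
  have h := Matrix.card_GL_field (𝔽 := ZMod p) n
  rw [ZMod.card, Nat.card_congr
    ((Matrix.GeneralLinearGroup.toLin' (Module.finBasisOfFinrankEq _ V hn)).trans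
      (LinearMap.GeneralLinearGroup.generalLinearEquiv (ZMod p) V)).toEquiv] at h
  exact h ▸ card_dvd_of_injective ρ hρ

theorem lt_of_four (hρ : Function.Injective ρ) (hG : ¬ p ∣ Nat.card G)
    (htr : ∀ v w : V, v ≠ 0 → w ≠ 0 → ∃ g : G, ρ g v = w) (hn : finrank (ZMod p) V = 4)
    (h3 : p = 3) (hab : ¬ Ab ρ) {h : ℕ} (hh : Nat.card G = (Nat.card V - 1) * h) :
    Nat.card (ConjClasses G) + h < Nat.card V := by
  subst h3
  have hV := card_eq_pow (p := 3) (V := V)
  rw [hn] at hV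
  rw [hV] at hh ⊢
  have h1 : Nat.card G ∣ 2560 := by
    have h1 := card_dvd_gl hρ hn
    rw [show ∏ i : Fin 4, (3 ^ 4 - 3 ^ (i : ℕ)) = 3 ^ 6 * (13 * 2560) by decide] at h1
    have h2 := (((Nat.Prime.coprime_iff_not_dvd hp.out).2 hG).symm.pow_right 6).dvd_of_dvd_mul_left
      h1
    have : Fact (Nat.Prime 13) := ⟨by norm_num⟩
    refine ((Nat.Prime.coprime_iff_not_dvd Fact.out).2 fun e => ?_).symm.dvd_of_dvd_mul_left h2
    obtain ⟨χ, hχ, hf, hd⟩ := exists_char hρ hG
    obtain ⟨A, a1, a2, a3⟩ := exists_normal_comm hχ hf (by omega) (Or.inl (by omega)) e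
    obtain ⟨k, d, b1, b2, b3, b4⟩ := exists_field_of_not_ab hρ htr hab A
    have h4 := a3.trans b4
    have : k ≤ 2 := by nlinarith
    interval_cases k <;> omega
  have := burnside_isSolvable_of_card_dvd (a := 9) (b := 1) Nat.prime_two Nat.prime_five h1
  obtain ⟨A, hAn, hAc, hmax⟩ := Perm.exists_maximal_normal_comm (G := G)
  let _ := DistribMulAction.compHom V ρ
  have : FaithfulSMul G V := ⟨fun h => hρ (LinearEquiv.ext h)⟩
  obtain ⟨K, _, _, _, ⟨D⟩⟩ := exists_fieldData (V := V) htr A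
  obtain ⟨W, h0, h2, hW⟩ := not_irrOn_iff.1 fun e => hab ⟨A, hAn, hAc, e⟩
  have hd := D.one_lt_finrank W.toAddSubgroup hW
    (fun e => h0 (Submodule.toAddSubgroup_injective e))
    fun e => h2 (Submodule.toAddSubgroup_injective e)
  obtain ⟨N, hNn, hN2, hN3, hN4⟩ := exists_minimal_normal_not_comm (centralizer (A : Set G))
    fun hc => D.not_centralizer_le htr hd (hmax _ inferInstance hc (le_centralizer A)).le
  have hm : MinNonab A N := ⟨hAn, hAc, hmax, hNn, hN2, hN3, hN4⟩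
  have hne : ⁅N, N⁆ ≠ N := (Group.IsSolvable.commutator_lt_of_ne_bot (H := N)
    fun e => hm.not_le (e ▸ bot_le)).ne
  have := D.isCyclic
  have hC : centralizer (N : Set G) = A :=
    have := (irrOn_of_not_comm hρ htr hN3).isCyclic_centralizer hρ
    hmax _ inferInstance inferInstance hm.le_centralizer'
  have := charP_of_module (p := 3) (V := V) K
  obtain ⟨⟨k, hk⟩, -, hK⟩ := FiniteField.card K 3
  rw [← Nat.card_eq_fintype_card, PNat.mk_coe] at hK
  have hrel := D.relIndex_le_finrank_sq hm hne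
  rw [Module.natCard_eq_pow_finrank (K := K), hK, ← pow_mul] at hV
  have h4 := Nat.pow_right_injective hp.out.two_le hV
  have hA := D.card_dvd
  have hCA := D.index_centralizer_dvd
  rw [hK] at hA
  rw [show Nat.card (K ≃+* K) = k from Cl.Aut.card_ringAut hK] at hCA
  generalize finrank K V = d at hd hrel h4
  have h5 : 5 ∣ Nat.card G := hh ▸ Dvd.dvd.mul_right (by norm_num) h
  have hk2 : k ≤ 2 := by nlinarith
  obtain ⟨h6, h7, -, -⟩ := hm.prime_eq hne hC.le hrel Nat.prime_five h5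
    (fun e => by have := Nat.le_of_dvd hk (e.trans hCA); omega)
    (fun e => by have := e.trans hA; interval_cases k <;> omega) (by nlinarith)
  obtain rfl : d = 4 := by omega
  obtain rfl : k = 1 := by omega
  obtain ⟨s, hs, hsN, -⟩ := hm.exists_prime hne
  have : Fact s.Prime := ⟨hs⟩
  have h8 := hm.prime_dvd_card hne hsN
  have h9 : Nat.card A = 2 := ((Nat.dvd_prime Nat.prime_two).1 hA).resolve_left fun e =>
    hs.one_lt.ne' (Nat.dvd_one.1 (e ▸ h8))
  have h10 : A ≤ N := by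
    obtain ⟨x, hx, ho, hc⟩ := exists_central_order hsN fun e => hm.not_le (e ▸ bot_le)
    refine inf_eq_left.1 (eq_of_le_of_card_ge inf_le_left ?_)
    have := Nat.le_of_dvd Nat.card_pos (orderOf_dvd_natCard (A ⊓ N) ⟨hC.le hc, hx⟩)
    have := hs.two_le
    omega
  obtain ⟨x, hx⟩ := exists_prime_orderOf_dvd_card' (p := 5) (hp := ⟨Nat.prime_five⟩) h5
  have hE : E32 A N x := ⟨hNn, by
    rw [FG.card_eq_relIndex_mul_card_inf A N, inf_of_le_left h10, h7, h9]; rfl, h9, h10,
    centralizer_eq_top_iff_subset.1 (index_eq_one.1 (Nat.dvd_one.1 hCA)), hC.le, h1, hx⟩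
  have h11 := hE.card_le
  have h12 := hE.k_le
  omega

theorem concl (hρ : Function.Injective ρ) (hG : ¬ p ∣ Nat.card G)
    (htr : ∀ v w : V, v ≠ 0 → w ≠ 0 → ∃ g : G, ρ g v = w) {h : ℕ}
    (hh : Nat.card G = (Nat.card V - 1) * h) : Concl V G h := by
  by_cases hab : Ab ρ
  · obtain ⟨A, _, _, hI⟩ := hab
    exact case_one hρ hG htr hI hh
  suffices h : Nat.card (ConjClasses G) + h < Nat.card V from ⟨h.le, fun e => absurd e h.ne⟩
  have hV := card_eq_pow (p := p) (V := V)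
  have h0 : 0 < finrank (ZMod p) V := finrank_pos
  by_cases h1 : finrank (ZMod p) V = 1
  · exact absurd ⟨⊥, inferInstance, inferInstance, fun W _ =>
      (isSimpleModule_iff_finrank_eq_one.2 h1).eq_bot_or_eq_top W⟩ hab
  by_cases h2 : finrank (ZMod p) V = 2
  · exact lt_of_two hρ hG htr h2 hab hh
  by_cases h3 : p = 2
  · subst h3
    have := S0205.result (G := G) (Nat.not_even_iff_odd.1 fun e => hG e.two_dvd)
    have h4 := (huppert hρ htr).resolve_left hab
    have h5 : 2 ∣ Nat.card V := hV ▸ dvd_pow_self 2 h0.ne'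
    simp only [Set.mem_insert_iff, Set.mem_singleton_iff] at h4
    omega
  by_cases h4 : p = 3 ∧ finrank (ZMod p) V = 4
  · exact lt_of_four hρ hG htr h4.2 h4.1 hab hh
  by_cases h6 : finrank (ZMod p) V = 6 ∧ (p = 3 ∨ p = 5)
  · exact absurd (ab_of_six hρ hG htr h6.1 h6.2) hab
  obtain ⟨r, r1, r2, r3, r4⟩ := NT.large_zsigmondy hp.out.two_le
    (show 2 ≤ finrank (ZMod p) V by omega) (fun e => h2 e.1) (fun e => h3 e.1) (by omega) (by omega)
  exact absurd (ab_of_large hρ hG htr (by omega) ⟨r1, r2, r3⟩ r4) hab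

end Cfsg.Agent.Ch.KT
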