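import Mathlib
import Cfsg.Agent.Ch.KTMain
import Cfsg.Agent.FG.PiClasses

/-!
# Lower bounds for class numbers of transitive linear groups of order prime to the characteristic
-/

set_option autoImplicit false

namespace Cfsg.Agent.Ch.KT

open Cfsg Subgroup GT.Frob Perm Module

section two

open Matrix Cl.L2
open scoped MatrixGroups

/-- Dickson's theorem with the central quotient. -/
theorem two_dim_quot {K W C : Type*} [Field K] [Finite K] [AddCommGroup W] [Module K W] [Group C]
    [Finite C] [DistribMulAction C W] [FaithfulSMul C W] (p : ℕ) [Fact p.Prime] [CharP K p]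
    (hp : ¬ p ∣ Nat.card C) (hlin : ∀ (g : C) (c : K) (v : W), g • c • v = c • g • v)
    (h2 : Module.finrank K W = 2) :
    (∃ L : Submodule K W, L ≠ ⊥ ∧ L ≠ ⊤ ∧ ∀ (g : C), ∀ v ∈ L, g • v ∈ L) ∨
    (∃ B : Subgroup C, IsMulCommutative B ∧ B.index ≤ 2) ∨
    ∃ π : C →* PGL(2, K), π.ker ≤ center C ∧ Nat.card π.ker ∣ Nat.card K - 1 ∧
      (Nonempty (π.range ≃* alternatingGroup (Fin 4)) ∨ Nonempty (π.range ≃* Equiv.Perm (Fin 4)) ∨
        Nonempty (π.range ≃* alternatingGroup (Fin 5))) := by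
  classical
  have : Module.Finite K W := Module.finite_of_finrank_eq_succ h2
  let b := Module.finBasisOfFinrankEq K W h2
  let T : C →* Module.End K W :=
    { toFun := fun g => { toFun := fun v => g • v, map_add' := smul_add g, map_smul' := hlin g }
      map_one' := LinearMap.ext fun v => one_smul C v
      map_mul' := fun g h => LinearMap.ext fun v => mul_smul g h v }
  let M : C →* M2 K := (LinearMap.toMatrixAlgEquiv b).toMonoidHom.comp T
  have hM : ∀ g, M g = LinearMap.toMatrix b b (T g) := fun _ => rfl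
  have hinj : Function.Injective M := fun g h e =>
    eq_of_smul_eq_smul (α := W) fun v => DFunLike.congr_fun ((LinearMap.toMatrix b b).injective e) v
  have hdet : ∀ g, (M g).det ≠ 0 := fun g =>
    ((Matrix.isUnit_iff_isUnit_det _).1 ((Group.isUnit g).map M)).ne_zero
  let π : C →* PGL(2, K) := MonoidHom.mk' (fun g => pm (M g)) fun g h => by
    rw [map_mul, pm_mul (hdet g) (hdet h)]
  have hπ : ∀ g, π g = pm (M g) := fun _ => rfl
  have hsc : ∀ g : π.ker, M g = M g 0 0 • (1 : M2 K) := fun g => by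
    obtain ⟨c, hc⟩ := (pm_eq_one_iff' (hdet g)).1 g.2
    rw [hc]; simp
  let α : π.ker →* K :=
    { toFun := fun g => M g 0 0
      map_one' := by simp
      map_mul' := fun g h => by
        rw [coe_mul, map_mul, hsc g, smul_mul_assoc, one_mul]; simp }
  have hα : Nat.card π.ker ∣ Nat.card K - 1 := by
    rw [← Nat.card_units]
    refine card_dvd_of_injective α.toHomUnits fun g h e => Subtype.ext (hinj ?_)
    rw [hsc g, hsc h]
    exact congrArg (· • (1 : M2 K)) (congrArg Units.val e)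
  have hz : π.ker ≤ center C := fun g hg => mem_center_iff.2 fun h => hinj (by
    rw [map_mul, map_mul, hsc ⟨g, hg⟩, smul_mul_assoc, mul_smul_comm, one_mul, mul_one])
  rcases dickson_regular π.range (fun h hh h1 ht => by
    obtain ⟨x, hx⟩ := exists_mem_uni ht
    exact hp (orderOf_of_mem_uni p hx h1 ▸ (orderOf_dvd_natCard _ hh).trans (card_range_dvd π)))
    with ⟨x, hx⟩ | ⟨g, -, ht, hg⟩ | h
  · left
    induction x using Projectivization.ind with
    | h v hv =>
    have hw : b.equivFun.symm v ≠ 0 := b.equivFun.symm.map_ne_zero_iff.2 hv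
    refine ⟨K ∙ b.equivFun.symm v, mt Submodule.span_singleton_eq_bot.1 hw, fun e => ?_,
      fun g w hw => ?_⟩
    · have := finrank_span_singleton (K := K) hw
      rw [e, finrank_top] at this
      omega
    · obtain ⟨c, rfl⟩ := Submodule.mem_span_singleton.1 hw
      rw [hlin]
      refine Submodule.smul_mem _ _ ?_
      have h1 := hx _ ⟨g, rfl⟩
      rw [hπ, pm_smul_mk (hdet g), Projectivization.mk_eq_mk_iff'] at h1
      obtain ⟨a, ha⟩ := h1
      refine Submodule.mem_span_singleton.2 ⟨a, b.equivFun.injective ?_⟩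
      have h3 := LinearMap.toMatrix_mulVec_repr b b (T g) (b.equivFun.symm v)
      rw [← hM, ← b.equivFun_apply, LinearEquiv.apply_symm_apply, ← ha] at h3
      rw [map_smul, LinearEquiv.apply_symm_apply, h3]
      rfl
  · refine Or.inr (Or.inl ⟨(tor g).comap π, ⟨⟨fun x y => Subtype.ext (hinj ?_)⟩⟩, ?_⟩)
    · rw [coe_mul, coe_mul, map_mul, map_mul]
      exact (pm_mem_tor (hdet _) (hdet _)).1 (mem_tor_of_mem_tor (ne_one_of_tau ht) x.2 y.2)
    · rw [index_comap]
      exact (relIndex_le_of_le_right hg (by rw [relIndex_tor_ntor ht]; exact two_ne_zero)).trans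
        (relIndex_tor_ntor ht).le
  · exact Or.inr (Or.inr ⟨π, hz, hα, h⟩)

end two

/-- A lower bound for the orders of centralisers. -/
def wt {Q : Type*} [Group Q] [DecidableEq Q] (t : ℕ) (y : Q) : ℕ :=
  if y = 1 then t else if y * y = 1 then 2 else 3

theorem k_ge_of_central {G Q : Type*} [Group G] [Finite G] [Group Q] [Fintype Q] [DecidableEq Q]
    (f : G →* Q) (hf : Function.Surjective f) (hz : f.ker ≤ center G) {t : ℕ}
    (ht : Nat.card Q = t) (h : 7 * t ≤ 2 * ∑ y : Q, wt t y) :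
    7 * Nat.card f.ker ≤ 2 * Nat.card (ConjClasses G) := by
  classical
  have := Fintype.ofFinite G
  have hG : Nat.card G = Nat.card f.ker * t := by
    rw [← ht, ← f.ker.card_mul_index, index_ker, MonoidHom.range_eq_top.2 hf, card_top]
  have h1 : ∀ g : G, Nat.card f.ker * wt t (f g) ≤ Nat.card (centralizer ({g} : Set G)) := by
    intro g
    have h2 := FG.card_eq_relIndex_mul_card_inf f.ker (centralizer ({g} : Set G))
    rw [inf_of_le_left (hz.trans (center_le_centralizer _)), relIndex_ker] at h2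
    rw [h2, mul_comm]
    refine Nat.mul_le_mul_right _ ?_
    have h3 := card_le_of_le (zpowers_le.2 (mem_map_of_mem f
      (mem_centralizer_singleton_iff.2 rfl : g ∈ centralizer {g})))
    rw [Nat.card_zpowers] at h3
    unfold wt
    split_ifs with h4 h5
    · rw [centralizer_eq_top_iff_subset.2 (Set.singleton_subset_iff.2 (hz h4)),
        map_top_of_surjective f hf, card_top, ht]
    · have := mt orderOf_eq_one_iff.1 h4
      have := orderOf_pos (f g)
      omega
    · have := mt orderOf_eq_one_iff.1 h4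
      have := orderOf_pos (f g)
      have : orderOf (f g) ≠ 2 := fun e => h5 (by rw [← sq, ← e, pow_orderOf_eq_one])
      omega
  have h2 : ∑ g : G, wt t (f g) = Nat.card f.ker * ∑ y : Q, wt t y := by
    rw [← Finset.sum_fiberwise (s := Finset.univ) (g := f), Finset.mul_sum]
    refine Finset.sum_congr rfl fun y _ => ?_
    rw [Finset.sum_congr rfl fun g hg => by rw [(Finset.mem_filter.1 hg).2], Finset.sum_const,
      smul_eq_mul, MonoidHom.card_fiber_eq_of_mem_range f (hf y) ⟨1, map_one f⟩,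
      Nat.card_eq_fintype_card, Fintype.card_subtype]
    simp only [MonoidHom.mem_ker]
  have h3 := Finset.sum_le_sum fun g (_ : g ∈ Finset.univ) => h1 g
  rw [FG.sum_card_centralizer, ← Finset.mul_sum, h2, hG] at h3
  have h4 : 0 < Nat.card f.ker * t := hG ▸ Nat.card_pos
  refine Nat.le_of_mul_le_mul_right ?_ h4
  have h5 := Nat.mul_le_mul_left (Nat.card f.ker * Nat.card f.ker) h
  nlinarith

theorem wt_alt_four : 7 * 12 ≤ 2 * ∑ y : alternatingGroup (Fin 4), wt 12 y := by decide +kernel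

theorem wt_perm_four : 7 * 24 ≤ 2 * ∑ y : Equiv.Perm (Fin 4), wt 24 y := by decide +kernel

theorem wt_alt_five : 7 * 60 ≤ 2 * ∑ y : alternatingGroup (Fin 5), wt 60 y := by decide +kernel

theorem three_le_k {G : Type*} [Group G] [Finite G] (h : 3 ≤ Nat.card G) :
    3 ≤ Nat.card (ConjClasses G) := by
  classical
  have := Fintype.ofFinite G
  have h1 := FG.sum_card_centralizer (G := G)
  rw [← Finset.add_sum_erase _ _ (Finset.mem_univ 1), centralizer_eq_top_iff_subset.2
    (Set.singleton_subset_iff.2 (one_mem _)), card_top] at h1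
  have h2 := Finset.card_nsmul_le_sum (Finset.univ.erase (1 : G))
    (fun g => Nat.card (centralizer ({g} : Set G))) 2 fun g hg =>
      (one_lt_card_iff_ne_bot _).2 fun e => (Finset.mem_erase.1 hg).1
        (mem_bot.1 (e ▸ mem_centralizer_singleton_iff.2 rfl))
  rw [Finset.card_erase_of_mem (Finset.mem_univ _), Finset.card_univ, ← Nat.card_eq_fintype_card,
    smul_eq_mul] at h2
  by_contra hc
  have := Nat.mul_le_mul_right (Nat.card G) (show Nat.card (ConjClasses G) ≤ 2 by omega)
  omega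

theorem sq_lt_five_pow {n : ℕ} (hn : 1 ≤ n) : (n + 1) ^ 2 < 5 ^ n := by
  induction n, hn using Nat.le_induction with
  | base => norm_num
  | succ n hn ih => rw [pow_succ 5]; nlinarith

theorem arith_low {q z t h k : ℕ} (hq : q.Prime) (h5 : 5 ≤ q) (hz : z ∣ q - 1)
    (h1 : (q ^ 2 - 1) * h = z * t) (hk : k < q) (h2 : 7 * z ≤ 2 * k) (ht : 0 < t) (hz0 : 0 < z) :
    4 * (q + 1) ≤ t ∧ (t = 60 → ¬ q ∣ t → q = 11 ∧ h = 1) := by
  obtain ⟨c, hc⟩ := hz
  obtain ⟨u, rfl⟩ : ∃ u, q = u + 1 := ⟨q - 1, by omega⟩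
  rw [show (u + 1) ^ 2 - 1 = u * (u + 2) by rw [Nat.sub_eq_iff_eq_add (by nlinarith)]; ring] at h1
  rw [Nat.add_sub_cancel] at hc
  have h3 : c * (u + 2) * h = t := Nat.eq_of_mul_eq_mul_left hz0 (by rw [← h1, hc]; ring)
  have h4 : 4 ≤ c := by
    by_contra hc'
    have := Nat.mul_le_mul_left z (show c ≤ 3 by omega)
    omega
  have h6 : 0 < h := Nat.pos_of_ne_zero fun e => by rw [e] at h3; omega
  have h7 : 4 * (u + 2) ≤ t := h3 ▸ (Nat.mul_le_mul_right _ h4).trans (Nat.le_mul_of_pos_right _ h6)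
  refine ⟨h7, fun e hd => ?_⟩
  subst e
  have h8 : u + 2 ∣ 60 := ⟨c * h, by rw [← h3]; ring⟩
  have h9 : u ≤ 13 := by omega
  have h10 : u = 10 := by
    interval_cases u <;> omega
  subst h10
  refine ⟨rfl, ?_⟩
  have : h ≤ 1 := by nlinarith
  omega

variable {p : ℕ} [hp : Fact p.Prime] {V : Type*} [AddCommGroup V] [Module (ZMod p) V] [Finite V]
  [Nontrivial V] {G : Type*} [Group G] [Finite G] {ρ : G →* (V ≃ₗ[ZMod p] V)}

/-- Hering's theorem for groups of order prime to the characteristic, coarse form. -/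
theorem ab_or (hρ : Function.Injective ρ) (hG : ¬ p ∣ Nat.card G)
    (htr : ∀ v w : V, v ≠ 0 → w ≠ 0 → ∃ g : G, ρ g v = w) :
    Ab ρ ∨ finrank (ZMod p) V = 2 ∨ p = 3 ∧ finrank (ZMod p) V = 4 := by
  by_contra hc
  rw [not_or, not_or] at hc
  obtain ⟨hab, h2, h4⟩ := hc
  have hV := card_eq_pow (p := p) (V := V)
  have h0 : 0 < finrank (ZMod p) V := finrank_pos
  have h1 : finrank (ZMod p) V ≠ 1 := fun h1 => hab ⟨⊥, inferInstance, inferInstance, fun W _ =>
    (isSimpleModule_iff_finrank_eq_one.2 h1).eq_bot_or_eq_top W⟩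
  by_cases h3 : p = 2
  · subst h3
    have := S0205.result (G := G) (Nat.not_even_iff_odd.1 fun e => hG e.two_dvd)
    have h4 := (huppert hρ htr).resolve_left hab
    have h5 : 2 ∣ Nat.card V := hV ▸ dvd_pow_self 2 h0.ne'
    simp only [Set.mem_insert_iff, Set.mem_singleton_iff] at h4
    omega
  by_cases h6 : finrank (ZMod p) V = 6 ∧ (p = 3 ∨ p = 5)
  · exact hab (ab_of_six hρ hG htr h6.1 h6.2)
  obtain ⟨r, r1, r2, r3, r4⟩ := NT.large_zsigmondy hp.out.two_le
    (show 2 ≤ finrank (ZMod p) V by omega) (fun e => h2 e.1) (fun e => h3 e.1) (by omega) (by omega)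
  exact hab (ab_of_large hρ hG htr (by omega) ⟨r1, r2, r3⟩ r4)

omit [Finite G] in
theorem regOn_of_card (htr : ∀ v w : V, v ≠ 0 → w ≠ 0 → ∃ g : G, ρ g v = w)
    (h : Nat.card G = Nat.card V - 1) : RegOn ρ := by
  intro v w hv hw
  have : Finite G := Nat.finite_of_card_ne_zero (by
    have : 1 < Nat.card V := Finite.one_lt_card
    omega)
  let φ : G → ({0}ᶜ : Set V) := fun g => ⟨ρ g v, (ρ g).map_ne_zero_iff.2 hv⟩
  have h1 : Function.Surjective φ := fun u => (htr v u hv u.2).imp fun g hg => Subtype.ext hg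
  have h2 := ((Nat.bijective_iff_surjective_and_card φ).2 ⟨h1, by
    rw [h, Nat.card_coe_set_eq, Set.ncard_compl, Set.ncard_singleton]⟩).1
  exact existsUnique_of_exists_of_unique (htr v w hv hw) fun a b ha hb =>
    h2 (Subtype.ext (ha.trans hb.symm))

theorem k_lower_two (hρ : Function.Injective ρ) (hG : ¬ p ∣ Nat.card G) (h5 : 5 ≤ p)
    (htr : ∀ v w : V, v ≠ 0 → w ≠ 0 → ∃ g : G, ρ g v = w) (hn : finrank (ZMod p) V = 2)
    (hab : ¬ Ab ρ) (hk : Nat.card (ConjClasses G) < p) : p = 11 ∧ RegOn ρ ∧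
      Nonempty (G ≃* Matrix.SpecialLinearGroup (Fin 2) (ZMod 5)) := by
  let _ := DistribMulAction.compHom V ρ
  have : FaithfulSMul G V := ⟨fun h => hρ (LinearEquiv.ext h)⟩
  obtain ⟨h, hh⟩ := GT.Frob.card_sub_one_dvd_of_trans htr
  have hV := card_eq_pow (p := p) (V := V)
  rw [hn] at hV
  rw [hV] at hh
  rcases two_dim_quot (K := ZMod p) (W := V) (C := G) p hG (fun g c v => map_smul (ρ g) c v) hn
    with ⟨L, l1, l2, l3⟩ | ⟨B, b1, b2⟩ | ⟨π, z1, z2, z3⟩
  · obtain ⟨v, hv, h0⟩ := L.ne_bot_iff.1 l1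
    refine absurd (eq_top_iff.2 fun w _ => by_contra fun hw => ?_) l2
    obtain ⟨g, rfl⟩ := htr v w h0 fun e => hw (e ▸ L.zero_mem)
    exact hw (l3 g v hv)
  · exfalso
    have : B.Normal := by
      rcases (show B.index = 1 ∨ B.index = 2 by have := B.index_ne_zero_of_finite; omega)
        with e | e
      · rw [index_eq_one.1 e]; infer_instance
      · exact normal_of_index_eq_two e
    obtain ⟨k, d, a1, a2, a3, a4⟩ := exists_field_of_not_ab hρ htr hab B
    obtain rfl : k = 1 := by nlinarith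
    have h2 := Nat.le_of_dvd (by rw [pow_one]; omega) a4
    have h3 := B.card_mul_index
    have h4 : 0 < h := Nat.pos_of_ne_zero fun e => Nat.card_pos.ne' (by rw [hh, e, mul_zero])
    obtain ⟨u, rfl⟩ : ∃ u, p = u + 1 := ⟨p - 1, by omega⟩
    rw [show (u + 1) ^ 2 - 1 = u * (u + 2) by rw [Nat.sub_eq_iff_eq_add (by nlinarith)]; ring] at hh
    rw [pow_one, Nat.add_sub_cancel] at h2
    have h5 := Nat.mul_le_mul h2 b2
    have h6 := Nat.le_mul_of_pos_right (u * (u + 2)) h4
    nlinarith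
  rw [Nat.card_zmod] at z2
  have key : ∀ {Q : Type} [Group Q] [Fintype Q] [DecidableEq Q] (_ : π.range ≃* Q) {t : ℕ},
      Nat.card Q = t → 7 * t ≤ 2 * ∑ y : Q, wt t y → Nat.card (ConjClasses Q) < p ∧
        (Group.IsSolvable G → Group.IsSolvable Q) ∧
        4 * (p + 1) ≤ t ∧ (t = 60 → p = 11 ∧ h = 1) := by
    intro Q _ _ _ e t ht hw
    let f : G →* Q := e.toMonoidHom.comp π.rangeRestrict
    have hf : Function.Surjective f := e.surjective.comp π.rangeRestrict_surjective
    have hker : f.ker = π.ker := by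
      rw [← π.ker_rangeRestrict]
      exact MonoidHom.ker_comp_of_injective _ _ e.injective
    have h1 := k_ge_of_central f hf (hker ▸ z1) ht hw
    have h2 : Nat.card G = Nat.card π.ker * t := by
      rw [← ht, ← Nat.card_congr e.toEquiv, ← index_ker, card_mul_index]
    obtain ⟨a1, a2⟩ := arith_low hp.out h5 z2 (hh.symm.trans h2) hk (hker ▸ h1)
      (ht ▸ Nat.card_pos) Nat.card_pos
    exact ⟨(FG.card_conjClasses_le_of_surjective f hf).trans_lt hk,
      fun _ => Group.isSolvable_of_surjective hf, a1,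
      fun e => a2 e fun e => hG (h2 ▸ e.mul_left _)⟩
  rcases z3 with ⟨⟨e⟩⟩ | ⟨⟨e⟩⟩ | ⟨⟨e⟩⟩
  · have := (key e card_alt_four wt_alt_four).2.2.1
    omega
  · obtain ⟨a1, -, a2, -⟩ := key e card_perm_four wt_perm_four
    rw [k_perm_four] at a1
    omega
  obtain ⟨-, a1, -, a2⟩ := key e card_alt_five wt_alt_five
  obtain ⟨rfl, rfl⟩ := a2 rfl
  have hr := regOn_of_card htr (by rw [hh, hV, mul_one])
  obtain ⟨m, ⟨e'⟩, hm⟩ := hr.nonsolvable fun hs => absurd
    (IsSimpleGroup.comm_iff_isSolvable.2 (a1 hs)) (by decide +kernel)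
  obtain rfl : m = 1 := by omega
  exact ⟨rfl, hr, ⟨e'.trans MulEquiv.prodUnique⟩⟩

theorem k_lower (hρ : Function.Injective ρ) (hG : ¬ p ∣ Nat.card G)
    (htr : ∀ v w : V, v ≠ 0 → w ≠ 0 → ∃ g : G, ρ g v = w) :
    p ≤ Nat.card (ConjClasses G) ∨
      (Nat.card V = p ∧ Nat.card G = p - 1 ∧ Nat.card (ConjClasses G) = p - 1) ∨
      p = 11 ∧ Nat.card V = 121 ∧ RegOn ρ ∧
        Nonempty (G ≃* Matrix.SpecialLinearGroup (Fin 2) (ZMod 5)) := by
  refine (le_or_gt p _).imp_right fun hk => ?_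
  have hV := card_eq_pow (p := p) (V := V)
  have h0 : 0 < finrank (ZMod p) V := finrank_pos
  have h1 := GT.Frob.card_sub_one_dvd_of_trans htr
  have hp2 := hp.out.two_le
  by_cases h2 : finrank (ZMod p) V = 1
  · left
    have h3 := card_dvd_gl hρ h2
    rw [h2, pow_one] at hV
    rw [Fin.prod_univ_one, Fin.val_zero, pow_one, pow_zero] at h3
    have h4 := Nat.dvd_antisymm h3 (hV ▸ h1)
    have hI : IrrOn ρ ⊥ := fun W _ => (isSimpleModule_iff_finrank_eq_one.2 h2).eq_bot_or_eq_top W
    have h5 := FG.card_conjClasses_subgroup_le (centralizer ((⊥ : Subgroup G) : Set G))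
    have := hI.isCyclic_centralizer hρ
    rw [FG.PC.card_conjClasses_of_comm inferInstance,
      centralizer_eq_top_iff_subset.2 (by simp), index_top, one_mul, card_top] at h5
    exact ⟨hV, h4, by omega⟩
  right
  obtain ⟨n, hn⟩ : ∃ n, finrank (ZMod p) V = n + 1 := ⟨finrank (ZMod p) V - 1, by omega⟩
  have h3 := Nat.le_of_dvd Nat.card_pos h1
  have h4 : 2 ^ 2 ≤ Nat.card V := hV ▸ (Nat.pow_le_pow_left hp2 2).trans
    (Nat.pow_le_pow_right hp.out.pos (by omega))
  have h5 := three_le_k (G := G) (by omega)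
  have h6 : p ≠ 4 := by rintro rfl; exact absurd hp.out (by norm_num)
  by_cases hab : Ab ρ
  · exfalso
    obtain ⟨A, _, _, hI⟩ := hab
    have := hI.isCyclic_centralizer hρ
    obtain ⟨-, k, d, a1, a2, a3, -, a4, -⟩ := (fieldOn_of_comm htr A).exists_card hρ
    rw [normalizer_eq_top, relIndex_top_right] at a4
    rw [hV, ← pow_mul, hn] at a3
    have h7 : (centralizer (A : Set G)).index ≤ n + 1 := (Nat.le_of_dvd a1 a4).trans
      (Nat.pow_right_injective hp2 a3 ▸ Nat.le_mul_of_pos_right k a2)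
    have h8 := FG.card_conjClasses_subgroup_le (centralizer (A : Set G))
    rw [FG.PC.card_conjClasses_of_comm inferInstance] at h8
    have h9 := Nat.mul_le_mul (h8.trans (Nat.mul_le_mul h7 (Nat.le_sub_one_of_lt hk))) h7
    rw [card_mul_index] at h9
    have h10 := (sq_lt_five_pow (show 1 ≤ n by omega)).trans_le
      (Nat.pow_le_pow_left (show 5 ≤ p by omega) n)
    rw [hV, hn, pow_succ] at h3
    obtain ⟨u, rfl⟩ : ∃ u, p = u + 1 := ⟨p - 1, by omega⟩
    rw [Nat.add_sub_cancel] at h9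
    have h11 := Nat.mul_le_mul_right u h10.le
    rw [mul_add] at h3
    have : (n + 1) * u * (n + 1) = (n + 1) ^ 2 * u := by ring
    have : 1 < (u + 1) ^ n := by nlinarith
    omega
  have h7 := ((ab_or hρ hG htr).resolve_left hab).resolve_right (by omega)
  obtain ⟨rfl, a1, a2⟩ := k_lower_two hρ hG (by omega) htr h7 hab hk
  exact ⟨rfl, by rw [hV, h7]; rfl, a1, a2⟩

end Cfsg.Agent.Ch.KT
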