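import Mathlib
import Cfsg.Agent.Ch.KPLow
import Cfsg.Agent.Ch.Table
import Cfsg.Agent.GT.ElemAbRep
import Cfsg.Agent.GT.SchurZassenhaus
import Cfsg.Agent.FG.SylowNormal
import Cfsg.Agent.FG.DGrpB
import Cfsg.Agent.Perm.AffCoord
import Cfsg.Agent.Perm.HuppertOdd
import Cfsg.Agent.S2325

/-!
# Classes of `p`-regular elements in groups with one class of non-trivial `p`-elements
-/

set_option autoImplicit false

namespace Cfsg.Agent.Ch.KT

open Cfsg Subgroup GT.Frob Perm Module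
open scoped Pointwise

/-- The number of classes of `p`-regular elements. -/
noncomputable abbrev kp (p : ℕ) (G : Type*) [Group G] : ℕ :=
  Nat.card {c : ConjClasses G // ∃ g : G, ConjClasses.mk g = c ∧ ¬ p ∣ orderOf g}

variable {G : Type*} [Group G] [Finite G] {p : ℕ} [hp : Fact p.Prime]

theorem exists_reg_lift {H : Type*} [Group H] [Finite H] (f : G →* H) (hH : ¬ p ∣ Nat.card H)
    (g : G) : ∃ x, f x = f g ∧ ¬ p ∣ orderOf x := by
  obtain ⟨m, h1, h2⟩ := Nat.chineseRemainder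
    (((Nat.Prime.coprime_iff_not_dvd hp.out).2 hH).pow_left ((orderOf g).factorization p)) 0 1
  refine ⟨g ^ m, ?_, fun e => Nat.not_dvd_ordCompl hp.out (orderOf_pos g).ne' (e.trans ?_)⟩
  · rw [map_pow, pow_eq_pow_of_modEq h2 pow_card_eq_one', pow_one]
  · obtain ⟨c, rfl⟩ := (Nat.modEq_zero_iff_dvd).1 h1
    rw [orderOf_dvd_iff_pow_eq_one, ← pow_mul, mul_right_comm, Nat.ordProj_mul_ordCompl_eq_self,
      pow_mul, pow_orderOf_eq_one, one_pow]

/-- Classes of a `p'`-quotient, with extra classes inside the kernel. -/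
theorem k_add_le {H : Type*} [Group H] [Finite H] (f : G →* H) (hf : Function.Surjective f)
    (hH : ¬ p ∣ Nat.card H) {ι : Type} [Finite ι] (x : ι → G) (h1 : ∀ i, x i ≠ 1)
    (h2 : ∀ i, f (x i) = 1) (h3 : ∀ i, ¬ p ∣ orderOf (x i))
    (h4 : ∀ i j, IsConj (x i) (x j) → i = j) :
    Nat.card (ConjClasses H) + Nat.card ι ≤ kp p G := by
  classical
  have h5 : ∀ c : ConjClasses H, ∃ g : G, ConjClasses.mk (f g) = c ∧ ¬ p ∣ orderOf g ∧
      (f g = 1 → g = 1) := fun c => by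
    obtain ⟨y, rfl⟩ := ConjClasses.exists_rep c
    by_cases hy : y = 1
    · exact ⟨1, by rw [hy, map_one], by rw [orderOf_one]; exact hp.out.not_dvd_one, fun _ => rfl⟩
    obtain ⟨g, rfl⟩ := hf y
    obtain ⟨z, hz, hz'⟩ := exists_reg_lift f hH g
    exact ⟨z, by rw [hz], hz', fun e => absurd (hz ▸ e) hy⟩
  choose s s1 s2 s3 using h5
  have h6 : ∀ c i, ¬ IsConj (s c) (x i) := fun c i e => by
    have h7 := f.map_isConj e
    rw [h2, isConj_one_left] at h7
    rw [s3 c h7, isConj_one_right] at e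
    exact h1 i e
  rw [← Nat.card_sum]
  refine Nat.card_le_card_of_injective (Sum.elim (fun c => ⟨.mk (s c), _, rfl, s2 c⟩)
    fun i => ⟨.mk (x i), _, rfl, h3 i⟩) ?_
  rintro (a | a) (b | b) e <;> replace e := ConjClasses.mk_eq_mk_iff_isConj.1 (congrArg Subtype.val e)
  · rw [← s1 a, ← s1 b, ConjClasses.mk_eq_mk_iff_isConj.2 (f.map_isConj e)]
  · exact absurd e (h6 a b)
  · exact absurd e.symm (h6 b a)
  · rw [h4 a b e]

theorem k_le_kp {H : Type*} [Group H] [Finite H] (f : G →* H) (hf : Function.Surjective f)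
    (hH : ¬ p ∣ Nat.card H) : Nat.card (ConjClasses H) ≤ kp p G := by
  simpa using k_add_le f hf hH (ι := Empty) (fun i => i.elim) (fun i => i.elim) (fun i => i.elim)
    (fun i => i.elim) fun i => i.elim

theorem kp_le {V H : Subgroup G} [V.Normal] (hV : IsPGroup p V) (h : IsComplement' V H)
    (hH : ¬ p ∣ Nat.card H) : kp p G ≤ Nat.card (ConjClasses H) := by
  obtain ⟨n, hn⟩ := hV.exists_card_eq
  have := GT.CopAct.isSolvable_of_isPGroup hV
  refine Nat.card_le_card_of_surjective (fun c => ⟨c.map H.subtype, by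
    obtain ⟨y, rfl⟩ := ConjClasses.exists_rep c
    exact ⟨y, rfl, fun e => hH (e.trans (orderOf_dvd_natCard H y.2))⟩⟩) ?_
  rintro ⟨_, g, rfl, hg⟩
  obtain ⟨a, -, ha⟩ := GT.schurZassenhaus_le V (by
    rw [hn, h.symm.index_eq_card]
    exact ((Nat.Prime.coprime_iff_not_dvd hp.out).2 hH).pow_left n) H (zpowers g) h (by
    rw [hn, Nat.card_zpowers]
    exact ((Nat.Prime.coprime_iff_not_dvd hp.out).2 hg).pow_left n) (Or.inl this)
  exact ⟨.mk ⟨a * g * a⁻¹, ha ⟨g, mem_zpowers g, rfl⟩⟩,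
    Subtype.ext (ConjClasses.mk_eq_mk_iff_isConj.2 (isConj_iff.2 ⟨a, rfl⟩).symm)⟩

omit hp in
theorem exists_sq_of_k_le {H : Type*} [Group H] [Finite H] (f : G →* H)
    (hf : Function.Surjective f) (h : Nat.card (ConjClasses G) ≤ Nat.card (ConjClasses H) + 1) :
    ∃ d, Nat.card G = Nat.card H + d ^ 2 := by
  classical
  let φ : IrrCharacter H → IrrCharacter G := fun χ => ⟨_, χ.2.comp_surjective f hf⟩
  have h1 : Function.Injective φ := fun a b e => Subtype.ext (funext fun y => by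
    obtain ⟨x, rfl⟩ := hf y
    exact congrFun (congrArg Subtype.val e) x)
  have h2 := sum_sq_charDegree (G := G)
  rw [← Finset.sum_add_sum_compl (Finset.univ.image φ), Finset.sum_image h1.injOn,
    Finset.sum_congr rfl fun χ _ => show charDegree (φ χ).1 ^ 2 = charDegree χ.1 ^ 2 by
      simp [φ, charDegree], sum_sq_charDegree] at h2
  have h3 : (Finset.univ.image φ)ᶜ.card ≤ 1 := by
    rw [Finset.card_compl, Finset.card_image_of_injective _ h1, Finset.card_univ,
      ← Nat.card_eq_fintype_card, ← Nat.card_eq_fintype_card, card_irr, card_irr]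
    omega
  rcases Finset.card_le_one_iff_subset_singleton.1 h3 with ⟨χ, hχ⟩
  rcases Finset.subset_singleton_iff.1 hχ with e | e
  · exact ⟨0, by rw [← h2, e]; simp⟩
  · exact ⟨_, by rw [← h2, e, Finset.sum_singleton]⟩

omit hp in
theorem elemAb_of_conj {N : Subgroup G} [hN : N.Normal] {q : ℕ} [hq : Fact q.Prime]
    (h0 : q ∣ Nat.card N) (h : ∀ x ∈ N, ∀ y ∈ N, x ≠ 1 → y ≠ 1 → IsConj x y) :
    IsElementaryAbelian q N := by
  obtain ⟨x, hx⟩ := exists_prime_orderOf_dvd_card' q h0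
  rw [← orderOf_coe] at hx
  have hx1 : (x : G) ≠ 1 := fun e => hq.out.one_lt.ne (by rw [← hx, e, orderOf_one])
  have h1 : ∀ y ∈ N, y ^ q = 1 := fun y hy => by
    by_cases e : y = 1
    · rw [e, one_pow]
    · rw [← hx, FG.PC.orderOf_eq_of_isConj (h _ x.2 y hy hx1 e), pow_orderOf_eq_one]
  obtain ⟨z, hz, ho, hc⟩ := exists_central_order (r := q) (A := N)
    (fun y => ⟨1, Subtype.ext (by simpa using h1 y y.2)⟩) fun e => hx1 (mem_bot.1 (e ▸ x.2))
  refine ⟨⟨⟨fun a b => Subtype.ext ?_⟩⟩, h1⟩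
  by_cases e : (b : G) = 1
  · simp [e]
  obtain ⟨c, hc'⟩ := isConj_iff.1 (h z hz b b.2
    (fun e => hq.out.one_lt.ne (by rw [← ho, e, orderOf_one])) e)
  have := hc _ (hN.conj_mem a a.2 c⁻¹)
  rw [coe_mul, coe_mul, ← hc']
  calc _ = c * (c⁻¹ * a * c⁻¹⁻¹ * z) * c⁻¹ := by group
    _ = _ := by rw [this]; group

/-- All non-trivial `p`-elements are conjugate. -/
def OneCl (p : ℕ) (G : Type*) [Group G] : Prop :=
  ∀ x y : G, x ≠ 1 → y ≠ 1 → (∃ k : ℕ, orderOf x = p ^ k) → (∃ k : ℕ, orderOf y = p ^ k) →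
    IsConj x y

theorem OneCl.le (h : OneCl p G) {N : Subgroup G} [hN : N.Normal] (h0 : p ∣ Nat.card N)
    {P : Subgroup G} (hP : IsPGroup p P) : P ≤ N := by
  intro y hy
  by_cases e : y = 1
  · exact e ▸ one_mem N
  obtain ⟨x, hx⟩ := exists_prime_orderOf_dvd_card' p h0
  rw [← orderOf_coe] at hx
  obtain ⟨c, rfl⟩ := isConj_iff.1 (h x y (fun e => hp.out.one_lt.ne (by rw [← hx, e, orderOf_one])) e
    ⟨1, by rw [hx, pow_one]⟩ (by simpa using IsPGroup.iff_orderOf.1 hP ⟨y, hy⟩))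
  exact hN.conj_mem _ x.2 c

theorem OneCl.of_surjective (h : OneCl p G) {H : Type*} [Group H] {f : G →* H}
    (hf : Function.Surjective f) : OneCl p H := fun x y hx hy hx' hy' => by
  obtain ⟨a, rfl, ha⟩ := FG.H96.exists_pElement_lift hf hx'
  obtain ⟨b, rfl, hb⟩ := FG.H96.exists_pElement_lift hf hy'
  exact f.map_isConj (h a b (fun e => hx (by rw [e, map_one])) (fun e => hy (by rw [e, map_one]))
    ha hb)

omit [Finite G] in
theorem exists_rho {V : Subgroup G} [V.Normal] (hV : IsElementaryAbelian p V) :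
    ∃ ρ : G →* (GT.EAV hV ≃ₗ[ZMod p] GT.EAV hV), ∀ g x, (ρ g x).val = g * x.val * g⁻¹ :=
  ⟨((LinearMap.GeneralLinearGroup.generalLinearEquiv (ZMod p) _).toMonoidHom.comp
    (GT.eaRep hV (H := ⊤) le_normalizer_of_normal).toHomUnits).comp topEquiv.symm.toMonoidHom,
    fun _ _ => rfl⟩

theorem nonempty_affine {V H : Subgroup G} [V.Normal] (hV : IsElementaryAbelian p V)
    (hc : centralizer (V : Set G) ≤ V) (h : IsComplement' V H) (h1 : Nat.card V = p)
    (h2 : Nat.card H = p - 1) : Nonempty (G ≃* affineGroup (ZMod p)) := by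
  have : FaithfulSMul G (G ⧸ H) := ⟨fun {a b} hab => by
    have h2 : H.normalCore = ⊥ := by
      refine (h.disjoint.mono_right H.normalCore_le).symm.eq_bot_of_le (le_trans ?_ hc)
      exact le_centralizer_iff.1 (commutator_eq_bot_iff_le_centralizer.1 (eq_bot_iff.2
        ((commutator_le_inf _ _).trans (h.disjoint.mono_right H.normalCore_le).le_bot)))
    rw [normalCore_eq_ker] at h2
    exact (MonoidHom.ker_eq_bot_iff _).1 h2 (Equiv.ext hab)⟩
  have := FG.DG.isPretransitive_of (X := G ⧸ H) V fun x y => by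
    obtain ⟨x, rfl⟩ := QuotientGroup.mk_surjective x
    obtain ⟨y, rfl⟩ := QuotientGroup.mk_surjective y
    obtain ⟨⟨a, e⟩, rfl⟩ := h.2 x
    obtain ⟨⟨b, f⟩, rfl⟩ := h.2 y
    refine ⟨_, (b * a⁻¹).2, QuotientGroup.eq.2 ?_⟩
    simpa [mul_assoc] using H.mul_mem (H.inv_mem e.2) f.2
  obtain ⟨W, _, _, e, ρ, he, hρ, -, -⟩ := exists_affine_coord hV ((1 : G) : G ⧸ H)
  have : Finite W := Finite.of_equiv _ e
  have h3 : finrank (ZMod p) W = 1 := by
    have h3 := card_eq_pow (p := p) (V := W)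
    rw [← Nat.card_congr e, ← index_eq_card, h.index_eq_card, h1] at h3
    exact Nat.pow_right_injective hp.out.two_le (h3.symm.trans (pow_one p).symm)
  let f : W ≃ₗ[ZMod p] ZMod p := LinearEquiv.ofFinrankEq W (ZMod p) (by rw [h3, finrank_self])
  let ψ : G →* Equiv.Perm (ZMod p) :=
    (Equiv.permCongrHom (e.trans f.toEquiv)).toMonoidHom.comp (MulAction.toPermHom G _)
  have h4 : Function.Injective ψ := (Equiv.permCongrHom _).injective.comp MulAction.toPerm_injective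
  have h5 : ψ.range ≤ affineGroup (ZMod p) := by
    rintro _ ⟨g, rfl⟩
    refine ⟨Units.mk0 (f (ρ g (f.symm 1))) (by simp), f (e (g • ((1 : G) : G ⧸ H))), fun x => ?_⟩
    change f (e (g • e.symm (f.symm x))) = _
    rw [hρ, e.apply_symm_apply, map_add, Units.val_mk0, mul_comm, ← smul_eq_mul, ← map_smul,
      ← map_smul, ← map_smul, smul_eq_mul, mul_one]
  have h6 := eq_of_le_of_card_ge h5 (by
    rw [FG.DG.card_affine, Nat.card_zmod, ← Nat.card_congr (MonoidHom.ofInjective h4).toEquiv,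
      ← h.card_mul_card, h1, h2])
  exact ⟨(MonoidHom.ofInjective h4).trans (MulEquiv.subgroupCongr h6)⟩

theorem core (hs : IsPSolvable p G) (hd : p ∣ Nat.card G) (h : OneCl p G)
    (hO : pPrimeCore p G = ⊥) : ∃ V H : Subgroup G, V.Normal ∧ IsElementaryAbelian p V ∧
      IsComplement' V H ∧ ¬ p ∣ Nat.card H ∧ (p ≤ Nat.card (ConjClasses H) ∨
        (Nat.card (ConjClasses H) = p - 1 ∧ Nonempty (G ≃* affineGroup (ZMod p))) ∨
        p = 11 ∧ Nat.card V = 121 ∧ IsFrobeniusComplement H ∧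
          Nonempty (H ≃* Matrix.SpecialLinearGroup (Fin 2) (ZMod 5))) := by
  have hc := hs.centralizer_pCore_le hO
  have hpV := GT.isPGroup_pCore (G := G) p
  have := GT.pCore_characteristic (G := G) (p := p)
  generalize pCore p G = V at hc hpV this
  have h0 : V ≠ ⊥ := fun e => by
    rw [e, centralizer_eq_top_iff_subset.2 (by simp), top_le_iff] at hc
    rw [← card_top (G := G), ← hc, card_bot] at hd
    exact hp.out.not_dvd_one hd
  have h1 : p ∣ Nat.card V := by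
    obtain ⟨x, hx, ho, -⟩ := exists_central_order hpV h0
    exact ho.symm.dvd.trans (orderOf_dvd_natCard V hx)
  have h2 : ∀ x ∈ V, ∀ y ∈ V, x ≠ 1 → y ≠ 1 → IsConj x y := fun x hx y hy a b =>
    h x y a b (by simpa using IsPGroup.iff_orderOf.1 hpV ⟨x, hx⟩)
      (by simpa using IsPGroup.iff_orderOf.1 hpV ⟨y, hy⟩)
  have hV := elemAb_of_conj h1 h2
  obtain ⟨P⟩ : Nonempty (Sylow p G) := inferInstance
  have h3 : ¬ p ∣ V.index := fun e =>
    P.not_dvd_index (e.trans (index_dvd_of_le (h.le h1 P.isPGroup')))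
  obtain ⟨n, hn⟩ := hpV.exists_card_eq
  obtain ⟨H, hH⟩ := exists_right_complement'_of_coprime (N := V)
    (hn ▸ ((Nat.Prime.coprime_iff_not_dvd hp.out).2 h3).pow_left n)
  rw [hH.symm.index_eq_card] at h3
  refine ⟨V, H, inferInstance, hV, hH, h3, ?_⟩
  obtain ⟨ρ, hρ⟩ := exists_rho hV
  have hinj : Function.Injective (ρ.comp H.subtype) := (injective_iff_map_eq_one _).2 fun g hg =>
    Subtype.ext (disjoint_def.1 hH.disjoint (hc fun v hv => (mul_inv_eq_iff_eq_mul.1
      ((hρ g (GT.EAV.mk hV v hv)).symm.trans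
        (congrArg GT.EAV.val (DFunLike.congr_fun hg _)))).symm) g.2)
  have : Nontrivial (GT.EAV hV) := (nontrivial_iff_ne_bot V).2 h0
  rcases k_lower hinj h3 (fun x y hx hy => by
    obtain ⟨g, hg⟩ := isConj_iff.1 (h2 _ x.val_mem _ y.val_mem (mt GT.EAV.val_eq_one_iff.1 hx)
      (mt GT.EAV.val_eq_one_iff.1 hy))
    obtain ⟨⟨a, s⟩, rfl⟩ := hH.2 g
    refine ⟨s, GT.EAV.ext ((hρ s x).trans ?_)⟩
    have h3 := hV.comm a.2 (Normal.conj_mem inferInstance _ x.val_mem s)
    rw [← hg]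
    calc _ = (a : G) * ((s : G) * x.val * (s : G)⁻¹) * (a : G)⁻¹ := by rw [h3]; group
      _ = _ := by simp [mul_assoc]) with a | ⟨a1, a2, a3⟩ | ⟨a1, a2, a3, a4⟩
  · exact Or.inl a
  · exact Or.inr (Or.inl ⟨a3, nonempty_affine hV hc hH a1 a2⟩)
  · refine Or.inr (Or.inr ⟨a1, a2, isFrobeniusComplement_of_fpf hH h0 (fun e => ?_)
      fun g hg hg1 => eq_bot_iff.2 fun v hv => by_contra fun hv1 => hg1 ?_, a4⟩)
    · have := a3.card
      rw [e, card_bot, a2] at this
      omega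
    · refine congrArg Subtype.val (a3.fpf ⟨g, hg⟩ (GT.EAV.mk hV v hv.1)
        (fun e => hv1 (congrArg GT.EAV.val e)) (GT.EAV.ext ((hρ g _).trans ?_)))
      exact mul_inv_eq_iff_eq_mul.2 (mem_centralizer_singleton_iff.1 hv.2).symm

theorem k_sl : Nat.card (ConjClasses (Matrix.SpecialLinearGroup (Fin 2) (ZMod 5))) = 9 :=
  have : Fact (Nat.Prime 5) := ⟨Nat.prime_five⟩
  S2325.result (F := ZMod 5) (by rw [ZMod.card]; decide)

end Cfsg.Agent.Ch.KT
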