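import Mathlib
import Cfsg.Agent.Ch.RealChar
import Cfsg.Agent.Ch.Gallagher

/-!
# Odd multiplicities and Frobenius–Schur indicators; counting linear characters
-/

set_option autoImplicit false
open Cfsg ComplexConjugate Matrix

namespace Cfsg.Agent.Ch.RC

variable {G : Type*} [Group G] {H : Type*} [Group H]

/-- A real irreducible character whose pull-back along `f` contains the trivial character an odd
number of times has Frobenius–Schur indicator `1`. -/
theorem fsInd_eq_one_of_odd_fixed [Fintype G] [Fintype H] {χ : G → ℂ} (h : IsIrrCharacter G χ)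
    (hr : ∀ g, (χ g).im = 0) (f : H →* G) {m : ℕ}
    (hm : classInner (fun x => χ (f x)) (fun _ => 1) = m) (hodd : Odd m) : fsInd χ = 1 := by
  classical
  refine (fsInd_of_real h hr).resolve_right fun h1 => ?_
  have h0 := FS.classInner_conj_of_real h hr
  obtain ⟨n, ρ, hρ, rfl⟩ := h
  rw [← FS.trace_matHom] at h0 h1
  obtain ⟨⟨M, hM0, hM⟩, h2⟩ := FS.forms_matrix _ h0
  have hT : Mᵀ = -M := by rw [h2 M hM, h1, neg_one_smul]
  have hdet := FS.det_ne_zero_of_invariant ρ hM0 hM
  let σ : Representation ℂ H (Fin n → ℂ) := ρ.comp f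
  have : Invertible (Nat.card H : ℂ) := invertibleOfNonzero (natCard_ne_zero H)
  have hW : Module.finrank ℂ σ.invariants = m := by
    have := Representation.card_inv_mul_sum_char_eq_finrank σ
    rw [classInner_one_right] at hm
    have h3 : (Module.finrank ℂ σ.invariants : ℂ) = m := by rw [← this, ← hm]; rfl
    exact_mod_cast h3
  let b := Module.finBasisOfFinrankEq ℂ σ.invariants hW
  let A : Matrix (Fin m) (Fin m) ℂ := Matrix.of fun i j => (b i).1 ⬝ᵥ (M *ᵥ (b j).1)
  have hA : Aᵀ = -A := by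
    ext i j
    simp only [A, transpose_apply, of_apply, Matrix.neg_apply]
    rw [dotProduct_mulVec, ← mulVec_transpose, hT, neg_mulVec, neg_dotProduct, dotProduct_comm]
  have hA0 : A.det = 0 := by
    have h3 := congrArg Matrix.det hA
    rw [det_transpose, det_neg, Fintype.card_fin, hodd.neg_one_pow] at h3
    linear_combination h3 / 2
  obtain ⟨v, hv0, hv⟩ := exists_mulVec_eq_zero_iff.2 hA0
  let w : σ.invariants := ∑ j, v j • b j
  have hbw : ∀ i, (b i).1 ⬝ᵥ (M *ᵥ w.1) = 0 := by
    intro i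
    have := congrFun hv i
    simp only [A, mulVec, dotProduct, of_apply, Pi.zero_apply] at this
    simp only [w, Submodule.coe_sum, Submodule.coe_smul, mulVec_sum, mulVec_smul, dotProduct_sum,
      dotProduct_smul, smul_eq_mul]
    rw [← this]
    exact Finset.sum_congr rfl fun j _ => mul_comm _ _
  have huw : ∀ u : σ.invariants, u.1 ⬝ᵥ (M *ᵥ w.1) = 0 := by
    intro u
    rw [← b.sum_repr u]
    simp only [Submodule.coe_sum, Submodule.coe_smul, sum_dotProduct, smul_dotProduct, hbw,
      smul_zero, Finset.sum_const_zero]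
  have hinv : ∀ (x : Fin n → ℂ) (y : H), σ y x ⬝ᵥ (M *ᵥ w.1) = x ⬝ᵥ (M *ᵥ w.1) := by
    intro x y
    have e1 : ∀ z, σ y z = FS.matHom ρ (f y) *ᵥ z := fun z => by
      rw [FS.matHom_apply, LinearMap.toMatrix'_mulVec]; rfl
    have e2 : FS.matHom ρ (f y) *ᵥ w.1 = w.1 := by rw [← e1]; exact w.2 y
    conv_lhs => rw [e1, ← e2]
    rw [← hM (f y), mulVec_mulVec, dotProduct_comm, dotProduct_mulVec, ← mulVec_transpose,
      mulVec_mulVec, hM (f y), dotProduct_comm, ← mul_assoc, hM]
  have hMw : M *ᵥ w.1 = 0 := by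
    refine dotProduct_eq_zero_iff.1 fun x => ?_
    rw [dotProduct_comm]
    have h3 := huw ⟨∑ y, σ y x, fun z => by
      rw [map_sum]
      exact Fintype.sum_equiv (Equiv.mulLeft z) _ _ fun y => by
        rw [Equiv.coe_mulLeft, map_mul]; rfl⟩
    simp only [sum_dotProduct, hinv, Finset.sum_const, Finset.card_univ, nsmul_eq_mul,
      mul_eq_zero, Nat.cast_eq_zero, Fintype.card_ne_zero, false_or] at h3
    exact h3
  have hw0 : w = 0 := Subtype.ext (eq_zero_of_mulVec_eq_zero hdet hMw)
  exact hv0 (funext (Fintype.linearIndependent_iff.1 b.linearIndependent v hw0))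

theorem fsInd_prod [Fintype G] [Fintype H] (χ : G → ℂ) (η : H → ℂ) :
    fsInd (fun x : G × H => χ x.1 * η x.2) = fsInd χ * fsInd η := by
  simp only [fsInd_def, Nat.card_prod, Nat.cast_mul, mul_inv, Fintype.sum_prod_type, Prod.fst_mul,
    Prod.snd_mul, ← Finset.sum_mul_sum]
  ring

/-- Real irreducible characters with an odd restriction multiplicity have the same
Frobenius–Schur indicator. -/
theorem fsInd_eq_of_odd_classInner [Fintype G] [Fintype H] {χ : G → ℂ} (h : IsIrrCharacter G χ)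
    (hr : ∀ g, (χ g).im = 0) {η : H → ℂ} (hη : IsIrrCharacter H η) (hηr : ∀ x, (η x).im = 0)
    (f : H →* G) {m : ℕ} (hm : classInner (fun x => χ (f x)) η = m) (hodd : Odd m) :
    fsInd χ = fsInd η := by
  have h1 := fsInd_eq_one_of_odd_fixed (isIrrCharacter_prod h hη)
    (fun x => by simp [hr, hηr]) (f.prod (MonoidHom.id H)) (m := m) (by
      rw [← hm, classInner_def, classInner_def]
      simp [Complex.conj_eq_iff_im.2 (hηr _)]) hodd
  rw [fsInd_prod] at h1
  rcases fsInd_of_real hη hηr with h2 | h2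
  · rw [h2, mul_one] at h1; rw [h1, h2]
  · rw [h2] at h1 ⊢; linear_combination -h1

theorem fsInd_hom_mul [Fintype G] (χ : G → ℂ) {f : G →* ℂˣ} (hf : ∀ g, f (g * g) = 1) :
    fsInd (fun g => f g * χ g) = fsInd χ := by
  simp [fsInd_def, hf]

theorem fsInd_hom_eq_one_iff [Fintype G] {f : G →* ℂˣ} :
    fsInd (fun g => (f g : ℂ)) = 1 ↔ ∀ g, f (g * g) = 1 := by
  refine ⟨fun h g => ?_, fun h => ?_⟩
  · have h1 := (fsInd_ne_zero_iff (isIrrCharacter_monoidHom_units f)).1
      (by rw [h]; exact one_ne_zero) g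
    have h2 := monoidHom_units_mul_conj f g
    rw [Complex.conj_eq_iff_im.2 h1] at h2
    rw [map_mul]
    exact Units.val_injective (by simpa using h2)
  · have := fsInd_hom_mul (fun _ : G => (1 : ℂ)) h
    rw [fsInd_one] at this
    simpa using this

/-- If `η` and its induced character are irreducible and `η` is real, the indicators agree. -/
theorem fsInd_indFun [Fintype G] (I : Subgroup G) [Fintype I] {η : I → ℂ}
    (hη : IsIrrCharacter I η) (hr : ∀ x, (η x).im = 0) (h : IsIrrCharacter G (indFun I η)) :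
    fsInd (indFun I η) = fsInd η := by
  refine fsInd_eq_of_odd_classInner h ?_ hη hr I.subtype (m := 1) ?_ odd_one
  · rw [real_iff_conj, ← indFun_star, real_iff_conj.1 hr]
  · rw [Nat.cast_one, ← h.classInner_self, classInner_indFun_right _ _ h.isClassFunction]
    rfl

/-- Parity of a sum over a set with an involution. -/
theorem exists_fixed_odd {α : Type*} (s : Finset α) (σ : α → α) (hσ : ∀ a, σ (σ a) = a)
    (hs : ∀ a ∈ s, σ a ∈ s) (F : α → ℕ) (hF : ∀ a, F (σ a) = F a) (hodd : Odd (∑ a ∈ s, F a)) :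
    ∃ a ∈ s, σ a = a ∧ Odd (F a) := by
  classical
  by_contra hcon
  push Not at hcon
  have h : ∑ a ∈ s, (F a : ZMod 2) = 0 := by
    refine Finset.sum_involution (fun a _ => σ a) (fun a _ => ?_) (fun a ha h0 h1 => ?_)
      (fun a ha => hs a ha) (fun a _ => hσ a)
    · rw [hF, ← two_mul]; exact mul_eq_zero_of_left rfl _
    · exact h0 ((ZMod.natCast_eq_zero_iff_even).2 (Nat.not_odd_iff_even.1 (hcon a ha h1)))
  rw [← Nat.cast_sum, ZMod.natCast_eq_zero_iff_even] at h
  exact Nat.not_odd_iff_even.2 h hodd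

theorem card_hom_trivial_le [Finite G] (I : Subgroup G) :
    Nat.card {f : G →* ℂˣ // ∀ x ∈ I, f x = 1} ≤ I.index := by
  let K := I ⊔ commutator G
  have : K.Normal := Subgroup.Normal.of_commutator_le G le_sup_right
  have hK : ∀ f : {f : G →* ℂˣ // ∀ x ∈ I, f x = 1}, K ≤ f.1.ker := fun f =>
    sup_le (fun x hx => f.2 x hx) (Abelianization.commutator_subset_ker f.1)
  calc _ ≤ Nat.card (G ⧸ K →* ℂˣ) :=
        Nat.card_le_card_of_injective
          (fun f : {f : G →* ℂˣ // ∀ x ∈ I, f x = 1} => QuotientGroup.lift K f.1 (hK f))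
          fun f g h => Subtype.ext (MonoidHom.ext fun x => DFunLike.congr_fun h (x : G ⧸ K))
    _ = (commutator (G ⧸ K)).index := card_monoidHom_units _
    _ ≤ Nat.card (G ⧸ K) := Nat.le_of_dvd Nat.card_pos (Subgroup.index_dvd_card _)
    _ ≤ I.index := Nat.le_of_dvd (Nat.pos_of_ne_zero Subgroup.index_ne_zero_of_finite)
        (Subgroup.index_dvd_of_le le_sup_left)

/-- Restriction of linear characters to `I` has fibres of size at most `[G : I]`. -/
theorem card_hom_le_index_mul [Finite G] (I : Subgroup G) {S : (G →* ℂˣ) → Prop}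
    {T : (I →* ℂˣ) → Prop} (h : ∀ f, S f → T (f.comp I.subtype)) :
    Nat.card {f // S f} ≤ I.index * Nat.card {f // T f} := by
  classical
  have := Fintype.ofFinite (G →* ℂˣ)
  have := Fintype.ofFinite (I →* ℂˣ)
  rw [Nat.card_eq_fintype_card, Nat.card_eq_fintype_card, Fintype.card_subtype,
    Fintype.card_subtype]
  refine Finset.card_le_mul_card_image_of_maps_to (f := fun f => f.comp I.subtype)
    (fun f hf => ?_) _ fun l _ => ?_
  · rw [Finset.mem_filter] at hf ⊢
    exact ⟨Finset.mem_univ _, h f hf.2⟩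
  · rcases Finset.eq_empty_or_nonempty (Finset.filter (fun f : G →* ℂˣ => f.comp I.subtype = l)
      (Finset.univ.filter S)) with h0 | ⟨f₀, h0⟩
    · rw [h0]; exact Nat.zero_le _
    refine le_trans ?_ (card_hom_trivial_le I)
    rw [Nat.card_eq_fintype_card, Fintype.card_subtype]
    refine Finset.card_le_card_of_injOn (fun f => f / f₀) (fun f hf => ?_)
      fun f _ g _ hfg => div_left_injective hfg
    simp only [Finset.coe_filter, Finset.mem_univ, true_and, Set.mem_ofPred_eq]
    intro x hx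
    have h1 := DFunLike.congr_fun ((Finset.mem_filter.1 hf).2.trans (Finset.mem_filter.1 h0).2.symm)
      ⟨x, hx⟩
    exact div_eq_one.2 h1

/-- If `φ` extends to `ψ` on its inertia group `I`, the characters induced from `l ψ`, with `l`
linear and trivial on `N`, are irreducible and distinct. -/
theorem indFun_hom_mul [Fintype G] {N : Subgroup G} [N.Normal] {φ : N → ℂ}
    (hφ : IsIrrCharacter N φ) {I : Subgroup G} (hI : I = inertia N φ) (hNI : N ≤ I) {ψ : I → ℂ}
    (hψ : IsIrrCharacter I ψ) (hext : ∀ n : N, ψ ⟨n, hNI n.2⟩ = φ n) :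
    (∀ l : I →* ℂˣ, (∀ n : N, l ⟨n, hNI n.2⟩ = 1) →
      IsIrrCharacter G (indFun I fun x => l x * ψ x) ∧
      charDegree (indFun I fun x => l x * ψ x) = charDegree φ * I.index) ∧
    ∀ l l' : I →* ℂˣ, (∀ n : N, l ⟨n, hNI n.2⟩ = 1) → (∀ n : N, l' ⟨n, hNI n.2⟩ = 1) →
      (indFun I fun x => l x * ψ x) = (indFun I fun x => l' x * ψ x) → l = l' := by
  have := Fintype.ofFinite N
  have := Fintype.ofFinite I
  have hover : ∀ l : I →* ℂˣ, (∀ n : N, l ⟨n, hNI n.2⟩ = 1) →
      classInner (fun n : N => (fun x : I => l x * ψ x) ⟨n, hNI n.2⟩) φ ≠ 0 := by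
    intro l hl
    simp only [hl, hext, Units.val_one, one_mul]
    rw [hφ.classInner_self]; exact one_ne_zero
  refine ⟨fun l hl => ⟨clifford_corr_irr hφ hI hNI (hψ.monoidHom_mul l) (hover l hl), ?_⟩,
    fun l l' hl hl' h => ?_⟩
  · refine charDegree_of_apply_one ?_
    rw [indFun_one, map_one, Units.val_one, one_mul, Nat.cast_mul, hφ.coe_charDegree, ← hext 1,
      mul_comm]
    rfl
  · have h1 := clifford_corr_inj hφ hI hNI (hψ.monoidHom_mul l) (hψ.monoidHom_mul l')
      (hover l hl) (hover l' hl') h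
    have hres : IsIrrCharacter (N.subgroupOf I) fun n : N.subgroupOf I => ψ n := by
      have := isIrrCharacter_subgroupOf hNI hφ
      simpa only [← hext] using this
    have hk : ∀ l : I →* ℂˣ, (∀ n : N, l ⟨n, hNI n.2⟩ = 1) →
        N.subgroupOf I ≤ charKer fun x => (l x : ℂ) := fun l hl x hx => by
      rw [charKer_monoidHom_units]
      exact hl ⟨x, hx⟩
    exact monoidHom_units_coe_injective (gallagher_inj hψ.isCharacter hres
      (isIrrCharacter_monoidHom_units l) (hk l hl) (isIrrCharacter_monoidHom_units l')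
      (hk l' hl') h1)

theorem hom_eq_one_of_perfect {N I : Subgroup G} (hN : ⁅N, N⁆ = N) (hNI : N ≤ I) (l : I →* ℂˣ)
    (n : N) : l ⟨n, hNI n.2⟩ = 1 := by
  have h1 : ⁅N, N⁆ ≤ l.ker.map I.subtype := by
    rw [Subgroup.commutator_le]
    intro a ha b hb
    refine ⟨⟨a, hNI ha⟩ * ⟨b, hNI hb⟩ * (⟨a, hNI ha⟩ : I)⁻¹ * (⟨b, hNI hb⟩ : I)⁻¹, ?_, rfl⟩
    rw [SetLike.mem_coe, MonoidHom.mem_ker, map_mul, map_mul, map_mul, map_inv, map_inv,
      mul_inv_cancel_comm, mul_inv_cancel]
  obtain ⟨y, hy, h⟩ := h1 (hN.ge n.2)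
  rw [show (⟨n, hNI n.2⟩ : I) = y from Subtype.ext h.symm]
  exact hy

theorem eq_inertia_of_forall {N : Subgroup G} [hN : N.Normal] {φ : N → ℂ} {I : Subgroup G}
    (hI : ∀ g : G, g ∈ I ↔ ∀ n n' : N, (n' : G) = g * (n : G) * g⁻¹ → φ n' = φ n) :
    I = inertia N φ :=
  eq_inertia fun g => (hI g).trans
    ⟨fun h n => h n _ rfl, fun h n n' e => by rw [← h n]; congr 1; exact Subtype.ext e⟩

end Cfsg.Agent.Ch.RC
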