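import Mathlib
import Cfsg.Agent.Ch.RelGlaub

/-!
# The relative Glauberman correspondence

A `p`-group `S` normalizes `K` and `N ⊴ K`, `K / N` is a `p'`-group and `C / N = C_{K / N}(S)`.
Then `χ ↦` the unique `S`-invariant constituent of `χ_C` of multiplicity prime to `p` is a
bijection `Irr_S(K) → Irr_S(C)` (`rcorr_of_rel`).
-/

set_option autoImplicit false

namespace Cfsg.Agent.Ch.RG

open Cfsg Glb
open scoped ComplexConjugate

theorem sum_modEq_of_unique {P X : Type*} [Group P] [MulAction P X] [Fintype X] {p : ℕ}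
    [Fact p.Prime] (hP : IsPGroup p P) (f : X → ℕ) (hf : ∀ (s : P) x, f (s • x) = f x)
    {x₀ : X} (h0 : ∀ s : P, s • x₀ = x₀) (h : ∀ x, (∀ s : P, s • x = x) → x ≠ x₀ → p ∣ f x) :
    ∑ x, f x ≡ f x₀ [MOD p] := by
  classical
  have h1 : p ∣ ∑ x, (if x = x₀ then 0 else f x) := by
    by_contra h2
    obtain ⟨x, hx, h3⟩ := exists_fixed_not_dvd hP (fun x => if x = x₀ then 0 else f x)
      (fun s x => by
        have : s • x = x₀ ↔ x = x₀ := by rw [smul_eq_iff_eq_inv_smul, h0]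
        simp only [this, hf]) h2
    by_cases hx0 : x = x₀
    · simp [hx0] at h3
    · simp only [hx0, if_false] at h3
      exact h3 (h x hx hx0)
  have h2 : ∑ x, f x = (∑ x, (if x = x₀ then 0 else f x)) + f x₀ := by
    rw [← Finset.sum_ite_eq' Finset.univ x₀ f |>.trans (if_pos (Finset.mem_univ _)),
      ← Finset.sum_add_distrib]
    exact Finset.sum_congr rfl fun x _ => by split_ifs <;> simp
  rw [h2]
  simpa using ((Nat.modEq_zero_iff_dvd).mpr h1).add_right (f x₀)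

variable {Γ : Type*} [Group Γ] [Finite Γ]

/-- The conjugate of an irreducible character by an element of the normalizer. -/
def cjI {K : Subgroup Γ} {x : Γ} (hx : x ∈ Subgroup.normalizer (K : Set Γ)) (χ : IrrCharacter K) :
    IrrCharacter K := ⟨fun k => (χ : K → ℂ) (cj hx k), χ.2.comp_mulEquiv _⟩

/-- The complex conjugate of an irreducible character. -/
def ccI {K : Type*} [Group K] [Finite K] (χ : IrrCharacter K) : IrrCharacter K :=
  ⟨fun k => conj ((χ : K → ℂ) k), χ.2.complexConj⟩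

theorem mlt_cjI {C K : Subgroup Γ} (h : C ≤ K) {x : Γ} (hK : x ∈ Subgroup.normalizer (K : Set Γ))
    (hC : x ∈ Subgroup.normalizer (C : Set Γ)) (χ : IrrCharacter K) (η : IrrCharacter C) :
    mlt h (cjI hK χ) (cjI hC η) = mlt h χ η := by
  have := Fintype.ofFinite C
  apply Nat.cast_injective (R := ℂ)
  rw [← mlt_spec, ← mlt_spec]
  exact classInner_res_cj h hK hC _ _

theorem mlt_ccI {C K : Subgroup Γ} (h : C ≤ K) (χ : IrrCharacter K) (η : IrrCharacter C) :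
    mlt h (ccI χ) (ccI η) = mlt h χ η := by
  have := Fintype.ofFinite C
  apply Nat.cast_injective (R := ℂ)
  have h1 := congrArg conj (mlt_spec h χ η)
  rw [← mlt_spec, ← map_natCast conj, ← h1]
  simp [classInner, ccI]

omit [Finite Γ] in
theorem cjI_eq_of_inv {S K : Subgroup Γ} {χ : IrrCharacter K} (h : Inv S (χ : K → ℂ)) {x : Γ}
    (hx : x ∈ S) (hK : x ∈ Subgroup.normalizer (K : Set Γ)) : cjI hK χ = χ :=
  Subtype.ext (h.cj_eq hx hK)

omit [Finite Γ] in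
theorem fixed_iff {S K : Subgroup Γ} (hS : S ≤ Subgroup.normalizer (K : Set Γ))
    {χ : IrrCharacter K} : (∀ s : S, (irrAction hS).smul s χ = χ) ↔ Inv S (χ : K → ℂ) :=
  ⟨inv_of_irrAction_fixed hS, fun h s => cjI_eq_of_inv h s⁻¹.2 _⟩

theorem sum_irr_modEq {p : ℕ} (hp : p.Prime) {S K : Subgroup Γ} (hS : IsPGroup p S)
    (hSK : S ≤ Subgroup.normalizer (K : Set Γ)) (f : IrrCharacter K → ℕ)
    (hf : ∀ x (hx : x ∈ S) χ, f (cjI (hSK hx) χ) = f χ) {χ₀ : IrrCharacter K}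
    (h0 : Inv S (χ₀ : K → ℂ)) (h : ∀ χ : IrrCharacter K, Inv S (χ : K → ℂ) → χ ≠ χ₀ → p ∣ f χ) :
    ∑ χ, f χ ≡ f χ₀ [MOD p] := by
  have := Fact.mk hp
  let := irrAction hSK
  exact sum_modEq_of_unique hS f (fun s χ => hf _ s⁻¹.2 χ) ((fixed_iff hSK).mpr h0)
    fun χ hχ => h χ ((fixed_iff hSK).mp hχ)

theorem exists_inv_not_dvd {p : ℕ} (hp : p.Prime) {S K : Subgroup Γ} (hS : IsPGroup p S)
    (hSK : S ≤ Subgroup.normalizer (K : Set Γ)) (f : IrrCharacter K → ℕ)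
    (hf : ∀ x (hx : x ∈ S) χ, f (cjI (hSK hx) χ) = f χ) (h : ¬ p ∣ ∑ χ, f χ) :
    ∃ χ : IrrCharacter K, Inv S (χ : K → ℂ) ∧ ¬ p ∣ f χ := by
  have := Fact.mk hp
  let := irrAction hSK
  obtain ⟨χ, h1, h2⟩ := exists_fixed_not_dvd hS f (fun s χ => hf _ s⁻¹.2 χ) h
  exact ⟨χ, (fixed_iff hSK).mp h1, h2⟩

theorem mlt_trans {C D K : Subgroup Γ} (h : C ≤ D) (h' : D ≤ K) (χ : IrrCharacter K)
    (ξ : IrrCharacter C) : mlt (h.trans h') χ ξ = ∑ η, mlt h' χ η * mlt h η ξ := by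
  have := Fintype.ofFinite C
  have := Fintype.ofFinite D
  apply Nat.cast_injective (R := ℂ)
  have hs := (isCharacter_res_of_le h' χ.isCharacter).isClassFunction.eq_sum_irr
  have h2 : (fun c : C => (χ : K → ℂ) ⟨c, h' (h c.2)⟩) =
      ∑ η : IrrCharacter D, (mlt h' χ η : ℂ) • fun c : C => (η : D → ℂ) ⟨c, h c.2⟩ := by
    ext c
    simpa [mlt_spec] using congrFun hs ⟨c, h c.2⟩
  rw [← mlt_spec, h2, classInner_sum_left]
  simp only [classInner_smul_left, mlt_spec, Nat.cast_sum, Nat.cast_mul]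

theorem charDegree_eq_sum_mlt {C K : Subgroup Γ} (h : C ≤ K) (χ : IrrCharacter K) :
    charDegree (χ : K → ℂ) = ∑ ξ, mlt h χ ξ * charDegree (ξ : C → ℂ) := by
  have := Fintype.ofFinite C
  apply Nat.cast_injective (R := ℂ)
  have hs := congrFun (isCharacter_res_of_le h χ.isCharacter).isClassFunction.eq_sum_irr 1
  simp only [Nat.cast_sum, Nat.cast_mul, IsCharacter.coe_charDegree (IrrCharacter.isCharacter _)]
  simp only [mlt_spec, Finset.sum_apply, Pi.smul_apply, smul_eq_mul] at hs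
  exact hs

theorem mlt_refl (K : Subgroup Γ) (χ η : IrrCharacter K) [Decidable (χ = η)] :
    mlt (le_refl K) χ η = if χ = η then 1 else 0 := by
  have := Fintype.ofFinite K
  apply Nat.cast_injective (R := ℂ)
  rw [← mlt_spec]
  split_ifs with h
  · subst h; simpa using χ.2.classInner_self
  · simpa using χ.2.classInner_eq_zero η.2 fun h' => h (Subtype.ext h')

variable {p : ℕ} {S T C D K : Subgroup Γ}

theorem rcorr_refl (hp : p.Prime) (S K : Subgroup Γ) : RCorr p S (le_refl K) := by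
  classical
  have key : ∀ χ η : IrrCharacter K, ¬ p ∣ mlt (le_refl K) χ η ↔ χ = η := fun χ η => by
    rw [mlt_refl]
    split_ifs with h <;> simp [h, hp.ne_one]
  refine ⟨fun χ hχ => ⟨χ, hχ, (key _ _).mpr rfl⟩, fun χ η η' _ _ _ h h' => ?_,
    fun χ η _ _ h => ?_, fun χ χ' η _ _ _ h h' => ?_, fun χ hχ => ⟨χ, hχ, (key _ _).mpr rfl⟩⟩
  · rw [← (key _ _).mp h, ← (key _ _).mp h']
  · rw [mlt_refl, if_pos ((key _ _).mp h)]; simp
  · rw [(key _ _).mp h, (key _ _).mp h']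

theorem RCorr.dvd_of_ne {h : C ≤ K} (H : RCorr p S h) {χ : IrrCharacter K}
    {η η' : IrrCharacter C} (hχ : Inv S (χ : K → ℂ)) (hη : Inv S (η : C → ℂ))
    (hη' : Inv S (η' : C → ℂ)) (h1 : ¬ p ∣ mlt h χ η) (hne : η' ≠ η) : p ∣ mlt h χ η' := by
  by_contra h2
  exact hne (H.uniq χ η' η hχ hη' hη h2 h1)

theorem RCorr.up (hp : p.Prime) {h : C ≤ K} (H : RCorr p T h) (hS : IsPGroup p S) (hTS : T ≤ S)
    (hSK : S ≤ Subgroup.normalizer (K : Set Γ)) (hSC : S ≤ Subgroup.normalizer (C : Set Γ)) :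
    RCorr p S h := by
  have hT : IsPGroup p T := hS.to_le hTS
  refine ⟨fun χ hχ => ?_, fun χ η η' h1 h2 h3 => H.uniq χ η η' (h1.mono hTS) (h2.mono hTS)
    (h3.mono hTS), fun χ η h1 h2 => H.sq χ η (h1.mono hTS) (h2.mono hTS),
    fun χ η η' h1 h2 h3 => H.inj χ η η' (h1.mono hTS) (h2.mono hTS) (h3.mono hTS), fun η hη => ?_⟩
  · obtain ⟨η, hη, h1⟩ := H.ex χ (hχ.mono hTS)
    have hf : ∀ x (hx : x ∈ S) η, mlt h χ (cjI (hSC hx) η) = mlt h χ η := fun x hx η => by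
      rw [← mlt_cjI h (hSK hx) (hSC hx) χ η, cjI_eq_of_inv hχ hx]
    refine exists_inv_not_dvd hp hS hSC (mlt h χ) hf fun h2 => h1 ?_
    exact ((sum_irr_modEq hp hT (hTS.trans hSC) (mlt h χ) (fun x hx => hf x (hTS hx)) hη
      fun η' hη' => H.dvd_of_ne (hχ.mono hTS) hη hη' h1).dvd_iff dvd_rfl).mp h2
  · obtain ⟨χ, hχ, h1⟩ := H.surj η (hη.mono hTS)
    have hf : ∀ x (hx : x ∈ S) χ, mlt h (cjI (hSK hx) χ) η = mlt h χ η := fun x hx χ => by
      rw [← mlt_cjI h (hSK hx) (hSC hx) χ η, cjI_eq_of_inv hη hx]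
    refine exists_inv_not_dvd hp hS hSK (mlt h · η) hf fun h2 => h1 ?_
    refine ((sum_irr_modEq hp hT (hTS.trans hSK) (mlt h · η) (fun x hx => hf x (hTS hx)) hχ
      fun χ' hχ' hne => ?_).dvd_iff dvd_rfl).mp h2
    by_contra h3
    exact hne (H.inj χ' χ η hχ' hχ (hη.mono hTS) h3 h1)

theorem RCorr.trans (hp : p.Prime) {h : C ≤ D} {h' : D ≤ K} (H : RCorr p S h) (H' : RCorr p S h')
    (hS : IsPGroup p S) (hSK : S ≤ Subgroup.normalizer (K : Set Γ))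
    (hSD : S ≤ Subgroup.normalizer (D : Set Γ)) (hSC : S ≤ Subgroup.normalizer (C : Set Γ)) :
    RCorr p S (h.trans h') := by
  have key : ∀ (χ : IrrCharacter K) (η : IrrCharacter D) (ξ : IrrCharacter C),
      Inv S (χ : K → ℂ) → Inv S (η : D → ℂ) → Inv S (ξ : C → ℂ) → ¬ p ∣ mlt h' χ η →
      mlt (h.trans h') χ ξ ≡ mlt h' χ η * mlt h η ξ [MOD p] := by
    intro χ η ξ hχ hη hξ h1
    rw [mlt_trans h h']
    refine sum_irr_modEq hp hS hSD (fun η => mlt h' χ η * mlt h η ξ) (fun x hx η => ?_) hη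
      fun η' hη' hne => (H'.dvd_of_ne hχ hη hη' h1 hne).mul_right _
    rw [← mlt_cjI h (hSD hx) (hSC hx) η ξ, cjI_eq_of_inv hξ hx,
      ← mlt_cjI h' (hSK hx) (hSD hx) χ η, cjI_eq_of_inv hχ hx]
  have key2 : ∀ (χ : IrrCharacter K) (η : IrrCharacter D) (ξ : IrrCharacter C),
      Inv S (χ : K → ℂ) → Inv S (η : D → ℂ) → Inv S (ξ : C → ℂ) → ¬ p ∣ mlt h' χ η →
      (p ∣ mlt (h.trans h') χ ξ ↔ p ∣ mlt h η ξ) := by
    intro χ η ξ hχ hη hξ h1
    rw [(key χ η ξ hχ hη hξ h1).dvd_iff dvd_rfl, hp.dvd_mul, or_iff_right h1]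
  refine ⟨fun χ hχ => ?_, fun χ ξ ξ' hχ hξ hξ' h1 h2 => ?_, fun χ ξ hχ hξ h1 => ?_,
    fun χ χ' ξ hχ hχ' hξ h1 h2 => ?_, fun ξ hξ => ?_⟩
  · obtain ⟨η, hη, h1⟩ := H'.ex χ hχ
    obtain ⟨ξ, hξ, h2⟩ := H.ex η hη
    exact ⟨ξ, hξ, by rwa [key2 χ η ξ hχ hη hξ h1]⟩
  · obtain ⟨η, hη, h3⟩ := H'.ex χ hχ
    rw [key2 χ η _ hχ hη ‹_› h3] at h1 h2
    exact H.uniq η ξ ξ' hη hξ hξ' h1 h2
  · obtain ⟨η, hη, h3⟩ := H'.ex χ hχ
    rw [key2 χ η _ hχ hη hξ h3] at h1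
    rw [(ZMod.natCast_eq_natCast_iff _ _ _).mpr (key χ η ξ hχ hη hξ h3), Nat.cast_mul, mul_pow,
      H'.sq χ η hχ hη h3, H.sq η ξ hη hξ h1, mul_one]
  · obtain ⟨η, hη, h3⟩ := H'.ex χ hχ
    obtain ⟨η', hη', h4⟩ := H'.ex χ' hχ'
    rw [key2 χ η _ hχ hη hξ h3] at h1
    rw [key2 χ' η' _ hχ' hη' hξ h4] at h2
    obtain rfl := H.inj η η' ξ hη hη' hξ h1 h2
    exact H'.inj χ χ' η hχ hχ' hη h3 h4
  · obtain ⟨η, hη, h1⟩ := H.surj ξ hξ
    obtain ⟨χ, hχ, h2⟩ := H'.surj η hη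
    exact ⟨χ, hχ, by rwa [key2 χ η ξ hχ hη hξ h2]⟩

theorem RCorr.charDegree_modEq (hp : p.Prime) {h : C ≤ K} (H : RCorr p S h) (hS : IsPGroup p S)
    (hSK : S ≤ Subgroup.normalizer (K : Set Γ)) (hSC : S ≤ Subgroup.normalizer (C : Set Γ))
    {χ : IrrCharacter K} {ξ : IrrCharacter C} (hχ : Inv S (χ : K → ℂ)) (hξ : Inv S (ξ : C → ℂ))
    (h1 : ¬ p ∣ mlt h χ ξ) :
    charDegree (χ : K → ℂ) ≡ mlt h χ ξ * charDegree (ξ : C → ℂ) [MOD p] := by
  rw [charDegree_eq_sum_mlt h]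
  refine sum_irr_modEq hp hS hSC (fun ξ => mlt h χ ξ * charDegree (ξ : C → ℂ)) (fun x hx η => ?_) hξ
    fun η' hη' hne => (H.dvd_of_ne hχ hξ hη' h1 hne).mul_right _
  rw [← mlt_cjI h (hSK hx) (hSC hx) χ η, cjI_eq_of_inv hχ hx]
  congr 1
  exact charDegree_congr (by simp [cjI])

theorem RCorr.charDegree_eq_or (hp : p.Prime) {h : C ≤ K} (H : RCorr p S h) (hS : IsPGroup p S)
    (hSK : S ≤ Subgroup.normalizer (K : Set Γ)) (hSC : S ≤ Subgroup.normalizer (C : Set Γ))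
    {χ : IrrCharacter K} {ξ : IrrCharacter C} (hχ : Inv S (χ : K → ℂ)) (hξ : Inv S (ξ : C → ℂ))
    (h1 : ¬ p ∣ mlt h χ ξ) :
    (charDegree (ξ : C → ℂ) : ZMod p) = charDegree (χ : K → ℂ) ∨
      (charDegree (ξ : C → ℂ) : ZMod p) = -charDegree (χ : K → ℂ) := by
  have := Fact.mk hp
  rw [(ZMod.natCast_eq_natCast_iff _ _ _).mpr (H.charDegree_modEq hp hS hSK hSC hχ hξ h1),
    Nat.cast_mul]
  rcases sq_eq_one_iff.mp (H.sq χ ξ hχ hξ h1) with h2 | h2 <;> simp [h2]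

/-- The elements of `K` commuting with `s` modulo `N`. -/
def relFix {N K : Subgroup Γ} (hKN : K ≤ Subgroup.normalizer (N : Set Γ)) (s : Γ) : Subgroup Γ where
  carrier := {k | k ∈ K ∧ s * k * s⁻¹ * k⁻¹ ∈ N}
  one_mem' := ⟨one_mem _, by simp⟩
  mul_mem' := by
    rintro a b ⟨ha, ha'⟩ ⟨hb, hb'⟩
    refine ⟨mul_mem ha hb, ?_⟩
    convert mul_mem ha' ((Subgroup.mem_normalizer_iff.mp (hKN ha) _).mp hb') using 1
    group
  inv_mem' := by
    rintro a ⟨ha, ha'⟩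
    refine ⟨inv_mem ha, ?_⟩
    convert (Subgroup.mem_normalizer_iff.mp (hKN (inv_mem ha)) _).mp (inv_mem ha') using 1
    group

theorem fx_relFix {N K : Subgroup Γ} (hKN : K ≤ Subgroup.normalizer (N : Set Γ)) {s : Γ}
    (hsN : s ∈ Subgroup.normalizer (N : Set Γ)) (hsK : s ∈ Subgroup.normalizer (K : Set Γ))
    (hcop : (N.relIndex K).Coprime (orderOf s)) : Fx K (relFix hKN s) s := by
  refine ⟨fun _ h => h.1, hsK, Subgroup.mem_normalizer_fintype fun k hk =>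
    ⟨(Subgroup.mem_normalizer_iff.mp hsK _).mp hk.1, ?_⟩, fun j hj k hk d hd d' hd' h => ⟨hk, ?_⟩⟩
  · convert (Subgroup.mem_normalizer_iff.mp hsN _).mp hk.2 using 1
    group
  · obtain ⟨u, hu⟩ := exists_pow_eq_self_of_coprime (Nat.Coprime.mul_left hj hcop)
    have hn : (N.subgroupOf K).Normal := Subgroup.normal_subgroupOf_of_le_normalizer hKN
    let π := QuotientGroup.mk' (N.subgroupOf (Subgroup.normalizer (N : Set Γ)))
    have hπ : ∀ x, π x = 1 ↔ (x : Γ) ∈ N := fun x => QuotientGroup.eq_one_iff x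
    have key : ∀ d (hd : d ∈ relFix hKN s),
        (π ⟨d, hKN hd.1⟩ * π ⟨s, hsN⟩ ^ j) ^ (N.relIndex K * u) = π ⟨s, hsN⟩ := by
      intro d hd
      have h1 : Commute (π ⟨s, hsN⟩) (π ⟨d, hKN hd.1⟩) := by
        rw [← commutatorElement_eq_one_iff_commute, ← map_commutatorElement, hπ]
        exact hd.2
      have h2 : π ⟨d, hKN hd.1⟩ ^ N.relIndex K = 1 := by
        rw [← map_pow, hπ]
        exact (N.subgroupOf K).pow_index_mem ⟨d, hd.1⟩
      rw [(h1.symm.pow_right j).mul_pow, pow_mul, h2, one_pow, one_mul, ← pow_mul, ← mul_assoc,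
        pow_mul, ← map_pow, ← map_pow]
      exact congrArg π (Subtype.ext hu)
    have h1 : π ⟨k, hKN hk⟩ * (π ⟨d, hKN hd.1⟩ * π ⟨s, hsN⟩ ^ j) * (π ⟨k, hKN hk⟩)⁻¹ =
        π ⟨d', hKN hd'.1⟩ * π ⟨s, hsN⟩ ^ j := by
      simp only [← map_pow, ← map_mul, ← map_inv]
      exact congrArg π (Subtype.ext h)
    have h2 := congrArg (· ^ (N.relIndex K * u)) h1
    simp only [conj_pow, key d hd, key d' hd'] at h2
    refine (hπ (⟨s, hsN⟩ * ⟨k, hKN hk⟩ * ⟨s, hsN⟩⁻¹ * ⟨k, hKN hk⟩⁻¹)).mp ?_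
    simp only [map_mul, map_inv]
    nth_rewrite 1 [← h2]
    group

/-- The relative Glauberman correspondence. -/
theorem rcorr_of_rel (hp : p.Prime) (hS : IsPGroup p S) {N : Subgroup Γ}
    (hSN : S ≤ Subgroup.normalizer (N : Set Γ)) (hNK : N ≤ K)
    (hKN : K ≤ Subgroup.normalizer (N : Set Γ)) (hSK : S ≤ Subgroup.normalizer (K : Set Γ))
    (hidx : ¬ p ∣ N.relIndex K) (hC : ∀ k, k ∈ C ↔ k ∈ K ∧ ∀ x ∈ S, x * k * x⁻¹ * k⁻¹ ∈ N)
    (h : C ≤ K) : RCorr p S h := by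
  have := Fact.mk hp
  have hSC : S ≤ Subgroup.normalizer (C : Set Γ) := fun x hx =>
    Subgroup.mem_normalizer_fintype fun k hk => (hC _).mpr
      ⟨(Subgroup.mem_normalizer_iff.mp (hSK hx) _).mp (h hk), fun y hy => by
        convert (Subgroup.mem_normalizer_iff.mp (hSN hx) _).mp (((hC k).mp hk).2 (x⁻¹ * y * x)
          (mul_mem (mul_mem (inv_mem hx) hy) hx)) using 1
        group⟩
  induction hn : Nat.card K using Nat.strong_induction_on generalizing K with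
  | _ n ih =>
  let S₀ : Subgroup S :=
    { carrier := {x | ∀ k ∈ K, (x : Γ) * k * (x : Γ)⁻¹ * k⁻¹ ∈ N}
      one_mem' := fun k _ => by simp
      mul_mem' := fun {a b} ha hb k hk => by
        convert mul_mem ((Subgroup.mem_normalizer_iff.mp (hSN a.2) _).mp (hb k hk)) (ha k hk) using 1
        simp only [Subgroup.coe_mul]
        group
      inv_mem' := fun {a} ha k hk => by
        convert (Subgroup.mem_normalizer_iff.mp (hSN a⁻¹.2) _).mp (inv_mem (ha k hk)) using 1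
        simp only [Subgroup.coe_inv]
        group }
  have hn0 : S₀.Normal := ⟨fun x hx y k hk => by
    convert (Subgroup.mem_normalizer_iff.mp (hSN y.2) _).mp (hx ((y : Γ)⁻¹ * k * y)
      (by simpa using (Subgroup.mem_normalizer_iff.mp (hSK y⁻¹.2) _).mp hk)) using 1
    simp only [Subgroup.coe_mul, Subgroup.coe_inv]
    group⟩
  by_cases htop : S₀ = ⊤
  · obtain rfl : C = K := le_antisymm h fun k hk =>
      (hC k).mpr ⟨hk, fun x hx => (htop.ge (Subgroup.mem_top ⟨x, hx⟩)) k hk⟩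
    exact rcorr_refl hp S C
  have := QuotientGroup.nontrivial_iff.mpr htop
  have := (hS.to_quotient S₀).center_nontrivial
  obtain ⟨⟨z, hz⟩, hz1⟩ := exists_ne (1 : Subgroup.center (S ⧸ S₀))
  obtain ⟨s, rfl⟩ := QuotientGroup.mk_surjective z
  have hs0 : s ∉ S₀ := fun h => hz1 (Subtype.ext ((QuotientGroup.eq_one_iff s).mpr h))
  obtain ⟨m, hm⟩ := hS s
  have hm' : (s : Γ) ^ p ^ m = 1 := congrArg Subtype.val hm
  have hF := fx_relFix hKN (hSN s.2) (hSK s.2) (Nat.Coprime.coprime_dvd_right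
    (orderOf_dvd_of_pow_eq_one hm') (((hp.coprime_iff_not_dvd).mpr hidx).symm.pow_right m))
  have hSD : S ≤ Subgroup.normalizer (relFix hKN s : Set Γ) := fun x hx =>
    Subgroup.mem_normalizer_fintype fun k hk =>
      ⟨(Subgroup.mem_normalizer_iff.mp (hSK hx) _).mp hk.1, by
        have h1 : s⁻¹ * (⟨x, hx⟩⁻¹ * s * ⟨x, hx⟩) ∈ S₀ := by
          rw [← QuotientGroup.eq, QuotientGroup.mk_mul, QuotientGroup.mk_mul,
            Subgroup.mem_center_iff.mp hz, ← QuotientGroup.mk_mul, ← QuotientGroup.mk_mul]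
          simp
        convert (Subgroup.mem_normalizer_iff.mp (hSN hx) _).mp (mul_mem
          ((Subgroup.mem_normalizer_iff.mp (hSN s.2) _).mp (h1 k hk.1)) hk.2) using 1
        simp only [Subgroup.coe_mul, Subgroup.coe_inv]
        group⟩
  have hND : N ≤ relFix hKN s := fun k hk =>
    ⟨hNK hk, mul_mem ((Subgroup.mem_normalizer_iff.mp (hSN s.2) _).mp hk) (inv_mem hk)⟩
  have hCD : C ≤ relFix hKN s := fun k hk => ⟨h hk, ((hC k).mp hk).2 s s.2⟩
  have hlt : relFix hKN s < K := lt_of_le_of_ne hF.le fun h1 => hs0 fun k hk => (h1.ge hk).2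
  have hcard : Nat.card (relFix hKN (s : Γ)) < n :=
    hn ▸ Set.Finite.card_lt_card (Set.toFinite _) hlt
  refine (ih _ hcard hND (hF.le.trans hKN) hSD (fun h1 => hidx ?_) (fun k => ?_) hCD rfl).trans hp
    ((hF.rcorr hp hm').up hp hS (Subgroup.zpowers_le.mpr s.2) hSK hSD) hS hSK hSD hSC
  · rw [← Subgroup.relIndex_mul_relIndex N _ K hND hF.le]
    exact h1.mul_right _
  · exact ⟨fun hk => ⟨hCD hk, ((hC k).mp hk).2⟩, fun hk => (hC k).mpr ⟨hk.1.1, hk.2⟩⟩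

end Cfsg.Agent.Ch.RG
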