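import Mathlib
import Cfsg.Agent.Ch.SpcH6

/-!
Generated tables.
-/

set_option autoImplicit false
set_option maxRecDepth 100000

namespace Cfsg.Agent.Ch.Spc

theorem dH6_search : search dH6.r PH6 14 (subOuter dH6.r dH6.Gm dH6.v0) [] = true := by
  decide +kernel

end Cfsg.Agent.Ch.Spc
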