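import Mathlib
import Cfsg.Agent.Ch.SpcNum
import Cfsg.Agent.Ch.SpcH6S

/-!
The group of order 648.
-/

set_option autoImplicit false
set_option maxRecDepth 100000

namespace Cfsg.Agent.Ch.Spc

theorem H6_arith {g k A B C D : ℤ} (hk : 0 ≤ k) (hg : g = 648 * (1 + 27 * k)) (hA : 27 ∣ A - 8)
    (hB : 27 ∣ B - 8) (h1 : g * (B + 2 * A) = 243 * A * B) (h2 : g * (C + D) = 108 * C * D)
    (h3 : C + D = A + 2 * B) (h4 : A ^ 2 + B ^ 2 ≤ g) (h5 : C ^ 2 + D ^ 2 ≤ g) : k = 0 := by
  have hg0 : 0 < g := by omega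
  have a1 : C + D ≤ 54 := by
    by_contra h
    nlinarith [sq_nonneg (C - D)]
  have a2 : -54 ≤ C + D := by
    by_contra h
    nlinarith [sq_nonneg (C + D)]
  have a3 : B + 2 * A ≤ 122 := by
    by_contra h
    nlinarith [sq_nonneg (A - B)]
  have a4 : -122 ≤ B + 2 * A := by
    by_contra h
    nlinarith [sq_nonneg (A + B)]
  obtain ⟨a, ha⟩ := hA
  obtain ⟨b, hb⟩ := hB
  obtain rfl : A = 8 + 27 * a := by omega
  obtain rfl : B = 8 + 27 * b := by omega
  have b1 : -5 ≤ a := by omega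
  have b2 : a ≤ 5 := by omega
  have b3 : -5 ≤ b := by omega
  have b4 : b ≤ 5 := by omega
  subst hg
  interval_cases a <;> interval_cases b <;> omega

variable {G : Type*} [Group G] [Finite G]

theorem H6_top {φ : SD V3 EH6 →* G} (hφ : Emb φ) : φ.range = ⊤ := by
  have := Fintype.ofFinite G
  obtain ⟨W, hW, ⟨p⟩⟩ := hφ.exists_pack dH6_ok dH6_search
  simp only [PH6, List.mem_cons, List.not_mem_nil, or_false] at hW
  have hg : (0 : ℚ) < Nat.card G := by exact_mod_cast Nat.card_pos
  rcases hW with rfl | rfl | rfl | rfl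
  · have l4 := p.lin 4 11 (0) [0, 0, -1, 0, 1, 0, 1, 0, 0, 0, 0] (by decide +kernel)
    simp only [Finset.sum_range_succ, Finset.sum_range_zero, co, List.getD_cons_zero, List.getD_cons_succ] at l4
    have l5 := p.lin 5 11 (0) [0, 0, 1, 0, 0, 0, 0, 1, 0, 0, 0] (by decide +kernel)
    simp only [Finset.sum_range_succ, Finset.sum_range_zero, co, List.getD_cons_zero, List.getD_cons_succ] at l5
    have l6 := p.lin 6 11 (0) [0, 0, 1, 0, 1, 0, 1, -1, 0, 0, 0] (by decide +kernel)
    simp only [Finset.sum_range_succ, Finset.sum_range_zero, co, List.getD_cons_zero, List.getD_cons_succ] at l6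
    have := p.D_ne (t := 2) (by decide)
    omega
  · have l4 := p.lin 4 12 (0) [0, 0, 0, -1, 1, 0, 1, 0, 0, 0, 0, 0] (by decide +kernel)
    simp only [Finset.sum_range_succ, Finset.sum_range_zero, co, List.getD_cons_zero, List.getD_cons_succ] at l4
    have l5 := p.lin 5 12 (0) [0, 0, 0, 1, 0, 0, 0, 0, 1, 0, 0, 0] (by decide +kernel)
    simp only [Finset.sum_range_succ, Finset.sum_range_zero, co, List.getD_cons_zero, List.getD_cons_succ] at l5
    have l6 := p.lin 6 12 (0) [0, 0, 0, 1, 1, 0, 1, 0, -1, 0, 0, 0] (by decide +kernel)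
    simp only [Finset.sum_range_succ, Finset.sum_range_zero, co, List.getD_cons_zero, List.getD_cons_succ] at l6
    have := p.D_ne (t := 3) (by decide)
    omega
  · have e10_10_13 := p.eqn V3_three dH6_b10 dH6_b10 dH6_b13 dH6_t10_10_13 12 [16, -16, 8, -27, 27, 0, 27, 27, 27, 0, 4, -32] (by decide +kernel)
    simp only [Finset.sum_range_succ, Finset.sum_range_zero, co, List.getD_cons_zero, List.getD_cons_succ] at e10_10_13
    push_cast at e10_10_13
    have e10_12_12 := p.eqn V3_three dH6_b10 dH6_b12 dH6_b12 dH6_t10_12_12 12 [16, -16, 8, 0, 27, 0, 27, 0, 0, -27, 4, 4] (by decide +kernel)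
    simp only [Finset.sum_range_succ, Finset.sum_range_zero, co, List.getD_cons_zero, List.getD_cons_succ] at e10_12_12
    push_cast at e10_12_12
    have e10_12_13 := p.eqn V3_three dH6_b10 dH6_b12 dH6_b13 dH6_t10_12_13 12 [-8, 8, 8, 0, 27, 0, 27, 0, 0, 0, -8, -8] (by decide +kernel)
    simp only [Finset.sum_range_succ, Finset.sum_range_zero, co, List.getD_cons_zero, List.getD_cons_succ] at e10_12_13
    push_cast at e10_12_13
    have e10_13_13 := p.eqn V3_three dH6_b10 dH6_b13 dH6_b13 dH6_t10_13_13 12 [4, -4, 8, 27, 27, 0, 27, -27, -27, 0, 16, 16] (by decide +kernel)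
    simp only [Finset.sum_range_succ, Finset.sum_range_zero, co, List.getD_cons_zero, List.getD_cons_succ] at e10_13_13
    push_cast at e10_13_13
    have e12_12_13 := p.eqn V3_three dH6_b12 dH6_b12 dH6_b13 dH6_t12_12_13 12 [4, -4, 8, 0, 27, -27, 27, 0, 0, 0, 16, -2] (by decide +kernel)
    simp only [Finset.sum_range_succ, Finset.sum_range_zero, co, List.getD_cons_zero, List.getD_cons_succ] at e12_12_13
    push_cast at e12_12_13
    have e12_13_13 := p.eqn V3_three dH6_b12 dH6_b13 dH6_b13 dH6_t12_13_13 12 [-2, 2, 8, 0, 27, 27, 27, 0, 0, 0, -32, 4] (by decide +kernel)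
    simp only [Finset.sum_range_succ, Finset.sum_range_zero, co, List.getD_cons_zero, List.getD_cons_succ] at e12_13_13
    push_cast at e12_13_13
    have h : (1) * ((Nat.card G : ℚ) / p.D 9) = 0 := by linear_combination (1/81) * e10_10_13 + (-1/27) * e10_12_12 + (-1/27) * e10_12_13 + (1/81) * e10_13_13 + (2/81) * e12_12_13 + (2/81) * e12_13_13
    have h0 : (p.D 9 : ℚ) ≠ 0 := Int.cast_ne_zero.2 (p.D_ne (t := 9) (by decide))
    rw [one_mul, div_eq_zero_iff] at h
    rcases h with h | h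
    · exact absurd h hg.ne'
    · exact absurd h h0
  · have e10_10_12 := p.eqn V3_three dH6_b10 dH6_b10 dH6_b12 dH6_t10_10_12 13 [-32, 32, 8, 0, 27, 0, 27, 0, 0, 1, 0, 0, -32] (by decide +kernel)
    simp only [Finset.sum_range_succ, Finset.sum_range_zero, co, List.getD_cons_zero, List.getD_cons_succ] at e10_10_12
    push_cast at e10_10_12
    have e10_12_12 := p.eqn V3_three dH6_b10 dH6_b12 dH6_b12 dH6_t10_12_12 13 [16, -16, 8, 0, 27, 0, 27, 0, 0, 1, 0, 0, 16] (by decide +kernel)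
    simp only [Finset.sum_range_succ, Finset.sum_range_zero, co, List.getD_cons_zero, List.getD_cons_succ] at e10_12_12
    push_cast at e10_12_12
    have r2 : (1) * ((Nat.card G : ℚ) / p.D 0) + (-1) * ((Nat.card G : ℚ) / p.D 1) + (1) * ((Nat.card G : ℚ) / p.D 12) = -243 := by linear_combination (-1/48) * e10_10_12 + (1/48) * e10_12_12
    have e12_12_13 := p.eqn V3_three dH6_b12 dH6_b12 dH6_b13 dH6_t12_12_13 13 [4, -4, 8, 0, 27, -27, 27, 0, 0, 1, 0, -27, 4] (by decide +kernel)
    simp only [Finset.sum_range_succ, Finset.sum_range_zero, co, List.getD_cons_zero, List.getD_cons_succ] at e12_12_13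
    push_cast at e12_12_13
    have r4 : (1) * ((Nat.card G : ℚ) / p.D 5) + (1) * ((Nat.card G : ℚ) / p.D 11) = -108 := by linear_combination (1/108) * e10_10_12 + (1/36) * e10_12_12 + (-1/27) * e12_12_13
    have l0 := p.lin 0 13 (0) [1, 1, 0, 0, 0, 0, 0, 0, 0, 0, 0, 0, 0] (by decide +kernel)
    simp only [Finset.sum_range_succ, Finset.sum_range_zero, co, List.getD_cons_zero, List.getD_cons_succ] at l0
    have l2 := p.lin 2 13 (1) [0, 1, 0, 0, 1, 1, 0, 0, 0, 0, 0, 0, 0] (by decide +kernel)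
    simp only [Finset.sum_range_succ, Finset.sum_range_zero, co, List.getD_cons_zero, List.getD_cons_succ] at l2
    have l4 := p.lin 4 13 (0) [0, 0, 0, -1, 1, 0, 1, 0, 0, 0, 0, 0, 0] (by decide +kernel)
    simp only [Finset.sum_range_succ, Finset.sum_range_zero, co, List.getD_cons_zero, List.getD_cons_succ] at l4
    have l7 := p.lin 7 13 (0) [0, 1, 0, 0, 0, 0, 1, 0, 0, 1, 0, 1, 0] (by decide +kernel)
    simp only [Finset.sum_range_succ, Finset.sum_range_zero, co, List.getD_cons_zero, List.getD_cons_succ] at l7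
    have l8 := p.lin 8 13 (1) [0, 0, 0, 1, 0, 0, 0, 0, 0, 1, 0, 0, 1] (by decide +kernel)
    simp only [Finset.sum_range_succ, Finset.sum_range_zero, co, List.getD_cons_zero, List.getD_cons_succ] at l8
    have hc := fun t ht => p.cong (fun c => if c = 10 then [4, 8, 0, -3, 6, -3, -3, 0, 4] else if c = 12 then [-2, 2, 3, 0, 0, 0, 0, 3, -2] else [1, -4, -3, 3, 3, 3, 3, -3, 1]) (fun c => if c = 10 then 108 else if c = 12 then 54 else 81) {10, 12, 13}
      (by decide +kernel) (by decide +kernel) 27 [19, 8, 2, 6, 3, 15, 3, 21, 21, 1, 21, 15, 19] (by decide +kernel) (t := t) ht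
    have c1 : (27 : ℤ) ∣ p.D 1 - 8 := hc 1 (by decide)
    have c12 : (27 : ℤ) ∣ p.D 12 - 19 := hc 12 (by decide)
    have hs := p.sq_le
    simp only [List.length_cons, List.length_nil, Finset.sum_range_succ, Finset.sum_range_zero,
      Nat.reduceAdd, zero_add] at hs
    have n1 : (p.D 1 : ℚ) ≠ 0 := Int.cast_ne_zero.2 (p.D_ne (t := 1) (by decide))
    have n12 : (p.D 12 : ℚ) ≠ 0 := Int.cast_ne_zero.2 (p.D_ne (t := 12) (by decide))
    have n5 : (p.D 5 : ℚ) ≠ 0 := Int.cast_ne_zero.2 (p.D_ne (t := 5) (by decide))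
    have n11 : (p.D 11 : ℚ) ≠ 0 := Int.cast_ne_zero.2 (p.D_ne (t := 11) (by decide))
    rw [show p.D 0 = -p.D 1 by omega] at r2
    push_cast at r2
    field_simp at r2 r4
    have r2' : (Nat.card G : ℤ) * (p.D 1 + 2 * -p.D 12) = 243 * -p.D 12 * p.D 1 := by
      apply Int.cast_injective (α := ℚ)
      push_cast
      linear_combination r2
    have r4' : (Nat.card G : ℤ) * (-p.D 5 + -p.D 11) = 108 * -p.D 5 * -p.D 11 := by
      apply Int.cast_injective (α := ℚ)
      push_cast
      linear_combination -r4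
    obtain ⟨k, hk⟩ := hφ.card_eq
    have hV : Fintype.card V3 = 27 := by decide
    have hE : Fintype.card EH6 = 24 := by decide
    refine hφ.range_eq_top ?_
    rw [hV, hE] at hk ⊢
    have := H6_arith (k := k) (by omega) (by omega) (by omega) c1 r2' r4' (by omega)
      (by nlinarith [sq_nonneg (p.D 0), sq_nonneg (p.D 2), sq_nonneg (p.D 3), sq_nonneg (p.D 4), sq_nonneg (p.D 5), sq_nonneg (p.D 6), sq_nonneg (p.D 7), sq_nonneg (p.D 8), sq_nonneg (p.D 9), sq_nonneg (p.D 10), sq_nonneg (p.D 11)])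
      (by nlinarith [sq_nonneg (p.D 0), sq_nonneg (p.D 2), sq_nonneg (p.D 3), sq_nonneg (p.D 4), sq_nonneg (p.D 1), sq_nonneg (p.D 6), sq_nonneg (p.D 7), sq_nonneg (p.D 8), sq_nonneg (p.D 9), sq_nonneg (p.D 10), sq_nonneg (p.D 12)])
    omega

end Cfsg.Agent.Ch.Spc
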