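import Mathlib
import Cfsg.Agent.Ch.SpcExt
import Cfsg.Agent.Ch.QuatSylow

/-!
Exceptional characters of a split extension when only some classes of the normal subgroup are
strongly closed.
-/

set_option autoImplicit false

namespace Cfsg.Agent.Ch.Spc

open scoped ComplexConjugate

variable {G : Type*} [Group G]

theorem mem_of_tri' {H : Subgroup G} {p : G} (hpH : p ∈ H)
    (hti : ∀ g : G, g * p * g⁻¹ ∈ H → g ∈ H) :
    ∀ (n : ℕ) (w : G), Tri p w → w ^ 3 ^ n = 1 → w ∈ H := by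
  intro n
  induction n with
  | zero => intro w _ hw; rw [pow_zero, pow_one] at hw; rw [hw]; exact H.one_mem
  | succ n ih =>
    intro w h hw
    have h3 : w ^ 3 ∈ H := ih _ (h.pow 3) (by rw [← pow_mul, ← pow_succ', hw])
    obtain ⟨h1, h2⟩ := h
    have e : p * (p * w * p⁻¹) * p⁻¹ = (w * (p * w * p⁻¹))⁻¹ := eq_inv_of_mul_eq_one_right h2
    have hb3 : (p * w * p⁻¹) ^ 3 ∈ H := by
      rw [conj_pow]; exact H.mul_mem (H.mul_mem hpH h3) (H.inv_mem hpH)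
    generalize hb : p * w * p⁻¹ = b at h1 e hb3
    have hw1 : (w⁻¹ * b)⁻¹ ∈ H := by
      refine hti _ ?_
      have : (w⁻¹ * b)⁻¹ * p * (w⁻¹ * b)⁻¹⁻¹ = (b ^ 3)⁻¹ * p := by
        calc (w⁻¹ * b)⁻¹ * p * (w⁻¹ * b)⁻¹⁻¹
            = b⁻¹ * w * (p * w * p⁻¹)⁻¹ * (p * b * p⁻¹) * p := by group
          _ = b⁻¹ * (w * b⁻¹) * b⁻¹ * w⁻¹ * p := by rw [hb, e]; group
          _ = b⁻¹ * b⁻¹ * (w * b⁻¹) * w⁻¹ * p := by
            conv_lhs => rw [h1.inv_right.eq]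
            simp only [pow_succ, pow_zero, one_mul, mul_inv_rev, mul_assoc, inv_mul_cancel_left,
          mul_inv_cancel_left, inv_inv, mul_one, inv_mul_cancel, mul_inv_cancel]
          _ = (b ^ 3)⁻¹ * p := by
            rw [h1.inv_right.eq]
            simp only [pow_succ, pow_zero, one_mul, mul_inv_rev, mul_assoc, inv_mul_cancel_left,
          mul_inv_cancel_left, inv_inv, mul_one, inv_mul_cancel, mul_inv_cancel]
      rw [this]
      exact H.mul_mem (H.inv_mem hb3) hpH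
    have hw2 : w⁻¹ ∈ H := by
      refine hti _ ?_
      have : w⁻¹ * p * w⁻¹⁻¹ = w⁻¹ * b * p := by rw [← hb]; group
      rw [this]
      exact H.mul_mem (H.inv_mem_iff.1 hw1) hpH
    exact H.inv_mem_iff.1 hw2

/-- Products of two elements of order three. -/
theorem three' [Finite G] {H T : Subgroup G} (hle : T ≤ H)
    (hn : ∀ h ∈ H, ∀ t ∈ T, h * t * h⁻¹ ∈ T) (hc : ∀ t ∈ T, t ≠ 1 → ∀ g, g * t * g⁻¹ = t → g ∈ H)
    {p q t : G} (hp : p ∈ T) (hp1 : ∀ g : G, g * p * g⁻¹ ∈ H → g ∈ H) (ht : t ∈ T)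
    (ht1 : ∀ g : G, g * t * g⁻¹ ∈ H → g ∈ H) (htq : IsConj t q) (hp3 : p ^ 3 = 1)
    (hq3 : q ^ 3 = 1) (hpq : (p * q) ^ 3 = 1) : q ∈ H ∨ (IsConj p q ∧ IsConj p (p * q)⁻¹) := by
  obtain ⟨w, rfl⟩ : ∃ w, q = w * p := ⟨q * p⁻¹, by group⟩
  have hpi : p⁻¹ = p ^ 2 := by
    rw [inv_eq_iff_mul_eq_one, ← pow_succ', hp3]
  have a1 : w * (p * w * p⁻¹) * (p * (p * w * p⁻¹) * p⁻¹) = 1 := by
    calc _ = (w * p) ^ 3 * (p ^ 3)⁻¹ := by
          simp only [pow_succ, pow_zero, one_mul, mul_inv_rev, mul_assoc, inv_mul_cancel_left,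
          mul_inv_cancel_left, inv_inv, mul_one, inv_mul_cancel, mul_inv_cancel]
      _ = 1 := by rw [hq3, hp3]; group
  have a2 : (p * (p * w * p⁻¹) * p⁻¹) * (p * w * p⁻¹) * w = 1 := by
    calc _ = p * (p * w * p⁻¹ * w * p⁻¹ * w * p⁻¹) * p := by
          simp only [pow_succ, pow_zero, one_mul, mul_inv_rev, mul_assoc, inv_mul_cancel_left,
          mul_inv_cancel_left, inv_inv, mul_one, inv_mul_cancel, mul_inv_cancel]
      _ = p * (p * w * p ^ 2 * w * p ^ 2 * w * p ^ 2) * p := by rw [hpi]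
      _ = p * (p * (w * p)) ^ 3 * p ^ 2 := by
          simp only [pow_succ, pow_zero, one_mul, mul_inv_rev, mul_assoc, inv_mul_cancel_left,
          mul_inv_cancel_left, inv_inv, mul_one, inv_mul_cancel, mul_inv_cancel]
      _ = 1 := by rw [hpq, mul_one, ← pow_succ', hp3]
  have hw : Tri p w := by
    refine ⟨?_, a1⟩
    have e1 := eq_inv_of_mul_eq_one_right a1
    rw [mul_assoc] at a2
    have e2 := eq_inv_of_mul_eq_one_left a2
    exact inv_injective (e1.symm.trans e2)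
  obtain ⟨n, m, hm, hnm⟩ := Nat.exists_eq_pow_mul_and_not_dvd (orderOf_pos w).ne' 3 (by norm_num)
  have hcop : (3 ^ n).Coprime m :=
    Nat.Coprime.pow_left n ((Nat.Prime.coprime_iff_not_dvd Nat.prime_three).2 hm)
  have hm3 : m.Coprime 3 := ((Nat.Prime.coprime_iff_not_dvd Nat.prime_three).2 hm).symm
  obtain ⟨k, hk1, hk2⟩ := Nat.chineseRemainder hcop 1 0
  obtain ⟨j, hj1, hj2⟩ := Nat.chineseRemainder hcop 0 1
  have hkj : w ^ k * w ^ j = w := by
    rw [← pow_add]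
    conv_rhs => rw [← pow_one w]
    rw [pow_eq_pow_iff_modEq, hnm, ← Nat.modEq_and_modEq_iff_modEq_mul hcop]
    exact ⟨hk1.add hj1, hk2.add hj2⟩
  have hk : (w ^ k) ^ 3 ^ n = 1 := by
    rw [← pow_mul, ← orderOf_dvd_iff_pow_eq_one, hnm, mul_comm k]
    exact Nat.mul_dvd_mul_left _ ((Nat.modEq_zero_iff_dvd).1 hk2)
  have hj : (w ^ j) ^ m = 1 := by
    rw [← pow_mul, ← orderOf_dvd_iff_pow_eq_one, hnm]
    exact Nat.mul_dvd_mul_right ((Nat.modEq_zero_iff_dvd).1 hj1) _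
  have hkH : w ^ k ∈ H := mem_of_tri' (hle hp) hp1 n _ (hw.pow k) hk
  have hc' : IsConj (w ^ k * p) (w * p) := by
    have := (hw.pow j).isConj hj hm3 (z := w ^ k) ((Commute.refl w).pow_pow k j)
      (by rw [← conj_pow]; exact hw.1.pow_pow k j)
    rwa [hkj] at this
  by_cases hk0 : w ^ k = 1
  · right
    rw [hk0, one_mul] at hc' hkj
    refine ⟨hc', ?_⟩
    have hwm : w ^ m = 1 := by rw [← hkj, hj]
    have hw' : Tri p (w ^ (orderOf w - 1)) := hw.pow _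
    have e : w ^ (orderOf w - 1) = w⁻¹ := by
      rw [eq_inv_iff_mul_eq_one, ← pow_succ, Nat.sub_add_cancel (orderOf_pos w), pow_orderOf_eq_one]
    rw [e] at hw'
    have := ((hw'.conj hp3).conj hp3).isConj (n := m) (z := 1)
      (by rw [conj_pow, conj_pow, inv_pow, hwm]; group) hm3 (Commute.one_left _) (Commute.one_left _)
    rw [one_mul, one_mul] at this
    convert this using 1
    calc (p * (w * p))⁻¹ = p⁻¹ * w⁻¹ * p⁻¹ := by group
      _ = p ^ 2 * w⁻¹ * p⁻¹ := by rw [← hpi]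
      _ = _ := by
          simp only [pow_succ, pow_zero, one_mul, mul_inv_rev, mul_assoc, inv_mul_cancel_left,
          mul_inv_cancel_left, inv_inv, mul_one, inv_mul_cancel, mul_inv_cancel]
  · left
    obtain ⟨g, hg⟩ := isConj_iff.1 (htq.trans hc'.symm)
    have hy : w ^ k * p ∈ H := H.mul_mem hkH (hle hp)
    have hyT : w ^ k * p ∈ T := by
      rw [← hg] at hy ⊢
      exact hn g (ht1 g hy) t ht
    have hkT : w ^ k ∈ T := (T.mul_mem_cancel_right hp).1 hyT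
    have hwH : w ∈ H := hc _ hkT hk0 w (by
      rw [((Commute.refl w).pow_right k).eq, mul_inv_cancel_right])
    exact H.mul_mem hwH (hle hp)

variable {V E : Type} [AddCommGroup V] [Group E] [DistribMulAction E V] [Fintype V] [Fintype E]

/-- An embedding controlling the fusion in `V`, the elements in `U` being strongly closed. -/
structure EmbW (φ : SD V E →* G) (U : V → Prop) : Prop where
  inj : Function.Injective φ
  three : ∀ v : V, v + v + v = 0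
  tiw : ∀ v w : V, v ≠ 0 → ∀ g : G, g * φ ⟨v, 1⟩ * g⁻¹ = φ ⟨w, 1⟩ → g ∈ φ.range
  ti : ∀ v : V, U v → ∀ g : G, g * φ ⟨v, 1⟩ * g⁻¹ ∈ φ.range → g ∈ φ.range

namespace EmbW

variable {φ : SD V E →* G} {U : V → Prop} (hφ : EmbW φ U)
include hφ

omit [Fintype V] [Fintype E] in
theorem exists_of_mem {u : V} {m : SD V E} {g : G} (hg : g * φ ⟨u, 1⟩ * g⁻¹ = φ m)
    (h : g ∈ φ.range) : ∃ e : E, m = ⟨e • u, 1⟩ := by
  obtain ⟨x, rfl⟩ := h
  refine ⟨x.e, hφ.inj ?_⟩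
  rw [← hg, ← SD.conj_inl, map_mul, map_mul, map_inv]

omit [Fintype V] [Fintype E] in
theorem exists_of_isConj {u : V} (hu : U u) {m : SD V E} (h : IsConj (φ ⟨u, 1⟩) (φ m)) :
    ∃ e : E, m = ⟨e • u, 1⟩ := by
  obtain ⟨g, hg⟩ := isConj_iff.1 h
  exact hφ.exists_of_mem hg (hφ.ti u hu g ⟨m, hg.symm⟩)

omit [Fintype V] [Fintype E] in
theorem exists_of_isConj' {u w : V} (hu : u ≠ 0) (h : IsConj (φ ⟨u, 1⟩) (φ ⟨w, 1⟩)) :
    ∃ e : E, w = e • u := by
  obtain ⟨g, hg⟩ := isConj_iff.1 h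
  obtain ⟨e, he⟩ := hφ.exists_of_mem hg (hφ.tiw u w hu g hg)
  exact ⟨e, congrArg SD.v he⟩

theorem card_centralizer [DecidableEq V] {u : V} (hu : u ≠ 0) :
    Nat.card (Subgroup.centralizer ({φ ⟨u, 1⟩} : Set G)) =
      Fintype.card V * (Finset.univ.filter fun e : E => e • u = u).card := by
  rw [← Fintype.card_subtype, ← Fintype.card_prod, ← Nat.card_eq_fintype_card]
  symm
  refine Nat.card_eq_of_bijective (fun p => ⟨φ ⟨p.1, p.2.1⟩, ?_⟩) ⟨?_, ?_⟩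
  · rw [Subgroup.mem_centralizer_singleton_iff, ← map_mul, ← map_mul]
    congr 1
    ext <;> simp [p.2.2, add_comm]
  · rintro ⟨v, e, he⟩ ⟨w, f, hf⟩ h
    have := hφ.inj (congrArg Subtype.val h)
    simp only [SD.mk.injEq] at this
    simp [this.1, this.2]
  · rintro ⟨g, hg⟩
    rw [Subgroup.mem_centralizer_singleton_iff] at hg
    obtain ⟨x, rfl⟩ := hφ.tiw u u hu g (by rw [hg, mul_inv_cancel_right])
    refine ⟨(x.v, ⟨x.e, ?_⟩), rfl⟩
    rw [← map_mul, ← map_mul] at hg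
    have := congrArg SD.v (hφ.inj hg)
    simp only [SD.mul_v, one_smul] at this
    rw [add_comm u] at this
    exact add_left_cancel this

theorem card_triples [Finite G] [DecidableEq V] {u v w : V}
    (hu : U u) (hv : v ≠ 0) (hw : w ≠ 0) (hwU : U (-w))
    (hne : ¬ ((∃ e : E, e • -w = u) ∧ ∃ e : E, e • -w = v)) :
    Nat.card {p : G × G // IsConj (φ ⟨u, 1⟩) p.1 ∧ IsConj (φ ⟨v, 1⟩) p.2 ∧ p.1 * p.2 = φ ⟨w, 1⟩} =
      (Finset.univ.filter fun x : V => (∃ e : E, x = e • u) ∧ ∃ e : E, w - x = e • v).card := by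
  rw [← Fintype.card_subtype, ← Nat.card_eq_fintype_card]
  have hp3 : ∀ (x : V) (y : G), IsConj (φ ⟨x, 1⟩) y → y ^ 3 = 1 := by
    intro x y h
    obtain ⟨g, rfl⟩ := isConj_iff.1 h
    have : (⟨x, 1⟩ : SD V E) ^ 3 = 1 := by
      ext <;> simp [pow_succ, hφ.three]
    rw [conj_pow, ← map_pow, this]; simp
  symm
  refine Nat.card_eq_of_bijective (fun x => ⟨(φ ⟨x.1, 1⟩, φ ⟨w - x.1, 1⟩), ?_, ?_, ?_⟩) ⟨?_, ?_⟩
  · obtain ⟨e, he⟩ := x.2.1
    simp only [he]; exact Emb.isConj_smul u e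
  · obtain ⟨e, he⟩ := x.2.2
    simp only [he]; exact Emb.isConj_smul v e
  · simp only [← map_mul]
    congr 1
    ext <;> simp
  · intro x y h
    exact Subtype.ext (congrArg SD.v (hφ.inj (congrArg (fun p => p.1.1) h)))
  · rintro ⟨⟨x, y⟩, hx, hy, hxy⟩
    simp only at hx hy hxy
    have hw' : -w ≠ 0 := neg_ne_zero.2 hw
    have e1 : φ ⟨-w, 1⟩ = (φ ⟨w, 1⟩)⁻¹ := by
      rw [← map_inv]; congr 1; ext <;> simp
    have e2 : (φ ⟨-w, 1⟩ * x)⁻¹ = y := by rw [e1, ← hxy]; group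
    have hn : ∀ h ∈ φ.range, ∀ t ∈ (φ.comp SD.inl).range, h * t * h⁻¹ ∈ (φ.comp SD.inl).range := by
      rintro _ ⟨m, rfl⟩ t ht
      obtain ⟨s, rfl⟩ := mem_range_inl.1 ht
      exact mem_range_inl.2 ⟨m.e • s, by rw [← SD.conj_inl, map_mul, map_mul, map_inv]⟩
    have hc : ∀ t ∈ (φ.comp SD.inl).range, t ≠ 1 → ∀ g, g * t * g⁻¹ = t → g ∈ φ.range := by
      intro t ht h1 g hg
      obtain ⟨s, rfl⟩ := mem_range_inl.1 ht
      exact hφ.tiw s s (fun h => h1 (by rw [h]; exact map_one φ)) g hg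
    rcases three' (by rintro _ ⟨s, rfl⟩; exact ⟨_, rfl⟩) hn hc (p := φ ⟨-w, 1⟩) (q := x)
      (t := φ ⟨u, 1⟩) ⟨Multiplicative.ofAdd (-w), rfl⟩
      (hφ.ti _ hwU) ⟨Multiplicative.ofAdd u, rfl⟩ (hφ.ti _ hu) hx (hp3 _ _ (IsConj.refl _))
      (hp3 _ _ hx) (by rw [← inv_inj, ← inv_pow, e2, hp3 _ _ hy, inv_one]) with h | h
    · obtain ⟨m, rfl⟩ := h
      obtain ⟨e, rfl⟩ := hφ.exists_of_isConj hu hx
      have e3 : y = φ ⟨w - e • u, 1⟩ := by
        rw [← e2, ← map_mul, ← map_inv]; congr 1; ext <;> simp [sub_eq_add_neg, add_comm]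
      subst e3
      obtain ⟨f, hf⟩ := hφ.exists_of_isConj' hv hy
      exact ⟨⟨e • u, ⟨e, rfl⟩, f, hf⟩, rfl⟩
    · rw [e2] at h
      obtain ⟨e, he⟩ := hφ.exists_of_isConj' hw' (h.1.trans hx.symm)
      obtain ⟨f, hf⟩ := hφ.exists_of_isConj' hw' (h.2.trans hy.symm)
      exact absurd ⟨⟨e, he.symm⟩, f, hf.symm⟩ hne

theorem range_eq_top [Finite G] (h : Nat.card G = Fintype.card V * Fintype.card E) :
    φ.range = ⊤ := by
  apply Subgroup.eq_top_of_card_eq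
  rw [← Nat.card_congr (MonoidHom.ofInjective hφ.inj).toEquiv, SD.card, h]

variable [Fintype G] {d : Data V E} (hd : d.Ok)

/-- The induced generalized characters. -/
noncomputable def Θ (a : ℕ) : G → ℂ :=
  indFun φ.range fun h => hd.θ a ((MonoidHom.ofInjective hφ.inj).symm h)

theorem isGen (a : ℕ) : IsGeneralizedCharacter G (hφ.Θ hd a) :=
  isGeneralizedCharacter_indFun _
    ((hd.isGen a).comp (MonoidHom.ofInjective hφ.inj).symm.toMonoidHom)

theorem inner_Θ_left (a : ℕ) {χ : G → ℂ} (hχ : IsClassFunction G χ) :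
    classInner (hφ.Θ hd a) χ = classInner (hd.θ a) fun m => χ (φ m) := by
  have := Fintype.ofFinite φ.range
  rw [Θ, classInner_indFun_left _ _ hχ, ← classInner_comp_mulEquiv (MonoidHom.ofInjective hφ.inj)]
  simp only [MulEquiv.symm_apply_apply]
  rfl

omit [Fintype V] [Fintype E] in
theorem ti_special (g : G) (hg : g ∉ φ.range) (t : G) (ht : t ∈ φ '' {m | Special m}) :
    g * t * g⁻¹ ∉ φ '' {m | Special m} := by
  obtain ⟨m, ⟨k, h1, h2⟩, rfl⟩ := ht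
  rintro ⟨m', ⟨j, h3, h4⟩, h⟩
  have ho : ∀ v : V, v ≠ 0 → orderOf (φ ⟨v, 1⟩) = 3 := fun v hv => by
    haveI : Fact (Nat.Prime 3) := ⟨Nat.prime_three⟩
    rw [orderOf_injective φ hφ.inj]
    exact orderOf_eq_prime (by ext <;> simp [pow_succ, hφ.three]) fun h => hv (congrArg SD.v h)
  have e1 : φ ⟨(m ^ k).v, 1⟩ = φ m ^ k := by rw [← map_pow]; exact congrArg φ (SD.ext rfl h1.symm)
  have e2 : φ ⟨(m' ^ j).v, 1⟩ = φ m' ^ j := by
    rw [← map_pow]; exact congrArg φ (SD.ext rfl h3.symm)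
  have h5 : g * φ ⟨(m ^ k).v, 1⟩ * g⁻¹ ∈ Subgroup.zpowers (φ ⟨(m' ^ j).v, 1⟩) := by
    refine Quat.mem_zpowers_of_orderOf_dvd (w := φ m') ?_ (e2 ▸ Subgroup.npow_mem_zpowers _ _) ?_
    · rw [e1, ← conj_pow, ← h]; exact Subgroup.npow_mem_zpowers _ _
    · rw [ho _ h4, ← ho _ h2]
      exact orderOf_dvd_of_pow_eq_one (by rw [conj_pow, pow_orderOf_eq_one]; group)
  obtain ⟨w, hw⟩ := mem_range_inl.1
    ((Subgroup.zpowers_le_of_mem (mem_range_inl.2 ⟨(m' ^ j).v, rfl⟩)) h5)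
  exact hg (hφ.tiw _ w h2 g hw.symm)

omit [Fintype G] in
theorem θ_symm_eq_zero {a : ℕ} (ha : a < d.r) (x : φ.range)
    (hx : (x : G) ∉ φ '' {m | Special m}) :
    hd.θ a ((MonoidHom.ofInjective hφ.inj).symm x) = 0 := by
  obtain ⟨m, rfl⟩ := (MonoidHom.ofInjective hφ.inj).surjective x
  rw [MulEquiv.symm_apply_apply]
  exact hd.θ_eq_zero ha fun hm => hx ⟨m, hm, rfl⟩

theorem inner_Θ {a b : ℕ} (ha : a < d.r) (hb : b < d.r) :
    classInner (hφ.Θ hd a) (hφ.Θ hd b) = en d.Gm a b := by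
  have := Fintype.ofFinite φ.range
  rw [Θ, Θ, TI.classInner_indFun_indFun (φ '' {m | Special m})
    hφ.ti_special _
    (fun h => hd.θ b ((MonoidHom.ofInjective hφ.inj).symm h))
    ((hd.isGen b).isClassFunction.comp (MonoidHom.ofInjective hφ.inj).symm.toMonoidHom)
    (hφ.θ_symm_eq_zero hd ha) (hφ.θ_symm_eq_zero hd hb),
    classInner_comp_mulEquiv (MonoidHom.ofInjective hφ.inj).symm, hd.inner_θ ha hb]

theorem Θ_eq_zero {a : ℕ} (ha : a < d.r) {g : G} (hg : ∀ m, Special m → ¬ IsConj (φ m) g) :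
    hφ.Θ hd a g = 0 := by
  refine TI.indFun_eq_zero _ g fun x h hh => hφ.θ_symm_eq_zero hd ha h ?_
  rintro ⟨m, hm, hm'⟩
  exact hg m hm (isConj_iff.2 ⟨x, by rw [hm', hh]; group⟩)

end EmbW

/-- The exceptional characters. -/
structure PackW [Fintype G] {φ : SD V E →* G} {U : V → Prop} (hφ : EmbW φ U) {d : Data V E} (hd : d.Ok)
    (W : List (List ℤ)) where
  χ : ℕ → IrrCharacter G
  ε : ℕ → ℤ
  D : ℕ → ℤ
  sgn : ∀ t < W.length, ε t = 1 ∨ ε t = -1
  deg : ∀ t, D t = ε t * charDegree (χ t : G → ℂ)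
  ne_one : ∀ t < W.length, χ t ≠ irrOne G
  mult : ∀ t < W.length, ∀ a < d.r, ε t * classInner (hφ.Θ hd a) (χ t) = en W t a
  sum : ∀ F : IrrCharacter G → ℂ,
    (∀ χ : IrrCharacter G, (∀ a < d.r, classInner (hφ.Θ hd a) χ = 0) → F χ = 0) →
    ∑ χ, F χ = F (irrOne G) + ∑ t ∈ Finset.range W.length, F (χ t)
  le : ∀ F : IrrCharacter G → ℕ, F (irrOne G) + ∑ t ∈ Finset.range W.length, F (χ t) ≤ ∑ χ, F χ

theorem EmbW.exists_pack [Fintype G] {φ : SD V E →* G} {U : V → Prop} (hφ : EmbW φ U)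
    {d : Data V E} (hd : d.Ok)
    {P : List (List (List ℤ))} {n : ℕ} (hs : search d.r P n (subOuter d.r d.Gm d.v0) [] = true) :
    ∃ W ∈ P, Nonempty (PackW hφ hd W) := by
  classical
  choose m hm using fun (χ : IrrCharacter G) (a : ℕ) =>
    (hφ.isGen hd a).exists_int_classInner χ.isGeneralizedCharacter
  obtain ⟨W, hW, σ, ε, h1, h2, h3⟩ := exists_pattern m (irrOne G) (G := d.Gm) (v₀ := d.v0)
    (fun a ha b hb => by
      have := (hφ.isGen hd a).isClassFunction.classInner_eq_sum (hφ.Θ hd b)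
      rw [hφ.inner_Θ hd ha hb] at this
      simp only [hm, map_intCast] at this
      exact_mod_cast this.symm)
    (fun a ha => by
      have := hm (irrOne G) a
      rw [coe_irrOne, hφ.inner_Θ_left hd a (fun _ _ => rfl), hd.inner_θ_one ha] at this
      exact_mod_cast this.symm) hd.diag hs
  refine ⟨W, hW, ⟨σ, ε, _, fun t ht => (h1 t ht).2.1, fun _ => rfl, fun t ht => (h1 t ht).1,
    fun t ht a ha => ?_, fun F hF => h2 F fun χ hχ => hF χ fun a ha => ?_, h3⟩⟩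
  · rw [hm]; exact_mod_cast (h1 t ht).2.2 a ha
  · rw [hm, hχ a ha, Int.cast_zero]

namespace PackW

variable [Fintype G] {φ : SD V E →* G} {U : V → Prop} {hφ : EmbW φ U} {d : Data V E} {hd : d.Ok}
  {W : List (List ℤ)} (p : PackW hφ hd W)

theorem sq {t : ℕ} (ht : t < W.length) : (p.ε t : ℂ) * p.ε t = 1 := by
  rcases p.sgn t ht with h | h <;> simp [h]

theorem deg' (t : ℕ) : (p.D t : ℂ) = p.ε t * (p.χ t : G → ℂ) 1 := by
  rw [p.deg, ← (p.χ t).2.coe_charDegree]; push_cast; rfl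

theorem D_ne {t : ℕ} (ht : t < W.length) : p.D t ≠ 0 := by
  have := (p.χ t).2.charDegree_pos
  rw [p.deg]
  rcases p.sgn t ht with h | h <;> rw [h] <;> omega

theorem expand {a : ℕ} (ha : a < d.r) (F : IrrCharacter G → ℂ) :
    ∑ χ : IrrCharacter G, classInner (hφ.Θ hd a) χ * F χ = co d.v0 a * F (irrOne G) +
      ∑ t ∈ Finset.range W.length, en W t a * (p.ε t * F (p.χ t)) := by
  rw [p.sum _ fun χ hχ => by rw [hχ a ha, zero_mul], coe_irrOne,
    hφ.inner_Θ_left hd a (fun _ _ => rfl), hd.inner_θ_one ha]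
  congr 1
  refine Finset.sum_congr rfl fun t ht => ?_
  rw [← p.mult t (Finset.mem_range.1 ht) a ha]
  linear_combination (-(classInner (hφ.Θ hd a) (p.χ t) * F (p.χ t))) * p.sq (Finset.mem_range.1 ht)

theorem rel {a : ℕ} (ha : a < d.r) {g : G} (hg : ∀ m, Special m → ¬ IsConj (φ m) g) :
    co d.v0 a + ∑ t ∈ Finset.range W.length, en W t a * (p.ε t * (p.χ t : G → ℂ) g) = 0 := by
  have := p.expand ha fun χ => (χ : G → ℂ) g
  rw [← (hφ.isGen hd a).isClassFunction.apply_eq_sum_irr, hφ.Θ_eq_zero hd ha hg] at this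
  simpa using this.symm

theorem rel_deg {a : ℕ} (ha : a < d.r) :
    co d.v0 a + ∑ t ∈ Finset.range W.length, en W t a * p.D t = 0 := by
  have := p.rel ha (g := 1) fun m hm h => by
    rw [isConj_one_left, ← map_one φ] at h
    obtain ⟨k, -, h2⟩ := hm
    rw [hφ.inj h, one_pow] at h2
    exact h2 rfl
  simp only [← p.deg'] at this
  exact_mod_cast this

theorem sq_le : 1 + ∑ t ∈ Finset.range W.length, p.D t ^ 2 ≤ Nat.card G := by
  have := p.le fun χ => charDegree (χ : G → ℂ) ^ 2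
  rw [sum_sq_charDegree, coe_irrOne, charDegree_one] at this
  have e : ∀ t ∈ Finset.range W.length, p.D t ^ 2 = (charDegree (p.χ t : G → ℂ) : ℤ) ^ 2 := by
    intro t ht
    rw [p.deg]
    rcases p.sgn t (Finset.mem_range.1 ht) with h | h <;> simp [h]
  rw [Finset.sum_congr rfl e]
  exact_mod_cast this

theorem value {c C : ℕ} {b : List ℤ} (hb : d.BOk c b C) {t : ℕ} (ht : t < W.length) :
    p.ε t * (p.χ t : G → ℂ) (φ (d.rep c)) = vl d.r W b t := by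
  have h := hd.sum_inner hb ((p.χ t).isClassFunction.comp φ)
  have e : (vl d.r W b t : ℂ) = p.ε t * conj ((p.χ t : G → ℂ) (φ (d.rep c))) := by
    rw [← h, vl, Finset.mul_sum]
    push_cast
    refine Finset.sum_congr rfl fun a ha => ?_
    rw [← p.mult t ht a (Finset.mem_range.1 ha),
      hφ.inner_Θ_left hd a (p.χ t).isClassFunction]
    ring
  have := congrArg conj e
  simpa using this.symm

omit p in
theorem value_eq_zero {c C : ℕ} {b : List ℤ} (hb : d.BOk c b C) {χ : IrrCharacter G}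
    (hχ : ∀ a < d.r, classInner (hφ.Θ hd a) χ = 0) : (χ : G → ℂ) (φ (d.rep c)) = 0 := by
  have h := hd.sum_inner hb (χ.isClassFunction.comp φ)
  rw [Finset.sum_eq_zero fun a ha => by
    rw [← hφ.inner_Θ_left hd a χ.isClassFunction, hχ a (Finset.mem_range.1 ha), mul_zero]] at h
  simpa using h.symm


theorem triple [DecidableEq V] [DecidableEq E] 
    {c₁ c₂ c₃ C₁ C₂ C₃ K : ℕ} {b₁ b₂ b₃ : List ℤ} (h₁ : d.BOk c₁ b₁ C₁) (h₂ : d.BOk c₂ b₂ C₂)
    (h₃ : d.BOk c₃ b₃ C₃) (hT : d.TOk c₁ c₂ c₃ K)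
    (u1 : U (d.rep c₁).v) (u3 : U (-(d.rep c₃).v)) :
    (Nat.card G : ℚ) * (1 + ∑ t ∈ Finset.range W.length,
      ((vl d.r W b₁ t * vl d.r W b₂ t * vl d.r W b₃ t : ℤ) : ℚ) / p.D t) = K := by
  obtain ⟨⟨e1, e2, e3⟩, ⟨n1, n2, n3⟩, hne, hK⟩ := hT
  have h := classMult_coeff (φ (d.rep c₁)) (φ (d.rep c₂)) (φ (d.rep c₃))
  rw [p.sum _ fun χ hχ => by rw [value_eq_zero h₁ hχ]; simp] at h
  have e : ∀ t ∈ Finset.range W.length,
      (p.χ t : G → ℂ) (φ (d.rep c₁)) * (p.χ t : G → ℂ) (φ (d.rep c₂)) *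
        conj ((p.χ t : G → ℂ) (φ (d.rep c₃))) / (p.χ t : G → ℂ) 1 =
      ((vl d.r W b₁ t * vl d.r W b₂ t * vl d.r W b₃ t : ℤ) : ℂ) / p.D t := by
    intro t ht
    have ht' := Finset.mem_range.1 ht
    have v3 := congrArg conj (p.value h₃ ht')
    simp only [map_mul, map_intCast] at v3
    push_cast
    rw [← p.value h₁ ht', ← p.value h₂ ht', ← v3, p.deg']
    have := (p.χ t).2.apply_one_ne_zero
    rcases p.sgn t ht' with h | h <;> rw [h] <;> field_simp <;> simp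
  rw [Finset.sum_congr rfl e] at h
  rw [show d.rep c₁ = ⟨(d.rep c₁).v, 1⟩ from SD.ext rfl e1,
    show d.rep c₂ = ⟨(d.rep c₂).v, 1⟩ from SD.ext rfl e2,
    show d.rep c₃ = ⟨(d.rep c₃).v, 1⟩ from SD.ext rfl e3, hφ.card_triples u1 n2 n3 u3 hne] at h
  have a1 := natCard_ne_zero (Subgroup.centralizer ({φ ⟨(d.rep c₁).v, 1⟩} : Set G))
  have a2 := natCard_ne_zero (Subgroup.centralizer ({φ ⟨(d.rep c₂).v, 1⟩} : Set G))
  rw [div_mul_eq_mul_div, eq_div_iff (mul_ne_zero a1 a2), hφ.card_centralizer n1,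
    hφ.card_centralizer n2, ← mul_assoc] at h
  simp only [coe_irrOne, map_one, mul_one, div_one] at h
  rw [hK]
  apply Rat.cast_injective (α := ℂ)
  push_cast at h ⊢
  exact h.symm

/-- The congruence for the degrees; `B` lists coefficient vectors for the classes inside `V`. -/
theorem congr [DecidableEq V] {B : ℕ → List ℤ} {C : ℕ → ℕ} {s : Finset ℕ}
    (hB : ∀ c ∈ s, d.BOk c (B c) (C c)) (hs : ∀ v : V, v ≠ 0 → d.cls ⟨v, 1⟩ ∈ s)
    {t : ℕ} (ht : t < W.length) :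
    (Fintype.card V : ℤ) ∣ p.D t + ∑ c ∈ s,
      ((Finset.univ.filter fun v : V => v ≠ 0 ∧ d.cls ⟨v, 1⟩ = c).card : ℤ) * vl d.r W (B c) t := by
  obtain ⟨n, hn⟩ := Emb.exists_sum_eq (φ := φ) (p.χ t).isCharacter
  refine ⟨p.ε t * n, ?_⟩
  apply Int.cast_injective (α := ℂ)
  push_cast
  rw [mul_left_comm, ← hn, ← Finset.add_sum_erase _ _ (Finset.mem_univ (0 : V)), mul_add, p.deg',
    show (⟨0, 1⟩ : SD V E) = 1 from rfl, map_one, Finset.mul_sum,
    ← Finset.sum_fiberwise_of_maps_to (g := fun v : V => d.cls ⟨v, 1⟩)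
      (fun v hv => hs v (Finset.ne_of_mem_erase hv))]
  congr 1
  refine Finset.sum_congr rfl fun c hc => ?_
  rw [← nsmul_eq_mul, ← Finset.sum_const]
  refine Finset.sum_congr (by ext v; simp) fun v hv => ?_
  rw [← p.value (hB c hc) ht, ← (Finset.mem_filter.1 hv).2]
  conv_rhs => rw [hd.eq_conj ⟨v, 1⟩, map_mul, map_mul, map_inv, (p.χ t).isClassFunction]


theorem eqn [DecidableEq V] [DecidableEq E] 
    {c₁ c₂ c₃ C₁ C₂ C₃ K : ℕ} {b₁ b₂ b₃ : List ℤ} (h₁ : d.BOk c₁ b₁ C₁) (h₂ : d.BOk c₂ b₂ C₂)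
    (h₃ : d.BOk c₃ b₃ C₃) (hT : d.TOk c₁ c₂ c₃ K)
    (u1 : U (d.rep c₁).v) (u3 : U (-(d.rep c₃).v)) (n : ℕ) (c : List ℤ)
    (hc : W.length = n ∧ ∀ t < n, vl d.r W b₁ t * vl d.r W b₂ t * vl d.r W b₃ t = co c t) :
    (Nat.card G : ℚ) + ∑ t ∈ Finset.range n, (co c t : ℚ) * (Nat.card G / p.D t) = K := by
  rw [← p.triple h₁ h₂ h₃ hT u1 u3, mul_add, mul_one, Finset.mul_sum, hc.1]
  congr 1
  refine Finset.sum_congr rfl fun t ht => ?_
  rw [hc.2 t (Finset.mem_range.1 ht)]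
  ring

theorem lin (a n : ℕ) (c₀ : ℤ) (c : List ℤ)
    (hc : a < d.r ∧ W.length = n ∧ co d.v0 a = c₀ ∧ ∀ t < n, en W t a = co c t) :
    c₀ + ∑ t ∈ Finset.range n, co c t * p.D t = 0 := by
  rw [← p.rel_deg hc.1, hc.2.1, hc.2.2.1]
  congr 1
  exact Finset.sum_congr rfl fun t ht => by rw [hc.2.2.2 t (Finset.mem_range.1 ht)]

theorem cong [DecidableEq V] (B : ℕ → List ℤ) (C : ℕ → ℕ) (s : Finset ℕ)
    (hB : ∀ c ∈ s, d.BOk c (B c) (C c)) (hs : ∀ v : V, v ≠ 0 → d.cls ⟨v, 1⟩ ∈ s) (q : ℕ) (c : List ℤ)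
    (hc : Fintype.card V = q ∧ ∀ t < W.length, (q : ℤ) ∣ co c t + ∑ c ∈ s,
      ((Finset.univ.filter fun v : V => v ≠ 0 ∧ d.cls ⟨v, 1⟩ = c).card : ℤ) * vl d.r W (B c) t)
    {t : ℕ} (ht : t < W.length) : (q : ℤ) ∣ p.D t - co c t := by
  have h1 := p.congr hB hs ht
  rw [hc.1] at h1
  have := dvd_sub h1 (hc.2 t ht)
  simpa using this

end PackW

end Cfsg.Agent.Ch.Spc
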