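import Mathlib
import Cfsg.Agent.Ch.SpcW
import Cfsg.Agent.Ch.SpcH6S
import Cfsg.Agent.S3702

/-!
The group of order 648 containing the centralizers of the elements of its normal subgroup of
order 27.
-/

set_option autoImplicit false
set_option maxRecDepth 100000

namespace Cfsg.Agent.Ch.Spc

theorem H6_arith' {g k A B C D : ℤ} (hg0 : 0 < g) (hg : g = 648 * k) (hA : 27 ∣ A - 8)
    (hB : 27 ∣ B - 8) (h1 : g * (B + 2 * A) = 243 * A * B) (h2 : g * (C + D) = 108 * C * D)
    (h3 : C + D = A + 2 * B) (h4 : A ^ 2 + B ^ 2 ≤ g) (h5 : C ^ 2 + D ^ 2 ≤ g) : k = 1 := by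
  have a1 : C + D ≤ 54 := by
    by_contra h
    nlinarith [sq_nonneg (C - D)]
  have a2 : -54 ≤ C + D := by
    by_contra h
    nlinarith [sq_nonneg (C + D)]
  have a3 : B + 2 * A ≤ 122 := by
    by_contra h
    nlinarith [sq_nonneg (A - B)]
  have a4 : -122 ≤ B + 2 * A := by
    by_contra h
    nlinarith [sq_nonneg (A + B)]
  obtain ⟨a, ha⟩ := hA
  obtain ⟨b, hb⟩ := hB
  obtain rfl : A = 8 + 27 * a := by omega
  obtain rfl : B = 8 + 27 * b := by omega
  have b1 : -5 ≤ a := by omega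
  have b2 : a ≤ 5 := by omega
  have b3 : -5 ≤ b := by omega
  have b4 : b ≤ 5 := by omega
  subst hg
  have key : k = 1 ∨ (k = 19 ∧ C + D = -30) := by
    interval_cases a <;> interval_cases b <;> omega
  refine key.resolve_right ?_
  rintro ⟨rfl, h⟩
  obtain rfl : D = -30 - C := by omega
  have h6 : (C + 15) ^ 2 = 3645 := by nlinarith
  have h7 : C ≤ 50 := by nlinarith
  have h8 : -80 ≤ C := by nlinarith
  interval_cases C <;> omega

theorem dH6_t10_13_12 : dH6.TOk 10 13 12 17496 := by decide +kernel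

theorem dH6_t12_13_12 : dH6.TOk 12 13 12 17496 := by decide +kernel

/-- Some but not all coordinates vanish. -/
def UH6 (v : V3) : Prop := v ≠ 0 ∧ v.1 * v.2.1 * v.2.2 = 0

instance : DecidablePred UH6 := fun v => by unfold UH6; infer_instance

variable {G : Type*} [Group G] [Finite G]

theorem H6_topW {φ : SD V3 EH6 →* G} (hφ : EmbW φ UH6) : φ.range = ⊤ := by
  have := Fintype.ofFinite G
  obtain ⟨W, hW, ⟨p⟩⟩ := hφ.exists_pack dH6_ok dH6_search
  simp only [PH6, List.mem_cons, List.not_mem_nil, or_false] at hW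
  have hg : (0 : ℚ) < Nat.card G := by exact_mod_cast Nat.card_pos
  rcases hW with rfl | rfl | rfl | rfl
  · have l4 := p.lin 4 11 (0) [0, 0, -1, 0, 1, 0, 1, 0, 0, 0, 0] (by decide +kernel)
    simp only [Finset.sum_range_succ, Finset.sum_range_zero, co, List.getD_cons_zero, List.getD_cons_succ] at l4
    have l5 := p.lin 5 11 (0) [0, 0, 1, 0, 0, 0, 0, 1, 0, 0, 0] (by decide +kernel)
    simp only [Finset.sum_range_succ, Finset.sum_range_zero, co, List.getD_cons_zero, List.getD_cons_succ] at l5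
    have l6 := p.lin 6 11 (0) [0, 0, 1, 0, 1, 0, 1, -1, 0, 0, 0] (by decide +kernel)
    simp only [Finset.sum_range_succ, Finset.sum_range_zero, co, List.getD_cons_zero, List.getD_cons_succ] at l6
    have := p.D_ne (t := 2) (by decide)
    omega
  · have l4 := p.lin 4 12 (0) [0, 0, 0, -1, 1, 0, 1, 0, 0, 0, 0, 0] (by decide +kernel)
    simp only [Finset.sum_range_succ, Finset.sum_range_zero, co, List.getD_cons_zero, List.getD_cons_succ] at l4
    have l5 := p.lin 5 12 (0) [0, 0, 0, 1, 0, 0, 0, 0, 1, 0, 0, 0] (by decide +kernel)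
    simp only [Finset.sum_range_succ, Finset.sum_range_zero, co, List.getD_cons_zero, List.getD_cons_succ] at l5
    have l6 := p.lin 6 12 (0) [0, 0, 0, 1, 1, 0, 1, 0, -1, 0, 0, 0] (by decide +kernel)
    simp only [Finset.sum_range_succ, Finset.sum_range_zero, co, List.getD_cons_zero, List.getD_cons_succ] at l6
    have := p.D_ne (t := 3) (by decide)
    omega
  · have e10_10_12 := p.eqn dH6_b10 dH6_b10 dH6_b12 dH6_t10_10_12 (by decide +kernel) (by decide +kernel) 12 [-32, 32, 8, 0, 27, 0, 27, 0, 0, 27, -2, 16] (by decide +kernel)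
    simp only [Finset.sum_range_succ, Finset.sum_range_zero, co, List.getD_cons_zero, List.getD_cons_succ] at e10_10_12
    push_cast at e10_10_12
    have e10_12_12 := p.eqn dH6_b10 dH6_b12 dH6_b12 dH6_t10_12_12 (by decide +kernel) (by decide +kernel) 12 [16, -16, 8, 0, 27, 0, 27, 0, 0, -27, 4, 4] (by decide +kernel)
    simp only [Finset.sum_range_succ, Finset.sum_range_zero, co, List.getD_cons_zero, List.getD_cons_succ] at e10_12_12
    push_cast at e10_12_12
    have e10_13_12 := p.eqn dH6_b10 dH6_b13 dH6_b12 dH6_t10_13_12 (by decide +kernel) (by decide +kernel) 12 [-8, 8, 8, 0, 27, 0, 27, 0, 0, 0, -8, -8] (by decide +kernel)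
    simp only [Finset.sum_range_succ, Finset.sum_range_zero, co, List.getD_cons_zero, List.getD_cons_succ] at e10_13_12
    push_cast at e10_13_12
    have h : (1) * ((Nat.card G : ℚ) / p.D 10) + (2) * ((Nat.card G : ℚ) / p.D 11) = 0 := by linear_combination (1/18) * e10_10_12 + (1/18) * e10_12_12 + (-1/9) * e10_13_12
    have hc := fun t ht => p.cong (fun c => if c = 10 then [4, 8, 0, -3, 6, -3, -3, 0, 4] else if c = 12 then [-2, 2, 3, 0, 0, 0, 0, 3, -2] else [1, -4, -3, 3, 3, 3, 3, -3, 1]) (fun c => if c = 10 then 108 else if c = 12 then 54 else 81) {10, 12, 13}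
      (by decide +kernel) (by decide +kernel) 27 [19, 8, 2, 6, 3, 15, 3, 21, 21, 9, 13, 7] (by decide +kernel) (t := t) ht
    have c10 : (27 : ℤ) ∣ p.D 10 - 13 := hc 10 (by decide)
    have c11 : (27 : ℤ) ∣ p.D 11 - 7 := hc 11 (by decide)
    have n10 : (p.D 10 : ℚ) ≠ 0 := Int.cast_ne_zero.2 (p.D_ne (t := 10) (by decide))
    have n11 : (p.D 11 : ℚ) ≠ 0 := Int.cast_ne_zero.2 (p.D_ne (t := 11) (by decide))
    field_simp at h
    have h' : p.D 11 + 2 * p.D 10 = 0 := by
      apply Int.cast_injective (α := ℚ)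
      apply mul_left_cancel₀ hg.ne'
      push_cast
      linear_combination h
    omega
  · have e10_10_12 := p.eqn dH6_b10 dH6_b10 dH6_b12 dH6_t10_10_12 (by decide +kernel) (by decide +kernel) 13 [-32, 32, 8, 0, 27, 0, 27, 0, 0, 1, 0, 0, -32] (by decide +kernel)
    simp only [Finset.sum_range_succ, Finset.sum_range_zero, co, List.getD_cons_zero, List.getD_cons_succ] at e10_10_12
    push_cast at e10_10_12
    have e10_12_12 := p.eqn dH6_b10 dH6_b12 dH6_b12 dH6_t10_12_12 (by decide +kernel) (by decide +kernel) 13 [16, -16, 8, 0, 27, 0, 27, 0, 0, 1, 0, 0, 16] (by decide +kernel)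
    simp only [Finset.sum_range_succ, Finset.sum_range_zero, co, List.getD_cons_zero, List.getD_cons_succ] at e10_12_12
    push_cast at e10_12_12
    have r2 : (1) * ((Nat.card G : ℚ) / p.D 0) + (-1) * ((Nat.card G : ℚ) / p.D 1) + (1) * ((Nat.card G : ℚ) / p.D 12) = -243 := by linear_combination (-1/48) * e10_10_12 + (1/48) * e10_12_12
    have e12_13_12 := p.eqn dH6_b12 dH6_b13 dH6_b12 dH6_t12_13_12 (by decide +kernel) (by decide +kernel) 13 [4, -4, 8, 0, 27, -27, 27, 0, 0, 1, 0, -27, 4] (by decide +kernel)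
    simp only [Finset.sum_range_succ, Finset.sum_range_zero, co, List.getD_cons_zero, List.getD_cons_succ] at e12_13_12
    push_cast at e12_13_12
    have r4 : (1) * ((Nat.card G : ℚ) / p.D 5) + (1) * ((Nat.card G : ℚ) / p.D 11) = -108 := by linear_combination (1/108) * e10_10_12 + (1/36) * e10_12_12 + (-1/27) * e12_13_12
    have l0 := p.lin 0 13 (0) [1, 1, 0, 0, 0, 0, 0, 0, 0, 0, 0, 0, 0] (by decide +kernel)
    simp only [Finset.sum_range_succ, Finset.sum_range_zero, co, List.getD_cons_zero, List.getD_cons_succ] at l0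
    have l2 := p.lin 2 13 (1) [0, 1, 0, 0, 1, 1, 0, 0, 0, 0, 0, 0, 0] (by decide +kernel)
    simp only [Finset.sum_range_succ, Finset.sum_range_zero, co, List.getD_cons_zero, List.getD_cons_succ] at l2
    have l4 := p.lin 4 13 (0) [0, 0, 0, -1, 1, 0, 1, 0, 0, 0, 0, 0, 0] (by decide +kernel)
    simp only [Finset.sum_range_succ, Finset.sum_range_zero, co, List.getD_cons_zero, List.getD_cons_succ] at l4
    have l7 := p.lin 7 13 (0) [0, 1, 0, 0, 0, 0, 1, 0, 0, 1, 0, 1, 0] (by decide +kernel)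
    simp only [Finset.sum_range_succ, Finset.sum_range_zero, co, List.getD_cons_zero, List.getD_cons_succ] at l7
    have l8 := p.lin 8 13 (1) [0, 0, 0, 1, 0, 0, 0, 0, 0, 1, 0, 0, 1] (by decide +kernel)
    simp only [Finset.sum_range_succ, Finset.sum_range_zero, co, List.getD_cons_zero, List.getD_cons_succ] at l8
    have hc := fun t ht => p.cong (fun c => if c = 10 then [4, 8, 0, -3, 6, -3, -3, 0, 4] else if c = 12 then [-2, 2, 3, 0, 0, 0, 0, 3, -2] else [1, -4, -3, 3, 3, 3, 3, -3, 1]) (fun c => if c = 10 then 108 else if c = 12 then 54 else 81) {10, 12, 13}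
      (by decide +kernel) (by decide +kernel) 27 [19, 8, 2, 6, 3, 15, 3, 21, 21, 1, 21, 15, 19] (by decide +kernel) (t := t) ht
    have c1 : (27 : ℤ) ∣ p.D 1 - 8 := hc 1 (by decide)
    have c12 : (27 : ℤ) ∣ p.D 12 - 19 := hc 12 (by decide)
    have hs := p.sq_le
    simp only [List.length_cons, List.length_nil, Finset.sum_range_succ, Finset.sum_range_zero,
      Nat.reduceAdd, zero_add] at hs
    have n1 : (p.D 1 : ℚ) ≠ 0 := Int.cast_ne_zero.2 (p.D_ne (t := 1) (by decide))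
    have n12 : (p.D 12 : ℚ) ≠ 0 := Int.cast_ne_zero.2 (p.D_ne (t := 12) (by decide))
    have n5 : (p.D 5 : ℚ) ≠ 0 := Int.cast_ne_zero.2 (p.D_ne (t := 5) (by decide))
    have n11 : (p.D 11 : ℚ) ≠ 0 := Int.cast_ne_zero.2 (p.D_ne (t := 11) (by decide))
    rw [show p.D 0 = -p.D 1 by omega] at r2
    push_cast at r2
    field_simp at r2 r4
    have r2' : (Nat.card G : ℤ) * (p.D 1 + 2 * -p.D 12) = 243 * -p.D 12 * p.D 1 := by
      apply Int.cast_injective (α := ℚ)
      push_cast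
      linear_combination r2
    have r4' : (Nat.card G : ℤ) * (-p.D 5 + -p.D 11) = 108 * -p.D 5 * -p.D 11 := by
      apply Int.cast_injective (α := ℚ)
      push_cast
      linear_combination -r4
    have hV : Fintype.card V3 = 27 := by decide
    have hE : Fintype.card EH6 = 24 := by decide
    obtain ⟨k, hk⟩ := φ.range.card_subgroup_dvd_card
    rw [← Nat.card_congr (MonoidHom.ofInjective hφ.inj).toEquiv, SD.card] at hk
    refine hφ.range_eq_top ?_
    rw [hV, hE] at hk ⊢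
    have := H6_arith' (k := k) (by exact_mod_cast hg) (by omega) (by omega) c1 r2' r4' (by omega)
      (by nlinarith [sq_nonneg (p.D 0), sq_nonneg (p.D 2), sq_nonneg (p.D 3), sq_nonneg (p.D 4), sq_nonneg (p.D 5), sq_nonneg (p.D 6), sq_nonneg (p.D 7), sq_nonneg (p.D 8), sq_nonneg (p.D 9), sq_nonneg (p.D 10), sq_nonneg (p.D 11)])
      (by nlinarith [sq_nonneg (p.D 0), sq_nonneg (p.D 2), sq_nonneg (p.D 3), sq_nonneg (p.D 4), sq_nonneg (p.D 1), sq_nonneg (p.D 6), sq_nonneg (p.D 7), sq_nonneg (p.D 8), sq_nonneg (p.D 9), sq_nonneg (p.D 10), sq_nonneg (p.D 12)])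
    omega

theorem H6_cen : ∀ e : EH6, e ≠ 1 → e ^ 3 = 1 → ∀ u : V3, (Finset.univ.filter fun x : EH6 × V3 =>
    x.1 * e = e * x.1 ∧ x.2 + x.1 • u = u + e • x.2).card < 27 := by decide +kernel

omit [Finite G] in
theorem embW_H6 {φ : SD V3 EH6 →* G} (hφ : Function.Injective φ)
    (hC : ∀ v : V3, v ≠ 0 → Subgroup.centralizer ({φ ⟨v, 1⟩} : Set G) ≤ φ.range) :
    EmbW φ UH6 := by
  have hp3 : ∀ {v : V3} {m : SD V3 EH6} {g : G}, g * φ ⟨v, 1⟩ * g⁻¹ = φ m → m.e ^ 3 = 1 := by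
    intro v m g h
    have : (⟨v, 1⟩ : SD V3 EH6) ^ 3 = 1 := SD.ext (by simp [pow_succ, V3_three]) (by simp [pow_succ])
    have h1 : φ (m ^ 3) = φ 1 := by rw [map_pow, ← h, conj_pow, ← map_pow, this]; simp
    have h2 := congrArg SD.proj (hφ h1)
    rwa [map_pow, map_one] at h2
  have hcomm : ∀ (u v : V3) (g : G), Commute (g * φ ⟨u, 1⟩ * g⁻¹) (g * φ ⟨v, 1⟩ * g⁻¹) := by
    intro u v g
    refine Commute.conj (Commute.map ?_ φ) g
    exact SD.ext (by simp [add_comm]) rfl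
  have hne : ∀ {v w : V3} {g : G}, v ≠ 0 → g * φ ⟨v, 1⟩ * g⁻¹ = φ ⟨w, 1⟩ → w ≠ 0 := by
    rintro v w g hv h rfl
    rw [show (⟨0, 1⟩ : SD V3 EH6) = 1 from rfl, map_one, mul_inv_eq_one, mul_eq_left,
      ← map_one φ] at h
    exact hv (congrArg SD.v (hφ h))
  have tiw : ∀ v w : V3, v ≠ 0 → ∀ g : G, g * φ ⟨v, 1⟩ * g⁻¹ = φ ⟨w, 1⟩ → g ∈ φ.range := by
    intro v w hv g hg
    have h1 : ∀ u : V3, ∃ m, φ m = g * φ ⟨u, 1⟩ * g⁻¹ := fun u => hC w (hne hv hg)
      (Subgroup.mem_centralizer_singleton_iff.2 (hg ▸ (hcomm u v g).eq))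
    choose f hf using h1
    have h0 : ((1, 0, 0) : V3) ≠ 0 := by decide
    have h2 : (f (1, 0, 0)).e = 1 := by
      by_contra hne1
      refine (H6_cen _ hne1 (hp3 (hf _).symm) (f (1, 0, 0)).v).not_ge ?_
      rw [show 27 = (Finset.univ : Finset V3).card from rfl]
      refine Finset.card_le_card_of_injOn (fun u => ((f u).e, (f u).v)) (fun u _ => ?_)
        fun a _ b _ e => ?_
      · have : f u * f (1, 0, 0) = f (1, 0, 0) * f u := hφ (by
          rw [map_mul, map_mul, hf, hf]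
          exact (hcomm _ _ g).eq)
        exact Finset.mem_filter.2 ⟨Finset.mem_univ _, congrArg SD.e this, congrArg SD.v this⟩
      · have e' : f a = f b := SD.ext (congrArg Prod.snd e) (congrArg Prod.fst e)
        have := (hf a).symm.trans ((congrArg φ e').trans (hf b))
        exact congrArg SD.v (hφ (mul_left_cancel (mul_right_cancel this)))
    have hw : φ ⟨(f (1, 0, 0)).v, 1⟩ = g * φ ⟨(1, 0, 0), 1⟩ * g⁻¹ :=
      by
      rw [← hf, ← h2]
    generalize (f (1, 0, 0)).v = w at hw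
    have h1 := S3702.card_cent_conj (φ ⟨(1, 0, 0), 1⟩) g
    rw [← hw, S3702.card_cent hφ (hC _ (hne h0 hw.symm)), S3702.card_cent hφ (hC _ h0)] at h1
    have h2 : ∀ w : V3, Fintype.card V3 * (Finset.univ.filter fun e : EH6 => e • w = w).card =
        Fintype.card V3 *
          (Finset.univ.filter fun e : EH6 => e • ((1, 0, 0) : V3) = (1, 0, 0)).card →
        ∃ e : EH6, w = e • ((1, 0, 0) : V3) := by decide +kernel
    obtain ⟨x, rfl⟩ := h2 w h1
    have h3 : (φ ⟨0, x⟩)⁻¹ * g ∈ φ.range := by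
      refine hC _ h0 (Subgroup.mem_centralizer_singleton_iff.2 ?_)
      have h4 := SD.conj_inl (⟨0, x⟩ : SD V3 EH6) (1, 0, 0)
      rw [← h4, map_mul, map_mul, map_inv] at hw
      calc _ = (φ ⟨0, x⟩)⁻¹ * (g * φ ⟨(1, 0, 0), 1⟩ * g⁻¹) * g := by group
        _ = _ := by rw [← hw]; group
    exact (φ.range.mul_mem_cancel_left (φ.range.inv_mem ⟨_, rfl⟩)).1 h3
  refine ⟨hφ, V3_three, tiw, ?_⟩
  rintro v hv g ⟨m, hm⟩
  have h1 : ∀ e : EH6, e ^ 3 = 1 → ∃ a : V3, a ≠ 0 ∧ e • a = a := by decide +kernel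
  obtain ⟨a, ha, ha'⟩ := h1 m.e (hp3 hm.symm)
  obtain ⟨m', hm'⟩ : g⁻¹ * φ ⟨a, 1⟩ * g⁻¹⁻¹ ∈ φ.range := by
    refine hC v hv.1 (Subgroup.mem_centralizer_singleton_iff.2 ?_)
    have h2 : φ ⟨a, 1⟩ * φ m = φ m * φ ⟨a, 1⟩ := by
      rw [← map_mul, ← map_mul]
      exact congrArg φ (SD.ext (by simp [ha', add_comm]) (by simp))
    rw [hm] at h2
    calc _ = g⁻¹ * (φ ⟨a, 1⟩ * (g * φ ⟨v, 1⟩ * g⁻¹)) * g := by group
      _ = _ := by rw [h2]; group
  have h3 : ∀ (v : V3) (e : EH6), UH6 v → e ^ 3 = 1 → e • v = v → e = 1 := by decide +kernel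
  have h4 : m'.e = 1 := by
    refine h3 v _ hv (hp3 hm'.symm) ?_
    have h2 : φ ⟨a, 1⟩ * φ m = φ m * φ ⟨a, 1⟩ := by
      rw [← map_mul, ← map_mul]
      exact congrArg φ (SD.ext (by simp [ha', add_comm]) (by simp))
    have h5 : m' * ⟨v, 1⟩ = ⟨v, 1⟩ * m' := by
      apply hφ
      rw [map_mul, map_mul, hm']
      rw [hm] at h2
      calc _ = g⁻¹ * (φ ⟨a, 1⟩ * (g * φ ⟨v, 1⟩ * g⁻¹)) * g := by group
        _ = _ := by rw [h2]; group
    have h6 := congrArg SD.v h5
    simp only [SD.mul_v, one_smul] at h6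
    rw [add_comm v] at h6
    exact add_left_cancel h6
  exact φ.range.inv_mem_iff.1
    (tiw a m'.v ha g⁻¹ (hm'.symm.trans (congrArg φ (SD.ext rfl h4))))

/-- The statement S3702 without the strong closure hypothesis. -/
theorem alt9_top (H : Subgroup G)
    (hH : Nonempty (↥H ≃* ↥(Subgroup.closure ({Equiv.swap (0 : Fin 9) 1 * Equiv.swap 1 2,
        Equiv.swap (0 : Fin 9) 3 * Equiv.swap 3 6 * (Equiv.swap (1 : Fin 9) 4 * Equiv.swap 4 7) * (Equiv.swap (2 : Fin 9) 5 * Equiv.swap 5 8),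
        Equiv.swap (0 : Fin 9) 1 * Equiv.swap 3 4, Equiv.swap (0 : Fin 9) 3 * Equiv.swap 1 4 * Equiv.swap 2 5 * Equiv.swap 6 7} : Set (Equiv.Perm (Fin 9))))))
    (J : Subgroup G) (hJ : J = (Cfsg.pCore 3 ↥H).map H.subtype)
    (hC : ∀ j ∈ J, j ≠ 1 → Subgroup.centralizer ({j} : Set G) ≤ H) : H = ⊤ := by
  obtain ⟨e⟩ := hH
  obtain ⟨φ, hφ, rfl⟩ := exists_hom_of_range permH6 permH6_injective permH6_range e
  rw [S3702.core_eq hφ] at hJ
  subst hJ
  exact H6_topW (embW_H6 hφ fun v hv => hC _ (mem_range_inl.2 ⟨v, rfl⟩) fun h =>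
    hv (congrArg SD.v (hφ (h.trans (map_one φ).symm))))

end Cfsg.Agent.Ch.Spc
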