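import Mathlib
import Cfsg.Agent.Ch.Clifford
import Cfsg.Agent.Ch.Quotient
import Cfsg.Agent.Ch.Deg12A
import Cfsg.Agent.Ch.Det
import Cfsg.Agent.GT.Cores
import Cfsg.Agent.GT.CoprimeGen
import Cfsg.Agent.GT.PStable
import Cfsg.Agent.GT.HallTools
import Cfsg.Agent.GT.ThompsonFusionZJ

/-!
# Solvable groups whose `p`-singular vanishing elements all have the same order

We show that `|G : O_p(G)|` is not divisible by `p ^ 2`.
-/

set_option autoImplicit false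
set_option linter.unusedVariables false

namespace Cfsg.Agent.Ch.VanP

open Cfsg Subgroup

universe u

/-- An abelian group acting faithfully and coprimely on an abelian group has a regular orbit. -/
theorem exists_regular {B Λ : Type*} [Group B] [Finite B] [CommGroup Λ]
    (hB : ∀ a b : B, a * b = b * a) (c : B → Λ →* Λ)
    (hc : ∀ g h f, c (g * h) f = c h (c g f)) (h1 : ∀ f, c 1 f = f) {n : ℕ}
    (hn : ∀ f : Λ, f ^ n = 1) (hcop : n.Coprime (Nat.card B))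
    (hf : ∀ b, (∀ f, c b f = f) → b = 1) : ∃ f, ∀ b, c b f = f → b = 1 := by
  classical
  let S : Λ → Subgroup B := fun f =>
    { carrier := {b | c b f = f}
      one_mem' := h1 f
      mul_mem' := fun {a b} ha hb => by
        show c (a * b) f = f
        rw [hc, ha, hb]
      inv_mem' := fun {a} ha => by
        show c a⁻¹ f = f
        conv_lhs => rw [← ha]
        rw [← hc, mul_inv_cancel, h1] }
  have hS : ∀ {f b}, b ∈ S f ↔ c b f = f := Iff.rfl
  obtain ⟨_, ⟨a, rfl⟩, hmin⟩ :=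
    (wellFounded_lt (α := Subgroup B)).has_min (Set.range S) ⟨_, 1, rfl⟩
  refine ⟨a, fun d hd => ?_⟩
  by_contra hd1
  obtain ⟨b, hb⟩ : ∃ b, c d b ≠ b := by
    by_contra h
    push Not at h
    exact hd1 (hf d h)
  have := Fintype.ofFinite (S a)
  let N : Λ →* Λ := ∏ e : S a, c e
  have hN : ∀ x, N x = ∏ e : S a, c e x := fun x => MonoidHom.finsetProd_apply _ _ _
  have hNc : ∀ s x, N (c s x) = c s (N x) := fun s x => by
    rw [hN, hN, map_prod]
    exact Finset.prod_congr rfl fun e _ => by rw [← hc, ← hc, hB]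
  have hNfix : ∀ e ∈ S a, ∀ x, c e (N x) = N x := fun e he x => by
    rw [hN, map_prod]
    exact Fintype.prod_equiv (Equiv.mulRight (⟨e, he⟩ : S a)) _ _ fun y => by
      rw [← hc]; rfl
  have hNN : ∀ x, (∀ e ∈ S a, c e x = x) → N x = x ^ Nat.card (S a) := fun x hx => by
    rw [hN, Finset.prod_congr rfl fun (e : S a) _ => hx e e.2, Finset.prod_const, Finset.card_univ,
      Nat.card_eq_fintype_card]
  have hinj : ∀ x y : Λ, x ^ Nat.card (S a) = y ^ Nat.card (S a) → x = y := fun x y h => by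
    have h2 : (x * y⁻¹) ^ Nat.card (S a) = 1 := by rw [mul_pow, inv_pow, h, mul_inv_cancel]
    have h3 := pow_gcd_eq_one.2 ⟨hn _, h2⟩
    rwa [hcop.coprime_dvd_right (card_subgroup_dvd_card _), pow_one, mul_inv_eq_one] at h3
  have hb' : N (b ^ Nat.card (S a) * (N b)⁻¹) = 1 := by
    rw [map_mul, map_inv, map_pow, hNN (N b) fun e he => hNfix e he b, mul_inv_cancel]
  refine hmin _ ⟨a * (b ^ Nat.card (S a) * (N b)⁻¹), rfl⟩ (lt_of_le_of_ne (fun s hs => ?_) fun h => ?_)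
  · have h2 := congrArg N (hS.1 hs)
    rw [hNc, map_mul N, hb', mul_one, hNN a fun e he => he, map_pow] at h2
    exact hinj _ _ h2
  · have h2 : d ∈ S (a * (b ^ Nat.card (S a) * (N b)⁻¹)) := h.ge hd
    rw [hS, map_mul, hd, mul_right_inj, map_mul, map_inv, hNfix d hd, mul_left_inj, map_pow] at h2
    exact hb (hinj _ _ h2)

/-- `g` is a vanishing element. -/
def Van {G : Type*} [Group G] (g : G) : Prop := ∃ χ : IrrCharacter G, (χ : G → ℂ) g = 0

/-- The two quotient-closed properties used in the induction. -/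
structure Hyp (p : ℕ) (G : Type*) [Group G] : Prop where
  A : ∀ x : G, x ≠ 1 → (∃ k, x ^ p ^ k = 1) → Van x →
    ∀ g : G, Van g → p ∣ orderOf g → ∃ k, g ^ p ^ k = 1
  B : ∀ x : G, (∃ k, x ^ p ^ k = 1) → Van x → Van (x ^ p) → False

variable {G : Type*} [Group G] {p : ℕ}

theorem Van.of_mk {N : Subgroup G} [N.Normal] {g : G} (h : Van (g : G ⧸ N)) : Van g := by
  obtain ⟨χ, hχ⟩ := h
  exact ⟨⟨_, χ.2.comp_mk⟩, hχ⟩

theorem not_van_one [Finite G] : ¬ Van (1 : G) := by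
  rintro ⟨χ, hχ⟩
  exact χ.2.apply_one_ne_zero hχ

theorem exists_lift [Finite G] [Fact p.Prime] (N : Subgroup G) [N.Normal] {y : G ⧸ N} {k : ℕ}
    (hy : y ^ p ^ k = 1) : ∃ x : G, (∃ j, x ^ p ^ j = 1) ∧ (x : G ⧸ N) = y := by
  have hY : IsPGroup p (zpowers y) := by
    intro ⟨z, n, hn⟩
    refine ⟨k, Subtype.ext ?_⟩
    show z ^ p ^ k = 1
    rw [← hn, ← zpow_natCast, ← zpow_mul, mul_comm, zpow_mul, zpow_natCast, hy, one_zpow]
  obtain ⟨P, hP, hm⟩ := GT.exists_isPGroup_map_eq (QuotientGroup.mk' N) hY (by simp)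
  obtain ⟨x, hx, rfl⟩ : y ∈ P.map (QuotientGroup.mk' N) := hm ▸ mem_zpowers y
  obtain ⟨j, hj⟩ := hP ⟨x, hx⟩
  exact ⟨x, ⟨j, congrArg Subtype.val hj⟩, rfl⟩

theorem Hyp.quot [Finite G] [Fact p.Prime] (h : Hyp p G) (N : Subgroup G) [N.Normal] :
    Hyp p (G ⧸ N) where
  A := fun y hy1 ⟨k, hk⟩ hy g hg hpg => by
    obtain ⟨x, hx, rfl⟩ := exists_lift N hk
    obtain ⟨g, rfl⟩ := QuotientGroup.mk_surjective g
    obtain ⟨j, hj⟩ := h.A x (fun e => hy1 (by rw [e]; rfl)) hx hy.of_mk g hg.of_mk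
      (hpg.trans (orderOf_map_dvd (QuotientGroup.mk' N) g))
    exact ⟨j, by rw [← QuotientGroup.mk_pow, hj]; rfl⟩
  B := fun y ⟨k, hk⟩ hy hy' => by
    obtain ⟨x, hx, rfl⟩ := exists_lift N hk
    exact h.B x hx hy.of_mk (Van.of_mk (N := N) (by rwa [QuotientGroup.mk_pow]))

theorem hyp_of_orderOf [Finite G] [hp : Fact p.Prime]
    (h : ∀ x y : G, Van x → p ∣ orderOf x → Van y → p ∣ orderOf y → orderOf x = orderOf y) :
    Hyp p G := by
  have key : ∀ x : G, x ≠ 1 → (∃ k, x ^ p ^ k = 1) → p ∣ orderOf x := fun x hx ⟨k, hk⟩ => by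
    obtain ⟨j, -, hj⟩ := (Nat.dvd_prime_pow hp.out).1 (orderOf_dvd_of_pow_eq_one hk)
    rcases j with _ | j
    · exact absurd (orderOf_eq_one_iff.1 (by simpa using hj)) hx
    · rw [hj]; exact dvd_pow_self p (Nat.succ_ne_zero j)
  refine ⟨fun x hx1 ⟨k, hk⟩ hx g hg hpg => ⟨k, ?_⟩, fun x ⟨k, hk⟩ hx hx' => ?_⟩
  · rw [← orderOf_dvd_iff_pow_eq_one, h g x hg hpg hx (key x hx1 ⟨k, hk⟩)]
    exact orderOf_dvd_of_pow_eq_one hk
  · have h1 : x ^ p ≠ 1 := fun e => not_van_one (e ▸ hx')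
    have h2 : x ≠ 1 := fun e => h1 (by rw [e, one_pow])
    have h3 := key x h2 ⟨k, hk⟩
    have h4 := h x (x ^ p) hx h3 hx' (key _ h1 ⟨k, by rw [← pow_mul, mul_comm, pow_mul, hk, one_pow]⟩)
    rw [orderOf_pow_of_dvd hp.out.ne_zero h3] at h4
    exact absurd h4 (Nat.div_lt_self (orderOf_pos x) hp.out.one_lt).ne'

theorem pow_eq_one_of {a b : ℕ} {x y : G} (hc : Commute x y)
    (hx : x ^ p ^ a = 1) (hxy : (x * y) ^ p ^ b = 1) : y ^ p ^ (a + b) = 1 := by
  have h1 : (x * y) ^ p ^ (a + b) = 1 := by rw [pow_add, mul_comm, pow_mul, hxy, one_pow]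
  have h2 : x ^ p ^ (a + b) = 1 := by rw [pow_add, pow_mul, hx, one_pow]
  rwa [hc.mul_pow, h2, one_mul] at h1

theorem eq_one_of_mem [Finite G] [hp : Fact p.Prime] {V : Subgroup G} (hV : ¬ p ∣ Nat.card V)
    {x : G} (hx : x ∈ V) {n : ℕ} (hn : x ^ p ^ n = 1) : x = 1 :=
  orderOf_eq_one_iff.1 (Nat.eq_one_of_dvd_coprimes
    (((Nat.Prime.coprime_iff_not_dvd hp.out).2 hV).pow_left n) (orderOf_dvd_of_pow_eq_one hn)
    (V.orderOf_dvd_natCard hx))

theorem comm_of_map [Finite G] [hp : Fact p.Prime] {V : Subgroup G} [V.Normal]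
    (hV : ¬ p ∣ Nat.card V) {P : Subgroup G} (hP : IsPGroup p P)
    (hc : ∀ a ∈ P.map (QuotientGroup.mk' V), ∀ b ∈ P.map (QuotientGroup.mk' V), a * b = b * a) :
    ∀ a ∈ P, ∀ b ∈ P, a * b = b * a := by
  intro a ha b hb
  have h1 : a * b * a⁻¹ * b⁻¹ ∈ V := by
    rw [← QuotientGroup.eq_one_iff]
    have := hc _ ⟨a, ha, rfl⟩ _ ⟨b, hb, rfl⟩
    simp only [QuotientGroup.mk'_apply] at this
    simp only [QuotientGroup.mk_mul, QuotientGroup.mk_inv, this]
    group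
  obtain ⟨k, hk⟩ := hP ⟨_, mul_mem (mul_mem (mul_mem ha hb) (inv_mem ha)) (inv_mem hb)⟩
  have h2 := eq_one_of_mem hV h1 (congrArg Subtype.val hk)
  calc a * b = a * b * a⁻¹ * b⁻¹ * (b * a) := by group
    _ = b * a := by rw [h2, one_mul]

/-- An abelian `p`-subgroup of `G / V` all of whose nontrivial cosets vanish has order at most
`p`. -/
theorem Hyp.small [Finite G] [hp : Fact p.Prime] (h : Hyp p G) {V : Subgroup G} [V.Normal]
    (hV1 : V ≠ ⊥) (hV : ¬ p ∣ Nat.card V) {E : Subgroup (G ⧸ V)} (hE : IsPGroup p E)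
    (hc : ∀ a ∈ E, ∀ b ∈ E, a * b = b * a)
    (hv : ∀ g : G, (g : G ⧸ V) ∈ E → (g : G ⧸ V) ≠ 1 → Van g) : Nat.card E ∣ p := by
  obtain ⟨P, hP, rfl⟩ := GT.exists_isPGroup_map_eq (QuotientGroup.mk' V) hE (by simp)
  refine (card_map_dvd _ _).trans ?_
  have hPc := comm_of_map hV hP hc
  have hpe : ∀ x ∈ P, ∃ k, x ^ p ^ k = 1 := fun x hx => by
    obtain ⟨k, hk⟩ := hP ⟨x, hx⟩
    exact ⟨k, congrArg Subtype.val hk⟩
  have hd : ∀ x ∈ P, x ∈ V → x = 1 := fun x hx hxV => by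
    obtain ⟨k, hk⟩ := hpe x hx
    exact eq_one_of_mem hV hxV hk
  have hvan : ∀ x ∈ P, x ≠ 1 → ∀ v ∈ V, Van (x * v) := fun x hx hx1 v hvV => by
    have e : ((x * v : G) : G ⧸ V) = x := by
      rw [QuotientGroup.mk_mul, (QuotientGroup.eq_one_iff v).2 hvV, mul_one]
    exact hv _ (e ▸ ⟨x, hx, rfl⟩) (by
      rw [e]; exact fun e' => hx1 (hd x hx ((QuotientGroup.eq_one_iff x).1 e')))
  have hvan' : ∀ x ∈ P, x ≠ 1 → Van x := fun x hx hx1 => by
    simpa using hvan x hx hx1 1 V.one_mem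
  have hexp : ∀ x ∈ P, x ^ p = 1 := fun x hx => by
    by_contra h1
    exact h.B x (hpe x hx) (hvan' x hx fun e => h1 (by rw [e, one_pow])) (hvan' _ (pow_mem hx p) h1)
  have hcyc : IsCyclic P := by
    by_contra hn
    obtain ⟨k, hk⟩ := IsPGroup.iff_card.1 hP
    obtain ⟨a, ha, ha1, hav⟩ := GT.CopAct.exists_inf_centralizer_ne_bot (A := P) (K := V)
      ⟨⟨fun a b => Subtype.ext (hPc a a.2 b b.2)⟩⟩ hn le_normalizer_of_normal
      (hk ▸ ((Nat.Prime.coprime_iff_not_dvd hp.out).2 hV).pow_left k) hV1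
    obtain ⟨v, ⟨hvV, hva⟩, hv1⟩ := (bot_or_exists_ne_one _).resolve_left hav
    have hcm : Commute a v := hva a rfl
    have ho : p ∣ orderOf (a * v) := by
      rw [← orderOf_eq_prime (hexp a ha) ha1, orderOf_dvd_iff_pow_eq_one]
      have h2 := pow_orderOf_eq_one (a * v)
      rw [hcm.mul_pow, mul_eq_one_iff_eq_inv] at h2
      exact hd _ (pow_mem ha _) (h2 ▸ inv_mem (pow_mem hvV _))
    obtain ⟨j, hj⟩ := h.A a ha1 (hpe a ha) (hvan' a ha ha1) _ (hvan a ha ha1 v hvV) ho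
    obtain ⟨i, hi⟩ := hpe a ha
    exact hv1 (eq_one_of_mem hV hvV (pow_eq_one_of hcm hi hj))
  rw [← IsCyclic.exponent_eq_card]
  exact Monoid.exponent_dvd_of_forall_pow_eq_one fun x => Subtype.ext (hexp x x.2)

/-- Elements with a power in a nontrivial coset of an abelian normal `p`-subgroup of `G / V`
vanish. -/
theorem van_of_pow [Finite G] [hp : Fact p.Prime] (hO : pCore p G = ⊥) {V : Subgroup G}
    [hVn : V.Normal] (hVc : ∀ a ∈ V, ∀ b ∈ V, a * b = b * a) (hV : ¬ p ∣ Nat.card V)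
    {N : Subgroup (G ⧸ V)} (hNn : N.Normal) (hN : IsPGroup p N)
    (hc : ∀ a ∈ N, ∀ b ∈ N, a * b = b * a) (x : G) (k : ℕ) (hx : (x : G ⧸ V) ^ k ∈ N)
    (hx1 : (x : G ⧸ V) ^ k ≠ 1) : Van x := by
  classical
  have := Fintype.ofFinite G
  obtain ⟨B, hB, rfl⟩ := GT.exists_isPGroup_map_eq (QuotientGroup.mk' V) hN (by simp)
  have hBc := comm_of_map hV hB hc
  have hpe : ∀ x ∈ B, ∃ k, x ^ p ^ k = 1 := fun x hx => by
    obtain ⟨k, hk⟩ := hB ⟨x, hx⟩
    exact ⟨k, congrArg Subtype.val hk⟩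
  have hdec : ∀ y : G, (y : G ⧸ V) ∈ B.map (QuotientGroup.mk' V) → ∃ b ∈ B, b⁻¹ * y ∈ V :=
    fun y ⟨b, hb, e⟩ => ⟨b, hb, QuotientGroup.eq.1 e⟩
  have hnorm : (B ⊓ centralizer (V : Set G)).Normal := ⟨fun b ⟨hb, hbc⟩ g => by
    have h1 : g * b * g⁻¹ ∈ centralizer (V : Set G) :=
      (normal_centralizer (H := V)).conj_mem b hbc g
    obtain ⟨b', hb', hv⟩ := hdec (g * b * g⁻¹) (hNn.conj_mem _ ⟨b, hb, rfl⟩ (g : G ⧸ V))
    have h2 : b' ∈ centralizer (V : Set G) := by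
      have h3 : b'⁻¹ * (g * b * g⁻¹) ∈ centralizer (V : Set G) := fun w hw => hVc w hw _ hv
      have := mul_mem h1 (inv_mem h3)
      rwa [show g * b * g⁻¹ * (b'⁻¹ * (g * b * g⁻¹))⁻¹ = b' by group] at this
    obtain ⟨i, hi⟩ := hpe b' hb'
    obtain ⟨j, hj⟩ := hpe b hb
    have h4 := eq_one_of_mem hV hv (pow_eq_one_of (x := b') (b := j) (h2 _ hv).symm hi (by
      rw [mul_inv_cancel_left, conj_pow, hj, mul_one, mul_inv_cancel]))
    rw [inv_mul_eq_one] at h4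
    exact ⟨h4 ▸ hb', h1⟩⟩
  have hfaith : ∀ b ∈ B, b ∈ centralizer (V : Set G) → b = 1 := fun b hb hbc => by
    have h1 : B ⊓ centralizer (V : Set G) ≤ pCore p G := GT.le_pCore (hB.to_inf_left)
    rw [hO] at h1
    exact mem_bot.1 (h1 ⟨hb, hbc⟩)
  obtain ⟨i, hi⟩ := IsPGroup.iff_card.1 hB
  obtain ⟨f, hf⟩ := exists_regular (B := B) (Λ := V →* ℂˣ)
    (fun a b => Subtype.ext (hBc a a.2 b b.2)) (fun b => linConj (b : G))
    (fun g h f => linConj_mul _ _ f) (fun f => linConj_one f) hom_pow_card_eq_one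
    (hi ▸ ((Nat.Prime.coprime_iff_not_dvd hp.out).2 hV).symm.pow_right i)
    fun b hb => Subtype.ext (hfaith b b.2 (mem_centralizer_of_linConj hVc hb))
  have hθ := isIrrCharacter_monoidHom_units f
  obtain ⟨χ, hχ, hov⟩ := exists_irr_over V hθ
  have hKT := le_inertia hθ.isClassFunction
  obtain ⟨ψ, -, -, hψ, -⟩ := clifford_corr_surj hθ rfl hKT hχ hov
  refine ⟨⟨χ, hχ⟩, ?_⟩
  show χ x = 0
  rw [← hψ]
  refine indFun_eq_zero_of_forall_not_mem _ _ fun g hg => hx1 ?_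
  have e : (((g * x * g⁻¹) ^ k : G) : G ⧸ V) = g * (x : G ⧸ V) ^ k * (g : G ⧸ V)⁻¹ := by
    rw [conj_pow]; rfl
  obtain ⟨b, hb, hv⟩ := hdec ((g * x * g⁻¹) ^ k) (e ▸ hNn.conj_mem _ hx _)
  have h1 := mul_mem (pow_mem hg k) (inv_mem (hKT hv))
  rw [mul_inv_rev, inv_inv, mul_inv_cancel_left] at h1
  have h2 : b = 1 := congrArg Subtype.val (hf ⟨b, hb⟩ (mem_inertia_lin.1 h1))
  rw [h2, inv_one, one_mul, ← QuotientGroup.eq_one_iff, e] at hv
  calc (x : G ⧸ V) ^ k = (g : G ⧸ V)⁻¹ * (g * (x : G ⧸ V) ^ k * (g : G ⧸ V)⁻¹) * g := by group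
    _ = 1 := by rw [hv]; group

/-- If `[g, a]` generates a normal subgroup of prime order centralised by `g`, then `a`
vanishes. -/
theorem van_of_comm [Finite G] [hp : Fact p.Prime] {N : Subgroup G} [N.Normal]
    (hN : Nat.card N = p) {g a : G} (hz : g * a * g⁻¹ * a⁻¹ ∈ N) (hz1 : g * a * g⁻¹ * a⁻¹ ≠ 1)
    (hg : ∀ n ∈ N, g * n = n * g) : Van a := by
  classical
  have := Fintype.ofFinite N
  have hN1 : N ≠ ⊥ := fun e => hz1 (mem_bot.1 (e ▸ hz))
  obtain ⟨χ, hχ⟩ := exists_irr_not_le_charKer hN1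
  have h0 := χ.2.sum_normal_eq_zero N hχ a
  set z := g * a * g⁻¹ * a⁻¹ with hzdef
  have hpow : ∀ i : ℕ, g ^ i * a * (g ^ i)⁻¹ = z ^ i * a := fun i => by
    induction i with
    | zero => simp
    | succ i ih =>
      calc g ^ (i + 1) * a * (g ^ (i + 1))⁻¹ = g * (g ^ i * a * (g ^ i)⁻¹) * g⁻¹ := by group
        _ = (g * z ^ i) * a * g⁻¹ := by rw [ih]; group
        _ = z ^ i * (g * a * g⁻¹ * a⁻¹) * a := by rw [hg _ (pow_mem hz i)]; group
        _ = z ^ (i + 1) * a := by rw [← hzdef, pow_succ]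
  have hall : ∀ n : N, (χ : G → ℂ) (n * a) = (χ : G → ℂ) a := fun n => by
    have h1 : n ∈ zpowers (⟨z, hz⟩ : N) :=
      mem_zpowers_of_prime_card hN fun e => hz1 (congrArg Subtype.val e)
    obtain ⟨i, hi⟩ := mem_powers_iff_mem_zpowers.2 h1
    have h2 : (n : G) = z ^ i := by rw [← hi]; rfl
    rw [h2, ← hpow, χ.2.isClassFunction.conj_eq]
  rw [Finset.sum_congr rfl fun n _ => hall n, Finset.sum_const, nsmul_eq_mul, mul_eq_zero] at h0
  refine ⟨χ, h0.resolve_left ?_⟩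
  exact Nat.cast_ne_zero.2 (Finset.card_ne_zero_of_mem (Finset.mem_univ (1 : N)))

/-- The case where `O_p(G / V) ≠ 1`. -/
theorem Hyp.step [Finite G] [hp : Fact p.Prime] (h : Hyp p G) (hO : pCore p G = ⊥)
    {V : Subgroup G} [hVn : V.Normal] (hV1 : V ≠ ⊥) (hVc : ∀ a ∈ V, ∀ b ∈ V, a * b = b * a)
    (hV : ¬ p ∣ Nat.card V) (hQ1 : pCore p (G ⧸ V) ≠ ⊥) : ¬ p ^ 2 ∣ Nat.card (G ⧸ V) := by
  set Q := pCore p (G ⧸ V) with hQdef
  have hQn : Q.Normal := inferInstance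
  have hQp : IsPGroup p Q := GT.isPGroup_pCore p
  set N := Q ⊓ centralizer (Q : Set (G ⧸ V)) with hNdef
  have hNn : N.Normal := inferInstance
  have hNp : IsPGroup p N := hQp.to_inf_left
  have hN1 : N ≠ ⊥ := GT.th_inf_center_ne_bot hQp le_rfl le_normalizer hQ1
  have hNc : ∀ a ∈ N, ∀ b ∈ N, a * b = b * a := fun a ha b hb => hb.2 a ha.1
  have hvp := van_of_pow hO hVc hV hNn hNp hNc
  have hv1 : ∀ g : G, (g : G ⧸ V) ∈ N → (g : G ⧸ V) ≠ 1 → Van g := fun g hg hg1 =>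
    hvp g 1 (by rwa [pow_one]) (by rwa [pow_one])
  have hcard : Nat.card N = p :=
    ((Nat.dvd_prime hp.out).1 (h.small hV1 hV hNp hNc hv1)).resolve_left fun e =>
      hN1 (card_eq_one.1 e)
  obtain ⟨z, hz, hz1⟩ := (bot_or_exists_ne_one N).resolve_left hN1
  have hzp : z ^ p = 1 := by
    rw [← orderOf_dvd_iff_pow_eq_one, ← hcard]
    exact N.orderOf_dvd_natCard hz
  -- the centraliser of `N` is a `p`-group
  have hC : IsPGroup p (centralizer (N : Set (G ⧸ V))) := by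
    rw [IsPGroup.iff_card]
    refine ⟨_, Nat.eq_prime_pow_of_unique_prime_dvd Nat.card_pos.ne' fun {q} hq hqd => ?_⟩
    by_contra hqp
    have := Fact.mk hq
    obtain ⟨⟨u, hu⟩, huq⟩ := exists_prime_orderOf_dvd_card' q hqd
    rw [← orderOf_coe] at huq
    change orderOf u = q at huq
    have hcm : Commute z u := hu z hz
    have hcop : p.Coprime q := (Nat.coprime_primes hp.out hq).2 (Ne.symm hqp)
    have ho : orderOf z = p := orderOf_eq_prime hzp hz1
    have hozu : orderOf (z * u) = p * q := by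
      rw [hcm.orderOf_mul_eq_mul_orderOf_of_coprime (by rwa [ho, huq]), ho, huq]
    obtain ⟨g, hg⟩ := QuotientGroup.mk_surjective (z * u)
    have e : (g : G ⧸ V) ^ q = z ^ q := by
      rw [hg, hcm.mul_pow, ← huq, pow_orderOf_eq_one, mul_one]
    have hvg : Van g := hvp g q (e ▸ pow_mem hz q) (by
      rw [e, Ne, ← orderOf_dvd_iff_pow_eq_one, ho]
      exact (Nat.Prime.coprime_iff_not_dvd hp.out).1 hcop)
    have hdv : orderOf (z * u) ∣ orderOf g := hg ▸ orderOf_map_dvd (QuotientGroup.mk' V) g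
    obtain ⟨x, hx, hxz⟩ := exists_lift V (y := z) (p := p) (k := 1) (by rwa [pow_one])
    obtain ⟨k, hk⟩ := h.A x (fun e => hz1 (by rw [← hxz, e]; rfl)) hx
      (hv1 x (hxz ▸ hz) (hxz ▸ hz1)) g hvg ((Dvd.intro _ hozu.symm).trans hdv)
    have h2 : q ∣ p ^ k :=
      ((Dvd.intro_left _ hozu.symm).trans hdv).trans (orderOf_dvd_of_pow_eq_one hk)
    exact hqp ((Nat.prime_dvd_prime_iff_eq hq hp.out).1 (hq.dvd_of_dvd_pow h2))
  have hCQ : centralizer (N : Set (G ⧸ V)) ≤ Q := GT.le_pCore hC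
  -- `Q = N`
  have hQN : Q ≤ N := by
    by_contra hn
    have h1 : Q.map (QuotientGroup.mk' N) ≠ ⊥ := fun e => hn (by
      rwa [Subgroup.map_eq_bot_iff, QuotientGroup.ker_mk'] at e)
    obtain ⟨_, ⟨⟨y, hy, rfl⟩, hyc⟩, hy1⟩ := (bot_or_exists_ne_one _).resolve_left
      (GT.th_inf_center_ne_bot (hQp.map (QuotientGroup.mk' N)) le_rfl le_normalizer h1)
    set E := (zpowers (QuotientGroup.mk' N y)).comap (QuotientGroup.mk' N) with hEdef
    have hE : ∀ a ∈ E, ∃ i : ℤ, ∃ n ∈ N, a = y ^ i * n := fun a ⟨i, hi⟩ =>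
      ⟨i, (y ^ i)⁻¹ * a, QuotientGroup.eq.1 hi, by group⟩
    have hEQ : E ≤ Q := fun a ha => by
      obtain ⟨i, n, hn, rfl⟩ := hE a ha
      exact mul_mem (zpow_mem hy i) hn.1
    have hNE : N ≤ E := fun n hn => by
      show QuotientGroup.mk' N n ∈ zpowers _
      rw [show QuotientGroup.mk' N n = 1 from (QuotientGroup.eq_one_iff n).2 hn]
      exact one_mem _
    have hEc : ∀ a ∈ E, ∀ b ∈ E, a * b = b * a := fun a ha b hb => by
      obtain ⟨i, n, hn, rfl⟩ := hE a ha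
      obtain ⟨j, m, hm, rfl⟩ := hE b hb
      have c1 : Commute (y ^ i) m := hm.2 _ (zpow_mem hy i)
      have c2 : Commute (y ^ j) n := hn.2 _ (zpow_mem hy j)
      exact ((Commute.zpow_zpow_self y i j).mul_right c1).mul_left
        (c2.symm.mul_right (hNc n hn m hm))
    have hdvd := h.small hV1 hV (hQp.to_le hEQ) hEc fun g hg hg1 => by
      by_cases hgN : (g : G ⧸ V) ∈ N
      · exact hv1 g hgN hg1
      obtain ⟨w, hw, hwg⟩ : ∃ w ∈ Q, w * g ≠ g * w := by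
        by_contra hh
        push Not at hh
        exact hgN ⟨hEQ hg, hh⟩
      refine Van.of_mk (N := V) (van_of_comm hcard (g := w) ?_ (fun e => hwg ?_)
        fun n hn => hn.2 w hw)
      · rw [← QuotientGroup.eq_one_iff]
        obtain ⟨i, hi⟩ := hg
        have c1 : Commute (QuotientGroup.mk' N w) (QuotientGroup.mk' N y) := hyc _ ⟨w, hw, rfl⟩
        have c2 := (c1.zpow_right i).eq
        simp only at hi
        rw [hi] at c2
        simp only [QuotientGroup.mk'_apply] at c2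
        rw [QuotientGroup.mk_mul, QuotientGroup.mk_mul, QuotientGroup.mk_mul,
          QuotientGroup.mk_inv, QuotientGroup.mk_inv, c2]
        group
      · calc w * g = w * g * w⁻¹ * (g : G ⧸ V)⁻¹ * (g * w) := by group
          _ = g * w := by rw [e, one_mul]
    have h2 : N = E := eq_of_le_of_card_ge hNE (hcard ▸ Nat.le_of_dvd hp.out.pos hdvd)
    have h3 : y ∈ N := h2 ▸ (mem_zpowers (QuotientGroup.mk' N y) : y ∈ E)
    exact hy1 ((QuotientGroup.eq_one_iff y).2 h3)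
  intro hd
  obtain ⟨S⟩ : Nonempty (Sylow p (G ⧸ V)) := inferInstance
  have hNS : N ≤ S := inf_le_left.trans (GT.pCore_le_sylow S)
  have h1 := GT.th_inf_center_ne_bot S.isPGroup' hNS le_normalizer_of_normal hN1
  have h2 : N ⊓ centralizer ((S : Subgroup (G ⧸ V)) : Set (G ⧸ V)) = N := by
    refine eq_of_le_of_card_ge inf_le_left ?_
    have h3 := card_dvd_of_le (inf_le_left :
      N ⊓ centralizer ((S : Subgroup (G ⧸ V)) : Set (G ⧸ V)) ≤ N)
    rw [hcard] at h3 ⊢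
    exact (((Nat.dvd_prime hp.out).1 h3).resolve_left fun e => h1 (card_eq_one.1 e)).ge
  have h3 : (S : Subgroup (G ⧸ V)) ≤ N :=
    ((le_centralizer_iff.1 (h2.ge.trans inf_le_right)).trans hCQ).trans hQN
  have h4 := (S.pow_dvd_card_of_pow_dvd_card hd).trans (hcard ▸ card_dvd_of_le h3)
  exact absurd (Nat.le_of_dvd hp.out.pos h4) (not_le.2 (by nlinarith [hp.out.two_le]))

theorem not_sq_dvd (p : ℕ) [hp : Fact p.Prime] (n : ℕ) :
    ∀ (G : Type u) [Group G] [Finite G] [Group.IsSolvable G], Nat.card G = n → Hyp p G →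
      pCore p G = ⊥ → ¬ p ^ 2 ∣ Nat.card G := by
  induction n using Nat.strong_induction_on with
  | _ n ih =>
  intro G _ _ _ hn h hO
  by_cases h1 : (⊤ : Subgroup G) = ⊥
  · have : Nat.card G = 1 := by rw [← card_top, h1, card_bot]
    rw [this, Nat.dvd_one]
    exact (Nat.one_lt_pow two_ne_zero hp.out.one_lt).ne'
  obtain ⟨r, hr, V, -, hVn, hV1, hVc, hVr⟩ := GT.HT.exists_normal_comm_pGroup_le (⊤ : Subgroup G)
    inferInstance h1
  have hrp : r ≠ p := by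
    rintro rfl
    exact hV1 (GT.pCore_eq_bot_iff.1 hO V hVn hVr)
  have := Fact.mk hr
  obtain ⟨k, hk⟩ := IsPGroup.iff_card.1 hVr
  have hV : ¬ p ∣ Nat.card V := fun hd =>
    hrp ((Nat.prime_dvd_prime_iff_eq hp.out hr).1 (hp.out.dvd_of_dvd_pow (hk ▸ hd))).symm
  have hc := card_eq_card_quotient_mul_card_subgroup V
  suffices hs : ¬ p ^ 2 ∣ Nat.card (G ⧸ V) by
    intro hd
    rw [hc] at hd
    exact hs ((((Nat.Prime.coprime_iff_not_dvd hp.out).2 hV).pow_left 2).dvd_of_dvd_mul_right hd)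
  by_cases hQ : pCore p (G ⧸ V) = ⊥
  · refine ih _ ?_ (G ⧸ V) rfl (h.quot V) hQ
    rw [← hn, hc]
    exact lt_mul_of_one_lt_right Nat.card_pos ((one_lt_card_iff_ne_bot V).2 hV1)
  · exact h.step hO hV1 (fun a ha b hb => congrArg Subtype.val (hVc.is_comm.comm ⟨a, ha⟩ ⟨b, hb⟩))
      hV hQ

/-- The image of a Sylow `p`-subgroup in `G / O_p(G)` has order dividing `p`. -/
theorem Hyp.card_map_dvd [Finite G] [Group.IsSolvable G] [hp : Fact p.Prime] (h : Hyp p G)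
    (P : Sylow p G) :
    Nat.card ((P : Subgroup G).map (QuotientGroup.mk' (pCore p G))) ∣ p := by
  have h1 := not_sq_dvd p _ (G ⧸ pCore p G) rfl (h.quot _) GT.pCore_quotient_pCore
  obtain ⟨k, hk⟩ := IsPGroup.iff_card.1 (P.isPGroup'.map (QuotientGroup.mk' (pCore p G)))
  have h2 : k ≤ 1 := by
    by_contra h2
    exact h1 ((pow_dvd_pow p (by omega)).trans (hk ▸ card_subgroup_dvd_card _))
  rw [hk]
  simpa using pow_dvd_pow p h2

end Cfsg.Agent.Ch.VanP
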